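import Mathlib

set_option autoImplicit false
open MvPolynomial

namespace Groth.Agent.Lib.Helper2.Jac

section Taylor

variable {k : Type*} [CommRing k] {σ : Type*} [Fintype σ] [DecidableEq σ]
  {R : Type*} [CommRing R] [Algebra k R]

omit [Fintype σ] [DecidableEq σ] in
/-- zeroth order Taylor expansion: `G(p) - G(q) ∈ (p - q)` -/
theorem aeval_sub_aeval_mem (p q : σ → R) (G : MvPolynomial σ k) :
    aeval p G - aeval q G ∈ Ideal.span (Set.range fun l => p l - q l) := by
  induction G using MvPolynomial.induction_on with
  | C a => simp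
  | add G H hG hH =>
    have e : aeval p (G + H) - aeval q (G + H) =
        (aeval p G - aeval q G) + (aeval p H - aeval q H) := by
      rw [map_add, map_add]; ring
    rw [e]; exact Ideal.add_mem _ hG hH
  | mul_X G n hG =>
    have e : aeval p (G * X n) - aeval q (G * X n) =
        (aeval p G - aeval q G) * p n + aeval q G * (p n - q n) := by
      rw [map_mul, map_mul, aeval_X, aeval_X]; ring
    rw [e]
    exact Ideal.add_mem _ (Ideal.mul_mem_right _ _ hG)
      (Ideal.mul_mem_left _ _ (Ideal.subset_span ⟨n, rfl⟩))

/-- first order Taylor expansion: `G(p) - G(q) - ∑ ∂ₗG(q) (pₗ - qₗ) ∈ (p - q)²` -/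
theorem taylor1 (p q : σ → R) (G : MvPolynomial σ k) :
    aeval p G - aeval q G - ∑ l, aeval q (pderiv l G) * (p l - q l) ∈
      (Ideal.span (Set.range fun l => p l - q l)) ^ 2 := by
  induction G using MvPolynomial.induction_on with
  | C a => simp
  | add G H hG hH =>
    have e : aeval p (G + H) - aeval q (G + H) - ∑ l, aeval q (pderiv l (G + H)) * (p l - q l) =
        (aeval p G - aeval q G - ∑ l, aeval q (pderiv l G) * (p l - q l)) +
        (aeval p H - aeval q H - ∑ l, aeval q (pderiv l H) * (p l - q l)) := by
      simp only [map_add, add_mul, Finset.sum_add_distrib]; ring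
    rw [e]; exact Ideal.add_mem _ hG hH
  | mul_X G n hG =>
    have hsum : ∑ l, aeval q (pderiv l (G * X n)) * (p l - q l) =
        q n * ∑ l, aeval q (pderiv l G) * (p l - q l) + aeval q G * (p n - q n) := by
      have h1 : ∀ l, aeval q (pderiv l (G * X n)) * (p l - q l) =
          q n * (aeval q (pderiv l G) * (p l - q l)) +
            (if l = n then aeval q G * (p n - q n) else 0) := by
        intro l
        rw [Derivation.leibniz, pderiv_X]
        by_cases hl : l = n
        · subst hl
          simp only [Pi.single_eq_same, smul_eq_mul, map_add, map_mul, aeval_X, if_true, mul_one]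
          ring
        · rw [Pi.single_eq_of_ne' hl, if_neg hl]
          simp only [smul_eq_mul, mul_zero, zero_add, map_mul, aeval_X, add_zero]
          ring
      rw [Finset.sum_congr rfl (fun l _ => h1 l), Finset.sum_add_distrib, ← Finset.mul_sum,
        Finset.sum_ite_eq' Finset.univ n]
      simp
    have e : aeval p (G * X n) - aeval q (G * X n) -
        ∑ l, aeval q (pderiv l (G * X n)) * (p l - q l) =
        (aeval p G - aeval q G) * (p n - q n) +
        q n * (aeval p G - aeval q G - ∑ l, aeval q (pderiv l G) * (p l - q l)) := by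
      rw [hsum, map_mul, map_mul, aeval_X, aeval_X]; ring
    rw [e]
    refine Ideal.add_mem _ ?_ (Ideal.mul_mem_left _ _ hG)
    rw [pow_two]
    exact Ideal.mul_mem_mul (aeval_sub_aeval_mem p q G) (Ideal.subset_span ⟨n, rfl⟩)

end Taylor

end Groth.Agent.Lib.Helper2.Jac
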