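import Mathlib
import Groth.Prelude.Def_W4bk4goldsch23FF

/-!
# Function fields of one variable: basic facts on places
-/

set_option autoImplicit false
open scoped WithZero

namespace Groth.Agent.Lib.Helper2.FF

open FunFld

variable {k K : Type*} [Field k] [Field K] [Algebra k K]

variable (P : FunFld.Place k K)

/-- the valuation of a place -/
abbrev v : Valuation K ℤᵐ⁰ := P.1

local notation "𝓋" => v P

theorem v_algebraMap {c : k} (hc : c ≠ 0) : v P (algebraMap k K c) = 1 := by
  have h1 := P.2.1 c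
  have h2 := P.2.1 c⁻¹
  have hne : algebraMap k K c ≠ 0 := by simpa using hc
  rw [map_inv₀, map_inv₀] at h2
  have h3 : 1 ≤ v P (algebraMap k K c) := by
    have hpos : 0 < v P (algebraMap k K c) := by
      rw [pos_iff_ne_zero]; exact (Valuation.ne_zero_iff _).2 hne
    exact (inv_le_one₀ hpos).1 h2
  exact le_antisymm h1 h3

theorem v_algebraMap_le (c : k) : v P (algebraMap k K c) ≤ 1 := P.2.1 c

theorem v_smul (c : k) (x : K) (hc : c ≠ 0) : v P (c • x) = v P x := by
  rw [Algebra.smul_def, map_mul, v_algebraMap P hc, one_mul]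

theorem v_smul_le (c : k) (x : K) : v P (c • x) ≤ v P x := by
  rw [Algebra.smul_def, map_mul]
  exact (mul_le_mul' (P.2.1 c) le_rfl).trans_eq (one_mul _)

theorem exists_uniformizer : ∃ t : K, v P t = WithZero.exp (-1 : ℤ) := P.2.2 _

theorem exists_v_eq (n : ℤ) : ∃ t : K, v P t = WithZero.exp n := P.2.2 _

theorem ord_def (x : K) : P.ord x = -WithZero.log (v P x) := rfl

theorem v_eq_exp_neg_ord {x : K} (hx : x ≠ 0) : v P x = WithZero.exp (-P.ord x) := by
  rw [ord_def, neg_neg, WithZero.exp_log]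
  exact (Valuation.ne_zero_iff _).2 hx

theorem ord_eq_iff {x : K} (hx : x ≠ 0) (n : ℤ) : P.ord x = n ↔ v P x = WithZero.exp (-n) := by
  rw [v_eq_exp_neg_ord P hx, WithZero.exp_inj, neg_inj]

theorem ord_zero : P.ord 0 = 0 := by simp [ord_def]

theorem ord_one : P.ord 1 = 0 := by simp [ord_def]

theorem ord_mul {x y : K} (hx : x ≠ 0) (hy : y ≠ 0) : P.ord (x * y) = P.ord x + P.ord y := by
  rw [ord_def, ord_def, ord_def, map_mul, WithZero.log_mul ((Valuation.ne_zero_iff _).2 hx)
    ((Valuation.ne_zero_iff _).2 hy)]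
  ring

theorem ord_inv (x : K) : P.ord x⁻¹ = -P.ord x := by
  rw [ord_def, ord_def, map_inv₀, WithZero.log_inv]

theorem ord_pow (x : K) (n : ℕ) : P.ord (x ^ n) = n * P.ord x := by
  rw [ord_def, ord_def, map_pow, WithZero.log_pow]
  simp

theorem ord_zpow (x : K) (n : ℤ) : P.ord (x ^ n) = n * P.ord x := by
  rw [ord_def, ord_def, map_zpow₀, WithZero.log_zpow]
  simp

theorem ord_algebraMap (c : k) : P.ord (algebraMap k K c) = 0 := by
  by_cases hc : c = 0
  · simp [hc, ord_zero]
  · simp [ord_def, v_algebraMap P hc]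

theorem v_le_exp_iff {x : K} (hx : x ≠ 0) (n : ℤ) : v P x ≤ WithZero.exp n ↔ 0 ≤ P.ord x + n := by
  rw [v_eq_exp_neg_ord P hx, WithZero.exp_le_exp]
  constructor <;> intro h <;> linarith

theorem v_le_one_iff {x : K} (hx : x ≠ 0) : v P x ≤ 1 ↔ 0 ≤ P.ord x := by
  have := v_le_exp_iff P hx 0
  simpa using this

theorem v_lt_one_iff {x : K} (hx : x ≠ 0) : v P x < 1 ↔ 0 < P.ord x := by
  rw [v_eq_exp_neg_ord P hx, ← WithZero.exp_zero, WithZero.exp_lt_exp]
  constructor <;> intro h <;> linarith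

theorem one_lt_v_iff {x : K} (hx : x ≠ 0) : 1 < v P x ↔ P.ord x < 0 := by
  rw [v_eq_exp_neg_ord P hx, ← WithZero.exp_zero, WithZero.exp_lt_exp]
  constructor <;> intro h <;> linarith

theorem v_eq_one_iff {x : K} (hx : x ≠ 0) : v P x = 1 ↔ P.ord x = 0 := by
  rw [ord_eq_iff P hx]; simp

theorem ord_ne_zero_imp_ne_zero {x : K} (h : P.ord x ≠ 0) : x ≠ 0 := by
  rintro rfl; exact h (ord_zero P)

/-- elements of nonzero order are not constants -/
theorem not_mem_range_of_ord_ne_zero {x : K} (h : P.ord x ≠ 0) : x ∉ Set.range (algebraMap k K) := by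
  rintro ⟨c, rfl⟩
  exact h (ord_algebraMap P c)

theorem mem_O_iff (x : K) : x ∈ P.O ↔ v P x ≤ 1 := Valuation.mem_valuationSubring_iff _ _

end Groth.Agent.Lib.Helper2.FF
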