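import Mathlib
import Groth.Agent.Lib.Helper2.FunFld.Basic

set_option autoImplicit false
open scoped WithZero IntermediateField
open FunFld
open IntermediateField.algebraAdjoinAdjoin

namespace Groth.Agent.Lib.Helper2.FF

variable {k K : Type*} [Field k] [Field K] [Algebra k K]

theorem transcendental_of_not_mem_range (hK : IsFunctionField k K) {x : K}
    (hx : x ∉ Set.range (algebraMap k K)) : Transcendental k x :=
  fun h => hx (hK.2 x h)

theorem isAlgebraic_adjoin_simple (hK : IsFunctionField k K) {x : K} (hx : Transcendental k x) :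
    Algebra.IsAlgebraic k⟮x⟯ K := by
  obtain ⟨⟨x₀, hx₀, hfin⟩, -⟩ := hK
  have halg0 : Algebra.IsAlgebraic k⟮x₀⟯ K := Algebra.IsAlgebraic.of_finite _ _
  -- trdeg ≤ 1
  have h1 : Algebra.IsAlgebraic (Algebra.adjoin k ({x₀} : Set K)) K := by
    exact Algebra.IsAlgebraic.trans (Algebra.adjoin k ({x₀} : Set K)) k⟮x₀⟯ K
  have htr : Algebra.trdeg k K ≤ 1 := by
    have := Algebra.IsAlgebraic.trdeg_le_cardinalMk k ({x₀} : Set K)
    simpa using this
  have hind : AlgebraicIndependent k (fun _ : Unit => x) := by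
    rw [algebraicIndependent_unique_type_iff]
    exact hx
  have hb : IsTranscendenceBasis k (fun _ : Unit => x) :=
    hind.isTranscendenceBasis_of_lift_trdeg_le_of_finite (by simpa using htr)
  have := hb.isAlgebraic_field
  have hr : Set.range (fun _ : Unit => x) = {x} := by
    ext y; simp [eq_comm]
  rwa [hr] at this


theorem finiteDimensional_adjoin_simple (hK : IsFunctionField k K) {x : K} (hx : Transcendental k x) :
    FiniteDimensional k⟮x⟯ K := by
  have halg := isAlgebraic_adjoin_simple hK hx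
  obtain ⟨⟨x₀, hx₀, hfin⟩, -⟩ := hK
  obtain ⟨n, ⟨b⟩⟩ : ∃ n : ℕ, Nonempty (Module.Basis (Fin n) k⟮x₀⟯ K) :=
    ⟨_, ⟨Module.finBasis k⟮x₀⟯ K⟩⟩
  obtain ⟨S, hSdef⟩ : ∃ S : Set K, S = insert x₀ (Set.range b) := ⟨_, rfl⟩
  have hS : S.Finite := by rw [hSdef]; exact (Set.finite_range b).insert x₀
  have hx₀S : x₀ ∈ S := by rw [hSdef]; exact Set.mem_insert _ _
  have hbS : ∀ i, b i ∈ S := fun i => by rw [hSdef]; exact Set.mem_insert_of_mem _ ⟨i, rfl⟩
  clear hSdef
  have : Finite S := hS
  have h1 : FiniteDimensional k⟮x⟯ (IntermediateField.adjoin k⟮x⟯ S) :=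
    IntermediateField.finiteDimensional_adjoin (fun y _ => (halg.isAlgebraic y).isIntegral)
  have h2 : IntermediateField.adjoin k⟮x⟯ S = ⊤ := by
    rw [eq_top_iff]
    intro y _
    have hx₀' : x₀ ∈ IntermediateField.adjoin k⟮x⟯ S := IntermediateField.subset_adjoin _ _ hx₀S
    have hle : k⟮x₀⟯ ≤ (IntermediateField.adjoin k⟮x⟯ S).restrictScalars k := by
      rw [IntermediateField.adjoin_simple_le_iff]
      exact hx₀'
    have hsum : ∑ i, b.repr y i • b i ∈ IntermediateField.adjoin k⟮x⟯ S := by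
      refine sum_mem fun i _ => ?_
      have h3 : ((b.repr y i : k⟮x₀⟯) : K) * b i ∈ IntermediateField.adjoin k⟮x⟯ S :=
        mul_mem (hle (b.repr y i).2) (IntermediateField.subset_adjoin _ _ (hbS i))
      exact h3
    rwa [b.sum_repr y] at hsum
  rw [h2] at h1
  exact (IntermediateField.topEquiv : (⊤ : IntermediateField k⟮x⟯ K) ≃ₐ[k⟮x⟯] K).toLinearEquiv.finiteDimensional

end Groth.Agent.Lib.Helper2.FF
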