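import Mathlib
import Groth.Agent.Lib.Helper2.FunFld.Trans

set_option autoImplicit false
open scoped WithZero IntermediateField
open FunFld Polynomial
open IntermediateField.algebraAdjoinAdjoin

namespace Groth.Agent.Lib.Helper2.FF

variable {k K : Type*} [Field k] [Field K] [Algebra k K]
variable (P : FunFld.Place k K)

instance isScalarTower_O : IsScalarTower k P.O K := IsScalarTower.of_algebraMap_eq (fun _ => rfl)

/-- the residue map as a `k`-algebra map -/
noncomputable def resAlg : P.O →ₐ[k] IsLocalRing.ResidueField P.O :=
  { IsLocalRing.residue P.O with commutes' := fun _ => rfl }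

theorem resAlg_apply (x : P.O) : resAlg P x = IsLocalRing.residue P.O x := rfl

theorem resAlg_surjective : Function.Surjective (resAlg P) := IsLocalRing.residue_surjective

theorem resAlg_eq_zero_iff (x : P.O) : resAlg P x = 0 ↔ v P (x : K) < 1 := by
  rw [resAlg_apply, IsLocalRing.residue_eq_zero_iff]
  exact Valuation.mem_maximalIdeal_iff _ _ 


/-- Key descent lemma: if the residues of `z i` are `k`-linearly independent and `t` lies in the
maximal ideal, a polynomial relation `∑ pᵢ(t) zᵢ = 0` forces all `pᵢ = 0`. -/
theorem poly_rel_eq_zero {ι : Type*} [Fintype ι] (z : ι → P.O)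
    (h : LinearIndependent k (fun i => resAlg P (z i))) {t : K} (ht : v P t < 1) (ht0 : t ≠ 0) :
    ∀ (d : ℕ) (p : ι → k[X]), (∀ i, (p i).degree < d) →
      ∑ i, aeval t (p i) * (z i : K) = 0 → ∀ i, p i = 0 := by
  have htO : t ∈ P.O := (mem_O_iff P t).2 ht.le
  intro d
  induction d with
  | zero =>
    intro p hp _ i
    have := hp i
    simp only [Nat.cast_zero] at this
    by_contra h0
    rw [degree_eq_natDegree h0] at this
    norm_cast at this
  | succ d ih =>
    intro p hp hsum
    -- all constant coefficients vanish
    have hc : ∀ i, (p i).coeff 0 = 0 := by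
      have hsumO : ∑ i, aeval (⟨t, htO⟩ : P.O) (p i) * z i = 0 := by
        apply Subtype.ext
        have : ∀ q : k[X], ((aeval (⟨t, htO⟩ : P.O) q : P.O) : K) = aeval t q := fun q => by
          have := Polynomial.aeval_algebraMap_apply K (⟨t, htO⟩ : P.O) q
          exact this.symm
        rw [ZeroMemClass.coe_zero, ← hsum]
        push_cast
        exact Finset.sum_congr rfl fun i _ => by rw [this]
      have hres := congrArg (resAlg P) hsumO
      simp only [map_sum, map_mul, map_zero, ← Polynomial.aeval_algHom_apply] at hres
      have ht' : resAlg P ⟨t, htO⟩ = 0 := (resAlg_eq_zero_iff P _).2 ht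
      simp only [ht', ← Polynomial.coeff_zero_eq_aeval_zero', ← Algebra.smul_def] at hres
      exact fun i => Fintype.linearIndependent_iff.1 h _ hres i
    -- divide by X
    have hq : ∀ i, ∃ q : k[X], p i = X * q := fun i => by
      have := (Polynomial.X_dvd_iff (f := p i)).2 (hc i)
      exact this
    choose q hq using hq
    have hq0 : ∀ i, q i = 0 := by
      apply ih q
      · intro i
        by_cases h0 : q i = 0
        · simp [h0]
        · have := hp i
          rw [hq i, degree_mul, degree_X] at this
          rw [degree_eq_natDegree h0] at this ⊢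
          norm_cast at this ⊢
          omega
      · have : t * ∑ i, aeval t (q i) * (z i : K) = 0 := by
          rw [Finset.mul_sum, ← hsum]
          refine Finset.sum_congr rfl fun i _ => ?_
          rw [hq i, map_mul, aeval_X, mul_assoc]
        exact (mul_eq_zero.1 this).resolve_left ht0
    intro i
    rw [hq i, hq0 i, mul_zero]


theorem linearIndependent_adjoin_of_residue {ι : Type*} [Fintype ι] (z : ι → P.O)
    (h : LinearIndependent k (fun i => resAlg P (z i))) {t : K} (ht : v P t < 1) (ht0 : t ≠ 0) :
    LinearIndependent k⟮t⟯ (fun i => (z i : K)) := by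
  rw [← LinearIndependent.iff_fractionRing (Algebra.adjoin k ({t} : Set K)) k⟮t⟯]
  rw [Fintype.linearIndependent_iff]
  intro g hg i
  have hg' : ∀ i, ∃ q : k[X], aeval t q = (g i : K) := fun i => by
    have h1 : ((g i : Algebra.adjoin k ({t} : Set K)) : K) ∈ (aeval (R := k) t).range := by
      rw [← Algebra.adjoin_singleton_eq_range_aeval]
      exact (g i).2
    exact h1
  choose q hq using hg'
  have hsum : ∑ i, aeval t (q i) * (z i : K) = 0 := by
    rw [← hg]
    refine Finset.sum_congr rfl fun i _ => ?_
    rw [hq i]
    rfl
  let d := (Finset.univ.sup fun i => (q i).natDegree) + 1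
  have hd : ∀ i, (q i).degree < (d : ℕ) := fun i => by
    refine lt_of_le_of_lt degree_le_natDegree ?_
    have : (q i).natDegree ≤ Finset.univ.sup fun i => (q i).natDegree :=
      Finset.le_sup (f := fun i => (q i).natDegree) (Finset.mem_univ i)
    exact_mod_cast Nat.lt_succ_of_le this
  have := poly_rel_eq_zero P z h ht ht0 d q hd hsum i
  apply Subtype.ext
  rw [← hq i, this, map_zero]
  rfl


/-- a positive-order element is transcendental -/
theorem transcendental_of_ord_ne_zero (hK : IsFunctionField k K) {t : K} (h : P.ord t ≠ 0) :
    Transcendental k t :=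
  transcendental_of_not_mem_range hK (not_mem_range_of_ord_ne_zero P h)

theorem rank_residueField_le (hK : IsFunctionField k K) {t : K} (ht : v P t < 1) (ht0 : t ≠ 0) :
    Module.rank k (IsLocalRing.ResidueField P.O) ≤ (Module.finrank k⟮t⟯ K : ℕ) := by
  have htr : Transcendental k t := by
    apply transcendental_of_ord_ne_zero P hK
    have := (v_lt_one_iff P ht0).1 ht
    omega
  have hfin := finiteDimensional_adjoin_simple hK htr
  apply rank_le
  intro s hs
  have hz : ∀ i : s, ∃ z : P.O, resAlg P z = (i : IsLocalRing.ResidueField P.O) :=
    fun i => resAlg_surjective P _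
  choose z hz using hz
  have hli : LinearIndependent k (fun i : s => resAlg P (z i)) := by
    simpa only [hz] using hs
  have := (linearIndependent_adjoin_of_residue P z hli ht ht0).fintype_card_le_finrank
  simpa using this

theorem finiteDimensional_residueField (hK : IsFunctionField k K) :
    FiniteDimensional k (IsLocalRing.ResidueField P.O) := by
  obtain ⟨t, ht⟩ := exists_uniformizer P
  have ht1 : v P t < 1 := by
    rw [ht, ← WithZero.exp_zero, WithZero.exp_lt_exp]; norm_num
  have ht0 : t ≠ 0 := by
    rintro rfl
    rw [map_zero] at ht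
    exact WithZero.exp_ne_zero ht.symm
  have h := rank_residueField_le P hK ht1 ht0
  rw [FiniteDimensional, ← Module.rank_lt_aleph0_iff]
  exact lt_of_le_of_lt h (Cardinal.natCast_lt_aleph0)

theorem deg_le_finrank (hK : IsFunctionField k K) {t : K} (ht : v P t < 1) (ht0 : t ≠ 0) :
    P.deg ≤ Module.finrank k⟮t⟯ K := by
  have h := rank_residueField_le P hK ht ht0
  have := finiteDimensional_residueField P hK
  rw [← Module.finrank_eq_rank] at h
  exact_mod_cast h

theorem deg_pos (hK : IsFunctionField k K) : 0 < P.deg := by
  have := finiteDimensional_residueField P hK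
  exact Module.finrank_pos

end Groth.Agent.Lib.Helper2.FF
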