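import Mathlib
import Groth.Agent.Lib.Helper2.FunFld.Residue

set_option autoImplicit false
open scoped WithZero IntermediateField NNReal
open FunFld Polynomial

namespace Groth.Agent.Lib.Helper2.FF

variable {k K : Type*} [Field k] [Field K] [Algebra k K]

/-- the monoid hom `ℤᵐ⁰ → ℝ≥0` with base 2 -/
noncomputable abbrev toR : ℤᵐ⁰ →*₀ ℝ≥0 := WithZeroMulInt.toNNReal (e := 2) two_ne_zero

theorem toR_strictMono : StrictMono toR := WithZeroMulInt.toNNReal_strictMono (by norm_num)

/-- the real absolute value attached to a place -/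
noncomputable def absP (P : FunFld.Place k K) : AbsoluteValue K ℝ where
  toFun x := (toR (v P x) : ℝ)
  map_mul' x y := by simp
  nonneg' x := NNReal.coe_nonneg _
  eq_zero' x := by simp
  add_le' x y := by
    have h1 : v P (x + y) ≤ max (v P x) (v P y) := Valuation.map_add _ _ _
    have h2 : toR (v P (x + y)) ≤ max (toR (v P x)) (toR (v P y)) := by
      rw [← toR_strictMono.monotone.map_max]
      exact toR_strictMono.monotone h1
    have h3 : max (toR (v P x)) (toR (v P y)) ≤ toR (v P x) + toR (v P y) :=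
      max_le (le_add_of_nonneg_right zero_le) (le_add_of_nonneg_left zero_le)
    exact_mod_cast h2.trans h3

theorem absP_apply (P : FunFld.Place k K) (x : K) : absP P x = (toR (v P x) : ℝ) := rfl

theorem absP_le_iff (P : FunFld.Place k K) (x y : K) : absP P x ≤ absP P y ↔ v P x ≤ v P y := by
  rw [absP_apply, absP_apply, NNReal.coe_le_coe, toR_strictMono.le_iff_le]

theorem absP_lt_iff (P : FunFld.Place k K) (x y : K) : absP P x < absP P y ↔ v P x < v P y := by
  rw [absP_apply, absP_apply, NNReal.coe_lt_coe, toR_strictMono.lt_iff_lt]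

theorem absP_isNontrivial (P : FunFld.Place k K) : (absP P).IsNontrivial := by
  obtain ⟨t, ht⟩ := exists_uniformizer P
  have ht0 : t ≠ 0 := by
    rintro rfl
    rw [map_zero] at ht
    exact WithZero.exp_ne_zero ht.symm
  refine ⟨t, ht0, ?_⟩
  have : absP P t < absP P 1 := by
    rw [absP_lt_iff, ht, map_one, ← WithZero.exp_zero, WithZero.exp_lt_exp]; norm_num
  rw [map_one] at this
  exact this.ne

theorem eq_of_absP_isEquiv {P Q : FunFld.Place k K} (h : (absP P).IsEquiv (absP Q)) : P = Q := by
  have hle : ∀ x y, v P x ≤ v P y ↔ v Q x ≤ v Q y := fun x y => by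
    rw [← absP_le_iff, ← absP_le_iff]; exact h x y
  have hlt : ∀ x y, v P x < v P y ↔ v Q x < v Q y := fun x y => by
    rw [← not_le, ← not_le, hle]
  have heq : ∀ x y, v P x = v P y ↔ v Q x = v Q y := fun x y => by
    rw [le_antisymm_iff, le_antisymm_iff, hle, hle]
  obtain ⟨t, ht⟩ := exists_uniformizer P
  obtain ⟨s, hs⟩ := exists_uniformizer Q
  have e1 : (WithZero.exp (-1 : ℤ) : ℤᵐ⁰) < 1 := by
    rw [← WithZero.exp_zero, WithZero.exp_lt_exp]; norm_num
  have htQ : v Q t = WithZero.exp (-1 : ℤ) := by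
    have h1 : v Q t < 1 := by
      have := (hlt t 1).1 (by rw [ht, map_one]; exact e1)
      rwa [map_one] at this
    have h2 : v P s < 1 := by
      have := (hlt s 1).2 (by rw [hs, map_one]; exact e1)
      rwa [map_one] at this
    have hs0 : s ≠ 0 := by
      rintro rfl
      rw [map_zero] at hs
      exact WithZero.exp_ne_zero hs.symm
    have ht0 : t ≠ 0 := by
      rintro rfl
      rw [map_zero] at ht
      exact WithZero.exp_ne_zero ht.symm
    have h3 : v P s ≤ v P t := by
      rw [ht]
      rw [v_lt_one_iff P hs0] at h2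
      rw [v_le_exp_iff P hs0]
      omega
    have h4 := (hle s t).1 h3
    rw [hs] at h4
    rw [v_lt_one_iff Q ht0] at h1
    rw [v_eq_exp_neg_ord Q ht0, WithZero.exp_le_exp] at h4
    rw [v_eq_exp_neg_ord Q ht0, WithZero.exp_inj]
    omega
  apply Subtype.ext
  apply Valuation.ext
  intro x
  by_cases hx : x = 0
  · simp [hx]
  · have h1 : v P x = v P (t ^ (P.ord x)) := by
      rw [map_zpow₀, ht, ← WithZero.exp_zsmul, v_eq_exp_neg_ord P hx]
      simp
    have h2 := (heq _ _).1 h1
    change v P x = v Q x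
    rw [h2, h1, map_zpow₀, map_zpow₀, ht, htQ]


theorem weak_approx_lt {ι : Type*} [Finite ι] (P : ι → FunFld.Place k K) (hP : Function.Injective P)
    (z : ι → K) (N : ℤ) : ∃ y : K, ∀ i, v (P i) (y - z i) < WithZero.exp N := by
  classical
  have := Fintype.ofFinite ι
  have hdense := AbsoluteValue.denseRange_algebraMap_pi (v := fun i => absP (P i))
    (fun i => absP_isNontrivial _)
    (fun i j hij h => hij (hP (eq_of_absP_isEquiv h)))
  have hr : (0 : ℝ) < (toR (WithZero.exp N) : ℝ) := by
    have : (0 : ℝ≥0) < toR (WithZero.exp N) := by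
      have := toR_strictMono (WithZero.exp_pos (a := N))
      simpa using this
    exact_mod_cast this
  obtain ⟨y, hy⟩ := Metric.denseRange_iff.1 hdense (fun i => WithAbs.toAbs _ (z i)) _ hr
  refine ⟨y, fun i => ?_⟩
  rw [dist_pi_lt_iff hr] at hy
  have := hy i
  rw [dist_eq_norm, WithAbs.norm_eq_apply_ofAbs] at this
  have h2 : (WithAbs.toAbs (absP (P i)) (z i) -
      (algebraMap K ((i : ι) → WithAbs (absP (P i)))) y i).ofAbs = z i - y := rfl
  rw [h2, absP_apply, NNReal.coe_lt_coe, toR_strictMono.lt_iff_lt] at this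
  rwa [Valuation.map_sub_swap]


theorem weak_approx {ι : Type*} [Finite ι] (P : ι → FunFld.Place k K) (hP : Function.Injective P)
    (z : ι → K) (N : ι → ℤ) : ∃ y : K, ∀ i, v (P i) (y - z i) < WithZero.exp (N i) := by
  classical
  have := Fintype.ofFinite ι
  obtain ⟨y, hy⟩ := weak_approx_lt P hP z (-(∑ i, |N i|))
  refine ⟨y, fun i => lt_of_lt_of_le (hy i) ?_⟩
  rw [WithZero.exp_le_exp]
  have h1 : |N i| ≤ ∑ j, |N j| :=
    Finset.single_le_sum (f := fun j => |N j|) (fun j _ => abs_nonneg _) (Finset.mem_univ i)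
  have h2 : -|N i| ≤ N i := neg_abs_le _
  linarith

/-- weak approximation with prescribed orders -/
theorem exists_ord_eq {ι : Type*} [Finite ι] (P : ι → FunFld.Place k K) (hP : Function.Injective P)
    (m : ι → ℤ) : ∃ y : K, y ≠ 0 ∧ ∀ i, v (P i) y = WithZero.exp (m i) := by
  classical
  have hz : ∀ i, ∃ z : K, v (P i) z = WithZero.exp (m i) := fun i => exists_v_eq (P i) (m i)
  choose z hz using hz
  obtain ⟨y, hy⟩ := weak_approx P hP z m
  have hv : ∀ i, v (P i) y = WithZero.exp (m i) := fun i => by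
    have h1 : v (P i) (y - z i) < v (P i) (z i) := by rw [hz i]; exact hy i
    have h2 : y = z i + (y - z i) := by ring
    rw [h2, Valuation.map_add_eq_of_lt_left _ h1, hz i]
  by_cases hι : IsEmpty ι
  · exact ⟨1, one_ne_zero, fun i => (hι.false i).elim⟩
  · rw [not_isEmpty_iff] at hι
    obtain ⟨i⟩ := hι
    refine ⟨y, ?_, hv⟩
    rintro rfl
    have := hv i
    rw [map_zero] at this
    exact WithZero.exp_ne_zero this.symm

end Groth.Agent.Lib.Helper2.FF
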