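import Mathlib
import Groth.Agent.Lib.Helper2.FunFld.WeakApprox

set_option autoImplicit false
open scoped WithZero IntermediateField NNReal
open FunFld Polynomial
open IntermediateField.algebraAdjoinAdjoin

namespace Groth.Agent.Lib.Helper2.FF

variable {k K : Type*} [Field k] [Field K] [Algebra k K]

/-- abstract descent: if every polynomial relation forces vanishing constant coefficients,
then every polynomial relation is trivial. -/
theorem poly_rel_descent {J : Type*} [Fintype J] {x : K} (hx0 : x ≠ 0) (w : J → K)
    (H : ∀ p : J → k[X], ∑ j, aeval x (p j) * w j = 0 → ∀ j, (p j).coeff 0 = 0) :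
    ∀ (d : ℕ) (p : J → k[X]), (∀ j, (p j).degree < d) →
      ∑ j, aeval x (p j) * w j = 0 → ∀ j, p j = 0 := by
  intro d
  induction d with
  | zero =>
    intro p hp _ i
    have := hp i
    simp only [Nat.cast_zero] at this
    by_contra h0
    rw [degree_eq_natDegree h0] at this
    norm_cast at this
  | succ d ih =>
    intro p hp hsum
    have hc := H p hsum
    have hq : ∀ i, ∃ q : k[X], p i = X * q := fun i => (Polynomial.X_dvd_iff (f := p i)).2 (hc i)
    choose q hq using hq
    have hq0 : ∀ i, q i = 0 := by
      apply ih q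
      · intro i
        by_cases h0 : q i = 0
        · simp [h0]
        · have := hp i
          rw [hq i, degree_mul, degree_X] at this
          rw [degree_eq_natDegree h0] at this ⊢
          norm_cast at this ⊢
          omega
      · have : x * ∑ i, aeval x (q i) * w i = 0 := by
          rw [Finset.mul_sum, ← hsum]
          refine Finset.sum_congr rfl fun i _ => ?_
          rw [hq i, map_mul, aeval_X, mul_assoc]
        exact (mul_eq_zero.1 this).resolve_left hx0
    intro i
    rw [hq i, hq0 i, mul_zero]

theorem linearIndependent_of_descent {J : Type*} [Fintype J] {x : K} (hx0 : x ≠ 0) (w : J → K)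
    (H : ∀ p : J → k[X], ∑ j, aeval x (p j) * w j = 0 → ∀ j, (p j).coeff 0 = 0) :
    LinearIndependent k⟮x⟯ w := by
  rw [← LinearIndependent.iff_fractionRing (Algebra.adjoin k ({x} : Set K)) k⟮x⟯]
  rw [Fintype.linearIndependent_iff]
  intro g hg i
  have hg' : ∀ i, ∃ q : k[X], aeval x q = (g i : K) := fun i => by
    have h1 : ((g i : Algebra.adjoin k ({x} : Set K)) : K) ∈ (aeval (R := k) x).range := by
      rw [← Algebra.adjoin_singleton_eq_range_aeval]
      exact (g i).2
    exact h1
  choose q hq using hg'
  have hsum : ∑ i, aeval x (q i) * w i = 0 := by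
    rw [← hg]
    refine Finset.sum_congr rfl fun i _ => ?_
    rw [hq i]
    rfl
  let d := (Finset.univ.sup fun i => (q i).natDegree) + 1
  have hd : ∀ i, (q i).degree < (d : ℕ) := fun i => by
    refine lt_of_le_of_lt degree_le_natDegree ?_
    have : (q i).natDegree ≤ Finset.univ.sup fun i => (q i).natDegree :=
      Finset.le_sup (f := fun i => (q i).natDegree) (Finset.mem_univ i)
    exact_mod_cast Nat.lt_succ_of_le this
  have := poly_rel_descent hx0 w H d q hd hsum i
  apply Subtype.ext
  rw [← hq i, this, map_zero]
  rfl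

/-- **E1**: Let `R` be a `k`-subalgebra of `K` containing `x ≠ 0`, `φ : R → V` a `k`-linear map
killing `x R`. A family in `R` whose image under `φ` is `k`-linearly independent is
`k(x)`-linearly independent in `K`. -/
theorem linearIndependent_of_mod {J : Type*} [Fintype J] {x : K} (hx0 : x ≠ 0)
    (R : Subalgebra k K) (hxR : x ∈ R) {V : Type*} [AddCommGroup V] [Module k V]
    (φ : R →ₗ[k] V) (hφ : ∀ r : R, φ (⟨x, hxR⟩ * r) = 0) (y : J → R)
    (hy : LinearIndependent k (fun j => φ (y j))) :
    LinearIndependent k⟮x⟯ (fun j => (y j : K)) := by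
  apply linearIndependent_of_descent hx0
  intro p hsum
  -- ∑ coeff0 • y = - x * ∑ aeval x (divX p) * y
  have h1 : ∑ j, (p j).coeff 0 • y j = -(⟨x, hxR⟩ * ∑ j, aeval (⟨x, hxR⟩ : R) ((p j).divX) * y j) := by
    apply Subtype.ext
    have hcoe : ∀ q : k[X], ((aeval (⟨x, hxR⟩ : R) q : R) : K) = aeval x q := fun q => by
      have := Polynomial.aeval_algebraMap_apply K (⟨x, hxR⟩ : R) q
      exact this.symm
    push_cast
    rw [eq_neg_iff_add_eq_zero, ← hsum, Finset.mul_sum, ← Finset.sum_add_distrib]
    refine Finset.sum_congr rfl fun j _ => ?_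
    conv_rhs => rw [← Polynomial.divX_mul_X_add (p j)]
    simp only [map_add, map_mul, aeval_X, aeval_C, Algebra.smul_def]
    ring
  have h2 : ∑ j, (p j).coeff 0 • φ (y j) = 0 := by
    have := congrArg φ h1
    rw [map_neg, hφ, neg_zero, map_sum] at this
    simpa only [map_smul] using this
  exact fun j => Fintype.linearIndependent_iff.1 hy _ h2 j

end Groth.Agent.Lib.Helper2.FF
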