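import Mathlib
import Groth.Agent.Lib.Helper2.FunFld.Descent
import Groth.Agent.Lib.Helper2.RelDim

set_option autoImplicit false
open scoped WithZero IntermediateField NNReal
open FunFld Polynomial
open Groth.Agent.Lib.Helper2.RelDim

namespace Groth.Agent.Lib.Helper2.FF

variable {k K : Type*} [Field k] [Field K] [Algebra k K]
variable (P : FunFld.Place k K)

/-- `{z | v_P z ≤ exp n}` as a `k`-subspace -/
def ball (n : ℤ) : Submodule k K where
  carrier := {z | v P z ≤ WithZero.exp n}
  add_mem' {x y} hx hy := by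
    have hx' : v P x ≤ WithZero.exp n := hx
    have hy' : v P y ≤ WithZero.exp n := hy
    exact (Valuation.map_add (v P) x y).trans (max_le hx' hy')
  zero_mem' := by simp
  smul_mem' c x hx := by
    have hx' : v P x ≤ WithZero.exp n := hx
    exact (v_smul_le P c x).trans hx'

theorem mem_ball {n : ℤ} {z : K} : z ∈ ball P n ↔ v P z ≤ WithZero.exp n := Iff.rfl

theorem ball_mono {m n : ℤ} (h : m ≤ n) : ball P m ≤ ball P n := fun z hz =>
  le_trans hz (WithZero.exp_le_exp.2 h)

theorem lt_exp_succ_iff (a : ℤᵐ⁰) (n : ℤ) : a < WithZero.exp (n + 1) ↔ a ≤ WithZero.exp n := by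
  by_cases ha : a = 0
  · simp [ha]
  · rw [← WithZero.log_lt_iff_lt_exp ha, ← WithZero.log_le_iff_le_exp ha]
    omega

/-- the map `ball (n+1) → residue field`, `z ↦ res (z u)` with `v u = exp (-(n+1))` -/
noncomputable def ballRes (n : ℤ) (u : K) (hu : v P u = WithZero.exp (-(n + 1))) :
    ball P (n + 1) →ₗ[k] IsLocalRing.ResidueField P.O where
  toFun z := resAlg P ⟨z.1 * u, by
    rw [mem_O_iff, map_mul, hu]
    calc v P z.1 * WithZero.exp (-(n + 1)) ≤ WithZero.exp (n + 1) * WithZero.exp (-(n + 1)) :=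
          mul_le_mul' z.2 le_rfl
      _ = 1 := by rw [← WithZero.exp_add]; simp⟩
  map_add' x y := by
    rw [← map_add]
    congr 1
    apply Subtype.ext
    simp [add_mul]
  map_smul' c x := by
    rw [← map_smul]
    congr 1
    apply Subtype.ext
    simp only [Submodule.coe_smul, Algebra.smul_def, mul_assoc]
    rfl

theorem ballRes_surjective (n : ℤ) (u : K) (hu : v P u = WithZero.exp (-(n + 1))) :
    Function.Surjective (ballRes P n u hu) := by
  intro r
  obtain ⟨o, rfl⟩ := resAlg_surjective P r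
  have hu0 : u ≠ 0 := by
    rintro rfl
    rw [map_zero] at hu
    exact WithZero.exp_ne_zero hu.symm
  refine ⟨⟨o.1 / u, ?_⟩, ?_⟩
  · rw [mem_ball, map_div₀, hu]
    have ho : v P o.1 ≤ 1 := (mem_O_iff P _).1 o.2
    rw [div_eq_mul_inv, ← WithZero.exp_neg, neg_neg]
    calc v P o.1 * WithZero.exp (n + 1) ≤ 1 * WithZero.exp (n + 1) := mul_le_mul' ho le_rfl
      _ = _ := one_mul _
  · simp only [ballRes, LinearMap.coe_mk, AddHom.coe_mk]
    congr 1
    apply Subtype.ext
    simp [div_mul_cancel₀ _ hu0]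

theorem ker_ballRes (n : ℤ) (u : K) (hu : v P u = WithZero.exp (-(n + 1))) :
    LinearMap.ker (ballRes P n u hu) = (ball P n).submoduleOf (ball P (n + 1)) := by
  ext z
  rw [LinearMap.mem_ker]
  simp only [ballRes, LinearMap.coe_mk, AddHom.coe_mk]
  rw [resAlg_eq_zero_iff, map_mul, hu]
  change _ ↔ v P z.1 ≤ WithZero.exp n
  rw [← lt_exp_succ_iff, WithZero.exp_neg, ← div_eq_mul_inv, div_lt_one₀ WithZero.exp_pos]

/-- `ball (n+1) / ball n ≃ residue field` -/
theorem nonempty_ball_succ_equiv (n : ℤ) :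
    Nonempty (RQ (ball P n) (ball P (n + 1)) ≃ₗ[k] IsLocalRing.ResidueField P.O) := by
  obtain ⟨u, hu⟩ := exists_v_eq P (-(n + 1))
  exact ⟨equivOfSurjective (ballRes P n u hu) (ker_ballRes P n u hu) (ballRes_surjective P n u hu)⟩


theorem finIdx_ball_succ [hfin : FiniteDimensional k (IsLocalRing.ResidueField P.O)] (n : ℤ) :
    FinIdx (ball P n) (ball P (n + 1)) := by
  obtain ⟨e⟩ := nonempty_ball_succ_equiv P n
  exact Module.Finite.equiv e.symm

theorem idx_ball_succ (n : ℤ) : idx (ball P n) (ball P (n + 1)) = P.deg := by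
  obtain ⟨e⟩ := nonempty_ball_succ_equiv P n
  exact e.finrank_eq

theorem finIdx_ball_add [hfin : FiniteDimensional k (IsLocalRing.ResidueField P.O)] (m : ℤ) (d : ℕ) :
    FinIdx (ball P m) (ball P (m + d)) ∧ idx (ball P m) (ball P (m + d)) = d * P.deg := by
  induction d with
  | zero =>
    simp only [Nat.cast_zero, add_zero, zero_mul]
    exact ⟨finIdx_self _, idx_self _⟩
  | succ d ih =>
    have h1 : ball P m ≤ ball P (m + d) := ball_mono P (by omega)
    have h2 : ball P (m + d) ≤ ball P (m + d + 1) := ball_mono P (by omega)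
    have e : m + ((d + 1 : ℕ) : ℤ) = m + d + 1 := by push_cast; ring
    rw [e]
    refine ⟨ih.1.trans h1 h2 (finIdx_ball_succ P _), ?_⟩
    rw [← idx_add h1 h2 ih.1 (finIdx_ball_succ P _), ih.2, idx_ball_succ]
    ring

theorem finIdx_ball [hfin : FiniteDimensional k (IsLocalRing.ResidueField P.O)] {m n : ℤ}
    (h : m ≤ n) : FinIdx (ball P m) (ball P n) := by
  obtain ⟨d, rfl⟩ := Int.le.dest h
  exact (finIdx_ball_add P m d).1

theorem idx_ball [hfin : FiniteDimensional k (IsLocalRing.ResidueField P.O)] {m n : ℤ}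
    (h : m ≤ n) : (idx (ball P m) (ball P n) : ℤ) = (n - m) * P.deg := by
  obtain ⟨d, rfl⟩ := Int.le.dest h
  rw [(finIdx_ball_add P m d).2]
  push_cast
  ring

end Groth.Agent.Lib.Helper2.FF
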