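import Mathlib
import Groth.Agent.Lib.Helper2.FunFld.Filtration

set_option autoImplicit false
open scoped WithZero IntermediateField NNReal
open FunFld Polynomial
open Groth.Agent.Lib.Helper2.RelDim

namespace Groth.Agent.Lib.Helper2.FF

variable {k K : Type*} [Field k] [Field K] [Algebra k K]

/-- the semilocal ring `⋂ O_{P i}` as a `k`-subalgebra -/
def semilocal {ι : Type*} (P : ι → FunFld.Place k K) : Subalgebra k K where
  carrier := {z | ∀ i, v (P i) z ≤ 1}
  mul_mem' {a b} ha hb i := by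
    rw [map_mul]; exact mul_le_one' (ha i) (hb i)
  one_mem' i := by simp
  add_mem' {a b} ha hb i := (Valuation.map_add (v (P i)) a b).trans (max_le (ha i) (hb i))
  zero_mem' i := by simp
  algebraMap_mem' c i := v_algebraMap_le (P i) c

theorem mem_semilocal {ι : Type*} (P : ι → FunFld.Place k K) (z : K) :
    z ∈ semilocal P ↔ ∀ i, v (P i) z ≤ 1 := Iff.rfl

/-- the component map `⋂ O_i → O_i / (ball (-e i))` -/
def compMap {ι : Type*} (P : ι → FunFld.Place k K) (e : ι → ℕ) (i : ι) :
    semilocal P →ₗ[k] RQ (ball (P i) (-(e i : ℤ))) (ball (P i) 0) :=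
  ((ball (P i) (-(e i : ℤ))).submoduleOf (ball (P i) 0)).mkQ.comp
    (LinearMap.codRestrict (ball (P i) 0) (semilocal P).val.toLinearMap (fun r => by
      rw [mem_ball, WithZero.exp_zero]; exact r.2 i))

theorem compMap_eq_zero_iff {ι : Type*} (P : ι → FunFld.Place k K) (e : ι → ℕ) (i : ι)
    (r : semilocal P) : compMap P e i r = 0 ↔ v (P i) r.1 ≤ WithZero.exp (-(e i : ℤ)) := by
  simp only [compMap, LinearMap.comp_apply, Submodule.mkQ_apply]
  rw [Submodule.Quotient.mk_eq_zero]
  rfl

theorem compMap_eq_mk_iff {ι : Type*} (P : ι → FunFld.Place k K) (e : ι → ℕ) (i : ι)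
    (r : semilocal P) (a : ball (P i) 0) :
    compMap P e i r = ((ball (P i) (-(e i : ℤ))).submoduleOf (ball (P i) 0)).mkQ a ↔
      v (P i) (r.1 - a.1) ≤ WithZero.exp (-(e i : ℤ)) := by
  simp only [compMap, LinearMap.comp_apply, Submodule.mkQ_apply]
  rw [Submodule.Quotient.eq]
  rfl

/-- `∏ O_i / ball (-e i)` -/
abbrev VV {ι : Type*} (P : ι → FunFld.Place k K) (e : ι → ℕ) : Type _ :=
  ∀ i, RQ (ball (P i) (-(e i : ℤ))) (ball (P i) 0)

instance {ι : Type*} (P : ι → FunFld.Place k K) (e : ι → ℕ) : AddCommGroup (VV P e) :=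
  Pi.addCommGroup

instance {ι : Type*} (P : ι → FunFld.Place k K) (e : ι → ℕ) : Module k (VV P e) :=
  Pi.module _ _ _

/-- the product map -/
def phi {ι : Type*} (P : ι → FunFld.Place k K) (e : ι → ℕ) : semilocal P →ₗ[k] VV P e :=
  LinearMap.pi fun i => compMap P e i

theorem phi_apply {ι : Type*} (P : ι → FunFld.Place k K) (e : ι → ℕ) (r : semilocal P) (i : ι) :
    phi P e r i = compMap P e i r := rfl

theorem phi_surjective {ι : Type*} [Finite ι] (P : ι → FunFld.Place k K)
    (hP : Function.Injective P) (e : ι → ℕ) : Function.Surjective (phi P e) := by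
  intro q
  have ha : ∀ i, ∃ a : ball (P i) 0,
      ((ball (P i) (-(e i : ℤ))).submoduleOf (ball (P i) 0)).mkQ a = q i :=
    fun i => Submodule.mkQ_surjective _ _
  choose a ha using ha
  obtain ⟨y, hy⟩ := weak_approx P hP (fun i => (a i : K)) (fun i => -(e i : ℤ) + 1)
  have hy' : ∀ i, v (P i) (y - a i) ≤ WithZero.exp (-(e i : ℤ)) := fun i =>
    (lt_exp_succ_iff _ _).1 (hy i)
  have hyR : y ∈ semilocal P := fun i => by
    have h1 : y = (y - a i) + a i := by ring
    rw [h1]
    refine (Valuation.map_add _ _ _).trans (max_le ((hy' i).trans ?_) ?_)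
    · rw [← WithZero.exp_zero, WithZero.exp_le_exp]; omega
    · have := (a i).2
      rw [mem_ball, WithZero.exp_zero] at this
      exact this
  refine ⟨⟨y, hyR⟩, ?_⟩
  funext i
  rw [← ha i, phi_apply, compMap_eq_mk_iff]
  exact hy' i

theorem phi_mul {ι : Type*} (P : ι → FunFld.Place k K) (e : ι → ℕ) {x : K}
    (he : ∀ i, v (P i) x ≤ WithZero.exp (-(e i : ℤ))) (hxR : x ∈ semilocal P) (r : semilocal P) :
    phi P e (⟨x, hxR⟩ * r) = 0 := by
  funext i
  rw [phi_apply, Pi.zero_apply, compMap_eq_zero_iff]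
  change v (P i) (x * r.1) ≤ _
  rw [map_mul]
  calc v (P i) x * v (P i) r.1 ≤ WithZero.exp (-(e i : ℤ)) * 1 := mul_le_mul' (he i) (r.2 i)
    _ = _ := mul_one _

theorem finrank_VV (hK : IsFunctionField k K) {ι : Type*} [Fintype ι] (P : ι → FunFld.Place k K)
    (e : ι → ℕ) : Module.finrank k (VV P e) = ∑ i, e i * (P i).deg := by
  have hfin : ∀ i, FiniteDimensional k (IsLocalRing.ResidueField (P i).O) :=
    fun i => finiteDimensional_residueField (P i) hK
  haveI hVfin : ∀ i, Module.Finite k (RQ (ball (P i) (-(e i : ℤ))) (ball (P i) 0)) :=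
    fun i => finIdx_ball (P i) (by omega)
  haveI hVfree : ∀ i, Module.Free k (RQ (ball (P i) (-(e i : ℤ))) (ball (P i) 0)) :=
    fun i => inferInstance
  have h0 := Module.finrank_pi_fintype k (M := fun i => RQ (ball (P i) (-(e i : ℤ))) (ball (P i) 0))
  refine h0.trans ?_
  refine Finset.sum_congr rfl fun i _ => ?_
  have := idx_ball (P i) (m := -(e i : ℤ)) (n := 0) (by omega)
  have h3 : (idx (ball (P i) (-(e i : ℤ))) (ball (P i) 0) : ℤ) = ((e i * (P i).deg : ℕ) : ℤ) := by
    rw [this]; push_cast; ring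
  exact_mod_cast h3


/-- **Fundamental inequality**: `∑ eᵢ deg Pᵢ ≤ [K : k(x)]` for distinct places `Pᵢ` with
`ord_{Pᵢ} x ≥ eᵢ`. -/
theorem sum_mul_deg_le (hK : IsFunctionField k K) {ι : Type*} [Fintype ι]
    (P : ι → FunFld.Place k K) (hP : Function.Injective P) {x : K} (hx : Transcendental k x)
    (e : ι → ℕ) (he : ∀ i, v (P i) x ≤ WithZero.exp (-(e i : ℤ))) :
    ∑ i, e i * (P i).deg ≤ Module.finrank k⟮x⟯ K := by
  classical
  have hx0 : x ≠ 0 := by
    rintro rfl
    exact hx (isAlgebraic_zero)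
  have hfinK := finiteDimensional_adjoin_simple hK hx
  have hxR : x ∈ semilocal P := fun i => (he i).trans (by
    rw [← WithZero.exp_zero, WithZero.exp_le_exp]; omega)
  have h1 : Module.rank k (VV P e) ≤ (Module.finrank k⟮x⟯ K : ℕ) := by
    apply rank_le
    intro s hs
    have hy : ∀ m : s, ∃ y : semilocal P, phi P e y = (m : VV P e) :=
      fun m => phi_surjective P hP e _
    choose y hy using hy
    have hli : LinearIndependent k (fun m => phi P e (y m)) := by
      simpa only [hy] using hs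
    have := (linearIndependent_of_mod hx0 (semilocal P) hxR (phi P e)
      (phi_mul P e he hxR) y hli).fintype_card_le_finrank
    simpa using this
  have h1' : Module.finrank k (VV P e) ≤ Module.finrank k⟮x⟯ K := Module.finrank_le_of_rank_le h1
  rw [← finrank_VV hK P e]
  exact h1'

end Groth.Agent.Lib.Helper2.FF
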