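import Mathlib
import Groth.Agent.Lib.Helper2.FunFld.FundIneq

set_option autoImplicit false
open scoped WithZero IntermediateField NNReal
open FunFld Polynomial
open Groth.Agent.Lib.Helper2.RelDim

namespace Groth.Agent.Lib.Helper2.FF

variable {k K : Type*} [Field k] [Field K] [Algebra k K]

theorem finite_zeros (hK : IsFunctionField k K) {x : K} (hx : Transcendental k x) :
    {P : FunFld.Place k K | v P x < 1}.Finite := by
  by_contra hinf
  rw [Set.not_finite] at hinf
  obtain ⟨s, hs, hcard⟩ := hinf.exists_subset_card_eq (Module.finrank k⟮x⟯ K + 1)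
  have h := sum_mul_deg_le hK (ι := s) (fun i => i.1) Subtype.val_injective hx (fun _ => 1)
    (fun i => by
      have := hs i.2
      simp only [Set.mem_ofPred_eq] at this
      have h1 := (lt_exp_succ_iff (v i.1 x) (-1)).1 (by simpa using this)
      simpa using h1)
  have h2 : ∑ i : s, 1 * (i.1 : FunFld.Place k K).deg ≥ ∑ i : s, 1 :=
    Finset.sum_le_sum fun i _ => by
      have := deg_pos i.1 hK
      omega
  simp only [Finset.sum_const, Finset.card_univ, Fintype.card_coe, smul_eq_mul, mul_one] at h2
  omega

theorem transcendental_inv {x : K} (hx : Transcendental k x) : Transcendental k x⁻¹ := by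
  intro h
  exact hx (by simpa using h.inv)

theorem finite_poles (hK : IsFunctionField k K) {x : K} (hx : Transcendental k x) :
    {P : FunFld.Place k K | 1 < v P x}.Finite := by
  have := finite_zeros hK (transcendental_inv hx)
  refine this.subset fun P hP => ?_
  simp only [Set.mem_ofPred_eq] at hP ⊢
  rw [map_inv₀]
  have hpos : 0 < v P x := lt_trans zero_lt_one hP
  exact (inv_lt_one₀ hpos).2 hP

theorem finite_support_ord (hK : IsFunctionField k K) (x : K) :
    (Function.support fun P : FunFld.Place k K => P.ord x).Finite := by
  by_cases hx : x ∈ Set.range (algebraMap k K)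
  · obtain ⟨c, rfl⟩ := hx
    have : (Function.support fun P : FunFld.Place k K => P.ord (algebraMap k K c)) = ∅ := by
      ext P
      simp [ord_algebraMap]
    rw [this]
    exact Set.finite_empty
  · have htr := transcendental_of_not_mem_range hK hx
    have hx0 : x ≠ 0 := by
      rintro rfl
      exact hx ⟨0, by simp⟩
    refine ((finite_zeros hK htr).union (finite_poles hK htr)).subset fun P hP => ?_
    simp only [Function.mem_support, ne_eq] at hP
    simp only [Set.mem_union, Set.mem_ofPred_eq]
    rw [v_lt_one_iff P hx0, one_lt_v_iff P hx0]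
    omega

end Groth.Agent.Lib.Helper2.FF
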