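import Mathlib
import Groth.Agent.Lib.Helper2.FunFld.Finite

set_option autoImplicit false
open scoped WithZero IntermediateField NNReal
open FunFld Polynomial
open Groth.Agent.Lib.Helper2.RelDim

namespace Groth.Agent.Lib.Helper2.FF

variable {k K : Type*} [Field k] [Field K] [Algebra k K]

section GenVal
variable {Γ : Type*} [LinearOrderedCommGroupWithZero Γ] (w : Valuation K Γ)

theorem w_aeval_le_one (hk : ∀ c : k, w (algebraMap k K c) ≤ 1) {x : K} (hx : w x ≤ 1) (p : k[X]) :
    w (aeval x p) ≤ 1 := by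
  rw [aeval_eq_sum_range]
  refine Valuation.map_sum_le _ fun i _ => ?_
  rw [Algebra.smul_def, map_mul, map_pow]
  exact mul_le_one' (hk _) (pow_le_one' hx i)

theorem w_aeval_sub_coeff_le (hk : ∀ c : k, w (algebraMap k K c) ≤ 1) {x : K} (hx : w x ≤ 1)
    (p : k[X]) : w (aeval x p - algebraMap k K (p.coeff 0)) ≤ w x := by
  have h1 : aeval x p - algebraMap k K (p.coeff 0) = x * aeval x p.divX := by
    have h0 : aeval x p = aeval x (p.divX * X + C (p.coeff 0)) := by
      rw [Polynomial.divX_mul_X_add p]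
    rw [h0]
    simp only [map_add, map_mul, aeval_X, aeval_C]
    ring
  rw [h1, map_mul]
  calc w x * w (aeval x p.divX) ≤ w x * 1 := mul_le_mul' le_rfl (w_aeval_le_one w hk hx _)
    _ = w x := mul_one _

theorem w_aeval_le_of_coeff_zero (hk : ∀ c : k, w (algebraMap k K c) ≤ 1) {x : K} (hx : w x ≤ 1)
    {p : k[X]} (hp : p.coeff 0 = 0) : w (aeval x p) ≤ w x := by
  have := w_aeval_sub_coeff_le w hk hx p
  rwa [hp, map_zero, sub_zero] at this

/-- **Chain lemma**: a chain `w x ≤ w (y 0) < w (y 1) < ⋯ < 1` is `k(x)`-linearly independent. -/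
theorem linearIndependent_chain (hk : ∀ c : k, w (algebraMap k K c) ≤ 1) {x : K} (hx0 : x ≠ 0)
    (hx1 : w x < 1) {m : ℕ} (y : Fin m → K) (hy0 : ∀ i, y i ≠ 0) (hy1 : ∀ i, w (y i) < 1)
    (hxy : ∀ i, w x ≤ w (y i)) (hmono : StrictMono fun i => w (y i)) :
    LinearIndependent k⟮x⟯ y := by
  have hk1 : ∀ c : k, c ≠ 0 → w (algebraMap k K c) = 1 := fun c hc => by
    refine le_antisymm (hk c) ?_
    have h2 := hk c⁻¹
    rw [map_inv₀, map_inv₀] at h2
    have hpos : 0 < w (algebraMap k K c) := by
      rw [pos_iff_ne_zero]; exact (Valuation.ne_zero_iff _).2 (by simpa using hc)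
    exact (inv_le_one₀ hpos).1 h2
  classical
  apply linearIndependent_of_descent hx0
  intro p hsum
  by_contra hne
  push Not at hne
  -- maximal index with nonzero constant coefficient
  let S := Finset.univ.filter fun j : Fin m => (p j).coeff 0 ≠ 0
  have hS : S.Nonempty := by
    obtain ⟨j, hj⟩ := hne
    exact ⟨j, by simp [S, hj]⟩
  let j := S.max' hS
  have hj : (p j).coeff 0 ≠ 0 := by
    have := S.max'_mem hS
    simpa [S] using this
  have hjmax : ∀ i, j < i → (p i).coeff 0 = 0 := by
    intro i hi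
    by_contra h
    have : i ∈ S := by simp [S, h]
    exact absurd (S.le_max' i this) (not_le.2 hi)
  -- divide by y j
  have hsum' : ∑ i, aeval x (p i) * y i / y j = 0 := by
    rw [← Finset.sum_div, hsum, zero_div]
  have hterm : ∀ i, i ≠ j → w (aeval x (p i) * y i / y j) < 1 := by
    intro i hij
    rw [map_div₀, map_mul]
    have hyj : 0 < w (y j) := by
      rw [pos_iff_ne_zero]; exact (Valuation.ne_zero_iff _).2 (hy0 j)
    rw [div_lt_one₀ hyj]
    rcases lt_or_gt_of_ne hij with h | h
    · calc w (aeval x (p i)) * w (y i) ≤ 1 * w (y i) :=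
            mul_le_mul' (w_aeval_le_one w hk hx1.le _) le_rfl
        _ = w (y i) := one_mul _
        _ < w (y j) := hmono h
    · calc w (aeval x (p i)) * w (y i) ≤ w x * w (y i) :=
            mul_le_mul' (w_aeval_le_of_coeff_zero w hk hx1.le (hjmax i h)) le_rfl
        _ ≤ w (y j) * w (y i) := mul_le_mul' (hxy j) le_rfl
        _ < w (y j) * 1 := by
            exact mul_lt_mul_of_pos_left (hy1 i) hyj
        _ = w (y j) := mul_one _
  have hj' : aeval x (p j) * y j / y j = aeval x (p j) := by
    field_simp [hy0 j]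
  have hrest : w (∑ i ∈ Finset.univ.erase j, aeval x (p i) * y i / y j) < 1 := by
    refine Valuation.map_sum_lt _ one_ne_zero fun i hi => hterm i (Finset.ne_of_mem_erase hi)
  have hsplit : aeval x (p j) = -∑ i ∈ Finset.univ.erase j, aeval x (p i) * y i / y j := by
    rw [eq_neg_iff_add_eq_zero, ← hj',
      Finset.add_sum_erase _ (fun i => aeval x (p i) * y i / y j) (Finset.mem_univ j)]
    exact hsum'
  have h1 : w (aeval x (p j)) < 1 := by
    rw [hsplit, Valuation.map_neg]; exact hrest
  have h2 : w (aeval x (p j)) = 1 := by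
    have h3 : w (aeval x (p j) - algebraMap k K ((p j).coeff 0)) < 1 :=
      lt_of_le_of_lt (w_aeval_sub_coeff_le w hk hx1.le _) hx1
    have h4 : aeval x (p j) = algebraMap k K ((p j).coeff 0) +
        (aeval x (p j) - algebraMap k K ((p j).coeff 0)) := by ring
    rw [h4, Valuation.map_add_eq_of_lt_left]
    · exact hk1 _ hj
    · rw [hk1 _ hj]; exact h3
  exact absurd h2 h1.ne

end GenVal

end Groth.Agent.Lib.Helper2.FF
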