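import Mathlib
import Groth.Agent.Lib.Helper2.FunFld.Chain

set_option autoImplicit false
open scoped WithZero IntermediateField NNReal
open FunFld Polynomial
open Groth.Agent.Lib.Helper2.RelDim

namespace Groth.Agent.Lib.Helper2.FF

variable {k K : Type*} [Field k] [Field K] [Algebra k K]

theorem wfDvdMonoid_valuationSubring (hK : IsFunctionField k K) (O : ValuationSubring K)
    (hkO : ∀ c : k, algebraMap k K c ∈ O) : WfDvdMonoid O := by
  constructor
  rw [wellFounded_iff_isEmpty_descending_chain]
  constructor
  rintro ⟨f, hf⟩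
  let w := O.valuation
  have hk : ∀ c : k, w (algebraMap k K c) ≤ 1 := fun c => (O.valuation_le_one_iff _).2 (hkO c)
  have hwO : ∀ a : O, w (a : K) ≤ 1 := fun a => (O.valuation_le_one_iff _).2 a.2
  -- basic facts
  have hne : ∀ n, f (n + 1) ≠ 0 := fun n => (hf n).1
  have hstep : ∀ n, w (f n : K) < w (f (n + 1) : K) := by
    intro n
    obtain ⟨-, c, hc, hfc⟩ := hf n
    have hc1 : w (c : K) < 1 := by
      rcases O.valuation_lt_one_or_eq_one c with h | h
      · exact h
      · exact absurd ((O.valuation_eq_one_iff c).2 h) hc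
    have hpos : 0 < w (f (n + 1) : K) := by
      rw [pos_iff_ne_zero]
      exact (Valuation.ne_zero_iff _).2 (by simpa using hne n)
    rw [hfc]
    push_cast
    rw [map_mul]
    calc w (f (n + 1) : K) * w (c : K) < w (f (n + 1) : K) * 1 := mul_lt_mul_of_pos_left hc1 hpos
      _ = _ := mul_one _
  have hmono : StrictMono fun n => w (f n : K) := strictMono_nat_of_lt_succ hstep
  have hlt1 : ∀ n, w (f n : K) < 1 := fun n => lt_of_lt_of_le (hstep n) (hwO _)
  set x : K := (f 1 : K) with hxdef
  have hx0 : x ≠ 0 := by
    have := hne 0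
    rw [hxdef]
    exact fun h => this (Subtype.ext h)
  have hx1 : w x < 1 := hlt1 1
  have hxk : x ∉ Set.range (algebraMap k K) := by
    rintro ⟨c, hc⟩
    have hc0 : c ≠ 0 := by
      rintro rfl
      rw [map_zero] at hc
      exact hx0 hc.symm
    have h1 : w (algebraMap k K c) = 1 := by
      refine le_antisymm (hk c) ?_
      have h2 := hk c⁻¹
      rw [map_inv₀, map_inv₀] at h2
      have hpos : 0 < w (algebraMap k K c) := by
        rw [pos_iff_ne_zero]; exact (Valuation.ne_zero_iff _).2 (by simpa using hc0)
      exact (inv_le_one₀ hpos).1 h2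
    rw [hc] at h1
    exact absurd h1 hx1.ne
  have htr := transcendental_of_not_mem_range hK hxk
  have hfin := finiteDimensional_adjoin_simple hK htr
  let n := Module.finrank k⟮x⟯ K
  let y : Fin (n + 1) → K := fun i => (f (1 + i) : K)
  have hli : LinearIndependent k⟮x⟯ y := by
    refine linearIndependent_chain w hk hx0 hx1 y (fun i => ?_) (fun i => hlt1 _) (fun i => ?_) ?_
    · have : f (1 + (i : ℕ)) ≠ 0 := by
        rw [add_comm]; exact hne _
      exact fun h => this (Subtype.ext h)
    · exact hmono.monotone (by omega)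
    · intro i j hij
      exact hmono (by
        have : (i : ℕ) < j := hij
        omega)
  have := hli.fintype_card_le_finrank
  simp only [Fintype.card_fin] at this
  exact absurd this (by simp [n])


theorem isDiscreteValuationRing_valuationSubring (hK : IsFunctionField k K) (O : ValuationSubring K)
    (hkO : ∀ c : k, algebraMap k K c ∈ O) (hnf : ∃ a : O, a ≠ 0 ∧ ¬IsUnit a) :
    IsDiscreteValuationRing O := by
  haveI := wfDvdMonoid_valuationSubring hK O hkO
  haveI : IsPrincipalIdealRing O := ((IsBezout.TFAE (R := O)).out 3 1).1 ‹WfDvdMonoid O›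
  refine { not_a_field' := ?_ }
  obtain ⟨a, ha0, hau⟩ := hnf
  intro h
  have : a ∈ IsLocalRing.maximalIdeal O := (IsLocalRing.mem_maximalIdeal a).2 hau
  rw [h] at this
  exact ha0 (by simpa using this)

/-- the place attached to a discrete valuation subring containing `k` -/
noncomputable def placeOfDVR (O : ValuationSubring K) [IsDiscreteValuationRing O]
    (hkO : ∀ c : k, algebraMap k K c ∈ O) : FunFld.Place k K :=
  let vO : IsDedekindDomain.HeightOneSpectrum O :=
    ⟨IsLocalRing.maximalIdeal O, inferInstance, IsDiscreteValuationRing.not_a_field O⟩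
  ⟨vO.valuation K, fun c => by
      have : algebraMap k K c = algebraMap O K ⟨algebraMap k K c, hkO c⟩ := rfl
      rw [this]
      exact vO.valuation_le_one _,
    vO.valuation_surjective K⟩

theorem placeOfDVR_lt_one_iff (O : ValuationSubring K) [IsDiscreteValuationRing O]
    (hkO : ∀ c : k, algebraMap k K c ∈ O) (a : O) :
    v (placeOfDVR O hkO) (a : K) < 1 ↔ ¬IsUnit a := by
  let vO : IsDedekindDomain.HeightOneSpectrum O :=
    ⟨IsLocalRing.maximalIdeal O, inferInstance, IsDiscreteValuationRing.not_a_field O⟩
  have h := vO.valuation_lt_one_iff_mem (K := K) a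
  rw [← IsLocalRing.notMem_maximalIdeal, not_not]
  exact h

theorem placeOfDVR_le_one (O : ValuationSubring K) [IsDiscreteValuationRing O]
    (hkO : ∀ c : k, algebraMap k K c ∈ O) (a : O) :
    v (placeOfDVR O hkO) (a : K) ≤ 1 := by
  let vO : IsDedekindDomain.HeightOneSpectrum O :=
    ⟨IsLocalRing.maximalIdeal O, inferInstance, IsDiscreteValuationRing.not_a_field O⟩
  exact vO.valuation_le_one (K := K) a


/-- **Existence of zeros**: a transcendental element has a zero. -/
theorem exists_place_lt_one (hK : IsFunctionField k K) {x : K} (hx : Transcendental k x) :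
    ∃ P : FunFld.Place k K, v P x < 1 := by
  have hx0 : x ≠ 0 := by
    rintro rfl
    exact hx isAlgebraic_zero
  let I : Ideal k[X] := Ideal.span {X}
  haveI hI : I.IsPrime := (Ideal.span_singleton_prime X_ne_zero).2 prime_X
  let R := Localization.AtPrime I
  have hg : ∀ y : I.primeCompl, IsUnit ((aeval (R := k) x).toRingHom (y : k[X])) := by
    intro y
    rw [isUnit_iff_ne_zero]
    intro h
    have hy0 : (y : k[X]) ≠ 0 := by
      intro h0
      exact y.2 (by rw [h0]; exact I.zero_mem)
    exact hy0 ((transcendental_iff.1 hx) _ h)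
  let f : R →+* K := IsLocalization.lift hg
  obtain ⟨A, hA, hloc⟩ := IsLocalRing.exists_factor_valuationRing f
  have hfX : f (algebraMap k[X] R X) = x := by
    simp only [f, IsLocalization.lift_eq]
    simp
  have hfC : ∀ c : k, f (algebraMap k[X] R (C c)) = algebraMap k K c := by
    intro c
    simp only [f, IsLocalization.lift_eq]
    simp
  have hkA : ∀ c : k, algebraMap k K c ∈ A := fun c => by
    rw [← hfC c]; exact hA _
  have hxA : x ∈ A := by rw [← hfX]; exact hA _
  have hxnu : ¬IsUnit (⟨x, hxA⟩ : A) := by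
    intro hu
    have h1 : (f.codRestrict A.toSubring hA) (algebraMap k[X] R X) = ⟨x, hxA⟩ :=
      Subtype.ext hfX
    rw [← h1] at hu
    have h2 := hloc.map_nonunit _ hu
    have h3 : algebraMap k[X] R X ∈ IsLocalRing.maximalIdeal R := by
      rw [IsLocalization.AtPrime.to_map_mem_maximal_iff R I]
      exact Ideal.mem_span_singleton_self X
    exact (IsLocalRing.mem_maximalIdeal _).1 h3 h2
  haveI := isDiscreteValuationRing_valuationSubring hK A hkA
    ⟨⟨x, hxA⟩, fun h => hx0 (congrArg Subtype.val h), hxnu⟩
  exact ⟨placeOfDVR A hkA, (placeOfDVR_lt_one_iff A hkA ⟨x, hxA⟩).2 hxnu⟩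

/-- **Existence of poles** -/
theorem exists_place_one_lt (hK : IsFunctionField k K) {x : K} (hx : Transcendental k x) :
    ∃ P : FunFld.Place k K, 1 < v P x := by
  obtain ⟨P, hP⟩ := exists_place_lt_one hK (transcendental_inv hx)
  refine ⟨P, ?_⟩
  rw [map_inv₀] at hP
  have hx0 : x ≠ 0 := by
    rintro rfl
    exact hx isAlgebraic_zero
  have hpos : 0 < v P x := by
    rw [pos_iff_ne_zero]; exact (Valuation.ne_zero_iff _).2 hx0
  exact (inv_lt_one₀ hpos).1 hP

end Groth.Agent.Lib.Helper2.FF
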