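import Mathlib
import Groth.Agent.Lib.Helper2.FunFld.Exists

set_option autoImplicit false
open scoped WithZero IntermediateField NNReal
open FunFld Polynomial
open Groth.Agent.Lib.Helper2.RelDim

namespace Groth.Agent.Lib.Helper2.FF

variable {k K : Type*} [Field k] [Field K] [Algebra k K]

/-! ### degrees of divisors -/

theorem deg_def (D : Divisor k K) : D.deg = D.sum fun P n => n * (P.deg : ℤ) := rfl

theorem deg_zero : (0 : Divisor k K).deg = 0 := by simp [deg_def]

theorem deg_add (D E : Divisor k K) : (D + E).deg = D.deg + E.deg := by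
  classical
  rw [deg_def, deg_def, deg_def]
  exact Finsupp.sum_add_index' (fun _ => by simp) (fun _ _ _ => by ring)

theorem deg_neg (D : Divisor k K) : (-D).deg = -D.deg := by
  have := deg_add D (-D)
  rw [add_neg_cancel, deg_zero] at this
  linarith

theorem deg_sub (D E : Divisor k K) : (D - E).deg = D.deg - E.deg := by
  rw [sub_eq_add_neg, deg_add, deg_neg]; ring

theorem deg_single (P : FunFld.Place k K) (n : ℤ) :
    Divisor.deg (Finsupp.single P n : Divisor k K) = n * P.deg := by
  rw [deg_def, Finsupp.sum_single_index]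
  simp

theorem deg_nonneg {D : Divisor k K} (h : 0 ≤ D) : 0 ≤ D.deg := by
  rw [deg_def]
  refine Finset.sum_nonneg fun P _ => ?_
  exact mul_nonneg (h P) (Int.natCast_nonneg _)

theorem deg_mono {D E : Divisor k K} (h : D ≤ E) : D.deg ≤ E.deg := by
  have := deg_nonneg (sub_nonneg.2 h)
  rw [deg_sub] at this
  linarith

/-! ### the spaces `L(D)` -/

theorem mem_L {D : Divisor k K} {x : K} : x ∈ L D ↔ ∀ P : FunFld.Place k K, v P x ≤ WithZero.exp (D P) :=
  Iff.rfl

theorem L_mono {D E : Divisor k K} (h : D ≤ E) : L D ≤ L E := fun x hx P =>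
  (hx P).trans (WithZero.exp_le_exp.2 (h P))

/-- evaluation `L(D) → ball_P(D P) / ball_P(D P - 1)` -/
def evalL (D : Divisor k K) (P : FunFld.Place k K) :
    L D →ₗ[k] RQ (ball P (D P - 1)) (ball P (D P)) :=
  ((ball P (D P - 1)).submoduleOf (ball P (D P))).mkQ.comp
    (LinearMap.codRestrict (ball P (D P)) (L D).subtype (fun x => x.2 P))

theorem ker_evalL (D : Divisor k K) (P : FunFld.Place k K) :
    LinearMap.ker (evalL D P) = (L (D - (Finsupp.single P 1 : Divisor k K))).submoduleOf (L D) := by
  classical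
  ext x
  rw [LinearMap.mem_ker]
  simp only [evalL, LinearMap.comp_apply, Submodule.mkQ_apply]
  rw [Submodule.Quotient.mk_eq_zero]
  change v P x.1 ≤ WithZero.exp (D P - 1) ↔ x.1 ∈ L (D - (Finsupp.single P 1 : Divisor k K))
  rw [mem_L]
  constructor
  · intro h Q
    by_cases hQ : Q = P
    · subst hQ
      simpa using h
    · have : (D - (Finsupp.single P 1 : Divisor k K)) Q = D Q := by
        simp [Finsupp.single_apply, Ne.symm hQ]
      rw [this]
      exact x.2 Q
  · intro h
    simpa using h P

theorem rank_RQ_L_single_le (D : Divisor k K) (P : FunFld.Place k K) :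
    Module.rank k (RQ (L (D - (Finsupp.single P 1 : Divisor k K))) (L D)) ≤
      Module.rank k (IsLocalRing.ResidueField P.O) := by
  refine (rank_RQ_le_of_ker (evalL D P) (ker_evalL D P)).trans ?_
  obtain ⟨e⟩ := nonempty_ball_succ_equiv P (D P - 1)
  have h1 : D P - 1 + 1 = D P := by ring
  rw [h1] at e
  exact e.rank_eq.le


theorem finIdx_L_single (hK : IsFunctionField k K) (D : Divisor k K) (P : FunFld.Place k K) :
    FinIdx (L (D - (Finsupp.single P 1 : Divisor k K))) (L D) ∧
      idx (L (D - (Finsupp.single P 1 : Divisor k K))) (L D) ≤ P.deg := by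
  have hfin := finiteDimensional_residueField P hK
  have h := rank_RQ_L_single_le D P
  have h2 : Module.rank k (IsLocalRing.ResidueField P.O) = (P.deg : Cardinal) :=
    (Module.finrank_eq_rank k _).symm
  rw [h2] at h
  have hf : FinIdx (L (D - (Finsupp.single P 1 : Divisor k K))) (L D) := by
    rw [finIdx_iff_rank_lt]
    exact lt_of_le_of_lt h Cardinal.natCast_lt_aleph0
  refine ⟨hf, ?_⟩
  rw [hf.rank_eq] at h
  exact_mod_cast h

/-- total multiplicity of a divisor -/
noncomputable def size (E : Divisor k K) : ℤ := E.sum fun _ n => n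

theorem size_sub_single (E : Divisor k K) (P : FunFld.Place k K) :
    size (E - (Finsupp.single P 1 : Divisor k K)) = size E - 1 := by
  classical
  unfold size
  rw [Finsupp.sum_sub_index (by simp), Finsupp.sum_single_index (by simp)]

theorem eq_zero_of_size_eq_zero {E : Divisor k K} (hE : 0 ≤ E) (h : size E = 0) : E = 0 := by
  unfold size at h
  rw [Finsupp.sum] at h
  have := (Finset.sum_eq_zero_iff_of_nonneg (fun P _ => hE P)).1 h
  ext P
  by_cases hP : P ∈ E.support
  · exact this P hP
  · simpa using hP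

theorem size_nonneg {E : Divisor k K} (hE : 0 ≤ E) : 0 ≤ size E :=
  Finset.sum_nonneg fun P _ => hE P

theorem finIdx_L_aux (hK : IsFunctionField k K) : ∀ (N : ℕ) (D₁ D₂ : Divisor k K), D₁ ≤ D₂ →
    size (D₂ - D₁) = N →
    FinIdx (L D₁) (L D₂) ∧ (idx (L D₁) (L D₂) : ℤ) ≤ D₂.deg - D₁.deg := by
  classical
  intro N
  induction N with
  | zero =>
    intro D₁ D₂ h hs
    have : D₂ - D₁ = 0 := eq_zero_of_size_eq_zero (sub_nonneg.2 h) (by simpa using hs)
    have h2 : D₂ = D₁ := sub_eq_zero.1 this
    subst h2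
    refine ⟨finIdx_self _, ?_⟩
    rw [idx_self]; simp
  | succ N ih =>
    intro D₁ D₂ h hs
    have hE : 0 ≤ D₂ - D₁ := sub_nonneg.2 h
    obtain ⟨P, hP⟩ : ∃ P, 0 < (D₂ - D₁) P := by
      by_contra hcon
      push Not at hcon
      have : D₂ - D₁ = 0 := by
        ext P
        exact le_antisymm (hcon P) (hE P)
      rw [this] at hs
      simp [size] at hs
      omega
    have h1 : D₁ ≤ D₂ - (Finsupp.single P 1 : Divisor k K) := by
      intro Q
      by_cases hQ : Q = P
      · subst hQ
        have : (D₂ - D₁) Q = D₂ Q - D₁ Q := rfl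
        simp only [Finsupp.coe_sub, Pi.sub_apply, Finsupp.single_eq_same]
        omega
      · simp only [Finsupp.coe_sub, Pi.sub_apply]
        rw [Finsupp.single_eq_of_ne hQ]
        simpa using h Q
    have h2 : D₂ - (Finsupp.single P 1 : Divisor k K) ≤ D₂ := by
      intro Q
      simp only [Finsupp.coe_sub, Pi.sub_apply]
      have : 0 ≤ (Finsupp.single P 1 : Divisor k K) Q := by
        rw [Finsupp.single_apply]; split_ifs <;> simp
      omega
    have hs' : size (D₂ - (Finsupp.single P 1 : Divisor k K) - D₁) = N := by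
      have : D₂ - (Finsupp.single P 1 : Divisor k K) - D₁ =
          D₂ - D₁ - (Finsupp.single P 1 : Divisor k K) := by abel
      rw [this, size_sub_single, hs]
      push_cast; ring
    obtain ⟨hf1, hi1⟩ := ih D₁ _ h1 hs'
    obtain ⟨hf2, hi2⟩ := finIdx_L_single hK D₂ P
    refine ⟨hf1.trans (L_mono h1) (L_mono h2) hf2, ?_⟩
    rw [← idx_add (L_mono h1) (L_mono h2) hf1 hf2]
    rw [deg_sub, deg_single] at hi1
    push_cast
    have : (idx (L (D₂ - (Finsupp.single P 1 : Divisor k K))) (L D₂) : ℤ) ≤ P.deg := by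
      exact_mod_cast hi2
    linarith

theorem finIdx_L (hK : IsFunctionField k K) {D₁ D₂ : Divisor k K} (h : D₁ ≤ D₂) :
    FinIdx (L D₁) (L D₂) :=
  (finIdx_L_aux hK _ D₁ D₂ h (Int.toNat_of_nonneg (size_nonneg (sub_nonneg.2 h))).symm).1

theorem idx_L_le (hK : IsFunctionField k K) {D₁ D₂ : Divisor k K} (h : D₁ ≤ D₂) :
    (idx (L D₁) (L D₂) : ℤ) ≤ D₂.deg - D₁.deg :=
  (finIdx_L_aux hK _ D₁ D₂ h (Int.toNat_of_nonneg (size_nonneg (sub_nonneg.2 h))).symm).2


theorem L_zero (hK : IsFunctionField k K) : L (0 : Divisor k K) = 1 := by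
  ext x
  rw [Submodule.one_eq_range, LinearMap.mem_range]
  constructor
  · intro hx
    by_contra hne
    have hx' : x ∉ Set.range (algebraMap k K) := by
      rintro ⟨c, rfl⟩
      exact hne ⟨c, by simp [Algebra.linearMap_apply]⟩
    have htr := transcendental_of_not_mem_range hK hx'
    obtain ⟨Q, hQ⟩ := exists_place_one_lt hK htr
    have := hx Q
    simp only [Finsupp.coe_zero, Pi.zero_apply, WithZero.exp_zero] at this
    exact absurd this (not_le.2 hQ)
  · rintro ⟨c, rfl⟩
    intro P
    simp only [Finsupp.coe_zero, Pi.zero_apply, WithZero.exp_zero, Algebra.linearMap_apply]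
    exact P.2.1 c

theorem finiteDimensional_L_zero (hK : IsFunctionField k K) :
    FiniteDimensional k (L (0 : Divisor k K)) := by
  rw [L_zero hK, Submodule.one_eq_range]
  exact LinearMap.finiteDimensional_range _

theorem finrank_L_zero (hK : IsFunctionField k K) : Module.finrank k (L (0 : Divisor k K)) = 1 := by
  rw [L_zero hK, Submodule.one_eq_range]
  have hinj : Function.Injective (Algebra.linearMap k K) := (algebraMap k K).injective
  rw [LinearMap.finrank_range_of_inj hinj]
  exact Module.finrank_self k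

theorem finiteDimensional_L (hK : IsFunctionField k K) (D : Divisor k K) :
    FiniteDimensional k (L D) := by
  have h0 : (0 : Divisor k K) ≤ D ⊔ 0 := le_sup_right
  have h1 : D ≤ D ⊔ 0 := le_sup_left
  haveI := finiteDimensional_L_zero hK
  haveI : FiniteDimensional k (L (D ⊔ 0)) :=
    finiteDimensional_of_finIdx (L_mono h0) (finIdx_L hK h0)
  exact Submodule.finiteDimensional_of_le (L_mono h1)

theorem ell_def (D : Divisor k K) : ell D = Module.finrank k (L D) := rfl

theorem ell_add_idx (hK : IsFunctionField k K) {D₁ D₂ : Divisor k K} (h : D₁ ≤ D₂) :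
    ell D₁ + idx (L D₁) (L D₂) = ell D₂ := by
  haveI := finiteDimensional_L hK D₂
  exact finrank_add_idx (L_mono h)

theorem ell_sub_ell_le (hK : IsFunctionField k K) {D₁ D₂ : Divisor k K} (h : D₁ ≤ D₂) :
    (ell D₂ : ℤ) - ell D₁ ≤ D₂.deg - D₁.deg := by
  have h1 := ell_add_idx hK h
  have h2 := idx_L_le hK h
  have : (ell D₂ : ℤ) = ell D₁ + idx (L D₁) (L D₂) := by exact_mod_cast h1.symm
  linarith

theorem ell_mono (hK : IsFunctionField k K) {D₁ D₂ : Divisor k K} (h : D₁ ≤ D₂) :
    ell D₁ ≤ ell D₂ := by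
  have := ell_add_idx hK h
  omega

theorem ell_zero (hK : IsFunctionField k K) : ell (0 : Divisor k K) = 1 := finrank_L_zero hK

/-- `ℓ(D) ≤ deg D + 1` for effective `D` -/
theorem ell_le_deg_add_one (hK : IsFunctionField k K) {D : Divisor k K} (h : 0 ≤ D) :
    (ell D : ℤ) ≤ D.deg + 1 := by
  have := ell_sub_ell_le hK h
  rw [ell_zero hK, deg_zero] at this
  push_cast at this
  linarith

end Groth.Agent.Lib.Helper2.FF
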