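import Mathlib
import Groth.Agent.Lib.Helper2.FunFld.LSpace

set_option autoImplicit false
open scoped WithZero IntermediateField NNReal
open FunFld Polynomial
open Groth.Agent.Lib.Helper2.RelDim

namespace Groth.Agent.Lib.Helper2.FF

variable {k K : Type*} [Field k] [Field K] [Algebra k K]

theorem div_apply (hK : IsFunctionField k K) (x : K) (P : FunFld.Place k K) :
    FunFld.div k x P = P.ord x := by
  unfold FunFld.div
  rw [dif_pos (finite_support_ord hK x)]
  rfl

/-- zero divisor -/
noncomputable def zdiv (x : K) : Divisor k K := FunFld.div k x ⊔ 0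

/-- pole divisor -/
noncomputable def pdiv (x : K) : Divisor k K := (-FunFld.div k x) ⊔ 0

theorem zdiv_apply (hK : IsFunctionField k K) (x : K) (P : FunFld.Place k K) :
    zdiv (k := k) x P = max (P.ord x) 0 := by
  simp [zdiv, div_apply hK]

theorem pdiv_apply (hK : IsFunctionField k K) (x : K) (P : FunFld.Place k K) :
    pdiv (k := k) x P = max (-P.ord x) 0 := by
  simp [pdiv, div_apply hK]

theorem zdiv_nonneg (x : K) : (0 : Divisor k K) ≤ zdiv x := le_sup_right
theorem pdiv_nonneg (x : K) : (0 : Divisor k K) ≤ pdiv x := le_sup_right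

theorem div_eq_zdiv_sub_pdiv (hK : IsFunctionField k K) (x : K) :
    FunFld.div k x = zdiv x - pdiv x := by
  ext P
  simp only [Finsupp.coe_sub, Pi.sub_apply, zdiv_apply hK, pdiv_apply hK, div_apply hK]
  rcases le_total (P.ord x) 0 with h | h
  · rw [max_eq_right h, max_eq_left (by omega)]; ring
  · rw [max_eq_left h, max_eq_right (by omega)]; ring

theorem pdiv_inv (hK : IsFunctionField k K) (x : K) : pdiv (k := k) x⁻¹ = zdiv x := by
  ext P
  rw [pdiv_apply hK, zdiv_apply hK, ord_inv, neg_neg]

theorem zdiv_inv (hK : IsFunctionField k K) (x : K) : zdiv (k := k) x⁻¹ = pdiv x := by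
  ext P
  rw [pdiv_apply hK, zdiv_apply hK, ord_inv]

theorem mem_L_pdiv (hK : IsFunctionField k K) (x : K) : x ∈ L (pdiv (k := k) x) := by
  intro P
  by_cases hx : x = 0
  · simp [hx]
  · rw [v_le_exp_iff P hx, pdiv_apply hK]
    have := le_max_left (-P.ord x) 0
    omega

theorem v_le_exp_pdiv (hK : IsFunctionField k K) (x : K) (P : FunFld.Place k K) :
    v P x ≤ WithZero.exp (pdiv (k := k) x P) := mem_L_pdiv hK x P

theorem adjoin_inv_eq (x : K) : k⟮x⁻¹⟯ = k⟮x⟯ := by
  apply le_antisymm
  · rw [IntermediateField.adjoin_simple_le_iff]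
    exact inv_mem (IntermediateField.mem_adjoin_simple_self k x)
  · rw [IntermediateField.adjoin_simple_le_iff]
    have := inv_mem (IntermediateField.mem_adjoin_simple_self k x⁻¹)
    rwa [inv_inv] at this

/-- linear independence of powers of a transcendental element inside `k(x)` -/
theorem linearIndependent_pow_gen {x : K} (hx : Transcendental k x) (l : ℕ) :
    LinearIndependent k (fun i : Fin (l + 1) => (IntermediateField.AdjoinSimple.gen k x) ^ (i : ℕ)) := by
  rw [Fintype.linearIndependent_iff]
  intro c hc i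
  have h1 : aeval x (∑ i : Fin (l + 1), C (c i) * X ^ (i : ℕ)) = 0 := by
    have := congrArg (algebraMap k⟮x⟯ K) hc
    simp only [map_sum, map_zero] at this
    rw [map_sum]
    rw [← this]
    refine Finset.sum_congr rfl fun i _ => ?_
    simp only [map_mul, aeval_C, map_pow, aeval_X, Algebra.smul_def]
    simp
  have h2 := (transcendental_iff.1 hx) _ h1
  have h3 := congrArg (fun p => p.coeff (i : ℕ)) h2
  simp only [finsetSum_coeff, coeff_C_mul, coeff_X_pow, coeff_zero] at h3
  rw [Finset.sum_eq_single i] at h3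
  · simpa using h3
  · intro j _ hji
    have : (i : ℕ) ≠ j := fun h => hji (Fin.ext h.symm)
    simp [this]
  · simp


theorem deg_nsmul (l : ℕ) (D : Divisor k K) : (l • D).deg = l * D.deg := by
  induction l with
  | zero => simp [deg_zero]
  | succ l ih => rw [succ_nsmul, deg_add, ih]; push_cast; ring

theorem deg_sum {ι : Type*} (s : Finset ι) (D : ι → Divisor k K) :
    (∑ i ∈ s, D i).deg = ∑ i ∈ s, (D i).deg := by
  classical
  induction s using Finset.induction_on with
  | empty => simp [deg_zero]
  | insert a s ha ih => rw [Finset.sum_insert ha, Finset.sum_insert ha, deg_add, ih]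

/-- key lower bound: `(l+1) n ≤ ℓ(l B + C)` -/
theorem mul_finrank_le_ell (hK : IsFunctionField k K) {y : K} (hy : Transcendental k y) :
    ∃ C : Divisor k K, 0 ≤ C ∧ ∀ l : ℕ,
      (l + 1) * Module.finrank k⟮y⟯ K ≤ ell (l • pdiv (k := k) y + C) := by
  classical
  have hfin := finiteDimensional_adjoin_simple hK hy
  let n := Module.finrank k⟮y⟯ K
  let u := Module.finBasis k⟮y⟯ K
  let C : Divisor k K := ∑ j, pdiv (u j)
  have hC0 : (0 : Divisor k K) ≤ C := Finset.sum_nonneg fun j _ => pdiv_nonneg _
  have hCj : ∀ j, pdiv (k := k) (u j) ≤ C := fun j =>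
    Finset.single_le_sum (f := fun j => pdiv (k := k) (u j)) (fun j _ => pdiv_nonneg _)
      (Finset.mem_univ j)
  refine ⟨C, hC0, fun l => ?_⟩
  have hB0 : (0 : Divisor k K) ≤ pdiv y := pdiv_nonneg y
  -- the family
  let b : Fin (l + 1) → k⟮y⟯ := fun i => (IntermediateField.AdjoinSimple.gen k y) ^ (i : ℕ)
  have hb : LinearIndependent k b := linearIndependent_pow_gen hy l
  have hli : LinearIndependent k (fun p : Fin (l + 1) × Fin n => b p.1 • u p.2) :=
    linearIndependent_smul hb u.linearIndependent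
  have hmem : ∀ p : Fin (l + 1) × Fin n, b p.1 • u p.2 ∈ L (l • pdiv (k := k) y + C) := by
    intro p P
    have h1 : b p.1 • u p.2 = y ^ (p.1 : ℕ) * u p.2 := by
      rw [Algebra.smul_def]
      simp [b]
    rw [h1, map_mul, map_pow]
    have h2 : v P y ≤ WithZero.exp (pdiv (k := k) y P) := v_le_exp_pdiv hK y P
    have h3 : v P (u p.2) ≤ WithZero.exp (C P) :=
      (v_le_exp_pdiv hK (u p.2) P).trans (WithZero.exp_le_exp.2 (hCj p.2 P))
    have h4 : v P y ^ (p.1 : ℕ) ≤ WithZero.exp ((l • pdiv (k := k) y) P) := by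
      calc v P y ^ (p.1 : ℕ) ≤ WithZero.exp (pdiv (k := k) y P) ^ (p.1 : ℕ) :=
            pow_le_pow_left₀ zero_le h2 _
        _ = WithZero.exp ((p.1 : ℕ) • pdiv (k := k) y P) := (WithZero.exp_nsmul _ _).symm
        _ ≤ WithZero.exp ((l • pdiv (k := k) y) P) := by
            rw [WithZero.exp_le_exp]
            simp only [Finsupp.coe_smul, Pi.smul_apply, smul_eq_mul, nsmul_eq_mul]
            have : ((p.1 : ℕ) : ℤ) ≤ l := by
              have := p.1.2
              omega
            exact mul_le_mul_of_nonneg_right this (hB0 P)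
    simp only [Finsupp.coe_add, Pi.add_apply, WithZero.exp_add]
    exact mul_le_mul' h4 h3
  let g : Fin (l + 1) × Fin n → L (l • pdiv (k := k) y + C) := fun p => ⟨_, hmem p⟩
  have hg : LinearIndependent k g := by
    apply LinearIndependent.of_comp (L (l • pdiv (k := k) y + C)).subtype
    exact hli
  haveI := finiteDimensional_L hK (l • pdiv (k := k) y + C)
  have := hg.fintype_card_le_finrank
  simp only [Fintype.card_prod, Fintype.card_fin] at this
  exact this


theorem finrank_le_deg_pdiv (hK : IsFunctionField k K) {y : K} (hy : Transcendental k y) :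
    (Module.finrank k⟮y⟯ K : ℤ) ≤ (pdiv (k := k) y).deg := by
  obtain ⟨C, hC0, hC⟩ := mul_finrank_le_ell hK hy
  have hB0 : (0 : Divisor k K) ≤ pdiv y := pdiv_nonneg y
  have hb := deg_nonneg hB0
  have hc := deg_nonneg hC0
  set n : ℤ := (Module.finrank k⟮y⟯ K : ℤ) with hn
  set b : ℤ := (pdiv (k := k) y).deg with hbdef
  set c : ℤ := C.deg with hcdef
  by_contra hlt
  push Not at hlt
  -- take l = c + 1
  let l : ℕ := (c + 1).toNat
  have hl : (l : ℤ) = c + 1 := Int.toNat_of_nonneg (by omega)
  have h1 := hC l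
  have h2 : (0 : Divisor k K) ≤ l • pdiv (k := k) y + C :=
    add_nonneg (nsmul_nonneg hB0 l) hC0
  have h3 := ell_le_deg_add_one hK h2
  rw [deg_add, deg_nsmul] at h3
  have h4 : ((l : ℤ) + 1) * n ≤ (ell (l • pdiv (k := k) y + C) : ℤ) := by
    rw [hn]; exact_mod_cast h1
  have h5 : ((l : ℤ) + 1) * n ≤ l * b + c + 1 := h4.trans h3
  rw [hl] at h5
  nlinarith

/-- the upper bound from the fundamental inequality -/
theorem deg_zdiv_le_finrank (hK : IsFunctionField k K) {x : K} (hx : Transcendental k x) :
    (zdiv (k := k) x).deg ≤ (Module.finrank k⟮x⟯ K : ℤ) := by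
  classical
  have hx0 : x ≠ 0 := by
    rintro rfl
    exact hx isAlgebraic_zero
  rw [deg_def, Finsupp.sum]
  let s := (zdiv (k := k) x).support
  have h := sum_mul_deg_le hK (ι := s) (fun i => i.1) Subtype.val_injective hx
    (fun i => (zdiv (k := k) x i.1).toNat) (fun i => by
      have hi : zdiv (k := k) x i.1 ≠ 0 := Finsupp.mem_support_iff.1 i.2
      rw [zdiv_apply hK] at hi ⊢
      rw [v_le_exp_iff i.1 hx0]
      have h0 := le_max_right ((i.1 : FunFld.Place k K).ord x) 0
      rcases le_total ((i.1 : FunFld.Place k K).ord x) 0 with h | h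
      · rw [max_eq_right h] at hi; exact absurd rfl hi
      · rw [max_eq_left h, Int.toNat_of_nonneg h]; omega)
  have h2 : ∑ P ∈ s, zdiv (k := k) x P * (P.deg : ℤ) =
      ((∑ i : s, (zdiv (k := k) x i.1).toNat * (i.1 : FunFld.Place k K).deg : ℕ) : ℤ) := by
    rw [← Finset.sum_coe_sort s]
    push_cast
    refine Finset.sum_congr rfl fun i _ => ?_
    rw [Int.toNat_of_nonneg (zdiv_nonneg x i.1)]
  rw [h2]
  exact_mod_cast h

theorem deg_zdiv (hK : IsFunctionField k K) {x : K} (hx : Transcendental k x) :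
    (zdiv (k := k) x).deg = (Module.finrank k⟮x⟯ K : ℤ) := by
  apply le_antisymm (deg_zdiv_le_finrank hK hx)
  have := finrank_le_deg_pdiv hK (transcendental_inv hx)
  rwa [pdiv_inv hK, adjoin_inv_eq] at this

theorem deg_pdiv (hK : IsFunctionField k K) {x : K} (hx : Transcendental k x) :
    (pdiv (k := k) x).deg = (Module.finrank k⟮x⟯ K : ℤ) := by
  have := deg_zdiv hK (transcendental_inv hx)
  rwa [zdiv_inv hK, adjoin_inv_eq] at this

theorem deg_div (hK : IsFunctionField k K) (x : K) : (FunFld.div k x).deg = 0 := by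
  by_cases hx : x ∈ Set.range (algebraMap k K)
  · obtain ⟨c, rfl⟩ := hx
    have : FunFld.div k (algebraMap k K c) = 0 := by
      ext P
      rw [div_apply hK, ord_algebraMap]; rfl
    rw [this, deg_zero]
  · have htr := transcendental_of_not_mem_range hK hx
    rw [div_eq_zdiv_sub_pdiv hK, deg_sub, deg_zdiv hK htr, deg_pdiv hK htr, sub_self]


theorem sum_zeros_eq_deg_zdiv (hK : IsFunctionField k K) (x : K) :
    (∑ P ∈ (FunFld.div k x).support with 0 < FunFld.div k x P,
        FunFld.div k x P * (P.deg : ℤ)) = (zdiv (k := k) x).deg := by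
  classical
  rw [deg_def, Finset.sum_filter]
  have hsub : (zdiv (k := k) x).support ⊆ (FunFld.div k x).support := by
    intro P hP
    rw [Finsupp.mem_support_iff] at hP ⊢
    intro h0
    apply hP
    simp [zdiv, h0]
  rw [Finsupp.sum_of_support_subset _ hsub _ (fun P _ => by simp)]
  refine Finset.sum_congr rfl fun P _ => ?_
  have hz : zdiv (k := k) x P = max (FunFld.div k x P) 0 := by simp [zdiv]
  rw [hz]
  split_ifs with h
  · rw [max_eq_left h.le]
  · rw [max_eq_right (not_lt.1 h)]; simp

theorem mem_L_iff_div (hK : IsFunctionField k K) {D : Divisor k K} {x : K} (hx : x ≠ 0) :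
    x ∈ L D ↔ 0 ≤ FunFld.div k x + D := by
  rw [mem_L]
  constructor
  · intro h P
    have := (v_le_exp_iff P hx (D P)).1 (h P)
    simpa [div_apply hK] using this
  · intro h P
    rw [v_le_exp_iff P hx]
    have := h P
    simpa [div_apply hK] using this

theorem L_eq_bot_of_deg_neg (hK : IsFunctionField k K) {D : Divisor k K} (h : D.deg < 0) :
    L D = ⊥ := by
  rw [eq_bot_iff]
  intro x hx
  by_contra hx0
  have hx0' : x ≠ 0 := by simpa using hx0
  have h1 := deg_nonneg ((mem_L_iff_div hK hx0').1 hx)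
  rw [deg_add, deg_div hK] at h1
  omega

end Groth.Agent.Lib.Helper2.FF
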