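import Mathlib
import Groth.Agent.Lib.Helper2.FunFld.DegDiv

set_option autoImplicit false
open scoped WithZero IntermediateField NNReal
open FunFld Polynomial
open Groth.Agent.Lib.Helper2.RelDim

namespace Groth.Agent.Lib.Helper2.FF

variable {k K : Type*} [Field k] [Field K] [Algebra k K]

theorem div_mul (hK : IsFunctionField k K) {x y : K} (hx : x ≠ 0) (hy : y ≠ 0) :
    FunFld.div k (x * y) = FunFld.div k x + FunFld.div k y := by
  ext P
  simp only [Finsupp.coe_add, Pi.add_apply, div_apply hK, ord_mul P hx hy]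

theorem div_inv (hK : IsFunctionField k K) (x : K) :
    FunFld.div k x⁻¹ = -FunFld.div k x := by
  ext P
  simp only [Finsupp.coe_neg, Pi.neg_apply, div_apply hK, ord_inv]

/-- multiplication by `z` maps `L(D + div z)` isomorphically onto `L(D)` -/
noncomputable def mulEquiv (hK : IsFunctionField k K) (D : Divisor k K) {z : K} (hz : z ≠ 0) :
    L (D + FunFld.div k z) ≃ₗ[k] L D where
  toFun x := ⟨x.1 * z, fun P => by
    have hx := x.2 P
    rw [map_mul, v_eq_exp_neg_ord P hz]
    simp only [Finsupp.coe_add, Pi.add_apply, div_apply hK, WithZero.exp_add] at hx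
    calc v P x.1 * WithZero.exp (-P.ord z) ≤
          WithZero.exp (D P) * WithZero.exp (P.ord z) * WithZero.exp (-P.ord z) :=
          mul_le_mul' hx le_rfl
      _ = WithZero.exp (D P) := by
          rw [mul_assoc, ← WithZero.exp_add]; simp⟩
  invFun x := ⟨x.1 * z⁻¹, fun P => by
    have hx := x.2 P
    rw [map_mul, map_inv₀, v_eq_exp_neg_ord P hz, ← WithZero.exp_neg, neg_neg]
    simp only [Finsupp.coe_add, Pi.add_apply, div_apply hK, WithZero.exp_add]
    exact mul_le_mul' hx le_rfl⟩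
  map_add' x y := by
    apply Subtype.ext; simp [add_mul]
  map_smul' c x := by
    apply Subtype.ext; simp [mul_assoc]
  left_inv x := by
    apply Subtype.ext; simp [mul_assoc, hz]
  right_inv x := by
    apply Subtype.ext; simp [mul_assoc, hz]

theorem ell_add_div (hK : IsFunctionField k K) (D : Divisor k K) {z : K} (hz : z ≠ 0) :
    ell (D + FunFld.div k z) = ell D :=
  (mulEquiv hK D hz).finrank_eq

theorem deg_add_div (hK : IsFunctionField k K) (D : Divisor k K) (z : K) :
    (D + FunFld.div k z).deg = D.deg := by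
  rw [deg_add, deg_div hK, add_zero]

/-- `δ(D) = deg D - ℓ(D)` is monotone -/
theorem deg_sub_ell_mono (hK : IsFunctionField k K) {D₁ D₂ : Divisor k K} (h : D₁ ≤ D₂) :
    D₁.deg - ell D₁ ≤ D₂.deg - ell D₂ := by
  have := ell_sub_ell_le hK h
  linarith

theorem exists_ne_zero_mem_L (hK : IsFunctionField k K) {D : Divisor k K} (h : 0 < ell D) :
    ∃ z : K, z ≠ 0 ∧ z ∈ L D := by
  have hpos : 0 < Module.finrank k (L D) := h
  haveI := finiteDimensional_L hK D
  obtain ⟨z, hz⟩ := Module.finrank_pos_iff_exists_ne_zero.1 hpos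
  exact ⟨z.1, fun h0 => hz (Subtype.ext h0), z.2⟩

/-- boundedness of `deg D - ℓ(D)` -/
theorem exists_bound (hK : IsFunctionField k K) : ∃ γ : ℤ, ∀ D : Divisor k K, D.deg - ell D ≤ γ := by
  obtain ⟨⟨x, hx, -⟩, -⟩ := id hK
  have hfin := finiteDimensional_adjoin_simple hK hx
  obtain ⟨C, hC0, hC⟩ := mul_finrank_le_ell hK hx
  set B : Divisor k K := pdiv x with hB
  set n : ℤ := (Module.finrank k⟮x⟯ K : ℤ) with hn
  have hnpos : 0 < n := by
    rw [hn]; exact_mod_cast Module.finrank_pos
  have hdegB : B.deg = n := deg_pdiv hK hx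
  -- bound for multiples of B
  have hlB : ∀ l : ℕ, (l • B).deg - ell (l • B) ≤ C.deg - n := by
    intro l
    have h1 : (l • B) ≤ l • B + C := le_add_of_nonneg_right hC0
    have h2 := ell_sub_ell_le hK h1
    rw [deg_add] at h2
    have h3 : ((l : ℤ) + 1) * n ≤ (ell (l • B + C) : ℤ) := by
      rw [hn]; exact_mod_cast hC l
    rw [deg_nsmul, hdegB]
    nlinarith
  refine ⟨C.deg - n, fun A => ?_⟩
  set A₁ : Divisor k K := A ⊔ 0 with hA₁
  have hAA₁ : A ≤ A₁ := le_sup_left
  have hA₁0 : (0 : Divisor k K) ≤ A₁ := le_sup_right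
  -- choose l large
  let l : ℕ := (C.deg - n + A₁.deg + 1).toNat + 1
  have hl : (C.deg - n + A₁.deg + 1 : ℤ) < l := by
    simp only [l]
    push_cast
    have := Int.self_le_toNat (C.deg - n + A₁.deg + 1)
    omega
  have h4 : (l • B - A₁) ≤ l • B := sub_le_self _ hA₁0
  have h5 := ell_sub_ell_le hK h4
  rw [deg_sub] at h5
  have h6 := hlB l
  rw [deg_nsmul, hdegB] at h6 h5
  have hpos : 0 < ell (l • B - A₁) := by
    have : (0 : ℤ) < ell (l • B - A₁) := by nlinarith
    exact_mod_cast this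
  obtain ⟨z, hz0, hz⟩ := exists_ne_zero_mem_L hK hpos
  have h7 : A₁ + FunFld.div k z⁻¹ ≤ l • B := by
    have := (mem_L_iff_div hK hz0).1 hz
    rw [div_inv hK]
    have h8 : l • B - (A₁ + -FunFld.div k z) = FunFld.div k z + (l • B - A₁) := by abel
    rw [← sub_nonneg, h8]
    exact this
  have h9 := deg_sub_ell_mono hK h7
  rw [deg_add_div hK, ell_add_div hK _ (inv_ne_zero hz0)] at h9
  have h10 := deg_sub_ell_mono hK hAA₁
  have h11 := hlB l
  linarith


theorem genus_def : genus k K =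
    sSup (Set.range fun D : Divisor k K => (D.deg + 1 - (ell D : ℤ)).toNat) := rfl

theorem bddAbove_genus_set (hK : IsFunctionField k K) :
    BddAbove (Set.range fun D : Divisor k K => (D.deg + 1 - (ell D : ℤ)).toNat) := by
  obtain ⟨γ, hγ⟩ := exists_bound hK
  refine ⟨(γ + 1).toNat, ?_⟩
  rintro _ ⟨D, rfl⟩
  have := hγ D
  change (D.deg + 1 - (ell D : ℤ)).toNat ≤ (γ + 1).toNat
  omega

theorem delta_le_genus (hK : IsFunctionField k K) (D : Divisor k K) :
    D.deg + 1 - (ell D : ℤ) ≤ genus k K := by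
  have h := le_csSup (bddAbove_genus_set hK) (Set.mem_range_self D)
  rw [← genus_def] at h
  have h' : (D.deg + 1 - (ell D : ℤ)).toNat ≤ genus k K := h
  omega

theorem exists_delta_eq_genus (hK : IsFunctionField k K) :
    ∃ D : Divisor k K, D.deg + 1 - (ell D : ℤ) = genus k K := by
  have hne : (Set.range fun D : Divisor k K => (D.deg + 1 - (ell D : ℤ)).toNat).Nonempty :=
    ⟨_, Set.mem_range_self 0⟩
  obtain ⟨D, hD⟩ := Nat.sSup_mem hne (bddAbove_genus_set hK)
  rw [← genus_def] at hD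
  have hD' : (D.deg + 1 - (ell D : ℤ)).toNat = genus k K := hD
  by_cases hg : genus k K = 0
  · refine ⟨0, ?_⟩
    rw [deg_zero, ell_zero hK, hg]; simp
  · refine ⟨D, ?_⟩
    omega

/-- **Riemann's theorem** -/
theorem riemann (hK : IsFunctionField k K) :
    (∀ D : Divisor k K, D.deg + 1 - (ell D : ℤ) ≤ genus k K) ∧
    ∃ N : ℤ, ∀ D : Divisor k K, N ≤ D.deg → D.deg + 1 - (ell D : ℤ) = genus k K := by
  refine ⟨delta_le_genus hK, ?_⟩
  obtain ⟨D₀, hD₀⟩ := exists_delta_eq_genus hK
  refine ⟨D₀.deg + genus k K, fun A hA => ?_⟩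
  apply le_antisymm (delta_le_genus hK A)
  have h1 := delta_le_genus hK (A - D₀)
  rw [deg_sub] at h1
  have hpos : 0 < ell (A - D₀) := by
    have : (0 : ℤ) < ell (A - D₀) := by linarith
    exact_mod_cast this
  obtain ⟨z, hz0, hz⟩ := exists_ne_zero_mem_L hK hpos
  have h2 : D₀ ≤ A + FunFld.div k z := by
    have := (mem_L_iff_div hK hz0).1 hz
    have h3 : A + FunFld.div k z - D₀ = FunFld.div k z + (A - D₀) := by abel
    rw [← sub_nonneg, h3]
    exact this
  have h4 := deg_sub_ell_mono hK h2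
  rw [deg_add_div hK, ell_add_div hK _ hz0] at h4
  linarith

end Groth.Agent.Lib.Helper2.FF
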