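import Mathlib
import Groth.Agent.Lib.Helper2.FunFld.Riemann

set_option autoImplicit false
open scoped WithZero IntermediateField NNReal
open FunFld Polynomial
open Groth.Agent.Lib.Helper2.RelDim

namespace Groth.Agent.Lib.Helper2.FF

variable {k K : Type*} [Field k] [Field K] [Algebra k K]

theorem mem_AD {D : Divisor k K} {a : FunFld.Place k K → K} :
    a ∈ AD D ↔ ∀ P : FunFld.Place k K, v P (a P) ≤ WithZero.exp (D P) := Iff.rfl

theorem AD_mono {D E : Divisor k K} (h : D ≤ E) : AD D ≤ AD E := fun a ha P =>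
  (ha P).trans (WithZero.exp_le_exp.2 (h P))

/-- evaluation `A(D) → ball_P(D P) / ball_P(D P - 1)` -/
def evalA (D : Divisor k K) (P : FunFld.Place k K) :
    AD D →ₗ[k] RQ (ball P (D P - 1)) (ball P (D P)) :=
  ((ball P (D P - 1)).submoduleOf (ball P (D P))).mkQ.comp
    (LinearMap.codRestrict (ball P (D P)) ((LinearMap.proj P).comp (AD D).subtype) (fun a => a.2 P))

theorem ker_evalA (D : Divisor k K) (P : FunFld.Place k K) :
    LinearMap.ker (evalA D P) = (AD (D - (Finsupp.single P 1 : Divisor k K))).submoduleOf (AD D) := by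
  classical
  ext a
  rw [LinearMap.mem_ker]
  simp only [evalA, LinearMap.comp_apply, Submodule.mkQ_apply]
  rw [Submodule.Quotient.mk_eq_zero]
  change v P (a.1 P) ≤ WithZero.exp (D P - 1) ↔ a.1 ∈ AD (D - (Finsupp.single P 1 : Divisor k K))
  rw [mem_AD]
  constructor
  · intro h Q
    by_cases hQ : Q = P
    · subst hQ
      simpa using h
    · have : (D - (Finsupp.single P 1 : Divisor k K)) Q = D Q := by
        simp [Ne.symm hQ]
      rw [this]
      exact a.2 Q
  · intro h
    simpa using h P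

theorem evalA_surjective (D : Divisor k K) (P : FunFld.Place k K) :
    Function.Surjective (evalA D P) := by
  classical
  intro q
  obtain ⟨z, rfl⟩ := Submodule.mkQ_surjective _ q
  refine ⟨⟨Pi.single P z.1, fun Q => ?_⟩, ?_⟩
  · by_cases hQ : Q = P
    · subst hQ
      rw [Pi.single_eq_same]
      exact z.2
    · rw [Pi.single_eq_of_ne hQ]; simp
  · simp only [evalA, LinearMap.comp_apply]
    congr 1
    apply Subtype.ext
    change (Pi.single P z.1 : FunFld.Place k K → K) P = z.1
    rw [Pi.single_eq_same]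

theorem finIdx_AD_single (hK : IsFunctionField k K) (D : Divisor k K) (P : FunFld.Place k K) :
    FinIdx (AD (D - (Finsupp.single P 1 : Divisor k K))) (AD D) ∧
      idx (AD (D - (Finsupp.single P 1 : Divisor k K))) (AD D) = P.deg := by
  have hfin := finiteDimensional_residueField P hK
  obtain ⟨e⟩ := nonempty_ball_succ_equiv P (D P - 1)
  have h1 : D P - 1 + 1 = D P := by ring
  rw [h1] at e
  have e2 := (equivOfSurjective (evalA D P) (ker_evalA D P) (evalA_surjective D P)).trans e
  exact ⟨Module.Finite.equiv e2.symm, e2.finrank_eq⟩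

theorem finIdx_AD_aux (hK : IsFunctionField k K) : ∀ (N : ℕ) (D₁ D₂ : Divisor k K), D₁ ≤ D₂ →
    size (D₂ - D₁) = N →
    FinIdx (AD D₁) (AD D₂) ∧ (idx (AD D₁) (AD D₂) : ℤ) = D₂.deg - D₁.deg := by
  classical
  intro N
  induction N with
  | zero =>
    intro D₁ D₂ h hs
    have : D₂ - D₁ = 0 := eq_zero_of_size_eq_zero (sub_nonneg.2 h) (by simpa using hs)
    have h2 : D₂ = D₁ := sub_eq_zero.1 this
    subst h2
    refine ⟨finIdx_self _, ?_⟩
    rw [idx_self]; simp
  | succ N ih =>
    intro D₁ D₂ h hs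
    have hE : 0 ≤ D₂ - D₁ := sub_nonneg.2 h
    obtain ⟨P, hP⟩ : ∃ P, 0 < (D₂ - D₁) P := by
      by_contra hcon
      push Not at hcon
      have : D₂ - D₁ = 0 := by
        ext P
        exact le_antisymm (hcon P) (hE P)
      rw [this] at hs
      simp [size] at hs
      omega
    have h1 : D₁ ≤ D₂ - (Finsupp.single P 1 : Divisor k K) := by
      intro Q
      by_cases hQ : Q = P
      · subst hQ
        have : (D₂ - D₁) Q = D₂ Q - D₁ Q := rfl
        simp only [Finsupp.coe_sub, Pi.sub_apply, Finsupp.single_eq_same]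
        omega
      · simp only [Finsupp.coe_sub, Pi.sub_apply]
        rw [Finsupp.single_eq_of_ne hQ]
        simpa using h Q
    have h2 : D₂ - (Finsupp.single P 1 : Divisor k K) ≤ D₂ := by
      intro Q
      simp only [Finsupp.coe_sub, Pi.sub_apply]
      have : 0 ≤ (Finsupp.single P 1 : Divisor k K) Q := by
        rw [Finsupp.single_apply]; split_ifs <;> simp
      omega
    have hs' : size (D₂ - (Finsupp.single P 1 : Divisor k K) - D₁) = N := by
      have : D₂ - (Finsupp.single P 1 : Divisor k K) - D₁ =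
          D₂ - D₁ - (Finsupp.single P 1 : Divisor k K) := by abel
      rw [this, size_sub_single, hs]
      push_cast; ring
    obtain ⟨hf1, hi1⟩ := ih D₁ _ h1 hs'
    obtain ⟨hf2, hi2⟩ := finIdx_AD_single hK D₂ P
    refine ⟨hf1.trans (AD_mono h1) (AD_mono h2) hf2, ?_⟩
    rw [← idx_add (AD_mono h1) (AD_mono h2) hf1 hf2]
    rw [deg_sub, deg_single] at hi1
    push_cast
    rw [hi1, hi2]
    ring

theorem finIdx_AD (hK : IsFunctionField k K) {D₁ D₂ : Divisor k K} (h : D₁ ≤ D₂) :
    FinIdx (AD D₁) (AD D₂) :=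
  (finIdx_AD_aux hK _ D₁ D₂ h (Int.toNat_of_nonneg (size_nonneg (sub_nonneg.2 h))).symm).1

theorem idx_AD (hK : IsFunctionField k K) {D₁ D₂ : Divisor k K} (h : D₁ ≤ D₂) :
    (idx (AD D₁) (AD D₂) : ℤ) = D₂.deg - D₁.deg :=
  (finIdx_AD_aux hK _ D₁ D₂ h (Int.toNat_of_nonneg (size_nonneg (sub_nonneg.2 h))).symm).2

end Groth.Agent.Lib.Helper2.FF
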