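import Mathlib
import Groth.Agent.Lib.Helper2.FunFld.Adele

set_option autoImplicit false
open scoped WithZero IntermediateField NNReal
open FunFld Polynomial
open Groth.Agent.Lib.Helper2.RelDim

namespace Groth.Agent.Lib.Helper2.FF

variable {k K : Type*} [Field k] [Field K] [Algebra k K]

/-- the diagonal copy of `K` -/
abbrev FK : Submodule k (FunFld.Place k K → K) := LinearMap.range (diag k K)

theorem diag_apply (z : K) (P : FunFld.Place k K) : diag k K z P = z := rfl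

theorem nonempty_place (hK : IsFunctionField k K) : Nonempty (FunFld.Place k K) := by
  obtain ⟨⟨x, hx, -⟩, -⟩ := id hK
  obtain ⟨P, -⟩ := exists_place_lt_one hK hx
  exact ⟨P⟩

theorem diag_injective (hK : IsFunctionField k K) : Function.Injective (diag k K) := by
  obtain ⟨P⟩ := nonempty_place hK
  intro a b h
  exact congrFun h P

theorem AD_inf_FK (D : Divisor k K) : AD D ⊓ FK = (L D).map (diag k K) := by
  ext a
  constructor
  · rintro ⟨ha, z, rfl⟩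
    exact ⟨z, fun P => ha P, rfl⟩
  · rintro ⟨z, hz, rfl⟩
    exact ⟨fun P => hz P, z, rfl⟩

/-- general lattice computation -/
theorem idx_sup_sup {V : Type*} [AddCommGroup V] [Module k V] {X Y F : Submodule k V} (hYX : Y ≤ X)
    (h : FinIdx Y X) :
    FinIdx (Y ⊔ F) (X ⊔ F) ∧ FinIdx (Y ⊓ F) (X ⊓ F) ∧
      idx (Y ⊓ F) (X ⊓ F) + idx (Y ⊔ F) (X ⊔ F) = idx Y X := by
  have h1 : Y ≤ Y ⊔ (X ⊓ F) := le_sup_left
  have h2 : Y ⊔ (X ⊓ F) ≤ X := sup_le hYX inf_le_left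
  have hf1 := h.left h1 h2
  have hf2 := h.right h1 h2
  have hadd := idx_add h1 h2 hf1 hf2
  -- first piece
  have e1 : Y ⊓ (X ⊓ F) = (Y ⊓ F) ⊓ (X ⊓ F) := by
    apply le_antisymm
    · exact le_inf (le_inf inf_le_left (inf_le_right.trans inf_le_right)) inf_le_right
    · exact le_inf (inf_le_left.trans inf_le_left) inf_le_right
  have hf1' : FinIdx (Y ⊓ F) (X ⊓ F) := by
    rw [← finIdx_congr_inf e1, ← finIdx_sup_iff]
    exact hf1
  have hi1 : idx (Y ⊓ F) (X ⊓ F) = idx Y (Y ⊔ (X ⊓ F)) := by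
    rw [← idx_congr_inf e1, idx_sup]
  -- second piece
  have e2 : (Y ⊔ (X ⊓ F)) ⊓ X = (Y ⊔ F) ⊓ X := by
    rw [inf_eq_left.2 h2, sup_inf_assoc_of_le F hYX, inf_comm F X]
  have e3 : (Y ⊔ F) ⊔ X = X ⊔ F := by
    rw [sup_comm, ← sup_assoc, sup_eq_left.2 hYX]
  have hf2' : FinIdx (Y ⊔ F) (X ⊔ F) := by
    rw [← e3, finIdx_sup_iff, ← finIdx_congr_inf e2]
    exact hf2
  have hi2 : idx (Y ⊔ F) (X ⊔ F) = idx (Y ⊔ (X ⊓ F)) X := by
    rw [← e3, idx_sup, ← idx_congr_inf e2]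
  refine ⟨hf2', hf1', ?_⟩
  rw [hi1, hi2]
  exact hadd

theorem finIdx_ADK (hK : IsFunctionField k K) {D₁ D₂ : Divisor k K} (h : D₁ ≤ D₂) :
    FinIdx (AD D₁ ⊔ FK) (AD D₂ ⊔ FK) ∧
      (idx (AD D₁ ⊔ FK) (AD D₂ ⊔ FK) : ℤ) =
        (D₂.deg + 1 - ell D₂) - (D₁.deg + 1 - ell D₁) := by
  obtain ⟨h1, h2, h3⟩ := idx_sup_sup (F := (FK : Submodule k (FunFld.Place k K → K)))
    (AD_mono h) (finIdx_AD hK h)
  refine ⟨h1, ?_⟩
  rw [AD_inf_FK, AD_inf_FK, idx_map _ (diag_injective hK)] at h3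
  have h4 := idx_AD hK h
  have h5 := ell_add_idx hK h
  have h6 : (idx (L D₁) (L D₂) : ℤ) + idx (AD D₁ ⊔ FK) (AD D₂ ⊔ FK) = idx (AD D₁) (AD D₂) := by
    exact_mod_cast h3
  have h7 : (ell D₁ : ℤ) + idx (L D₁) (L D₂) = ell D₂ := by exact_mod_cast h5
  linarith

end Groth.Agent.Lib.Helper2.FF
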