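import Mathlib
import Groth.Agent.Lib.Helper2.FunFld.AdeleK

set_option autoImplicit false
open scoped WithZero IntermediateField NNReal
open FunFld Polynomial
open Groth.Agent.Lib.Helper2.RelDim

namespace Groth.Agent.Lib.Helper2.FF

variable {k K : Type*} [Field k] [Field K] [Algebra k K]

theorem mem_adele {a : FunFld.Place k K → K} :
    a ∈ adele k K ↔ {P : FunFld.Place k K | ¬ v P (a P) ≤ 1}.Finite := by
  change (∀ᶠ P : FunFld.Place k K in Filter.cofinite, P.1 (a P) ≤ 1) ↔ _
  rw [Filter.eventually_cofinite]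

theorem AD_le_adele (D : Divisor k K) : AD D ≤ adele k K := by
  intro a ha
  rw [mem_adele]
  refine D.support.finite_toSet.subset fun P hP => ?_
  simp only [Set.mem_ofPred_eq] at hP
  simp only [Finset.mem_coe, Finsupp.mem_support_iff]
  intro h0
  apply hP
  have := ha P
  rwa [h0, WithZero.exp_zero] at this

theorem FK_le_adele (hK : IsFunctionField k K) : (FK : Submodule k (FunFld.Place k K → K)) ≤ adele k K := by
  rintro _ ⟨z, rfl⟩
  rw [mem_adele]
  refine (finite_support_ord hK z).subset fun P hP => ?_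
  simp only [Set.mem_ofPred_eq, diag_apply] at hP
  simp only [Function.mem_support]
  intro h0
  apply hP
  by_cases hz : z = 0
  · simp [hz]
  · rw [v_le_one_iff P hz, h0]

/-- every adele lies in some `A(E)` with `E ≥ 0` -/
theorem exists_mem_AD (a : FunFld.Place k K → K) (ha : a ∈ adele k K) :
    ∃ E : Divisor k K, 0 ≤ E ∧ a ∈ AD E := by
  classical
  rw [mem_adele] at ha
  let f : FunFld.Place k K → ℤ := fun P => max 0 (-(P.ord (a P)))
  have hf : (Function.support f).Finite := by
    refine ha.subset fun P hP => ?_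
    simp only [Function.mem_support, f] at hP
    simp only [Set.mem_ofPred_eq]
    intro hle
    apply hP
    by_cases h0 : a P = 0
    · simp [h0, ord_zero]
    · have := (v_le_one_iff P h0).1 hle
      exact max_eq_left (by omega)
  refine ⟨Finsupp.ofSupportFinite f hf, fun P => le_max_left _ _, fun P => ?_⟩
  change v P (a P) ≤ WithZero.exp (f P)
  by_cases h0 : a P = 0
  · simp [h0]
  · rw [v_le_exp_iff P h0]
    have := le_max_right 0 (-(P.ord (a P)))
    simp only [f]
    omega

/-- the defect `δ(D) = deg D + 1 - ℓ(D)` -/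
noncomputable def delta (D : Divisor k K) : ℤ := D.deg + 1 - ell D

theorem delta_mono (hK : IsFunctionField k K) {D₁ D₂ : Divisor k K} (h : D₁ ≤ D₂) :
    delta D₁ ≤ delta D₂ := by
  have := deg_sub_ell_mono hK h
  unfold delta; linarith

theorem adele_eq_of_delta_eq_genus (hK : IsFunctionField k K) {B : Divisor k K}
    (hB : delta B = genus k K) : adele k K = AD B ⊔ FK := by
  apply le_antisymm
  · intro a ha
    obtain ⟨E, hE0, haE⟩ := exists_mem_AD a ha
    have h1 : B ≤ B ⊔ E := le_sup_left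
    obtain ⟨hf, hi⟩ := finIdx_ADK hK h1
    have h2 : delta (B ⊔ E) = genus k K :=
      le_antisymm (delta_le_genus hK _) (hB ▸ delta_mono hK h1)
    have h3 : idx (AD B ⊔ FK) (AD (B ⊔ E) ⊔ FK) = 0 := by
      have : (idx (AD B ⊔ FK) (AD (B ⊔ E) ⊔ FK) : ℤ) = delta (B ⊔ E) - delta B := hi
      rw [h2, hB, sub_self] at this
      exact_mod_cast this
    have h4 := (idx_eq_zero_iff hf).1 h3
    exact h4 (Submodule.mem_sup_left (AD_mono (le_sup_right : E ≤ B ⊔ E) haE))
  · exact sup_le (AD_le_adele B) (FK_le_adele hK)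

theorem exists_ge_delta_eq_genus (hK : IsFunctionField k K) (D : Divisor k K) :
    ∃ D₁ : Divisor k K, D ≤ D₁ ∧ delta D₁ = genus k K := by
  classical
  obtain ⟨-, N, hN⟩ := riemann hK
  obtain ⟨P₀⟩ := nonempty_place hK
  let m : ℕ := (N - D.deg).toNat
  refine ⟨D + (Finsupp.single P₀ (m : ℤ) : Divisor k K), ?_, ?_⟩
  · refine le_add_of_nonneg_right fun P => ?_
    rw [Finsupp.single_apply]
    split_ifs <;> simp
  · apply hN
    rw [deg_add, deg_single]
    have h1 := deg_pos P₀ hK
    have h2 : N - D.deg ≤ m := Int.self_le_toNat _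
    have h3 : (m : ℤ) ≤ m * P₀.deg := by
      have : (1 : ℤ) ≤ P₀.deg := by exact_mod_cast h1
      nlinarith [Int.natCast_nonneg m]
    linarith

theorem finIdx_adele (hK : IsFunctionField k K) (D : Divisor k K) :
    FinIdx (AD D ⊔ FK) (adele k K) ∧
      (idx (AD D ⊔ FK) (adele k K) : ℤ) = (genus k K : ℤ) - delta D := by
  obtain ⟨D₁, h1, h2⟩ := exists_ge_delta_eq_genus hK D
  rw [adele_eq_of_delta_eq_genus hK h2]
  obtain ⟨hf, hi⟩ := finIdx_ADK hK h1
  refine ⟨hf, ?_⟩
  rw [hi, ← h2]
  rfl

end Groth.Agent.Lib.Helper2.FF
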