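import Mathlib
import Groth.Agent.Lib.Helper2.FunFld.AdeleG
import Groth.Agent.S10975

set_option autoImplicit false
open scoped WithZero IntermediateField NNReal
open FunFld Polynomial
open Groth.Agent.Lib.Helper2.RelDim

namespace Groth.Agent.Lib.Helper2.FF

variable {k K : Type*} [Field k] [Field K] [Algebra k K]

theorem smul_mem_adele (hK : IsFunctionField k K) (x : K) (a : FunFld.Place k K → K)
    (ha : a ∈ adele k K) : x • a ∈ adele k K := by
  by_cases hx : x = 0
  · rw [hx, zero_smul]; exact (adele k K).zero_mem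
  rw [mem_adele] at ha ⊢
  refine (ha.union (finite_support_ord hK x)).subset fun P hP => ?_
  simp only [Set.mem_ofPred_eq, Pi.smul_apply, smul_eq_mul, map_mul] at hP
  by_contra hcon
  simp only [Set.mem_union, Set.mem_ofPred_eq, Function.mem_support, not_or, not_not] at hcon
  apply hP
  have h1 : v P x = 1 := (v_eq_one_iff P hx).2 hcon.2
  rw [h1, one_mul]
  exact hcon.1

theorem mem_WD {D : Divisor k K} {ω : Module.Dual k (adele k K)} :
    ω ∈ WD D ↔ ∀ a : adele k K, (a : FunFld.Place k K → K) ∈ AD D ⊔ FK → ω a = 0 := by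
  unfold WD
  rw [Submodule.mem_dualAnnihilator]
  rfl

theorem WD_anti {D E : Divisor k K} (h : D ≤ E) : WD E ≤ WD D := by
  intro ω hω
  rw [mem_WD] at hω ⊢
  intro a ha
  exact hω a (sup_le_sup_right (AD_mono h) _ ha)

theorem mulW_apply (x : K) (hx : ∀ a ∈ adele k K, x • a ∈ adele k K)
    (ω : Module.Dual k (adele k K)) (a : adele k K) :
    mulW x hx ω a = ω ⟨x • a.1, hx a.1 a.2⟩ := rfl

theorem mulW_mulW (x y : K) (hx : ∀ a ∈ adele k K, x • a ∈ adele k K)
    (hy : ∀ a ∈ adele k K, y • a ∈ adele k K) (hxy : ∀ a ∈ adele k K, (x * y) • a ∈ adele k K)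
    (ω : Module.Dual k (adele k K)) :
    mulW x hx (mulW y hy ω) = mulW (x * y) hxy ω := by
  ext a
  rw [mulW_apply, mulW_apply, mulW_apply]
  congr 1
  apply Subtype.ext
  simp only [smul_smul, mul_comm]

theorem mulW_one (h1 : ∀ a ∈ adele k K, (1 : K) • a ∈ adele k K)
    (ω : Module.Dual k (adele k K)) : mulW 1 h1 ω = ω := by
  ext a
  rw [mulW_apply]
  congr 1
  apply Subtype.ext
  simp

theorem mulW_zero (h0 : ∀ a ∈ adele k K, (0 : K) • a ∈ adele k K)
    (ω : Module.Dual k (adele k K)) : mulW 0 h0 ω = 0 := by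
  ext a
  rw [mulW_apply]
  have : (⟨(0 : K) • a.1, h0 a.1 a.2⟩ : adele k K) = 0 := by
    apply Subtype.ext; simp
  rw [this, map_zero]; rfl

theorem mulW_add (x y : K) (hx : ∀ a ∈ adele k K, x • a ∈ adele k K)
    (hy : ∀ a ∈ adele k K, y • a ∈ adele k K) (hxy : ∀ a ∈ adele k K, (x + y) • a ∈ adele k K)
    (ω : Module.Dual k (adele k K)) :
    mulW (x + y) hxy ω = mulW x hx ω + mulW y hy ω := by
  ext a
  rw [LinearMap.add_apply, mulW_apply, mulW_apply, mulW_apply, ← map_add]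
  congr 1
  apply Subtype.ext
  simp [add_smul]

theorem mulW_smul (c : k) (x : K) (hx : ∀ a ∈ adele k K, x • a ∈ adele k K)
    (hcx : ∀ a ∈ adele k K, (c • x) • a ∈ adele k K)
    (ω : Module.Dual k (adele k K)) :
    mulW (c • x) hcx ω = c • mulW x hx ω := by
  ext a
  rw [LinearMap.smul_apply, mulW_apply, mulW_apply, ← map_smul]
  congr 1
  apply Subtype.ext
  simp [smul_assoc]

theorem mulW_ne_zero {x : K} (hx0 : x ≠ 0) (hx : ∀ a ∈ adele k K, x • a ∈ adele k K)
    (hxi : ∀ a ∈ adele k K, x⁻¹ • a ∈ adele k K)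
    {ω : Module.Dual k (adele k K)} (hω : ω ≠ 0) : mulW x hx ω ≠ 0 := by
  intro h
  apply hω
  have h1 := mulW_mulW x⁻¹ x hxi hx (by rw [inv_mul_cancel₀ hx0]; intro a ha; simpa using ha) ω
  rw [h] at h1
  have h2 : mulW x⁻¹ hxi (0 : Module.Dual k (adele k K)) = 0 := by
    ext a; rfl
  rw [h2] at h1
  have h3 : mulW (x⁻¹ * x) (by rw [inv_mul_cancel₀ hx0]; intro a ha; simpa using ha) ω = ω := by
    ext a
    rw [mulW_apply]
    congr 1
    apply Subtype.ext
    simp [inv_mul_cancel₀ hx0]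
  rw [← h3, ← h1]

end Groth.Agent.Lib.Helper2.FF
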