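import Mathlib
import Groth.Agent.Lib.Helper2.FunFld.Weil

set_option autoImplicit false
open scoped WithZero IntermediateField NNReal
open FunFld Polynomial
open Groth.Agent.Lib.Helper2.RelDim

namespace Groth.Agent.Lib.Helper2.FF

variable {k K : Type*} [Field k] [Field K] [Algebra k K]

theorem eq_of_le_of_deg_eq (hK : IsFunctionField k K) {D₁ D₂ : Divisor k K} (h : D₁ ≤ D₂)
    (hd : D₁.deg = D₂.deg) : D₁ = D₂ := by
  have hE : 0 ≤ D₂ - D₁ := sub_nonneg.2 h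
  have h0 : (D₂ - D₁).deg = 0 := by rw [deg_sub]; omega
  rw [deg_def, Finsupp.sum] at h0
  have h1 := (Finset.sum_eq_zero_iff_of_nonneg (fun P _ =>
    mul_nonneg (hE P) (Int.natCast_nonneg _))).1 h0
  have h2 : D₂ - D₁ = 0 := by
    ext P
    by_cases hP : P ∈ (D₂ - D₁).support
    · have := h1 P hP
      have hdeg := deg_pos P hK
      rcases mul_eq_zero.1 this with h3 | h3
      · exact h3
      · have : (P.deg : ℤ) ≠ 0 := by exact_mod_cast hdeg.ne'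
        exact absurd h3 this
    · simpa using hP
  exact (sub_eq_zero.1 h2).symm

theorem exists_deg_bound (hK : IsFunctionField k K) : ∃ N : ℤ, ∀ (ω : Module.Dual k (adele k K)),
    ω ≠ 0 → ∀ E : Divisor k K, ω ∈ WD E → E.deg < N := by
  obtain ⟨-, N, hN⟩ := riemann hK
  refine ⟨N, fun ω hω E hE => ?_⟩
  by_contra hcon
  push Not at hcon
  have h1 : delta E = genus k K := hN E hcon
  have h2 := adele_eq_of_delta_eq_genus hK h1
  apply hω
  ext a
  rw [mem_WD] at hE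
  have : (a : FunFld.Place k K → K) ∈ AD E ⊔ FK := by
    rw [← h2]; exact a.2
  rw [hE a this]; rfl

theorem WD_sup (hK : IsFunctionField k K) {E₁ E₂ : Divisor k K} {ω : Module.Dual k (adele k K)}
    (h1 : ω ∈ WD E₁) (h2 : ω ∈ WD E₂) : ω ∈ WD (E₁ ⊔ E₂) := by
  rw [mem_WD] at h1 h2 ⊢
  intro a ha
  rw [Groth.Agent.S10975.result k K E₁ E₂] at ha
  obtain ⟨b, hb, f, hf, hbf⟩ := Submodule.mem_sup.1 ha
  obtain ⟨b₁, hb₁, b₂, hb₂, hb12⟩ := Submodule.mem_sup.1 hb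
  have hb₁a : b₁ ∈ adele k K := AD_le_adele E₁ hb₁
  have hb₂a : b₂ ∈ adele k K := AD_le_adele E₂ hb₂
  have hfa : f ∈ adele k K := FK_le_adele hK hf
  have ha' : a = (⟨b₁, hb₁a⟩ : adele k K) + (⟨b₂ + f, (adele k K).add_mem hb₂a hfa⟩ : adele k K) := by
    apply Subtype.ext
    change a.1 = b₁ + (b₂ + f)
    rw [← hbf, ← hb12, add_assoc]
  rw [ha', map_add, h1 _ (Submodule.mem_sup_left hb₁),
    h2 _ (Submodule.add_mem_sup hb₂ hf), add_zero]

theorem exists_isDivOf (hK : IsFunctionField k K) (ω : Module.Dual k (adele k K))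
    (hω : IsWeil ω) (h0 : ω ≠ 0) : ∃ C : Divisor k K, IsDivOf ω C := by
  obtain ⟨N, hN⟩ := exists_deg_bound hK
  obtain ⟨E₀, hE₀⟩ := hω
  -- maximal degree
  obtain ⟨d, ⟨C, hC, hCd⟩, hmax⟩ := Int.exists_greatest_of_bdd
    (P := fun d => ∃ E : Divisor k K, ω ∈ WD E ∧ E.deg = d)
    ⟨N, fun d ⟨E, hE, hd⟩ => hd ▸ (hN ω h0 E hE).le⟩ ⟨E₀.deg, E₀, hE₀, rfl⟩
  refine ⟨C, fun E => ⟨fun hE => ?_, fun hle => WD_anti hle hC⟩⟩
  have h1 : ω ∈ WD (E ⊔ C) := WD_sup hK hE hC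
  have h2 : (E ⊔ C).deg ≤ d := hmax _ ⟨E ⊔ C, h1, rfl⟩
  have h3 : C ≤ E ⊔ C := le_sup_right
  have h4 := deg_mono h3
  have h5 : C = E ⊔ C := eq_of_le_of_deg_eq hK h3 (by omega)
  rw [h5]
  exact le_sup_left


theorem smul_mem_AD_sup (hK : IsFunctionField k K) {x : K} (hx0 : x ≠ 0) {D : Divisor k K}
    {a : FunFld.Place k K → K} (ha : a ∈ AD D ⊔ FK) : x • a ∈ AD (D - FunFld.div k x) ⊔ FK := by
  obtain ⟨b, hb, f, ⟨z, rfl⟩, rfl⟩ := Submodule.mem_sup.1 ha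
  rw [smul_add]
  refine Submodule.add_mem_sup (fun P => ?_) ⟨x * z, ?_⟩
  · rw [Pi.smul_apply, smul_eq_mul, map_mul, v_eq_exp_neg_ord P hx0]
    simp only [Finsupp.coe_sub, Pi.sub_apply, div_apply hK]
    have h2 : WithZero.exp (D P - P.ord x) = WithZero.exp (-P.ord x) * WithZero.exp (D P) := by
      rw [← WithZero.exp_add]; congr 1; ring
    rw [h2]
    exact mul_le_mul' le_rfl (hb P)
  · ext P
    simp [diag_apply]

theorem mulW_mem_WD_iff (hK : IsFunctionField k K) {x : K} (hx0 : x ≠ 0)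
    (hx : ∀ a ∈ adele k K, x • a ∈ adele k K) (ω : Module.Dual k (adele k K)) (E : Divisor k K) :
    mulW x hx ω ∈ WD E ↔ ω ∈ WD (E - FunFld.div k x) := by
  rw [mem_WD, mem_WD]
  constructor
  · intro h a ha
    have h1 := smul_mem_AD_sup hK (inv_ne_zero hx0) ha
    rw [div_inv hK, sub_neg_eq_add, sub_add_cancel] at h1
    have h2 := h ⟨x⁻¹ • a.1, smul_mem_adele hK _ _ a.2⟩ h1
    rw [mulW_apply] at h2
    have h3 : (⟨x • (x⁻¹ • a.1), hx _ (smul_mem_adele hK _ _ a.2)⟩ : adele k K) = a := by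
      apply Subtype.ext
      simp [smul_smul, mul_inv_cancel₀ hx0]
    rw [← h3]
    exact h2
  · intro h a ha
    rw [mulW_apply]
    exact h _ (smul_mem_AD_sup hK hx0 ha)

theorem isDivOf_mulW (hK : IsFunctionField k K) {x : K} (hx0 : x ≠ 0)
    (hx : ∀ a ∈ adele k K, x • a ∈ adele k K) {ω : Module.Dual k (adele k K)} {C : Divisor k K}
    (hω : IsDivOf ω C) : IsDivOf (mulW x hx ω) (C + FunFld.div k x) := by
  intro E
  rw [mulW_mem_WD_iff hK hx0, hω]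
  exact sub_le_iff_le_add

end Groth.Agent.Lib.Helper2.FF
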