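import Mathlib
import Groth.Agent.Lib.Helper2.FunFld.WeilDiv
import Groth.Agent.S10986

set_option autoImplicit false
open scoped WithZero IntermediateField NNReal
open FunFld Polynomial
open Groth.Agent.Lib.Helper2.RelDim

namespace Groth.Agent.Lib.Helper2.FF

variable {k K : Type*} [Field k] [Field K] [Algebra k K]

/-- `x ↦ xω` as a linear map -/
noncomputable def mulWL (h : ∀ (x : K), ∀ a ∈ adele k K, x • a ∈ adele k K)
    (ω : Module.Dual k (adele k K)) : K →ₗ[k] Module.Dual k (adele k K) where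
  toFun x := mulW x (h x) ω
  map_add' x y := mulW_add x y (h x) (h y) (h (x + y)) ω
  map_smul' c x := mulW_smul c x (h x) (h (c • x)) ω

theorem mulWL_apply (h : ∀ (x : K), ∀ a ∈ adele k K, x • a ∈ adele k K)
    (ω : Module.Dual k (adele k K)) (x : K) : mulWL h ω x = mulW x (h x) ω := rfl

theorem mulWL_injective (h : ∀ (x : K), ∀ a ∈ adele k K, x • a ∈ adele k K)
    {ω : Module.Dual k (adele k K)} (hω : ω ≠ 0) : Function.Injective (mulWL h ω) := by
  rw [← LinearMap.ker_eq_bot, LinearMap.ker_eq_bot']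
  intro x hx
  by_contra hx0
  exact mulW_ne_zero hx0 (h x) (h x⁻¹) hω hx

theorem finrank_WD (hK : IsFunctionField k K) (D : Divisor k K) :
    FiniteDimensional k (WD D) ∧
      (Module.finrank k (WD D) : ℤ) = (genus k K : ℤ) - delta D := by
  obtain ⟨h1, h2⟩ := finIdx_adele hK D
  have : FiniteDimensional k (↥(adele k K) ⧸ ADK D) := h1
  have e : Module.Dual k (↥(adele k K) ⧸ ADK D) ≃ₗ[k] WD D :=
    Submodule.dualQuotEquivDualAnnihilator (ADK D)
  refine ⟨Module.Finite.equiv e, ?_⟩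
  have h3 : Module.finrank k (WD D) = Module.finrank k (↥(adele k K) ⧸ ADK D) := by
    rw [← e.finrank_eq, Subspace.dual_finrank_eq]
  rw [h3]
  exact h2

theorem ell_eq_zero_of_deg_neg (hK : IsFunctionField k K) {D : Divisor k K} (h : D.deg < 0) :
    ell D = 0 := by
  rw [ell_def, L_eq_bot_of_deg_neg hK h]
  exact finrank_bot k K

theorem exists_eq_of_finrank_lt {k V₁ V₂ W : Type*} [Field k]
    [AddCommGroup V₁] [Module k V₁] [AddCommGroup V₂] [Module k V₂] [AddCommGroup W] [Module k W]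
    [FiniteDimensional k V₁] [FiniteDimensional k V₂] [FiniteDimensional k W]
    (f₁ : V₁ →ₗ[k] W) (f₂ : V₂ →ₗ[k] W)
    (h : Module.finrank k W < Module.finrank k V₁ + Module.finrank k V₂) :
    ∃ (x₁ : V₁) (x₂ : V₂), (x₁ ≠ 0 ∨ x₂ ≠ 0) ∧ f₁ x₁ = f₂ x₂ := by
  have hlt : Module.finrank k W < Module.finrank k (V₁ × V₂) := by
    rw [Module.finrank_prod]; exact h
  have hker := LinearMap.ker_ne_bot_of_finrank_lt (f := f₁.coprod (-f₂)) hlt
  obtain ⟨⟨x₁, x₂⟩, hx, hxne⟩ := Submodule.exists_mem_ne_zero_of_ne_bot hker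
  refine ⟨x₁, x₂, ?_, ?_⟩
  · by_contra hcon
    push Not at hcon
    apply hxne
    rw [hcon.1, hcon.2]; rfl
  · have h1 : (f₁.coprod (-f₂)) (x₁, x₂) = 0 := hx
    simp only [LinearMap.coprod_apply, LinearMap.neg_apply] at h1
    rw [← sub_eq_add_neg] at h1
    exact sub_eq_zero.1 h1

/-- `x ↦ xω` restricted to `L(A+B) → W(-B)` when `ω ∈ W(A)`. -/
noncomputable def mulWLB (h : ∀ (x : K), ∀ a ∈ adele k K, x • a ∈ adele k K)
    {ω : Module.Dual k (adele k K)} {A : Divisor k K} (hω : ω ∈ WD A) (B : Divisor k K) :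
    L (A + B) →ₗ[k] WD (-B) :=
  LinearMap.codRestrict (WD (-B)) ((mulWL h ω).comp (L (A + B)).subtype) (fun x => by
    have := Groth.Agent.S10986.result k K A (A + B) x.1 x.2 (h x.1) ω hω
    rw [sub_add_cancel_left] at this
    exact this)

theorem mulWLB_coe (h : ∀ (x : K), ∀ a ∈ adele k K, x • a ∈ adele k K)
    {ω : Module.Dual k (adele k K)} {A : Divisor k K} (hω : ω ∈ WD A) (B : Divisor k K)
    (x : L (A + B)) : ((mulWLB h hω B x : WD (-B)) : Module.Dual k (adele k K)) =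
      mulW x.1 (h x.1) ω := rfl

theorem exists_mulW_eq (hK : IsFunctionField k K)
    (h : ∀ (x : K), ∀ a ∈ adele k K, x • a ∈ adele k K)
    (ω₁ ω₂ : Module.Dual k (adele k K)) (h₁ : IsWeil ω₁) (h0 : ω₁ ≠ 0) (h₂ : IsWeil ω₂) :
    ∃ x : K, mulW x (h x) ω₁ = ω₂ := by
  classical
  by_cases h20 : ω₂ = 0
  · exact ⟨0, by rw [h20]; exact mulW_zero (h 0) ω₁⟩
  obtain ⟨A₁, hA₁⟩ := h₁
  obtain ⟨A₂, hA₂⟩ := h₂
  obtain ⟨P₀⟩ := nonempty_place hK
  set g : ℤ := (genus k K : ℤ) with hg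
  -- choose B = m P₀
  obtain ⟨m, hm⟩ : ∃ m : ℕ, 3 * g - 3 - A₁.deg - A₂.deg < m ∧ 0 < m :=
    ⟨(3 * g - 3 - A₁.deg - A₂.deg).toNat + 1, by
      have := Int.self_le_toNat (3 * g - 3 - A₁.deg - A₂.deg)
      push_cast; omega, by omega⟩
  obtain ⟨hm, hm0⟩ := hm
  obtain ⟨B, hBdef⟩ : ∃ B : Divisor k K, B = Finsupp.single P₀ (m : ℤ) := ⟨_, rfl⟩
  have hdegP := deg_pos P₀ hK
  have hBdeg : B.deg = m * P₀.deg := by rw [hBdef]; exact deg_single P₀ m
  have hmB : (m : ℤ) ≤ B.deg := by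
    rw [hBdeg]
    have : (1 : ℤ) ≤ P₀.deg := by exact_mod_cast hdegP
    nlinarith [Int.natCast_nonneg m]
  have hBpos : 0 < B.deg := by
    have : (0 : ℤ) < m := by exact_mod_cast hm0
    omega
  -- the target space
  obtain ⟨hWfin, hWdim⟩ := finrank_WD hK (-B)
  have hWdim' : (Module.finrank k (WD (-B)) : ℤ) = g + B.deg - 1 := by
    rw [hWdim]
    unfold delta
    rw [deg_neg, ell_eq_zero_of_deg_neg hK (by rw [deg_neg]; omega)]
    push_cast; ring
  have := finiteDimensional_L hK (A₁ + B)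
  have := finiteDimensional_L hK (A₂ + B)
  have hd1 := delta_le_genus hK (A₁ + B)
  have hd2 := delta_le_genus hK (A₂ + B)
  rw [deg_add] at hd1 hd2
  have hlt : Module.finrank k (WD (-B)) <
      Module.finrank k (L (A₁ + B)) + Module.finrank k (L (A₂ + B)) := by
    have : (Module.finrank k (WD (-B)) : ℤ) <
        (Module.finrank k (L (A₁ + B)) : ℤ) + Module.finrank k (L (A₂ + B)) := by
      rw [hWdim']
      have e1 : (Module.finrank k (L (A₁ + B)) : ℤ) = ell (A₁ + B) := rfl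
      have e2 : (Module.finrank k (L (A₂ + B)) : ℤ) = ell (A₂ + B) := rfl
      rw [e1, e2]
      linarith
    exact_mod_cast this
  obtain ⟨x₁, x₂, hxne, hx⟩ :=
    exists_eq_of_finrank_lt (k := k) (W := WD (-B)) (mulWLB h hA₁ B) (mulWLB h hA₂ B) hlt
  have hx' : mulW x₁.1 (h x₁.1) ω₁ = mulW x₂.1 (h x₂.1) ω₂ := by
    have h2 := congrArg Subtype.val hx
    rw [mulWLB_coe, mulWLB_coe] at h2
    exact h2
  have hx₂ : x₂.1 ≠ 0 := by
    intro h2
    have h3 : x₁.1 ≠ 0 := by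
      intro h3
      rcases hxne with h4 | h4
      · exact h4 (Subtype.ext h3)
      · exact h4 (Subtype.ext h2)
    rw [h2, mulW_zero] at hx'
    exact mulW_ne_zero h3 (h _) (h _) h0 hx'
  refine ⟨x₂.1⁻¹ * x₁.1, ?_⟩
  rw [← mulW_mulW x₂.1⁻¹ x₁.1 (h _) (h _) (h _), hx', mulW_mulW _ _ (h _) (h _) (h _)]
  have : x₂.1⁻¹ * x₂.1 = 1 := inv_mul_cancel₀ hx₂
  have h5 := mulW_one (h 1) ω₂
  convert h5 using 2

end Groth.Agent.Lib.Helper2.FF
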