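import Mathlib
import Groth.Agent.Lib.Helper2.FunFld.WeilK

set_option autoImplicit false
open scoped WithZero IntermediateField NNReal
open FunFld Polynomial
open Groth.Agent.Lib.Helper2.RelDim

namespace Groth.Agent.Lib.Helper2.FF

variable {k K : Type*} [Field k] [Field K] [Algebra k K]

theorem zero_mem_WD (E : Divisor k K) : (0 : Module.Dual k (adele k K)) ∈ WD E :=
  (WD E).zero_mem

theorem ne_zero_of_isDivOf (hK : IsFunctionField k K) {ω : Module.Dual k (adele k K)}
    {C : Divisor k K} (h : IsDivOf ω C) : ω ≠ 0 := by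
  classical
  rintro rfl
  obtain ⟨P⟩ := nonempty_place hK
  have h1 := (h (C + (Finsupp.single P 1 : Divisor k K))).1 (zero_mem_WD _)
  have h2 := h1 P
  simp at h2

theorem mem_WD_of_isDivOf {ω : Module.Dual k (adele k K)}
    {C : Divisor k K} (h : IsDivOf ω C) : ω ∈ WD C := (h C).2 le_rfl

theorem isDivOf_unique {ω : Module.Dual k (adele k K)}
    {C₁ C₂ : Divisor k K} (h₁ : IsDivOf ω C₁) (h₂ : IsDivOf ω C₂) : C₁ = C₂ :=
  le_antisymm ((h₂ C₁).1 (mem_WD_of_isDivOf h₁)) ((h₁ C₂).1 (mem_WD_of_isDivOf h₂))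

/-- S10991 -/
theorem existsUnique_mulW (hK : IsFunctionField k K)
    (h : ∀ (x : K), ∀ a ∈ adele k K, x • a ∈ adele k K)
    (ω : Module.Dual k (adele k K)) (C : Divisor k K) (hω : IsDivOf ω C)
    (D : Divisor k K) (ω' : Module.Dual k (adele k K)) (hω' : ω' ∈ WD D) :
    ∃! x : K, x ∈ L (C - D) ∧ mulW x (h x) ω = ω' := by
  have h0 := ne_zero_of_isDivOf hK hω
  obtain ⟨x, hx⟩ := exists_mulW_eq hK h ω ω' ⟨C, mem_WD_of_isDivOf hω⟩ h0 ⟨D, hω'⟩
  refine ⟨x, ⟨?_, hx⟩, ?_⟩
  · by_cases hx0 : x = 0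
    · rw [hx0]; exact (L _).zero_mem
    rw [mem_L_iff_div hK hx0]
    have h1 := isDivOf_mulW hK hx0 (h x) hω
    rw [hx] at h1
    have h2 := (h1 D).1 hω'
    have : FunFld.div k x + (C - D) = (C + FunFld.div k x) - D := by abel
    rw [this]
    exact sub_nonneg.2 h2
  · rintro y ⟨-, hy⟩
    exact mulWL_injective h h0 (by rw [mulWL_apply, mulWL_apply, hy, hx])

/-- multiplication by `ω` as a linear equivalence `L(C-D) ≃ W(D)` -/
noncomputable def mulWEquiv (hK : IsFunctionField k K)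
    (h : ∀ (x : K), ∀ a ∈ adele k K, x • a ∈ adele k K)
    {ω : Module.Dual k (adele k K)} {C : Divisor k K} (hω : IsDivOf ω C)
    (D : Divisor k K) : L (C - D) ≃ₗ[k] WD D :=
  LinearEquiv.ofBijective
    (LinearMap.codRestrict (WD D) ((mulWL h ω).comp (L (C - D)).subtype) (fun x => by
      have := Groth.Agent.S10986.result k K C (C - D) x.1 x.2 (h x.1) ω (mem_WD_of_isDivOf hω)
      rw [sub_sub_cancel] at this
      exact this))
    ⟨fun x y hxy => by
      have h1 := congrArg Subtype.val hxy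
      exact Subtype.ext (mulWL_injective h (ne_zero_of_isDivOf hK hω) h1),
    fun ω' => by
      obtain ⟨x, ⟨hx1, hx2⟩, -⟩ := existsUnique_mulW hK h ω C hω D ω'.1 ω'.2
      exact ⟨⟨x, hx1⟩, Subtype.ext hx2⟩⟩

/-- Riemann–Roch -/
theorem riemann_roch (hK : IsFunctionField k K) (C : Divisor k K) (hC : IsCanonical k K C)
    (D : Divisor k K) :
    (ell D : ℤ) = D.deg + 1 - genus k K + ell (C - D) := by
  obtain ⟨ω, -, hω⟩ := hC
  have e := mulWEquiv hK (smul_mem_adele hK) hω D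
  obtain ⟨-, h2⟩ := finrank_WD hK D
  have h3 : ell (C - D) = Module.finrank k (WD D) := e.finrank_eq
  rw [h3, h2]
  unfold delta
  ring

theorem exists_isCanonical (hK : IsFunctionField k K) : ∃ C : Divisor k K, IsCanonical k K C := by
  classical
  obtain ⟨P₀⟩ := nonempty_place hK
  obtain ⟨B, hBdef⟩ : ∃ B : Divisor k K, B = Finsupp.single P₀ (2 : ℤ) := ⟨_, rfl⟩
  have hdegP := deg_pos P₀ hK
  have hBdeg : B.deg = 2 * P₀.deg := by rw [hBdef]; exact deg_single P₀ 2
  have hB2 : 2 ≤ B.deg := by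
    rw [hBdeg]
    have : (1 : ℤ) ≤ P₀.deg := by exact_mod_cast hdegP
    omega
  obtain ⟨hWfin, hWdim⟩ := finrank_WD hK (-B)
  have hWdim' : (Module.finrank k (WD (-B)) : ℤ) = genus k K + B.deg - 1 := by
    rw [hWdim]
    unfold delta
    rw [deg_neg, ell_eq_zero_of_deg_neg hK (by rw [deg_neg]; omega)]
    push_cast; ring
  have hpos : 0 < Module.finrank k (WD (-B)) := by
    have : (0 : ℤ) < Module.finrank k (WD (-B)) := by
      rw [hWdim']
      have := Int.natCast_nonneg (genus k K)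
      omega
    exact_mod_cast this
  have : Nontrivial (WD (-B)) := Module.finrank_pos_iff.1 hpos
  obtain ⟨ω, hω⟩ := exists_ne (0 : WD (-B))
  have hω0 : ω.1 ≠ 0 := fun h => hω (Subtype.ext h)
  obtain ⟨C, hC⟩ := exists_isDivOf hK ω.1 ⟨-B, ω.2⟩ hω0
  exact ⟨C, ω.1, hω0, hC⟩

theorem canonical_linEquiv (hK : IsFunctionField k K) (C₁ C₂ : Divisor k K)
    (h₁ : IsCanonical k K C₁) (h₂ : IsCanonical k K C₂) :
    ∃ x : K, x ≠ 0 ∧ C₂ = C₁ + FunFld.div k x := by
  obtain ⟨ω₁, h10, hω₁⟩ := h₁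
  obtain ⟨ω₂, h20, hω₂⟩ := h₂
  have h := smul_mem_adele hK
  obtain ⟨x, hx⟩ := exists_mulW_eq hK h ω₁ ω₂ ⟨C₁, mem_WD_of_isDivOf hω₁⟩ h10
    ⟨C₂, mem_WD_of_isDivOf hω₂⟩
  have hx0 : x ≠ 0 := by
    rintro rfl
    rw [mulW_zero] at hx
    exact h20 hx.symm
  refine ⟨x, hx0, ?_⟩
  have h1 := isDivOf_mulW hK hx0 (h x) hω₁
  rw [hx] at h1
  exact isDivOf_unique hω₂ h1

theorem isCanonical_add_div (hK : IsFunctionField k K) {C : Divisor k K}
    (hC : IsCanonical k K C) {x : K} (hx0 : x ≠ 0) : IsCanonical k K (C + FunFld.div k x) := by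
  obtain ⟨ω, h0, hω⟩ := hC
  have h := smul_mem_adele hK
  exact ⟨mulW x (h x) ω, mulW_ne_zero hx0 (h x) (h x⁻¹) h0, isDivOf_mulW hK hx0 (h x) hω⟩

theorem ell_canonical (hK : IsFunctionField k K) {C : Divisor k K} (hC : IsCanonical k K C) :
    ell C = genus k K := by
  have h1 := riemann_roch hK C hC 0
  rw [ell_zero hK, sub_zero, deg_zero] at h1
  have : (ell C : ℤ) = genus k K := by push_cast at h1; linarith
  exact_mod_cast this

theorem deg_canonical (hK : IsFunctionField k K) {C : Divisor k K} (hC : IsCanonical k K C) :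
    C.deg = 2 * genus k K - 2 := by
  have h1 := riemann_roch hK C hC C
  rw [sub_self, ell_zero hK, ell_canonical hK hC] at h1
  push_cast at h1
  linarith

theorem isCanonical_iff (hK : IsFunctionField k K) (C : Divisor k K) :
    IsCanonical k K C ↔ (ell C = genus k K ∧ C.deg = 2 * genus k K - 2) := by
  constructor
  · intro hC
    exact ⟨ell_canonical hK hC, deg_canonical hK hC⟩
  · rintro ⟨h1, h2⟩
    obtain ⟨W, hW⟩ := exists_isCanonical hK
    have h3 := riemann_roch hK W hW C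
    rw [h1, h2] at h3
    have h4 : ell (W - C) = 1 := by
      have : (ell (W - C) : ℤ) = 1 := by linarith
      exact_mod_cast this
    have hne : L (W - C) ≠ ⊥ := by
      intro hbot
      rw [ell_def, hbot, finrank_bot] at h4
      omega
    obtain ⟨x, hx, hx0⟩ := Submodule.exists_mem_ne_zero_of_ne_bot hne
    rw [mem_L_iff_div hK hx0] at hx
    have hdeg : (FunFld.div k x + (W - C)).deg = 0 := by
      rw [deg_add, deg_sub, deg_div hK, deg_canonical hK hW, h2]; ring
    have h5 := eq_of_le_of_deg_eq hK hx (by rw [hdeg, deg_zero])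
    have h6 : C = W + FunFld.div k x := by
      have : C = C + 0 := by rw [add_zero]
      rw [this, h5]; abel
    rw [h6]
    exact isCanonical_add_div hK hW hx0

theorem ell_eq_of_deg_ge (hK : IsFunctionField k K) (D : Divisor k K)
    (h : 2 * (genus k K : ℤ) - 1 ≤ D.deg) :
    (ell D : ℤ) = D.deg + 1 - genus k K := by
  obtain ⟨W, hW⟩ := exists_isCanonical hK
  have h3 := riemann_roch hK W hW D
  have h4 : ell (W - D) = 0 :=
    ell_eq_zero_of_deg_neg hK (by rw [deg_sub, deg_canonical hK hW]; omega)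
  rw [h4] at h3
  rw [h3]; simp

end Groth.Agent.Lib.Helper2.FF
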