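import Mathlib
import Groth.Agent.Lib.Helper2.FunFld.RR

set_option autoImplicit false
open scoped WithZero IntermediateField NNReal
open FunFld Polynomial
open Groth.Agent.Lib.Helper2.RelDim

namespace Groth.Agent.Lib.Helper2.FF

variable {k K : Type*} [Field k] [Field K] [Algebra k K]

/-- S11015 -/
theorem mul_mem_L_iff (hK : IsFunctionField k K) (D : Divisor k K) (x y : K) (hx : x ≠ 0) :
    x * y ∈ L D ↔ y ∈ L (D + FunFld.div k x) := by
  rw [mem_L, mem_L]
  refine forall_congr' fun P => ?_
  rw [map_mul, v_eq_exp_neg_ord P hx, Finsupp.add_apply, div_apply hK, WithZero.exp_add]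
  constructor
  · intro h
    calc v P y = WithZero.exp (P.ord x) * (WithZero.exp (-P.ord x) * v P y) := by
          rw [← mul_assoc, ← WithZero.exp_add]; simp
      _ ≤ WithZero.exp (P.ord x) * WithZero.exp (D P) := mul_le_mul_right h _
      _ = _ := mul_comm _ _
  · intro h
    calc WithZero.exp (-P.ord x) * v P y
        ≤ WithZero.exp (-P.ord x) * (WithZero.exp (D P) * WithZero.exp (P.ord x)) :=
          mul_le_mul_right h _
      _ = WithZero.exp (D P) := by
          rw [mul_comm (WithZero.exp (D P)), ← mul_assoc, ← WithZero.exp_add]; simp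

/-- S11016 -/
theorem L_ne_bot_iff (hK : IsFunctionField k K) (D : Divisor k K) :
    L D ≠ ⊥ ↔ ∃ x : K, x ≠ 0 ∧ 0 ≤ D + FunFld.div k x := by
  constructor
  · intro h
    obtain ⟨x, hx, hx0⟩ := Submodule.exists_mem_ne_zero_of_ne_bot h
    refine ⟨x, hx0, ?_⟩
    rw [add_comm]
    exact (mem_L_iff_div hK hx0).1 hx
  · rintro ⟨x, hx0, hx⟩ hbot
    rw [add_comm, ← mem_L_iff_div hK hx0, hbot] at hx
    exact hx0 (by simpa using hx)

theorem one_le_ell_of_nonneg (hK : IsFunctionField k K) {D : Divisor k K} (h : 0 ≤ D) :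
    1 ≤ ell D := by
  have := ell_mono hK h
  rwa [ell_zero hK] at this

/-- S11031 -/
theorem exists_weil_of_effective (hK : IsFunctionField k K) (D : Divisor k K) (hD : 0 ≤ D)
    (hdeg : D.deg < genus k K) :
    ∃ ω : Module.Dual k (adele k K), ω ≠ 0 ∧ ω ∈ WD D := by
  obtain ⟨hWfin, hWdim⟩ := finrank_WD hK D
  have h1 := one_le_ell_of_nonneg hK hD
  have hpos : 0 < Module.finrank k (WD D) := by
    have : (0 : ℤ) < Module.finrank k (WD D) := by
      rw [hWdim]
      unfold delta
      have : (1 : ℤ) ≤ ell D := by exact_mod_cast h1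
      omega
    exact_mod_cast this
  have : Nontrivial (WD D) := Module.finrank_pos_iff.1 hpos
  obtain ⟨ω, hω⟩ := exists_ne (0 : WD D)
  exact ⟨ω.1, fun h => hω (Subtype.ext h), ω.2⟩

theorem linearIndependent_pow_of_transcendental {x : K} (hx : Transcendental k x) (l : ℕ) :
    LinearIndependent k (fun i : Fin (l + 1) => x ^ (i : ℕ)) := by
  have h := linearIndependent_pow_gen hx l
  have h2 := h.map' (IntermediateField.val k⟮x⟯).toLinearMap
    (LinearMap.ker_eq_bot.2 (IntermediateField.val k⟮x⟯).injective)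
  have h3 : (⇑(IntermediateField.val k⟮x⟯).toLinearMap ∘
      fun i : Fin (l + 1) => IntermediateField.AdjoinSimple.gen k x ^ (i : ℕ)) =
      fun i : Fin (l + 1) => x ^ (i : ℕ) := by
    ext i
    simp
  rw [h3] at h2
  exact h2

theorem pow_mem_L_nsmul_pdiv (hK : IsFunctionField k K) (x : K) {i l : ℕ} (hil : i ≤ l) :
    x ^ i ∈ L (l • pdiv (k := k) x) := by
  intro P
  rw [map_pow]
  have h1 := v_le_exp_pdiv hK x P
  calc v P x ^ i ≤ WithZero.exp (pdiv (k := k) x P) ^ i := pow_le_pow_left₀ zero_le h1 i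
    _ = WithZero.exp (i * pdiv (k := k) x P) := by
        rw [← WithZero.exp_nsmul]; simp
    _ ≤ WithZero.exp ((l • pdiv (k := k) x) P) := by
        rw [WithZero.exp_le_exp]
        simp only [Finsupp.coe_smul, Pi.smul_apply, nsmul_eq_mul]
        have := pdiv_nonneg (k := k) x P
        have h2 : (i : ℤ) ≤ l := by exact_mod_cast hil
        exact mul_le_mul_of_nonneg_right h2 this

theorem succ_le_ell_nsmul_pdiv (hK : IsFunctionField k K) {x : K} (hx : Transcendental k x)
    (l : ℕ) : l + 1 ≤ ell (l • pdiv (k := k) x) := by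
  have := finiteDimensional_L hK (l • pdiv (k := k) x)
  have h := linearIndependent_pow_of_transcendental hx l
  have h2 : LinearIndependent k (fun i : Fin (l + 1) =>
      (⟨x ^ (i : ℕ), pow_mem_L_nsmul_pdiv hK x (Nat.lt_succ_iff.1 i.2)⟩ :
        L (l • pdiv (k := k) x))) := by
    apply LinearIndependent.of_comp (L (l • pdiv (k := k) x)).subtype
    exact h
  have h3 := h2.fintype_card_le_finrank
  simpa [ell_def] using h3

theorem genus_eq_zero_of_deg_pdiv (hK : IsFunctionField k K) {x : K} (hx : Transcendental k x)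
    (hd : (pdiv (k := k) x).deg = 1) : genus k K = 0 := by
  set g := genus k K with hg
  have h1 := succ_le_ell_nsmul_pdiv hK hx (2 * g)
  have h2 := ell_eq_of_deg_ge hK ((2 * g) • pdiv (k := k) x) (by
    rw [deg_nsmul, hd]; push_cast; omega)
  rw [deg_nsmul, hd] at h2
  have h3 : ((2 * g + 1 : ℕ) : ℤ) ≤ ell ((2 * g) • pdiv (k := k) x) := by exact_mod_cast h1
  push_cast at h2 h3
  omega

theorem adjoin_eq_top_iff (hK : IsFunctionField k K) {x : K} (hx : Transcendental k x) :
    k⟮x⟯ = ⊤ ↔ (pdiv (k := k) x).deg = 1 := by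
  rw [deg_pdiv hK hx, ← IntermediateField.finrank_eq_one_iff_eq_top]
  norm_cast

theorem transcendental_of_adjoin_eq_top (hK : IsFunctionField k K) {x : K} (hx : k⟮x⟯ = ⊤) :
    Transcendental k x := by
  apply transcendental_of_not_mem_range hK
  rintro ⟨c, rfl⟩
  obtain ⟨⟨y, hy, -⟩, -⟩ := id hK
  apply hy
  have h1 : y ∈ k⟮algebraMap k K c⟯ := by rw [hx]; trivial
  have h2 : k⟮algebraMap k K c⟯ = ⊥ := by
    rw [IntermediateField.adjoin_simple_eq_bot_iff]
    exact IntermediateField.algebraMap_mem _ c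
  rw [h2, IntermediateField.mem_bot] at h1
  obtain ⟨d, rfl⟩ := h1
  exact isAlgebraic_algebraMap d

theorem exists_eq_single_of_deg_eq_one (hK : IsFunctionField k K) {D : Divisor k K} (h0 : 0 ≤ D)
    (hd : D.deg = 1) : ∃ P : FunFld.Place k K, P.deg = 1 ∧ D = Finsupp.single P 1 := by
  classical
  have hne : D ≠ 0 := by
    rintro rfl
    rw [deg_zero] at hd; omega
  obtain ⟨P, hP⟩ : ∃ P, D P ≠ 0 := by
    by_contra hcon
    push Not at hcon
    exact hne (Finsupp.ext hcon)
  have hP1 : 1 ≤ D P := by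
    have := h0 P
    simp only [Finsupp.coe_zero, Pi.zero_apply] at this
    omega
  have hle : (Finsupp.single P 1 : Divisor k K) ≤ D := by
    intro Q
    by_cases hQ : Q = P
    · subst hQ; simpa using hP1
    · rw [Finsupp.single_apply, if_neg (Ne.symm hQ)]; exact h0 Q
  have hdegP := deg_pos P hK
  have h1 := deg_mono hle
  rw [deg_single, hd, one_mul] at h1
  have hPd : P.deg = 1 := by
    have : (P.deg : ℤ) ≤ 1 := h1
    omega
  refine ⟨P, hPd, ?_⟩
  symm
  apply eq_of_le_of_deg_eq hK hle
  rw [deg_single, hd, hPd]; simp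


theorem pdiv_le_of_mem_L {D : Divisor k K} (hK : IsFunctionField k K) (hD : 0 ≤ D) {x : K}
    (hx : x ∈ L D) : pdiv (k := k) x ≤ D := by
  intro P
  rw [pdiv_apply hK]
  by_cases hx0 : x = 0
  · subst hx0
    rw [ord_zero]; simpa using hD P
  have h1 := (v_le_exp_iff P hx0 (D P)).1 (hx P)
  have h2 := hD P
  simp only [Finsupp.coe_zero, Pi.zero_apply] at h2
  exact max_le (by omega) h2

/-- S10994 -/
theorem genus_zero_iff (hK : IsFunctionField k K) :
    (genus k K = 0 ∧ ∃ P : FunFld.Place k K, P.deg = 1) ↔ ∃ x : K, k⟮x⟯ = ⊤ := by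
  classical
  constructor
  · rintro ⟨hg, P, hP⟩
    have h1 := ell_eq_of_deg_ge hK (Finsupp.single P 1 : Divisor k K) (by
      rw [deg_single, hg, hP]; simp)
    rw [deg_single, hg, hP] at h1
    have h2 : ell (Finsupp.single P 1 : Divisor k K) = 2 := by
      have : (ell (Finsupp.single P 1 : Divisor k K) : ℤ) = 2 := by rw [h1]; simp
      exact_mod_cast this
    have hnonneg : (0 : Divisor k K) ≤ Finsupp.single P 1 := by
      intro Q; rw [Finsupp.single_apply]; split_ifs <;> simp
    -- an element of L(P) outside k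
    obtain ⟨x, hxL, hxk⟩ : ∃ x ∈ L (Finsupp.single P 1 : Divisor k K),
        x ∉ Set.range (algebraMap k K) := by
      by_contra hcon
      push Not at hcon
      have hle : L (Finsupp.single P 1 : Divisor k K) ≤ L 0 := by
        intro x hx
        rw [L_zero hK, Submodule.one_eq_range, LinearMap.mem_range]
        obtain ⟨c, hc⟩ := hcon x hx
        exact ⟨c, by rw [← hc]; simp [Algebra.linearMap_apply]⟩
      have := finiteDimensional_L hK (0 : Divisor k K)
      have h3 := Submodule.finrank_mono hle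
      rw [← ell_def, ← ell_def, ell_zero hK, h2] at h3
      omega
    have hxt := transcendental_of_not_mem_range hK hxk
    refine ⟨x, (adjoin_eq_top_iff hK hxt).2 ?_⟩
    have h4 := deg_mono (pdiv_le_of_mem_L hK hnonneg hxL)
    rw [deg_single, hP] at h4
    have h5 : (1 : ℤ) ≤ (pdiv (k := k) x).deg := by
      rw [deg_pdiv hK hxt]
      have := finiteDimensional_adjoin_simple hK hxt
      have : 0 < Module.finrank k⟮x⟯ K := Module.finrank_pos
      omega
    simp at h4
    omega
  · rintro ⟨x, hx⟩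
    have hxt := transcendental_of_adjoin_eq_top hK hx
    have hd := (adjoin_eq_top_iff hK hxt).1 hx
    obtain ⟨P, hP, -⟩ := exists_eq_single_of_deg_eq_one hK (pdiv_nonneg x) hd
    exact ⟨genus_eq_zero_of_deg_pdiv hK hxt hd, P, hP⟩

/-- S10995 -/
theorem exists_simple_pole_iff (hK : IsFunctionField k K) :
    (∃ (x : K) (P : FunFld.Place k K), P.deg = 1 ∧ P.ord x = -1 ∧
        ∀ Q : FunFld.Place k K, Q ≠ P → 0 ≤ Q.ord x) ↔ ∃ x : K, k⟮x⟯ = ⊤ := by
  classical
  constructor
  · rintro ⟨x, P, hP, hx, hQ⟩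
    have hxt : Transcendental k x := transcendental_of_ord_ne_zero P hK (by rw [hx]; omega)
    refine ⟨x, (adjoin_eq_top_iff hK hxt).2 ?_⟩
    have : pdiv (k := k) x = Finsupp.single P 1 := by
      ext Q
      rw [pdiv_apply hK, Finsupp.single_apply]
      by_cases hQP : Q = P
      · subst hQP; rw [if_pos rfl, hx]; simp
      · rw [if_neg (Ne.symm hQP)]
        have := hQ Q hQP
        exact max_eq_right (by omega)
    rw [this, deg_single, hP]; simp
  · rintro ⟨x, hx⟩
    have hxt := transcendental_of_adjoin_eq_top hK hx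
    have hd := (adjoin_eq_top_iff hK hxt).1 hx
    obtain ⟨P, hP, hPx⟩ := exists_eq_single_of_deg_eq_one hK (pdiv_nonneg x) hd
    refine ⟨x, P, hP, ?_, fun Q hQ => ?_⟩
    · have := congrArg (fun D : Divisor k K => D P) hPx
      simp only [pdiv_apply hK, Finsupp.single_eq_same] at this
      rcases max_cases (-P.ord x) 0 with ⟨h1, h2⟩ | ⟨h1, h2⟩ <;> omega
    · have := congrArg (fun D : Divisor k K => D Q) hPx
      simp only [pdiv_apply hK, Finsupp.single_apply, if_neg (Ne.symm hQ)] at this
      have := le_max_left (-Q.ord x) 0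
      omega

/-- S10996 -/
theorem eq_of_single_sub_single_eq_div (hK : IsFunctionField k K) (hg : 0 < genus k K)
    (P P' : FunFld.Place k K) (hP : P.deg = 1) (hP' : P'.deg = 1)
    (x : K) (hx : x ≠ 0)
    (h : (Finsupp.single P 1 : Divisor k K) - Finsupp.single P' 1 = FunFld.div k x) : P = P' := by
  classical
  by_contra hne
  have hordP' : P'.ord x = -1 := by
    rw [← div_apply hK, ← h]
    simp [Finsupp.single_apply, hne]
  have hxt : Transcendental k x := transcendental_of_ord_ne_zero P' hK (by rw [hordP']; omega)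
  have : pdiv (k := k) x = Finsupp.single P' 1 := by
    ext Q
    rw [pdiv_apply hK, ← div_apply hK, ← h]
    simp only [Finsupp.coe_sub, Pi.sub_apply, Finsupp.single_apply]
    by_cases hQP' : P' = Q
    · subst hQP'; simp [hne]
    · by_cases hQP : P = Q
      · subst hQP; simp [hQP']
      · simp [hQP, hQP']
  have hd : (pdiv (k := k) x).deg = 1 := by rw [this, deg_single, hP']; simp
  have := genus_eq_zero_of_deg_pdiv hK hxt hd
  omega

end Groth.Agent.Lib.Helper2.FF
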