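import Mathlib
import Groth.Agent.Lib.Helper2.FunFld.Rational

set_option autoImplicit false
open scoped WithZero IntermediateField NNReal
open FunFld Polynomial
open Groth.Agent.Lib.Helper2.RelDim

namespace Groth.Agent.Lib.Helper2.FF

variable {k K : Type*} [Field k] [Field K] [Algebra k K]

/-- at a place of degree one, every integral element is congruent to a constant -/
theorem exists_sub_lt_one (P : FunFld.Place k K) (hP : P.deg = 1) {u : K} (hu : v P u ≤ 1) :
    ∃ a : k, v P (u - algebraMap k K a) < 1 := by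
  have huO : u ∈ P.O := (mem_O_iff P u).2 hu
  have h1 : Module.finrank k (IsLocalRing.ResidueField P.O) = 1 := hP
  have h2 := Subalgebra.bot_eq_top_of_finrank_eq_one h1
  have h3 : resAlg P ⟨u, huO⟩ ∈ (⊥ : Subalgebra k (IsLocalRing.ResidueField P.O)) := by
    rw [h2]; trivial
  obtain ⟨a, ha⟩ := Algebra.mem_bot.1 h3
  refine ⟨a, ?_⟩
  have h4 : resAlg P (⟨u, huO⟩ - algebraMap k P.O a) = 0 := by
    rw [map_sub, AlgHom.commutes, ha, sub_self]
  have h5 := (resAlg_eq_zero_iff P _).1 h4
  exact h5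

theorem exists_sub_smul_lt (P : FunFld.Place k K) (hP : P.deg = 1) {z w : K} (hz : z ≠ 0)
    (hw : v P w ≤ v P z) : ∃ a : k, v P (w - a • z) < v P z := by
  have hvz : v P z ≠ 0 := (Valuation.ne_zero_iff _).2 hz
  have hu : v P (w / z) ≤ 1 := by
    rw [map_div₀]
    exact div_le_one_of_le₀ hw zero_le
  obtain ⟨a, ha⟩ := exists_sub_lt_one P hP hu
  refine ⟨a, ?_⟩
  have h1 : w - a • z = (w / z - algebraMap k K a) * z := by
    rw [Algebra.smul_def]; field_simp
  rw [h1, map_mul]
  calc v P (w / z - algebraMap k K a) * v P z < 1 * v P z :=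
        mul_lt_mul_of_pos_right ha (zero_lt_iff.2 hvz)
    _ = v P z := one_mul _

theorem sub_single_apply_self [DecidableEq (FunFld.Place k K)] (D : Divisor k K)
    (P : FunFld.Place k K) :
    (D - (Finsupp.single P 1 : Divisor k K)) P = D P - 1 := by simp

theorem sub_single_apply_ne [DecidableEq (FunFld.Place k K)] (D : Divisor k K)
    {P Q : FunFld.Place k K} (h : Q ≠ P) :
    (D - (Finsupp.single P 1 : Divisor k K)) Q = D Q := by
  simp [Ne.symm h]

/-- reduction step: modulo `L(D - P)`, `L(D)` is spanned by any element of exact order `-D(P)` -/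
theorem exists_sub_smul_mem_L (P : FunFld.Place k K) (hP : P.deg = 1) {D : Divisor k K} {z w : K}
    (hz : z ≠ 0) (hzL : z ∈ L D) (hzo : P.ord z = -D P) (hw : w ∈ L D) :
    ∃ a : k, w - a • z ∈ L (D - (Finsupp.single P 1 : Divisor k K)) := by
  classical
  have hvz : v P z = WithZero.exp (D P) := by rw [v_eq_exp_neg_ord P hz, hzo]; simp
  obtain ⟨a, ha⟩ := exists_sub_smul_lt P hP (w := w) hz (by rw [hvz]; exact hw P)
  refine ⟨a, fun Q => ?_⟩
  by_cases hQ : Q = P
  · subst hQ
    rw [sub_single_apply_self]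
    rw [hvz] at ha
    have : D Q = (D Q - 1) + 1 := by ring
    rw [this, lt_exp_succ_iff] at ha
    exact ha
  · rw [sub_single_apply_ne D hQ]
    exact (L D).sub_mem hw ((L D).smul_mem a hzL) Q

theorem sub_single_le [DecidableEq (FunFld.Place k K)] (D : Divisor k K) (P : FunFld.Place k K) :
    D - (Finsupp.single P 1 : Divisor k K) ≤ D := by
  intro Q
  by_cases hQ : Q = P
  · subst hQ; rw [sub_single_apply_self]; omega
  · rw [sub_single_apply_ne D hQ]

theorem ord_eq_of_not_mem_L_sub (P : FunFld.Place k K) {D : Divisor k K} {z : K}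
    (hzL : z ∈ L D) (hz : z ∉ L (D - (Finsupp.single P 1 : Divisor k K))) :
    z ≠ 0 ∧ P.ord z = -D P := by
  classical
  have hz0 : z ≠ 0 := by
    rintro rfl
    exact hz (L _).zero_mem
  refine ⟨hz0, ?_⟩
  have h1 := (v_le_exp_iff P hz0 (D P)).1 (hzL P)
  by_contra hne
  apply hz
  intro Q
  by_cases hQ : Q = P
  · subst hQ
    rw [sub_single_apply_self, v_le_exp_iff Q hz0]
    omega
  · rw [sub_single_apply_ne D hQ]
    exact hzL Q

theorem exists_mem_L_ord_eq (P : FunFld.Place k K) {D : Divisor k K}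
    (h : ell (D - (Finsupp.single P 1 : Divisor k K)) < ell D) :
    ∃ z : K, z ≠ 0 ∧ z ∈ L D ∧ P.ord z = -D P := by
  classical
  have hle : L (D - (Finsupp.single P 1 : Divisor k K)) ≤ L D := L_mono (sub_single_le D P)
  have hne : ¬ L D ≤ L (D - (Finsupp.single P 1 : Divisor k K)) := by
    intro hle'
    have := le_antisymm hle hle'
    rw [ell_def, ell_def, this] at h
    omega
  obtain ⟨z, hzL, hz⟩ := SetLike.not_le_iff_exists.1 hne
  obtain ⟨h1, h2⟩ := ord_eq_of_not_mem_L_sub P hzL hz
  exact ⟨z, h1, hzL, h2⟩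

theorem not_mem_L_sub_of_ord_eq (P : FunFld.Place k K) {D : Divisor k K} {z : K}
    (hz0 : z ≠ 0) (hzo : P.ord z = -D P) :
    z ∉ L (D - (Finsupp.single P 1 : Divisor k K)) := by
  classical
  intro h
  have h1 := (v_le_exp_iff P hz0 _).1 (h P)
  rw [sub_single_apply_self] at h1
  omega

theorem pdiv_eq_single (hK : IsFunctionField k K) (P : FunFld.Place k K) {n : ℕ} {z : K}
    (hzL : z ∈ L (Finsupp.single P (n : ℤ) : Divisor k K)) (hzo : P.ord z = -(n : ℤ)) :
    pdiv (k := k) z = Finsupp.single P (n : ℤ) := by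
  classical
  ext Q
  rw [pdiv_apply hK]
  by_cases hQ : Q = P
  · subst hQ
    rw [hzo, Finsupp.single_eq_same, neg_neg]
    exact max_eq_left (Int.natCast_nonneg n)
  · rw [Finsupp.single_apply, if_neg (Ne.symm hQ)]
    by_cases hz0 : z = 0
    · subst hz0; rw [ord_zero]; simp
    have h1 := (v_le_exp_iff Q hz0 _).1 (hzL Q)
    rw [Finsupp.single_apply, if_neg (Ne.symm hQ)] at h1
    exact max_eq_right (by omega)

end Groth.Agent.Lib.Helper2.FF
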