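import Mathlib
import Groth.Agent.Lib.Helper2.FunFld.DegOne

set_option autoImplicit false
open scoped WithZero IntermediateField NNReal
open FunFld Polynomial
open Groth.Agent.Lib.Helper2.RelDim

namespace Groth.Agent.Lib.Helper2.FF

variable {k K : Type*} [Field k] [Field K] [Algebra k K]

theorem mul_mem_L {D E : Divisor k K} {a b : K} (ha : a ∈ L D) (hb : b ∈ L E) :
    a * b ∈ L (D + E) := by
  intro P
  rw [map_mul, Finsupp.add_apply, WithZero.exp_add]
  exact mul_le_mul' (ha P) (hb P)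

theorem pow_mem_L {D : Divisor k K} {a : K} (ha : a ∈ L D) (n : ℕ) : a ^ n ∈ L (n • D) := by
  induction n with
  | zero =>
    rw [pow_zero, zero_smul]
    intro P
    simp
  | succ n ih =>
    rw [pow_succ, succ_nsmul]
    exact mul_mem_L ih ha

/-- the divisor `n P` -/
noncomputable abbrev nP (P : FunFld.Place k K) (n : ℤ) : Divisor k K := Finsupp.single P n

theorem nP_add (P : FunFld.Place k K) (m n : ℤ) : nP P m + nP P n = nP P (m + n) :=
  (Finsupp.single_add P m n).symm

theorem nP_sub_one (P : FunFld.Place k K) (n : ℤ) :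
    nP P n - (Finsupp.single P 1 : Divisor k K) = nP P (n - 1) :=
  (Finsupp.single_sub P n 1).symm

theorem nsmul_nP (P : FunFld.Place k K) (m : ℕ) (n : ℤ) : m • nP P n = nP P (m * n) := by
  rw [nP, Finsupp.smul_single]; simp

theorem nP_apply_self (P : FunFld.Place k K) (n : ℤ) : nP P n P = n := Finsupp.single_eq_same

theorem deg_nP (P : FunFld.Place k K) (n : ℤ) : (nP P n).deg = n * P.deg := deg_single P n

/-- the Weierstrass equation step: in genus one, `ℓ(nP₀) = n` -/
theorem ell_nP_genus_one (hK : IsFunctionField k K) (hg : genus k K = 1)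
    (P₀ : FunFld.Place k K) (hP : P₀.deg = 1) {n : ℕ} (hn : 1 ≤ n) : ell (nP P₀ n) = n := by
  have h1 := ell_eq_of_deg_ge hK (nP P₀ n) (by rw [deg_nP, hg, hP]; push_cast; omega)
  rw [deg_nP, hg, hP] at h1
  have : (ell (nP P₀ n) : ℤ) = n := by rw [h1]; push_cast; ring
  exact_mod_cast this

/-- S10998 -/
theorem genus_one_weierstrass (hK : IsFunctionField k K) (hg : genus k K = 1)
    (P₀ : FunFld.Place k K) (hP : P₀.deg = 1) :
    ∃ x y : K, x ∈ L (Finsupp.single P₀ 2 : Divisor k K) ∧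
      y ∈ L (Finsupp.single P₀ 3 : Divisor k K) ∧
      P₀.ord x = -2 ∧ P₀.ord y = -3 ∧
      IntermediateField.adjoin k ({x, y} : Set K) = ⊤ ∧
      ∃ f g : Polynomial k, f.natDegree ≤ 1 ∧ g.natDegree = 3 ∧
        y ^ 2 + Polynomial.aeval x f * y + Polynomial.aeval x g = 0 := by
  classical
  have hell := fun (n : ℕ) (hn : 1 ≤ n) => ell_nP_genus_one hK hg P₀ hP hn
  -- x
  obtain ⟨x, hx0, hxL, hxo⟩ := exists_mem_L_ord_eq P₀ (D := nP P₀ 2) (by
    rw [nP_sub_one]
    have h1 := hell 1 le_rfl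
    have h2 := hell 2 (by omega)
    norm_num at h1 h2 ⊢
    omega)
  rw [nP_apply_self] at hxo
  obtain ⟨y, hy0, hyL, hyo⟩ := exists_mem_L_ord_eq P₀ (D := nP P₀ 3) (by
    rw [nP_sub_one]
    have h1 := hell 2 (by omega)
    have h2 := hell 3 (by omega)
    norm_num at h1 h2 ⊢
    omega)
  rw [nP_apply_self] at hyo
  refine ⟨x, y, hxL, hyL, hxo, hyo, ?_, ?_⟩
  · -- generation
    have hxt : Transcendental k x := transcendental_of_ord_ne_zero P₀ hK (by rw [hxo]; omega)
    have hyt : Transcendental k y := transcendental_of_ord_ne_zero P₀ hK (by rw [hyo]; omega)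
    have hdx : (Module.finrank k⟮x⟯ K : ℤ) = 2 := by
      rw [← deg_pdiv hK hxt, pdiv_eq_single hK P₀ (n := 2) hxL hxo, deg_single, hP]; norm_num
    have hdy : (Module.finrank k⟮y⟯ K : ℤ) = 3 := by
      rw [← deg_pdiv hK hyt, pdiv_eq_single hK P₀ (n := 3) hyL hyo, deg_single, hP]; norm_num
    have hx_le : k⟮x⟯ ≤ IntermediateField.adjoin k ({x, y} : Set K) :=
      IntermediateField.adjoin.mono _ _ _ (by simp)
    have hy_le : k⟮y⟯ ≤ IntermediateField.adjoin k ({x, y} : Set K) :=
      IntermediateField.adjoin.mono _ _ _ (by simp)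
    have h1 := IntermediateField.finrank_dvd_of_le_left hx_le
    have h2 := IntermediateField.finrank_dvd_of_le_left hy_le
    have hdx' : Module.finrank k⟮x⟯ K = 2 := by exact_mod_cast hdx
    have hdy' : Module.finrank k⟮y⟯ K = 3 := by exact_mod_cast hdy
    rw [hdx'] at h1
    rw [hdy'] at h2
    rw [← IntermediateField.finrank_eq_one_iff_eq_top]
    have h3 := Nat.dvd_sub h2 h1
    simpa using h3
  · -- the equation
    have hy2 : y ^ 2 ∈ L (nP P₀ 6) := by
      have := pow_mem_L hyL 2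
      rw [nsmul_nP] at this
      norm_num at this
      exact this
    have hx3 : x ^ 3 ∈ L (nP P₀ 6) := by
      have := pow_mem_L hxL 3
      rw [nsmul_nP] at this
      norm_num at this
      exact this
    have hx2 : x ^ 2 ∈ L (nP P₀ 4) := by
      have := pow_mem_L hxL 2
      rw [nsmul_nP] at this
      norm_num at this
      exact this
    have hxy : x * y ∈ L (nP P₀ 5) := by
      have := mul_mem_L hxL hyL
      rw [nP_add] at this
      norm_num at this
      exact this
    have hox3 : P₀.ord (x ^ 3) = -6 := by rw [ord_pow, hxo]; norm_num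
    have hox2 : P₀.ord (x ^ 2) = -4 := by rw [ord_pow, hxo]; norm_num
    have hoxy : P₀.ord (x * y) = -5 := by rw [ord_mul P₀ hx0 hy0, hxo, hyo]; norm_num
    have hoy2 : P₀.ord (y ^ 2) = -6 := by rw [ord_pow, hyo]; norm_num
    obtain ⟨a₅, h5⟩ := exists_sub_smul_mem_L P₀ hP (D := nP P₀ 6) (pow_ne_zero 3 hx0) hx3
      (by rw [nP_apply_self, hox3]) hy2
    rw [nP_sub_one] at h5
    norm_num at h5
    obtain ⟨a₄, h4⟩ := exists_sub_smul_mem_L P₀ hP (D := nP P₀ 5) (mul_ne_zero hx0 hy0) hxy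
      (by rw [nP_apply_self, hoxy]) h5
    rw [nP_sub_one] at h4
    norm_num at h4
    obtain ⟨a₃, h3⟩ := exists_sub_smul_mem_L P₀ hP (D := nP P₀ 4) (pow_ne_zero 2 hx0) hx2
      (by rw [nP_apply_self, hox2]) h4
    rw [nP_sub_one] at h3
    norm_num at h3
    obtain ⟨a₂, h2⟩ := exists_sub_smul_mem_L P₀ hP (D := nP P₀ 3) hy0 hyL
      (by rw [nP_apply_self, hyo]) h3
    rw [nP_sub_one] at h2
    norm_num at h2
    obtain ⟨a₁, h1⟩ := exists_sub_smul_mem_L P₀ hP (D := nP P₀ 2) hx0 hxL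
      (by rw [nP_apply_self, hxo]) h2
    rw [nP_sub_one] at h1
    norm_num at h1
    -- `L(P₀) = L(0) = k`
    have hL1 : L (nP P₀ 1) = L 0 := by
      have hle : L (0 : Divisor k K) ≤ L (nP P₀ 1) := L_mono (by
        intro Q; rw [nP, Finsupp.single_apply]; split_ifs <;> simp)
      have := finiteDimensional_L hK (nP P₀ 1)
      symm
      apply Submodule.eq_of_le_of_finrank_eq hle
      rw [← ell_def, ← ell_def, ell_zero hK]
      have := hell 1 le_rfl
      norm_num at this
      exact this.symm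
    rw [hL1, L_zero hK, Submodule.one_eq_range, LinearMap.mem_range] at h1
    obtain ⟨a₀, h0⟩ := h1
    rw [Algebra.linearMap_apply] at h0
    have ha5 : a₅ ≠ 0 := by
      rintro rfl
      rw [zero_smul, sub_zero] at h5
      have := (v_le_exp_iff P₀ (pow_ne_zero 2 hy0) _).1 (h5 P₀)
      rw [nP_apply_self, hoy2] at this
      omega
    refine ⟨-(C a₄ * X + C a₂), -(C a₅ * X ^ 3 + C a₃ * X ^ 2 + C a₁ * X + C a₀), ?_, ?_, ?_⟩
    · rw [natDegree_neg]; exact natDegree_linear_le
    · rw [natDegree_neg]; exact natDegree_cubic ha5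
    · simp only [map_neg, map_add, map_mul, aeval_C, aeval_X, map_pow]
      rw [h0]
      simp only [Algebra.smul_def]
      ring


/-- S10999 -/
theorem genus_one_class_eq_point (hK : IsFunctionField k K) (hg : genus k K = 1)
    (P₀ : FunFld.Place k K) (hP : P₀.deg = 1) (D : Divisor k K) (hD : D.deg = 0) :
    ∃! P : FunFld.Place k K, P.deg = 1 ∧
      ∃ x : K, x ≠ 0 ∧ D = Finsupp.single P 1 - Finsupp.single P₀ 1 + FunFld.div k x := by
  classical
  have hdeg : (D + (Finsupp.single P₀ 1 : Divisor k K)).deg = 1 := by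
    rw [deg_add, deg_single, hD, hP]; simp
  have h1 := ell_eq_of_deg_ge hK (D + (Finsupp.single P₀ 1 : Divisor k K)) (by
    rw [hdeg, hg]; simp)
  rw [hdeg, hg] at h1
  have h2 : 0 < ell (D + (Finsupp.single P₀ 1 : Divisor k K)) := by
    have : (0 : ℤ) < ell (D + (Finsupp.single P₀ 1 : Divisor k K)) := by rw [h1]; simp
    exact_mod_cast this
  obtain ⟨z, hz0, hz⟩ := exists_ne_zero_mem_L hK h2
  rw [mem_L_iff_div hK hz0] at hz
  have hdegE : (FunFld.div k z + (D + (Finsupp.single P₀ 1 : Divisor k K))).deg = 1 := by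
    rw [deg_add, deg_div hK, hdeg]; simp
  obtain ⟨P, hPd, hPE⟩ := exists_eq_single_of_deg_eq_one hK hz hdegE
  refine ⟨P, ⟨hPd, z⁻¹, inv_ne_zero hz0, ?_⟩, ?_⟩
  · rw [← hPE, div_inv hK]; abel
  · rintro P' ⟨hP'd, x', hx'0, hx'⟩
    obtain ⟨x, hx0, hx⟩ : ∃ x : K, x ≠ 0 ∧
        D = Finsupp.single P 1 - Finsupp.single P₀ 1 + FunFld.div k x :=
      ⟨z⁻¹, inv_ne_zero hz0, by rw [← hPE, div_inv hK]; abel⟩
    apply eq_of_single_sub_single_eq_div hK (by omega) P' P hP'd hPd (x * x'⁻¹)
      (mul_ne_zero hx0 (inv_ne_zero hx'0))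
    rw [div_mul hK hx0 (inv_ne_zero hx'0), div_inv hK]
    have h3 : (Finsupp.single P' 1 : Divisor k K) - Finsupp.single P₀ 1 + FunFld.div k x' =
        Finsupp.single P 1 - Finsupp.single P₀ 1 + FunFld.div k x := by rw [← hx', ← hx]
    have h4 : (Finsupp.single P' 1 : Divisor k K) - Finsupp.single P 1 =
        (Finsupp.single P' 1 - Finsupp.single P₀ 1 + FunFld.div k x') -
        (Finsupp.single P 1 - Finsupp.single P₀ 1 + FunFld.div k x) +
        (FunFld.div k x + -FunFld.div k x') := by abel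
    rw [h4, h3]; abel


end Groth.Agent.Lib.Helper2.FF
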