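import Mathlib
import Groth.Agent.Lib.Helper2.FunFld.GenusOne

set_option autoImplicit false
open scoped WithZero IntermediateField NNReal
open FunFld Polynomial
open Groth.Agent.Lib.Helper2.RelDim

namespace Groth.Agent.Lib.Helper2.FF

variable {k K : Type*} [Field k] [Field K] [Algebra k K]

theorem adele_eq_of_deg_ge (hK : IsFunctionField k K) {D : Divisor k K}
    (h : 2 * (genus k K : ℤ) - 1 ≤ D.deg) : adele k K = AD D ⊔ FK := by
  apply adele_eq_of_delta_eq_genus hK
  unfold delta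
  rw [ell_eq_of_deg_ge hK D h]; ring

/-- S10997 -/
theorem strong_approximation (hK : IsFunctionField k K) (Pinf : FunFld.Place k K) (n : ℕ)
    (P : Fin n → FunFld.Place k K) (hP : Function.Injective P)
    (hinf : Pinf ∉ Set.range P) (x : Fin n → K) (m : Fin n → ℤ) :
    ∃ y : K, (∀ i, (P i).1 (y - x i) = WithZero.exp (-(m i))) ∧
      ∀ Q : FunFld.Place k K, Q ≠ Pinf → Q ∉ Set.range P → Q.1 y ≤ 1 := by
  classical
  choose u hu using fun i => exists_v_eq (P i) (-(m i))
  obtain ⟨D₀, hD₀⟩ : ∃ D₀ : Divisor k K, D₀ = -∑ i, Finsupp.single (P i) (m i + 1) := ⟨_, rfl⟩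
  have hdegP := deg_pos Pinf hK
  obtain ⟨N, hN⟩ : ∃ N : ℕ, 2 * (genus k K : ℤ) - 1 ≤
      (D₀ + (Finsupp.single Pinf (N : ℤ) : Divisor k K)).deg := by
    refine ⟨(2 * (genus k K : ℤ) - 1 - D₀.deg).toNat, ?_⟩
    rw [deg_add, deg_single]
    have h1 := Int.self_le_toNat (2 * (genus k K : ℤ) - 1 - D₀.deg)
    have h2 : (1 : ℤ) ≤ Pinf.deg := by exact_mod_cast hdegP
    have h3 : (0 : ℤ) ≤ ((2 * (genus k K : ℤ) - 1 - D₀.deg).toNat : ℤ) := Int.natCast_nonneg _
    nlinarith
  obtain ⟨D, hD⟩ : ∃ D : Divisor k K, D = D₀ + (Finsupp.single Pinf (N : ℤ) : Divisor k K) :=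
    ⟨_, rfl⟩
  rw [← hD] at hN
  have hA := adele_eq_of_deg_ge hK hN
  have hDP : ∀ j, D (P j) = -(m j + 1) := by
    intro j
    have hne : Pinf ≠ P j := fun h => hinf ⟨j, h.symm⟩
    rw [hD, hD₀]
    simp only [Finsupp.coe_add, Finsupp.coe_neg, Pi.add_apply, Pi.neg_apply,
      Finsupp.single_apply, if_neg hne, add_zero, Finsupp.coe_finsetSum, Finset.sum_apply]
    rw [Finset.sum_eq_single j]
    · simp
    · intro i _ hij
      rw [if_neg (fun h => hij (hP h))]
    · simp
  have hDQ : ∀ Q, Q ≠ Pinf → Q ∉ Set.range P → D Q = 0 := by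
    intro Q hQ1 hQ2
    rw [hD, hD₀]
    simp only [Finsupp.coe_add, Finsupp.coe_neg, Pi.add_apply, Pi.neg_apply,
      Finsupp.single_apply, if_neg (Ne.symm hQ1), add_zero, Finsupp.coe_finsetSum,
      Finset.sum_apply]
    rw [Finset.sum_eq_zero]
    · simp
    · intro i _
      rw [if_neg (fun h => hQ2 ⟨i, h⟩)]
  obtain ⟨a, ha⟩ : ∃ a : FunFld.Place k K → K,
      a = fun Q => ∑ i, if P i = Q then x i + u i else 0 := ⟨_, rfl⟩
  have haP : ∀ j, a (P j) = x j + u j := by
    intro j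
    rw [ha]
    simp only
    rw [Finset.sum_eq_single j]
    · simp
    · intro i _ hij
      rw [if_neg (fun h => hij (hP h))]
    · simp
  have haQ : ∀ Q, Q ∉ Set.range P → a Q = 0 := by
    intro Q hQ
    rw [ha]
    simp only
    apply Finset.sum_eq_zero
    intro i _
    rw [if_neg (fun h => hQ ⟨i, h⟩)]
  have hmem : a ∈ adele k K := by
    rw [mem_adele]
    refine (Set.finite_range P).subset fun Q hQ => ?_
    by_contra hcon
    apply hQ
    rw [haQ Q hcon]
    simp
  rw [hA] at hmem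
  obtain ⟨b, hb, f, ⟨y, rfl⟩, hbf⟩ := Submodule.mem_sup.1 hmem
  refine ⟨y, fun i => ?_, fun Q hQ1 hQ2 => ?_⟩
  · have h1 := hb (P i)
    rw [hDP] at h1
    have h2 : b (P i) = x i + u i - y := by
      have := congrFun hbf (P i)
      simp only [Pi.add_apply, diag_apply, haP] at this
      rw [← this]; ring
    have h3 : y - x i = u i + -(b (P i)) := by rw [h2]; ring
    change v (P i) (y - x i) = _
    rw [h3, Valuation.map_add_eq_of_lt_left, hu]
    rw [Valuation.map_neg, hu]
    refine lt_of_le_of_lt h1 ?_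
    rw [WithZero.exp_lt_exp]; omega
  · have h1 := hb Q
    rw [hDQ Q hQ1 hQ2] at h1
    have h2 : b Q = -y := by
      have := congrFun hbf Q
      simp only [Pi.add_apply, diag_apply, haQ Q hQ2] at this
      rw [eq_neg_iff_add_eq_zero]; exact this
    rw [h2, Valuation.map_neg] at h1
    simpa using h1

end Groth.Agent.Lib.Helper2.FF
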