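import Mathlib
import Groth.Prelude.Def_AdFn
import Groth.Agent.Lib.Helper2.FunFld.StrongApprox

set_option autoImplicit false
universe u
open FunFld
open Groth.Agent.Lib.Helper2.FF Groth.Agent.Lib.Helper2.RelDim

namespace Groth.Agent.Lib.Helper2.FF.H1

variable {k K : Type u} [Field k] [Field K] [Algebra k K]

open scoped Classical in
noncomputable def iota (hK : IsFunctionField k K) (P : FunFld.Place k K) : K →ₗ[k] adele k K :=
  LinearMap.codRestrict (adele k K) (LinearMap.single k (fun _ : FunFld.Place k K => K) P) (by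
    intro x
    rw [mem_adele]
    refine (Set.finite_singleton P).subset fun Q hQ => ?_
    by_contra hne
    apply hQ
    simp only [LinearMap.coe_single]
    rw [Pi.single_eq_of_ne hne]
    simp)

theorem iota_apply_self (hK : IsFunctionField k K) (P : FunFld.Place k K) (x : K) :
    (iota hK P x : FunFld.Place k K → K) P = x := by
  simp [iota]

theorem iota_apply_ne (hK : IsFunctionField k K) (P : FunFld.Place k K) (x : K)
    {Q : FunFld.Place k K} (h : Q ≠ P) :
    (iota hK P x : FunFld.Place k K → K) Q = 0 := by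
  classical
  simp only [iota, LinearMap.codRestrict_apply, LinearMap.coe_single]
  exact Pi.single_eq_of_ne h _

theorem ker_eq (hK : IsFunctionField k K) (P : FunFld.Place k K) :
    LinearMap.ker ((ADK (0 : Divisor k K)).mkQ ∘ₗ iota hK P) =
      Subalgebra.toSubmodule (AdFn.SInt ({P} : Set (FunFld.Place k K))) ⊔
        Subalgebra.toSubmodule (AdFn.SInt (({P} : Set (FunFld.Place k K))ᶜ)) := by
  ext x
  rw [LinearMap.mem_ker, LinearMap.comp_apply, Submodule.mkQ_apply, Submodule.Quotient.mk_eq_zero]
  unfold ADK
  rw [Submodule.mem_comap, Submodule.mem_sup]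
  constructor
  · rintro ⟨b, hb, f, ⟨y, rfl⟩, hbf⟩
    rw [Submodule.mem_sup]
    refine ⟨y, ?_, x - y, ?_, by ring⟩
    · intro Q hQ
      have hQ' : Q ≠ P := hQ
      have := congrFun hbf Q
      simp only [Submodule.subtype_apply, Pi.add_apply, diag_apply, iota_apply_ne hK P x hQ'] at this
      have h2 : y = -b Q := by rw [eq_neg_iff_add_eq_zero, add_comm]; exact this
      rw [h2, Valuation.map_neg]
      simpa using hb Q
    · intro Q hQ
      have hQ' : Q = P := by simpa using hQ
      subst hQ'
      have := congrFun hbf Q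
      simp only [Submodule.subtype_apply, Pi.add_apply, diag_apply, iota_apply_self] at this
      have h2 : x - y = b Q := by rw [← this]; ring
      rw [h2]
      simpa using hb Q
  · intro hx
    obtain ⟨y, hy, z, hz, rfl⟩ := Submodule.mem_sup.1 hx
    classical
    refine ⟨fun Q => if Q = P then z else -y, ?_, diag k K y, ⟨y, rfl⟩, ?_⟩
    · intro Q
      simp only [Finsupp.coe_zero, Pi.zero_apply, WithZero.exp_zero]
      by_cases hQ : Q = P
      · rw [if_pos hQ]
        exact hz Q (by simpa using hQ)
      · rw [if_neg hQ, Valuation.map_neg]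
        exact hy Q hQ
    · funext Q
      simp only [Submodule.subtype_apply, Pi.add_apply, diag_apply]
      by_cases hQ : Q = P
      · subst hQ; rw [if_pos rfl, iota_apply_self]; ring
      · rw [if_neg hQ, iota_apply_ne hK P _ hQ]; ring

theorem surj (hK : IsFunctionField k K) (P : FunFld.Place k K) :
    Function.Surjective ((ADK (0 : Divisor k K)).mkQ ∘ₗ iota hK P) := by
  classical
  intro q
  obtain ⟨⟨a, ha⟩, rfl⟩ := Submodule.mkQ_surjective _ q
  -- finite set T of places ≠ P where a is non-integral
  have hfin : {Q : FunFld.Place k K | ¬ Q.1 (a Q) ≤ 1}.Finite := mem_adele.1 ha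
  set T : Finset (FunFld.Place k K) := hfin.toFinset.erase P with hT
  obtain ⟨y, hy1, hy2⟩ := strong_approximation hK P T.card (fun i => (T.equivFin.symm i : FunFld.Place k K))
    (fun i j h => T.equivFin.symm.injective (Subtype.ext h))
    (by
      rintro ⟨i, hi⟩
      have := (T.equivFin.symm i).2
      simp only at hi
      rw [hi, hT] at this
      simp at this)
    (fun i => a (T.equivFin.symm i)) (fun _ => 0)
  refine ⟨a P - y, ?_⟩
  rw [LinearMap.comp_apply, Submodule.mkQ_apply, Submodule.mkQ_apply, Submodule.Quotient.eq]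
  unfold ADK
  rw [Submodule.mem_comap, Submodule.mem_sup]
  refine ⟨fun Q => if Q = P then 0 else y - a Q, ?_, diag k K (-y), ⟨-y, rfl⟩, ?_⟩
  · intro Q
    simp only [Finsupp.coe_zero, Pi.zero_apply, WithZero.exp_zero]
    by_cases hQ : Q = P
    · rw [if_pos hQ]; simp
    · rw [if_neg hQ]
      by_cases hQT : Q ∈ T
      · have := hy1 (T.equivFin ⟨Q, hQT⟩)
        simp only [Equiv.symm_apply_apply, neg_zero, WithZero.exp_zero] at this
        exact this.le
      · have hQi : Q.1 (a Q) ≤ 1 := by
          by_contra hcon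
          apply hQT
          rw [hT, Finset.mem_erase]
          exact ⟨hQ, by simpa using hcon⟩
        have hyQ : Q.1 y ≤ 1 := by
          apply hy2 Q hQ
          rintro ⟨i, hi⟩
          apply hQT
          rw [← hi]
          exact (T.equivFin.symm i).2
        exact (Valuation.map_sub _ _ _).trans (max_le hyQ hQi)
  · funext Q
    simp only [Submodule.subtype_apply, Pi.add_apply, diag_apply, Submodule.coe_sub, Pi.sub_apply]
    by_cases hQ : Q = P
    · subst hQ; rw [if_pos rfl, iota_apply_self]; ring
    · rw [if_neg hQ, iota_apply_ne hK P _ hQ]; ring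

theorem main (hK : IsFunctionField k K) (P : FunFld.Place k K) :
    FiniteDimensional k (K ⧸ (Subalgebra.toSubmodule (AdFn.SInt ({P} : Set (FunFld.Place k K))) ⊔
        Subalgebra.toSubmodule (AdFn.SInt (({P} : Set (FunFld.Place k K))ᶜ)))) ∧
    Module.finrank k (K ⧸ (Subalgebra.toSubmodule (AdFn.SInt ({P} : Set (FunFld.Place k K))) ⊔
        Subalgebra.toSubmodule (AdFn.SInt (({P} : Set (FunFld.Place k K))ᶜ)))) = FunFld.genus k K := by
  obtain ⟨h1, h2⟩ := finIdx_adele hK (0 : Divisor k K)
  have hd : delta (0 : Divisor k K) = 0 := by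
    unfold delta; rw [ell_zero hK, deg_zero]; simp
  rw [hd, sub_zero] at h2
  have hfd : FiniteDimensional k (↥(adele k K) ⧸ ADK (0 : Divisor k K)) := h1
  have e : (K ⧸ (Subalgebra.toSubmodule (AdFn.SInt ({P} : Set (FunFld.Place k K))) ⊔
        Subalgebra.toSubmodule (AdFn.SInt (({P} : Set (FunFld.Place k K))ᶜ)))) ≃ₗ[k]
      (↥(adele k K) ⧸ ADK (0 : Divisor k K)) :=
    (Submodule.quotEquivOfEq _ _ (ker_eq hK P).symm).trans
      (LinearMap.quotKerEquivOfSurjective _ (surj hK P))
  refine ⟨Module.Finite.equiv e.symm, ?_⟩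
  rw [e.finrank_eq]
  exact_mod_cast h2

end Groth.Agent.Lib.Helper2.FF.H1
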