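import Mathlib
import Groth.Prelude.Def_LocRes
import Groth.Agent.Lib.Helper2.FunFld.Finite

set_option autoImplicit false
open scoped WithZero
open FunFld LaurentSeries

namespace Groth.Agent.Lib.Helper2.FF

section LR1

variable {k : Type*} {K : Type*} {F : Type*} [CommRing k] [CommRing K] [Field F]
  [Algebra k K] [Algebra k F]

/-- a differential `u dv` with `u`, `v` integral has zero residue (before the trace) -/
theorem resExp_eq_zero_of_val_le_one (φ : K →ₐ[k] F⸨X⸩) (u v : K)
    (hu : Valued.v (φ u) ≤ (1 : ℤᵐ⁰)) (hv : Valued.v (φ v) ≤ (1 : ℤᵐ⁰)) :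
    LocRes.resExp φ u v = 0 := by
  obtain ⟨U, hU⟩ := (LaurentSeries.val_le_one_iff_eq_coe F _).1 hu
  obtain ⟨V, hV⟩ := (LaurentSeries.val_le_one_iff_eq_coe F _).1 hv
  unfold LocRes.resExp
  rw [← hU, ← hV, LocRes.D_coe, ← PowerSeries.coe_mul, LocRes.res_apply, PowerSeries.coeff_coe,
    if_pos (by norm_num)]

end LR1

section LR1b

variable {k K : Type*} [Field k] [Field K] [Algebra k K]

theorem finite_not_le_one (hK : IsFunctionField k K) (x : K) :
    {P : FunFld.Place k K | ¬ P.1 x ≤ 1}.Finite := by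
  refine (finite_support_ord hK x).subset fun P hP => ?_
  simp only [Set.mem_ofPred_eq, not_le] at hP
  rw [Function.mem_support]
  intro h0
  have hx0 : x ≠ 0 := by
    rintro rfl
    simp at hP
  have h1 := v_eq_exp_neg_ord P hx0
  rw [h0, neg_zero, WithZero.exp_zero] at h1
  change 1 < v P x at hP
  rw [h1] at hP
  exact lt_irrefl _ hP

end LR1b

end Groth.Agent.Lib.Helper2.FF
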