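import Mathlib
import Groth.Agent.Lib.Helper2.FunFld.StrongApprox

set_option autoImplicit false
open scoped WithZero IntermediateField NNReal
open FunFld Polynomial
open Groth.Agent.Lib.Helper2.RelDim

namespace Groth.Agent.Lib.Helper2.FF

variable {k K : Type*} [Field k] [Field K] [Algebra k K]

/-- Over an algebraically closed constant field every place has degree one. -/
theorem deg_eq_one_of_isAlgClosed [IsAlgClosed k] (hK : IsFunctionField k K)
    (P : FunFld.Place k K) : P.deg = 1 := by
  have h0 := finiteDimensional_residueField P hK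
  unfold Place.deg
  have h1 : @Module.Finite k (IsLocalRing.ResidueField P.O) _ _ (Algebra.toModule) := h0
  have : Algebra.IsIntegral k (IsLocalRing.ResidueField P.O) := Algebra.IsIntegral.of_finite k _
  have hbij : Function.Bijective (algebraMap k (IsLocalRing.ResidueField P.O)) :=
    IsAlgClosed.algebraMap_bijective_of_isIntegral
  have e : k ≃ₗ[k] IsLocalRing.ResidueField P.O :=
    LinearEquiv.ofBijective (Algebra.linearMap k (IsLocalRing.ResidueField P.O)) hbij
  have := e.finrank_eq
  rw [Module.finrank_self] at this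
  exact this.symm

/-- in positive genus, `ℓ(P) = 1` for a place of degree one -/
theorem ell_single_eq_one (hK : IsFunctionField k K) (hg : 0 < genus k K)
    (P : FunFld.Place k K) (hP : P.deg = 1) : ell (Finsupp.single P 1 : Divisor k K) = 1 := by
  classical
  have hnonneg : (0 : Divisor k K) ≤ Finsupp.single P 1 := by
    intro Q; rw [Finsupp.single_apply]; split_ifs <;> simp
  have h1 := one_le_ell_of_nonneg hK hnonneg
  by_contra hne
  have h2 : 2 ≤ ell (Finsupp.single P 1 : Divisor k K) := by omega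
  obtain ⟨x, hxL, hxk⟩ : ∃ x ∈ L (Finsupp.single P 1 : Divisor k K),
      x ∉ Set.range (algebraMap k K) := by
    by_contra hcon
    push Not at hcon
    have hle : L (Finsupp.single P 1 : Divisor k K) ≤ L 0 := by
      intro x hx
      rw [L_zero hK, Submodule.one_eq_range, LinearMap.mem_range]
      obtain ⟨c, hc⟩ := hcon x hx
      exact ⟨c, by rw [← hc]; simp [Algebra.linearMap_apply]⟩
    have := finiteDimensional_L hK (0 : Divisor k K)
    have h3 := Submodule.finrank_mono hle
    rw [← ell_def, ← ell_def, ell_zero hK] at h3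
    omega
  have hxt := transcendental_of_not_mem_range hK hxk
  have h4 := deg_mono (pdiv_le_of_mem_L hK hnonneg hxL)
  rw [deg_single, hP] at h4
  have h5 : (1 : ℤ) ≤ (pdiv (k := k) x).deg := by
    rw [deg_pdiv hK hxt]
    have := finiteDimensional_adjoin_simple hK hxt
    have : 0 < Module.finrank k⟮x⟯ K := Module.finrank_pos
    omega
  have h6 : (pdiv (k := k) x).deg = 1 := by simp at h4; omega
  have := genus_eq_zero_of_deg_pdiv hK hxt h6
  omega

/-- S11044 (with `deg P = 1` instead of algebraic closedness) -/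
theorem ell_sub_single_lt_ell (hK : IsFunctionField k K) (hg : 0 < genus k K)
    (D : Divisor k K) (hD : 2 * (genus k K : ℤ) ≤ D.deg ∨ IsCanonical k K D)
    (P : FunFld.Place k K) (hP : P.deg = 1) :
    ell (D - (Finsupp.single P 1 : Divisor k K)) < ell D := by
  have hdeg : (D - (Finsupp.single P 1 : Divisor k K)).deg = D.deg - 1 := by
    rw [deg_sub, deg_single, hP]; simp
  rcases hD with hD | hD
  · have h1 := ell_eq_of_deg_ge hK D (by omega)
    have h2 := ell_eq_of_deg_ge hK (D - (Finsupp.single P 1 : Divisor k K)) (by rw [hdeg]; omega)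
    rw [hdeg] at h2
    have : (ell (D - (Finsupp.single P 1 : Divisor k K)) : ℤ) < ell D := by rw [h1, h2]; omega
    exact_mod_cast this
  · have h1 := riemann_roch hK D hD (D - (Finsupp.single P 1 : Divisor k K))
    rw [sub_sub_cancel, ell_single_eq_one hK hg P hP, hdeg, deg_canonical hK hD] at h1
    have h2 := ell_canonical hK hD
    have : (ell (D - (Finsupp.single P 1 : Divisor k K)) : ℤ) < ell D := by
      rw [h1, h2]; push_cast; omega
    exact_mod_cast this

/-! ### gap numbers -/

/-- `m` is a gap number at `P` -/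
def IsGap (P : FunFld.Place k K) (m : ℕ) : Prop :=
  L (Finsupp.single P (m : ℤ) : Divisor k K) = L (Finsupp.single P ((m : ℤ) - 1))

theorem nP_mono (P : FunFld.Place k K) {m n : ℤ} (h : m ≤ n) : nP P m ≤ nP P n := by
  classical
  intro Q
  rw [nP, nP, Finsupp.single_apply, Finsupp.single_apply]
  split_ifs <;> simp [h]

theorem not_isGap_iff (P : FunFld.Place k K) (m : ℕ) :
    ¬ IsGap P m ↔ ∃ z : K, z ≠ 0 ∧ z ∈ L (nP P m) ∧ P.ord z = -(m : ℤ) := by
  classical
  constructor
  · intro h
    have hle : L (nP P ((m : ℤ) - 1)) ≤ L (nP P m) := L_mono (nP_mono P (by omega))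
    have hne : ¬ L (nP P m) ≤ L (nP P ((m : ℤ) - 1)) := fun hle' => h (le_antisymm hle' hle)
    obtain ⟨z, hzL, hz⟩ := SetLike.not_le_iff_exists.1 hne
    rw [← nP_sub_one] at hz
    obtain ⟨h1, h2⟩ := ord_eq_of_not_mem_L_sub P hzL hz
    rw [nP_apply_self] at h2
    exact ⟨z, h1, hzL, h2⟩
  · rintro ⟨z, hz0, hzL, hzo⟩ h
    have h1 : z ∉ L (nP P m - (Finsupp.single P 1 : Divisor k K)) :=
      not_mem_L_sub_of_ord_eq P hz0 (by rw [nP_apply_self, hzo])
    rw [nP_sub_one] at h1
    apply h1
    have h2 : L (nP P m) = L (nP P ((m : ℤ) - 1)) := h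
    rw [← h2]
    exact hzL

theorem not_isGap_add (P : FunFld.Place k K) {m m' : ℕ} (h : ¬ IsGap P m) (h' : ¬ IsGap P m') :
    ¬ IsGap P (m + m') := by
  rw [not_isGap_iff] at h h' ⊢
  obtain ⟨z, hz0, hzL, hzo⟩ := h
  obtain ⟨z', hz'0, hz'L, hz'o⟩ := h'
  refine ⟨z * z', mul_ne_zero hz0 hz'0, ?_, ?_⟩
  · have := mul_mem_L hzL hz'L
    rw [nP_add] at this
    exact_mod_cast this
  · rw [ord_mul P hz0 hz'0, hzo, hz'o]; push_cast; ring

open Classical in
/-- the number of gaps in `[1, n]` -/
noncomputable def gapCount (P : FunFld.Place k K) (n : ℕ) : ℕ :=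
  ((Finset.Icc 1 n).filter (IsGap P)).card

open Classical in
/-- S11045 (no hypotheses needed) -/
theorem sub_one_le_two_mul_card_gaps (P : FunFld.Place k K) (n : ℕ)
    (hgap : IsGap P n) :
    n - 1 ≤ 2 * ((Finset.Ico 1 n).filter (IsGap P)).card := by
  have h1 := Finset.card_filter_add_card_filter_not (s := Finset.Ico 1 n) (IsGap P)
  rw [Nat.card_Ico] at h1
  have h2 : ((Finset.Ico 1 n).filter (fun m => ¬ IsGap P m)).card ≤
      ((Finset.Ico 1 n).filter (IsGap P)).card := by
    apply Finset.card_le_card_of_injOn (fun m => n - m)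
    · intro m hm
      simp only [Finset.coe_filter, Finset.mem_Ico, Set.mem_ofPred_eq] at hm ⊢
      refine ⟨⟨by omega, by omega⟩, ?_⟩
      by_contra hng
      have := not_isGap_add P hm.2 hng
      rw [show m + (n - m) = n by omega] at this
      exact this hgap
    · intro m hm m' hm' hmm'
      simp only [Finset.coe_filter, Finset.mem_Ico, Set.mem_ofPred_eq] at hm hm'
      simp only at hmm'
      omega
  omega

theorem isGap_succ_iff (P : FunFld.Place k K) (n : ℕ) :
    IsGap P (n + 1) ↔ L (nP P ((n : ℤ) + 1)) = L (nP P (n : ℤ)) := by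
  unfold IsGap
  rw [Nat.cast_succ, add_sub_cancel_right]

open Classical in
theorem ell_nP_succ (hK : IsFunctionField k K) (P : FunFld.Place k K) (hP : P.deg = 1) (n : ℕ) :
    ell (nP P ((n : ℤ) + 1)) = ell (nP P (n : ℤ)) + (if IsGap P (n + 1) then 0 else 1) := by
  have hle : nP P (n : ℤ) ≤ nP P ((n : ℤ) + 1) := nP_mono P (by omega)
  split_ifs with h
  · rw [isGap_succ_iff] at h
    rw [ell_def, h, ell_def, add_zero]
  · rw [isGap_succ_iff] at h
    have h1 := ell_sub_ell_le hK hle
    rw [deg_nP, deg_nP, hP] at h1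
    have h2 : ell (nP P (n : ℤ)) < ell (nP P ((n : ℤ) + 1)) := by
      have := finiteDimensional_L hK (nP P ((n : ℤ) + 1))
      rw [ell_def, ell_def]
      apply Submodule.finrank_lt_finrank_of_lt
      exact lt_of_le_of_ne (L_mono hle) fun heq => h heq.symm
    push_cast at h1
    have : (ell (nP P (n : ℤ)) : ℤ) < ell (nP P ((n : ℤ) + 1)) := by exact_mod_cast h2
    omega

open Classical in
theorem gapCount_succ (P : FunFld.Place k K) (n : ℕ) :
    gapCount P (n + 1) = gapCount P n + (if IsGap P (n + 1) then 1 else 0) := by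
  unfold gapCount
  have : Finset.Icc 1 (n + 1) = insert (n + 1) (Finset.Icc 1 n) := by
    ext m; simp only [Finset.mem_Icc, Finset.mem_insert]; omega
  rw [this, Finset.filter_insert]
  split_ifs with h
  · rw [Finset.card_insert_of_notMem]
    simp
  · rfl

open Classical in
theorem ell_add_gapCount (hK : IsFunctionField k K) (P : FunFld.Place k K) (hP : P.deg = 1)
    (n : ℕ) : ell (nP P (n : ℤ)) + gapCount P n = n + 1 := by
  induction n with
  | zero =>
    have : nP P ((0 : ℕ) : ℤ) = 0 := by simp [nP]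
    rw [this, ell_zero hK]
    simp [gapCount]
  | succ n ih =>
    rw [Nat.cast_succ, ell_nP_succ hK P hP, gapCount_succ]
    split_ifs <;> omega

theorem gapCount_mono (P : FunFld.Place k K) {m n : ℕ} (h : m ≤ n) :
    gapCount P m ≤ gapCount P n := by
  classical
  unfold gapCount
  apply Finset.card_le_card
  apply Finset.filter_subset_filter
  intro x hx
  simp only [Finset.mem_Icc] at hx ⊢
  omega

theorem gapCount_eq_of_no_gaps (P : FunFld.Place k K) {m n : ℕ} (h : m ≤ n)
    (hno : ∀ i, m < i → i ≤ n → ¬ IsGap P i) : gapCount P n = gapCount P m := by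
  classical
  unfold gapCount
  congr 1
  ext x
  simp only [Finset.mem_filter, Finset.mem_Icc]
  constructor
  · rintro ⟨⟨h1, h2⟩, h3⟩
    refine ⟨⟨h1, ?_⟩, h3⟩
    by_contra hlt
    exact hno x (by omega) h2 h3
  · rintro ⟨⟨h1, h2⟩, h3⟩
    exact ⟨⟨h1, by omega⟩, h3⟩

/-- the total number of gaps is the genus -/
theorem gapCount_eq_genus (hK : IsFunctionField k K) (P : FunFld.Place k K) (hP : P.deg = 1)
    {n : ℕ} (hn : 2 * (genus k K : ℤ) - 1 ≤ n) : gapCount P n = genus k K := by
  have h1 := ell_add_gapCount hK P hP n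
  have h2 := ell_eq_of_deg_ge hK (nP P (n : ℤ)) (by rw [deg_nP, hP]; simpa using hn)
  rw [deg_nP, hP] at h2
  have : (ell (nP P (n : ℤ)) : ℤ) + gapCount P n = n + 1 := by exact_mod_cast h1
  have : (gapCount P n : ℤ) = genus k K := by
    rw [h2] at this; push_cast at this; linarith
  exact_mod_cast this

/-- if there is a gap beyond `n`, at least half of `[1,n]` are gaps -/
theorem le_two_mul_gapCount_of_exists (P : FunFld.Place k K) (n : ℕ)
    (h : ∃ n', n < n' ∧ IsGap P n') : n ≤ 2 * gapCount P n := by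
  classical
  have hn' := Nat.find_spec h
  have hmin := fun m => Nat.find_min (H := h) (m := m)
  set n' := Nat.find h with hn'def
  have h1 := sub_one_le_two_mul_card_gaps P n' hn'.2
  have h2 : (Finset.Ico 1 n').filter (IsGap P) = (Finset.Icc 1 n).filter (IsGap P) := by
    ext x
    simp only [Finset.mem_filter, Finset.mem_Ico, Finset.mem_Icc]
    constructor
    · rintro ⟨⟨h3, h4⟩, h5⟩
      refine ⟨⟨h3, ?_⟩, h5⟩
      by_contra hlt
      exact hmin x h4 ⟨by omega, h5⟩
    · rintro ⟨⟨h3, h4⟩, h5⟩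
      exact ⟨⟨h3, by omega⟩, h5⟩
  rw [h2] at h1
  unfold gapCount
  omega

theorem gapCount_eq_genus_of_no_gaps (hK : IsFunctionField k K) (P : FunFld.Place k K)
    (hP : P.deg = 1) (n : ℕ) (h : ¬ ∃ n', n < n' ∧ IsGap P n') : gapCount P n = genus k K := by
  push Not at h
  have h1 := gapCount_eq_of_no_gaps P (m := n) (n := n + 2 * genus k K) (by omega)
    (fun i hi _ => h i hi)
  rw [← h1]
  apply gapCount_eq_genus hK P hP
  push_cast; omega

/-- S11046 (with `deg P = 1`) -/
theorem two_mul_ell_multiple_le (hK : IsFunctionField k K) (P : FunFld.Place k K)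
    (hP : P.deg = 1) (n : ℕ) (hn : (n : ℤ) ≤ 2 * (genus k K : ℤ) - 2) :
    2 * ell (nP P (n : ℤ)) ≤ n + 2 := by
  have h1 := ell_add_gapCount hK P hP n
  by_cases h : ∃ n', n < n' ∧ IsGap P n'
  · have := le_two_mul_gapCount_of_exists P n h
    omega
  · have := gapCount_eq_genus_of_no_gaps hK P hP n h
    omega

/-- S11063 (with `deg P = 1`) -/
theorem le_gapCount (hK : IsFunctionField k K) (P : FunFld.Place k K)
    (hP : P.deg = 1) (l : ℕ) (hl : 1 ≤ l) (hlg : l ≤ genus k K) :
    l ≤ gapCount P (2 * l - 1) := by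
  by_cases h : ∃ n', 2 * l - 1 < n' ∧ IsGap P n'
  · have := le_two_mul_gapCount_of_exists P (2 * l - 1) h
    omega
  · have := gapCount_eq_genus_of_no_gaps hK P hP (2 * l - 1) h
    omega

open Classical in
theorem ncard_gaps_Icc (P : FunFld.Place k K) (n : ℕ) :
    Set.ncard {m : ℕ | 1 ≤ m ∧ m ≤ n ∧ IsGap P m} = gapCount P n := by
  unfold gapCount
  rw [← Set.ncard_coe_finset]
  congr 1
  ext m
  simp [and_assoc]

open Classical in
theorem ncard_gaps_Ico (P : FunFld.Place k K) (n : ℕ) :
    Set.ncard {m : ℕ | 1 ≤ m ∧ m < n ∧ IsGap P m} =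
      ((Finset.Ico 1 n).filter (IsGap P)).card := by
  rw [← Set.ncard_coe_finset]
  congr 1
  ext m
  simp [and_assoc]

end Groth.Agent.Lib.Helper2.FF
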