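import Mathlib
import Groth.Agent.Lib.Helper2.FunFld.Gaps

set_option autoImplicit false
open scoped WithZero IntermediateField NNReal
open FunFld Polynomial
open Groth.Agent.Lib.Helper2.RelDim

namespace Groth.Agent.Lib.Helper2.FF

variable {k K : Type*} [Field k] [Field K] [Algebra k K]

/-- two places with `m_P ⊆ m_Q` are equal -/
theorem place_eq_of_lt_one_imp {P Q : FunFld.Place k K}
    (h : ∀ z : K, v P z < 1 → v Q z < 1) : P = Q := by
  by_contra hne
  obtain ⟨y, -, hy⟩ := exists_ord_eq (fun b : Bool => if b then P else Q)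
    (by
      intro a b hab
      cases a <;> cases b <;> simp_all) (fun b => if b then -1 else 0)
  have h1 := hy true
  have h2 := hy false
  simp only [if_true] at h1
  simp only [Bool.false_eq_true, if_false, WithZero.exp_zero] at h2
  have h3 : v P y < 1 := by
    rw [h1, ← WithZero.exp_zero, WithZero.exp_lt_exp]; omega
  have := h y h3
  rw [h2] at this
  exact lt_irrefl _ this

/-- pullback of a place along an automorphism -/
noncomputable def comapPlace (σ : K ≃ₐ[k] K) (P : FunFld.Place k K) : FunFld.Place k K :=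
  ⟨P.1.comap (σ : K →+* K), fun c => by
      rw [Valuation.comap_apply]
      have : (σ : K →+* K) (algebraMap k K c) = algebraMap k K c := σ.commutes c
      rw [this]
      exact P.2.1 c,
    fun γ => by
      obtain ⟨z, hz⟩ := P.2.2 γ
      refine ⟨σ.symm z, ?_⟩
      rw [Valuation.comap_apply]
      have : (σ : K →+* K) (σ.symm z) = z := σ.apply_symm_apply z
      rw [this, hz]⟩

theorem v_comapPlace (σ : K ≃ₐ[k] K) (P : FunFld.Place k K) (z : K) :
    v (comapPlace σ P) z = v P (σ z) := rfl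

theorem comapPlace_symm_comapPlace (σ : K ≃ₐ[k] K) (P : FunFld.Place k K) :
    comapPlace σ.symm (comapPlace σ P) = P := by
  apply place_eq_of_lt_one_imp
  intro z hz
  rw [v_comapPlace, v_comapPlace, AlgEquiv.apply_symm_apply] at hz
  exact hz

theorem comapPlace_comapPlace_symm (σ : K ≃ₐ[k] K) (P : FunFld.Place k K) :
    comapPlace σ (comapPlace σ.symm P) = P := by
  apply place_eq_of_lt_one_imp
  intro z hz
  rw [v_comapPlace, v_comapPlace, AlgEquiv.symm_apply_apply] at hz
  exact hz

/-- `P` is fixed by `σ` -/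
def IsFixedPlace (σ : K ≃ₐ[k] K) (P : FunFld.Place k K) : Prop :=
  ∀ x : K, P.1 x < 1 → P.1 (σ x) < 1

theorem isFixedPlace_iff (σ : K ≃ₐ[k] K) (P : FunFld.Place k K) :
    IsFixedPlace σ P ↔ comapPlace σ P = P := by
  constructor
  · intro h
    symm
    apply place_eq_of_lt_one_imp
    intro z hz
    rw [v_comapPlace]
    exact h z hz
  · intro h z hz
    have : v (comapPlace σ P) z < 1 := by rw [h]; exact hz
    exact this

theorem exists_mem_L_not_mem_range (hK : IsFunctionField k K) {D : Divisor k K}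
    (h : 2 ≤ ell D) : ∃ x ∈ L D, x ∉ Set.range (algebraMap k K) := by
  by_contra hcon
  push Not at hcon
  have hle : L D ≤ L 0 := by
    intro x hx
    rw [L_zero hK, Submodule.one_eq_range, LinearMap.mem_range]
    obtain ⟨c, hc⟩ := hcon x hx
    exact ⟨c, by rw [← hc]; simp [Algebra.linearMap_apply]⟩
  have := finiteDimensional_L hK (0 : Divisor k K)
  have h3 := Submodule.finrank_mono hle
  rw [← ell_def, ← ell_def, ell_zero hK] at h3
  omega

theorem deg_zdiv_eq_deg_pdiv (hK : IsFunctionField k K) (y : K) :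
    (zdiv (k := k) y).deg = (pdiv (k := k) y).deg := by
  have h1 := deg_div hK y
  rw [div_eq_zdiv_sub_pdiv hK, deg_sub] at h1
  omega

theorem card_le_deg_zdiv (hK : IsFunctionField k K) {y : K} (hy : y ≠ 0)
    (Z : Finset (FunFld.Place k K)) (hZ : ∀ Q ∈ Z, v Q y < 1) :
    (Z.card : ℤ) ≤ (zdiv (k := k) y).deg := by
  classical
  have hle : (∑ Q ∈ Z, (Finsupp.single Q 1 : Divisor k K)) ≤ zdiv y := by
    intro Q
    rw [Finsupp.coe_finsetSum, Finset.sum_apply, zdiv_apply hK]
    by_cases hQ : Q ∈ Z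
    · rw [Finset.sum_eq_single Q]
      · rw [Finsupp.single_eq_same]
        have := (v_lt_one_iff Q hy).1 (hZ Q hQ)
        exact le_max_of_le_left (by omega)
      · intro R _ hR
        rw [Finsupp.single_apply, if_neg hR]
      · intro h; exact absurd hQ h
    · rw [Finset.sum_eq_zero]
      · exact le_max_right _ _
      · intro R hR
        rw [Finsupp.single_apply, if_neg (fun h : R = Q => hQ (h ▸ hR))]
  have h1 := deg_mono hle
  rw [deg_sum] at h1
  refine le_trans ?_ h1
  calc (Z.card : ℤ) = ∑ Q ∈ Z, (1 : ℤ) := by simp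
    _ ≤ ∑ Q ∈ Z, Divisor.deg (Finsupp.single Q 1 : Divisor k K) := by
        apply Finset.sum_le_sum
        intro Q _
        rw [deg_single, one_mul]
        exact_mod_cast deg_pos Q hK

/-- if every place is fixed by `σ` then `σ = 1` (infinite constant field) -/
theorem eq_one_of_forall_fixed [Infinite k] (hK : IsFunctionField k K) (σ : K ≃ₐ[k] K)
    (h : ∀ P : FunFld.Place k K, IsFixedPlace σ P) : σ = 1 := by
  ext x
  change σ x = x
  by_contra hne
  have hxk : x ∉ Set.range (algebraMap k K) := by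
    rintro ⟨c, rfl⟩
    exact hne (σ.commutes c)
  have hy : σ x - x ≠ 0 := sub_ne_zero.2 hne
  have hyt : ∀ c : k, Transcendental k (x - algebraMap k K c) := by
    intro c
    apply transcendental_of_not_mem_range hK
    rintro ⟨d, hd⟩
    exact hxk ⟨d + c, by rw [map_add, hd]; ring⟩
  choose Q hQ using fun c => exists_place_lt_one hK (hyt c)
  have hQinj : Function.Injective Q := by
    intro c c' hcc'
    by_contra hne'
    have h1 := hQ c
    have h2 := hQ c'
    rw [← hcc'] at h2
    have h3 : v (Q c) (algebraMap k K (c' - c)) < 1 := by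
      have : algebraMap k K (c' - c) = (x - algebraMap k K c) - (x - algebraMap k K c') := by
        rw [map_sub]; ring
      rw [this]
      exact lt_of_le_of_lt (Valuation.map_sub _ _ _) (max_lt h1 h2)
    rw [v_algebraMap (Q c) (sub_ne_zero.2 (Ne.symm hne'))] at h3
    exact lt_irrefl _ h3
  have hzero : ∀ c, v (Q c) (σ x - x) < 1 := by
    intro c
    have h1 := hQ c
    have h2 : v (Q c) (σ (x - algebraMap k K c)) < 1 := h (Q c) _ h1
    rw [map_sub, σ.commutes] at h2
    have : σ x - x = (σ x - algebraMap k K c) - (x - algebraMap k K c) := by ring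
    rw [this]
    exact lt_of_le_of_lt (Valuation.map_sub _ _ _) (max_lt h2 h1)
  -- infinitely many zeros
  have hinf : {P : FunFld.Place k K | v P (σ x - x) < 1}.Infinite :=
    Set.infinite_of_injective_forall_mem hQinj hzero
  apply hinf
  refine (finite_support_ord hK (σ x - x)).subset fun P hP => ?_
  simp only [Set.mem_ofPred_eq] at hP
  simp only [Function.mem_support]
  have := (v_lt_one_iff P hy).1 hP
  omega


theorem not_isFixedPlace_comapPlace_symm {σ : K ≃ₐ[k] K} {P : FunFld.Place k K}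
    (h : ¬ IsFixedPlace σ P) : ¬ IsFixedPlace σ (comapPlace σ.symm P) := by
  intro h2
  apply h
  intro w hw
  have h3 := h2 (σ w) (by
    change v (comapPlace σ.symm P) (σ w) < 1
    rw [v_comapPlace, AlgEquiv.symm_apply_apply]; exact hw)
  change v (comapPlace σ.symm P) (σ (σ w)) < 1 at h3
  rw [v_comapPlace, AlgEquiv.symm_apply_apply] at h3
  exact h3

/-- S11047 (places of degree one, infinite constant field) -/
theorem card_fixed_le (hK : IsFunctionField k K) [Infinite k]
    (hdeg : ∀ P : FunFld.Place k K, P.deg = 1) (σ : K ≃ₐ[k] K) (hσ : σ ≠ 1)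
    (Z : Finset (FunFld.Place k K)) (hZ : ∀ Q ∈ Z, IsFixedPlace σ Q) :
    Z.card ≤ 2 * genus k K + 2 := by
  classical
  -- a non-fixed place
  obtain ⟨P₁, hP₁⟩ : ∃ P₁ : FunFld.Place k K, ¬ IsFixedPlace σ P₁ := by
    by_contra hcon
    push Not at hcon
    exact hσ (eq_one_of_forall_fixed hK σ hcon)
  set g := genus k K with hg
  set P₂ := comapPlace σ.symm P₁ with hP₂def
  have hP₂ : ¬ IsFixedPlace σ P₂ := not_isFixedPlace_comapPlace_symm hP₁
  have hP₁₂ : P₂ ≠ P₁ := by
    intro heq
    apply hP₁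
    rw [isFixedPlace_iff]
    have := comapPlace_comapPlace_symm σ P₁
    rw [← hP₂def, heq] at this
    exact this
  -- a nonconstant function with poles only at `P₁`
  have hell : 2 ≤ ell (nP P₁ ((g + 1 : ℕ) : ℤ)) := by
    have h1 := delta_le_genus hK (nP P₁ ((g + 1 : ℕ) : ℤ))
    rw [deg_nP, hdeg P₁] at h1
    have : (2 : ℤ) ≤ ell (nP P₁ ((g + 1 : ℕ) : ℤ)) := by push_cast at h1 ⊢; omega
    exact_mod_cast this
  obtain ⟨x, hxL, hxk⟩ := exists_mem_L_not_mem_range hK hell
  have hσxL : σ x ∈ L (nP P₂ ((g + 1 : ℕ) : ℤ)) := by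
    intro Q
    have h1 : v Q (σ x) = v (comapPlace σ Q) x := rfl
    change v Q (σ x) ≤ _
    rw [h1]
    refine le_trans (hxL (comapPlace σ Q)) ?_
    rw [WithZero.exp_le_exp, nP, nP, Finsupp.single_apply, Finsupp.single_apply]
    by_cases hQ : P₁ = comapPlace σ Q
    · have : P₂ = Q := by rw [hP₂def, hQ, comapPlace_symm_comapPlace]
      rw [if_pos hQ, if_pos this]
    · rw [if_neg hQ]
      split_ifs
      · exact Int.natCast_nonneg _
      · exact le_rfl
  have hnn₁ : (0 : Divisor k K) ≤ nP P₁ ((g + 1 : ℕ) : ℤ) := by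
    intro Q; rw [nP, Finsupp.single_apply]; split_ifs
    · exact Int.natCast_nonneg _
    · exact le_rfl
  have hnn₂ : (0 : Divisor k K) ≤ nP P₂ ((g + 1 : ℕ) : ℤ) := by
    intro Q; rw [nP, Finsupp.single_apply]; split_ifs
    · exact Int.natCast_nonneg _
    · exact le_rfl
  set D : Divisor k K := nP P₁ ((g + 1 : ℕ) : ℤ) + nP P₂ ((g + 1 : ℕ) : ℤ) with hD
  have hyL : σ x - x ∈ L D :=
    (L D).sub_mem (L_mono (le_add_of_nonneg_left hnn₁) hσxL)
      (L_mono (le_add_of_nonneg_right hnn₂) hxL)
  have hy : σ x - x ≠ 0 := by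
    intro h0
    have hσx : σ x = x := sub_eq_zero.1 h0
    rw [hσx] at hσxL
    apply hxk
    have : x ∈ L (0 : Divisor k K) := by
      intro Q
      by_cases hQ : Q = P₁
      · have := hσxL Q
        rw [nP, Finsupp.single_apply, if_neg (by rw [hQ]; exact hP₁₂)] at this
        exact this
      · have := hxL Q
        rw [nP, Finsupp.single_apply, if_neg (Ne.symm hQ)] at this
        exact this
    rw [L_zero hK, Submodule.one_eq_range, LinearMap.mem_range] at this
    obtain ⟨c, hc⟩ := this
    exact ⟨c, hc⟩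
  have hDdeg : D.deg = 2 * g + 2 := by
    rw [hD, deg_add, deg_nP, deg_nP, hdeg, hdeg]; push_cast; ring
  have h1 := deg_mono (pdiv_le_of_mem_L hK (add_nonneg hnn₁ hnn₂) hyL)
  rw [← deg_zdiv_eq_deg_pdiv hK, hDdeg] at h1
  have h2 := card_le_deg_zdiv hK hy Z (fun Q hQ => by
    have hfix := hZ Q hQ
    have hQ₁ : Q ≠ P₁ := fun h => hP₁ (h ▸ hfix)
    have hQ₂ : Q ≠ P₂ := fun h => hP₂ (h ▸ hfix)
    have hx1 : v Q x ≤ 1 := by
      have := hxL Q
      rw [nP, Finsupp.single_apply, if_neg (Ne.symm hQ₁)] at this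
      simpa using this
    obtain ⟨c, hc⟩ := exists_sub_lt_one Q (hdeg Q) hx1
    have h2 : v Q (σ (x - algebraMap k K c)) < 1 := hfix _ hc
    rw [map_sub, σ.commutes] at h2
    have : σ x - x = (σ x - algebraMap k K c) - (x - algebraMap k K c) := by ring
    rw [this]
    exact lt_of_le_of_lt (Valuation.map_sub _ _ _) (max_lt h2 hc))
  have : (Z.card : ℤ) ≤ 2 * g + 2 := le_trans h2 h1
  exact_mod_cast this

theorem algEquiv_eq_one_of_fixed [IsAlgClosed k] (hK : IsFunctionField k K) (σ : K ≃ₐ[k] K)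
    (h : ((2 * genus k K + 2 : ℕ) : ℕ∞) <
      Set.encard {P : FunFld.Place k K | ∀ x : K, P.1 x < 1 → P.1 (σ x) < 1}) :
    σ = 1 := by
  by_contra hσ
  have : Infinite k := IsAlgClosed.instInfinite
  obtain ⟨Z, hZsub, hZcard⟩ := Set.exists_subset_encard_eq (Order.add_one_le_of_lt h)
  have hZfin : Z.Finite := by
    apply Set.finite_of_encard_eq_coe (k := 2 * genus k K + 2 + 1)
    rw [hZcard]; norm_cast
  have h1 := card_fixed_le hK (fun P => deg_eq_one_of_isAlgClosed hK P) σ hσ hZfin.toFinset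
    (fun Q hQ => hZsub (hZfin.mem_toFinset.1 hQ))
  have h2 : (hZfin.toFinset.card : ℕ∞) = Z.encard := by
    rw [← Set.encard_coe_eq_coe_finsetCard, Set.Finite.coe_toFinset]
  rw [hZcard] at h2
  have h3 : hZfin.toFinset.card = 2 * genus k K + 2 + 1 := by exact_mod_cast h2
  omega

end Groth.Agent.Lib.Helper2.FF
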