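import Mathlib
import Groth.Agent.Lib.Helper2.FunFld.Aut

set_option autoImplicit false
open scoped WithZero IntermediateField NNReal
open FunFld Polynomial
open Groth.Agent.Lib.Helper2.RelDim

namespace Groth.Agent.Lib.Helper2.FF

variable {k K : Type*} [Field k] [Field K] [Algebra k K]

/-- nonzero elements with pairwise distinct valuations at a place are linearly independent
over the constants -/
theorem linearIndependent_of_v_injective (P : FunFld.Place k K) {ι : Type*} [Fintype ι]
    (z : ι → K) (hz : ∀ i, z i ≠ 0) (hinj : Function.Injective (fun i => v P (z i))) :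
    LinearIndependent k z := by
  classical
  rw [Fintype.linearIndependent_iff]
  intro c hc
  by_contra hcon
  push Not at hcon
  set S : Finset ι := Finset.univ.filter (fun i => c i ≠ 0) with hS
  have hSne : S.Nonempty := by
    obtain ⟨i, hi⟩ := hcon
    exact ⟨i, by simp [hS, hi]⟩
  obtain ⟨i₀, hi₀S, hmax⟩ := Finset.exists_max_image S (fun i => v P (z i)) hSne
  have hci₀ : c i₀ ≠ 0 := by simpa [hS] using hi₀S
  have hsplit : ∑ i, c i • z i = c i₀ • z i₀ + ∑ i ∈ Finset.univ.erase i₀, c i • z i := by
    exact (Finset.add_sum_erase Finset.univ (fun i => c i • z i) (Finset.mem_univ i₀)).symm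
  have hlt : v P (∑ i ∈ Finset.univ.erase i₀, c i • z i) < v P (z i₀) := by
    apply Valuation.map_sum_lt _ ((Valuation.ne_zero_iff _).2 (hz i₀))
    intro i hi
    have hne : i ≠ i₀ := Finset.ne_of_mem_erase hi
    by_cases hci : c i = 0
    · rw [hci, zero_smul, map_zero]
      exact zero_lt_iff.2 ((Valuation.ne_zero_iff _).2 (hz i₀))
    · rw [v_smul P _ _ hci]
      have hiS : i ∈ S := by simp [hS, hci]
      exact lt_of_le_of_ne (hmax i hiS) (fun h => hne (hinj h))
  have h1 : c i₀ • z i₀ = -∑ i ∈ Finset.univ.erase i₀, c i • z i := by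
    rw [eq_neg_iff_add_eq_zero, ← hsplit, hc]
  have h2 : v P (c i₀ • z i₀) = v P (z i₀) := v_smul P _ _ hci₀
  rw [h1, Valuation.map_neg] at h2
  rw [h2] at hlt
  exact lt_irrefl _ hlt

theorem linearIndependent_of_ord_injective (P : FunFld.Place k K) {ι : Type*} [Fintype ι]
    (z : ι → K) (hz : ∀ i, z i ≠ 0) (hinj : Function.Injective (fun i => P.ord (z i))) :
    LinearIndependent k z := by
  apply linearIndependent_of_v_injective P z hz
  intro i j hij
  apply hinj
  simp only at hij ⊢
  rw [v_eq_exp_neg_ord P (hz i), v_eq_exp_neg_ord P (hz j), WithZero.exp_inj] at hij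
  omega

/-- S19396 -/
theorem basis_L_genus_one (hK : IsFunctionField k K) (hgen : genus k K = 1)
    (P : FunFld.Place k K) (hP : P.deg = 1) (f g : K)
    (hf : f ∈ L (Finsupp.single P 2 : Divisor k K)) (hf2 : P.ord f = -2)
    (hg : g ∈ L (Finsupp.single P 3 : Divisor k K)) (hg3 : P.ord g = -3) (n : ℕ) (hn : 2 ≤ n) :
    LinearIndependent k
        (Sum.elim (fun i : Fin (n / 2 + 1) => f ^ (i : ℕ))
          (fun i : Fin ((n - 1) / 2) => f ^ (i : ℕ) * g)) ∧
      Submodule.span k (Set.range
        (Sum.elim (fun i : Fin (n / 2 + 1) => f ^ (i : ℕ))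
          (fun i : Fin ((n - 1) / 2) => f ^ (i : ℕ) * g))) =
        L (Finsupp.single P (n : ℤ) : Divisor k K) := by
  classical
  have hf0 : f ≠ 0 := by
    rintro rfl; rw [ord_zero] at hf2; omega
  have hg0 : g ≠ 0 := by
    rintro rfl; rw [ord_zero] at hg3; omega
  set z : Fin (n / 2 + 1) ⊕ Fin ((n - 1) / 2) → K :=
    Sum.elim (fun i : Fin (n / 2 + 1) => f ^ (i : ℕ))
      (fun i : Fin ((n - 1) / 2) => f ^ (i : ℕ) * g) with hzdef
  have hz0 : ∀ i, z i ≠ 0 := by
    rintro (i | i)
    · exact pow_ne_zero _ hf0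
    · exact mul_ne_zero (pow_ne_zero _ hf0) hg0
  have hord : ∀ i, P.ord (z i) = Sum.elim (fun i : Fin (n / 2 + 1) => -(2 * (i : ℤ)))
      (fun i : Fin ((n - 1) / 2) => -(2 * (i : ℤ) + 3)) i := by
    rintro (i | i)
    · simp only [hzdef, Sum.elim_inl, ord_pow, hf2]; ring
    · simp only [hzdef, Sum.elim_inr]
      rw [ord_mul P (pow_ne_zero _ hf0) hg0, ord_pow, hf2, hg3]; ring
  have hli : LinearIndependent k z := by
    apply linearIndependent_of_ord_injective P z hz0
    intro i j hij
    simp only [hord] at hij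
    rcases i with i | i <;> rcases j with j | j <;> simp only [Sum.elim_inl, Sum.elim_inr] at hij
    · congr 1; ext; omega
    · omega
    · omega
    · congr 1; ext; omega
  refine ⟨hli, ?_⟩
  have hmem : ∀ i, z i ∈ L (nP P (n : ℤ)) := by
    rintro (i | i)
    · have h1 := pow_mem_L hf (i : ℕ)
      rw [show (Finsupp.single P 2 : Divisor k K) = nP P 2 from rfl, nsmul_nP] at h1
      refine L_mono (nP_mono P ?_) h1
      have := i.2
      omega
    · have h1 := mul_mem_L (pow_mem_L hf (i : ℕ)) hg
      rw [show (Finsupp.single P 2 : Divisor k K) = nP P 2 from rfl, nsmul_nP,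
        show (Finsupp.single P 3 : Divisor k K) = nP P 3 from rfl, nP_add] at h1
      refine L_mono (nP_mono P ?_) h1
      have := i.2
      omega
  have hle : Submodule.span k (Set.range z) ≤ L (nP P (n : ℤ)) := by
    rw [Submodule.span_le]
    rintro _ ⟨i, rfl⟩
    exact hmem i
  have := finiteDimensional_L hK (nP P (n : ℤ))
  apply Submodule.eq_of_le_of_finrank_eq hle
  rw [finrank_span_eq_card hli, ← ell_def, ell_nP_genus_one hK hgen P hP (by omega)]
  simp only [Fintype.card_sum, Fintype.card_fin]
  omega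

end Groth.Agent.Lib.Helper2.FF
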