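import Mathlib
import Groth.Agent.Lib.Helper2.FunFld.OrdIndep

set_option autoImplicit false
open scoped WithZero IntermediateField NNReal
open FunFld Polynomial
open Groth.Agent.Lib.Helper2.RelDim
open IntermediateField.algebraAdjoinAdjoin

namespace Groth.Agent.Lib.Helper2.FF

section Val

variable {k K : Type*} [Field k] [Field K] [Algebra k K]
variable {Γ : Type*} [LinearOrderedCommGroupWithZero Γ] (w : Valuation K Γ)

/-- a valuation trivial on `k` is `≤ 1` on every element algebraic over `k` -/
theorem w_le_one_of_isAlgebraic (hk : ∀ c : k, w (algebraMap k K c) ≤ 1) {y : K}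
    (hy : IsAlgebraic k y) : w y ≤ 1 := by
  by_contra hlt
  push Not at hlt
  have hy0 : y ≠ 0 := by
    rintro rfl; simp at hlt
  have hint : IsIntegral k y := hy.isIntegral
  obtain ⟨p, hpm, hp⟩ := hint
  have hinv : w y⁻¹ < 1 := by
    rw [map_inv₀]
    exact inv_lt_one_of_one_lt₀ hlt
  have h1 : aeval y⁻¹ p.reverse = 0 := by
    let _ := invertibleOfNonzero hy0
    have h2 := Polynomial.eval₂_reverse_mul_pow (algebraMap k K) y p
    rw [hp, ← Polynomial.aeval_def, invOf_eq_inv] at h2
    have h3 : y ^ p.natDegree ≠ 0 := pow_ne_zero _ hy0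
    exact (mul_eq_zero.1 h2).resolve_right h3
  have h4 := w_aeval_sub_coeff_le w hk hinv.le p.reverse
  rw [h1, Polynomial.coeff_zero_reverse, hpm.leadingCoeff, map_one, zero_sub,
    Valuation.map_neg, map_one] at h4
  exact absurd (lt_of_le_of_lt h4 hinv) (lt_irrefl _)

theorem w_eq_one_of_isAlgebraic (hk : ∀ c : k, w (algebraMap k K c) ≤ 1) {y : K}
    (hy : IsAlgebraic k y) (hy0 : y ≠ 0) : w y = 1 := by
  apply le_antisymm (w_le_one_of_isAlgebraic w hk hy)
  have h1 := w_le_one_of_isAlgebraic w hk hy.inv
  rw [map_inv₀] at h1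
  exact (inv_le_one₀ (zero_lt_iff.2 ((Valuation.ne_zero_iff _).2 hy0))).1 h1

end Val


section Disjoint

variable {F E : Type*} [Field F] [Field E] [Algebra F E]

/-- elements of an intermediate field `L` that are `F`-linearly independent stay linearly
independent over `F(x)` when `x` is transcendental over `L` -/
theorem linearIndependent_adjoin_of_transcendental (L : IntermediateField F E) {x : E}
    (hx : Transcendental L x) {ι : Type*} [Fintype ι] (c : ι → L)
    (hc : LinearIndependent F c) : LinearIndependent F⟮x⟯ (fun i => (c i : E)) := by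
  classical
  rw [← LinearIndependent.iff_fractionRing (Algebra.adjoin F ({x} : Set E)) F⟮x⟯]
  rw [Fintype.linearIndependent_iff]
  intro g hg i
  have hg' : ∀ i, ∃ q : F[X], aeval x q = (g i : E) := fun i => by
    have h1 : ((g i : Algebra.adjoin F ({x} : Set E)) : E) ∈ (aeval (R := F) x).range := by
      rw [← Algebra.adjoin_singleton_eq_range_aeval]
      exact (g i).2
    exact h1
  choose q hq using hg'
  have hsum : ∑ i, aeval x (q i) * (c i : E) = 0 := by
    rw [← hg]
    refine Finset.sum_congr rfl fun i _ => ?_
    rw [hq i]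
    rfl
  -- the polynomial over `L`
  have hpoly : (∑ i, C (c i) * (q i).map (algebraMap F L) : L[X]) = 0 := by
    apply (transcendental_iff.1 hx)
    rw [map_sum, ← hsum]
    refine Finset.sum_congr rfl fun i _ => ?_
    rw [map_mul, aeval_C, aeval_map_algebraMap, mul_comm]
    rfl
  have hcoeff : ∀ d : ℕ, ∀ i, (q i).coeff d = 0 := by
    intro d
    have h1 := congrArg (fun p => p.coeff d) hpoly
    simp only [finsetSum_coeff, coeff_C_mul, coeff_map, coeff_zero] at h1
    have h2 : ∑ i, (q i).coeff d • c i = 0 := by
      rw [← h1]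
      refine Finset.sum_congr rfl fun i _ => ?_
      rw [Algebra.smul_def, mul_comm]
    exact Fintype.linearIndependent_iff.1 hc _ h2
  have hq0 : q i = 0 := by
    ext d
    rw [hcoeff d i, coeff_zero]
  apply Subtype.ext
  rw [← hq i, hq0, map_zero]
  rfl

end Disjoint


section Const

variable {k K' : Type*} [Field k] [Field K'] [Algebra k K']

/-- the field of constants of `K'/k` -/
abbrev KC (k K' : Type*) [Field k] [Field K'] [Algebra k K'] : IntermediateField k K' :=
  algebraicClosure k K'

/-- the weak function-field hypothesis: `k` need not be algebraically closed in `K'` -/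
def IsFFw (k K' : Type*) [Field k] [Field K'] [Algebra k K'] : Prop :=
  ∃ x : K', Transcendental k x ∧ FiniteDimensional k⟮x⟯ K'

theorem transcendental_KC {x : K'} (hx : Transcendental k x) : Transcendental (KC k K') x :=
  fun h => hx (IsAlgebraic.restrictScalars k h)

theorem finiteDimensional_KC_adjoin (x : K') [FiniteDimensional k⟮x⟯ K'] :
    FiniteDimensional (KC k K')⟮x⟯ K' := by
  have hle : k⟮x⟯ ≤ ((KC k K')⟮x⟯).restrictScalars k := by
    rw [IntermediateField.adjoin_simple_le_iff]
    exact IntermediateField.mem_adjoin_simple_self (KC k K') x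
  let _ := (IntermediateField.inclusion hle).toRingHom.toAlgebra
  have : IsScalarTower k⟮x⟯ (((KC k K')⟮x⟯).restrictScalars k) K' :=
    IsScalarTower.of_algebraMap_eq fun _ => rfl
  exact Module.Finite.of_restrictScalars_finite k⟮x⟯ (((KC k K')⟮x⟯).restrictScalars k) K'

theorem isFunctionField_KC (h : IsFFw k K') : IsFunctionField (KC k K') K' := by
  obtain ⟨x, hx, hfin⟩ := h
  refine ⟨⟨x, transcendental_KC hx, finiteDimensional_KC_adjoin x⟩, ?_⟩
  intro y hy
  have h1 : IsAlgebraic k y := IsAlgebraic.restrictScalars k hy
  exact ⟨⟨y, mem_algebraicClosure_iff.2 h1⟩, rfl⟩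

theorem finiteDimensional_KC (h : IsFFw k K') : FiniteDimensional k (KC k K') := by
  obtain ⟨x, hx, hfin⟩ := h
  have hxc := transcendental_KC hx
  apply Module.rank_lt_aleph0_iff.1
  have : Module.rank k (KC k K') ≤ (Module.finrank k⟮x⟯ K' : Cardinal) := by
    apply rank_le
    intro s hs
    have hli : LinearIndependent k (fun i : s => (i : KC k K')) := hs
    have h2 := (linearIndependent_adjoin_of_transcendental (KC k K') hxc
      (fun i : s => (i : KC k K')) hli).fintype_card_le_finrank
    simpa using h2
  exact lt_of_le_of_lt this Cardinal.natCast_lt_aleph0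

theorem linearDisjoint_adjoin_KC (h : IsFFw k K') {x : K'} (hx : Transcendental k x) :
    (k⟮x⟯).LinearDisjoint (KC k K') := by
  have := finiteDimensional_KC h
  have hxc := transcendental_KC hx
  let b := Module.finBasis k (KC k K')
  apply IntermediateField.LinearDisjoint.of_basis_right' b
  exact linearIndependent_adjoin_of_transcendental (KC k K') hxc (fun i => b i) b.linearIndependent

theorem adjoin_KC_adjoin (x : K') :
    IntermediateField.adjoin (KC k K') ((k⟮x⟯ : IntermediateField k K') : Set K') =
      (KC k K')⟮x⟯ := by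
  apply le_antisymm
  · rw [IntermediateField.adjoin_le_iff]
    have hle : k⟮x⟯ ≤ ((KC k K')⟮x⟯).restrictScalars k := by
      rw [IntermediateField.adjoin_simple_le_iff]
      exact IntermediateField.mem_adjoin_simple_self (KC k K') x
    exact hle
  · rw [IntermediateField.adjoin_simple_le_iff]
    apply IntermediateField.subset_adjoin
    exact IntermediateField.mem_adjoin_simple_self k x

/-- **T3**: `[K' : k(x)] = [k' : k] [K' : k'(x)]` -/
theorem finrank_adjoin_eq_mul (h : IsFFw k K') {x : K'} (hx : Transcendental k x) :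
    Module.finrank k⟮x⟯ K' =
      Module.finrank k (KC k K') * Module.finrank (KC k K')⟮x⟯ K' := by
  have H := linearDisjoint_adjoin_KC h hx
  have h1 := H.rank_right_mul_adjoin_rank_eq_of_isAlgebraic (.inr inferInstance)
  rw [adjoin_KC_adjoin] at h1
  have h2 := congrArg Cardinal.toNat h1
  rw [Cardinal.toNat_mul] at h2
  exact h2.symm

end Const

end Groth.Agent.Lib.Helper2.FF
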