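import Mathlib
import Groth.Agent.Lib.Helper2.FunFld.Const
import Groth.Prelude.Def_W4bk4goldsch23Ext

set_option autoImplicit false
set_option linter.unusedSectionVars false
open scoped WithZero IntermediateField NNReal
open FunFld Polynomial
open Groth.Agent.Lib.Helper2.RelDim
open IntermediateField.algebraAdjoinAdjoin

namespace Groth.Agent.Lib.Helper2.FF

section Transfer

variable {k K' : Type*} [Field k] [Field K'] [Algebra k K']

/-- a place over `k` is a place over the constants -/
def extPlace (Q : FunFld.Place k K') : FunFld.Place (KC k K') K' :=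
  ⟨Q.1, fun c => w_le_one_of_isAlgebraic Q.1 Q.2.1 (mem_algebraicClosure_iff.1 c.2), Q.2.2⟩

/-- a place over the constants is a place over `k` -/
def resPlace (Q : FunFld.Place (KC k K') K') : FunFld.Place k K' :=
  ⟨Q.1, fun c => Q.2.1 (algebraMap k (KC k K') c), Q.2.2⟩

@[simp] theorem resPlace_extPlace (Q : FunFld.Place k K') : resPlace (extPlace Q) = Q := rfl
@[simp] theorem extPlace_resPlace (Q : FunFld.Place (KC k K') K') : extPlace (resPlace Q) = Q := rfl

theorem extPlace_injective : Function.Injective (extPlace (k := k) (K' := K')) := fun Q₁ Q₂ h => by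
  have := congrArg resPlace h
  simpa using this

theorem v_extPlace (Q : FunFld.Place k K') (z : K') : v (extPlace Q) z = v Q z := rfl
theorem ord_extPlace (Q : FunFld.Place k K') (z : K') : (extPlace Q).ord z = Q.ord z := rfl

theorem deg_eq_mul_deg_extPlace (Q : FunFld.Place k K') :
    Q.deg = Module.finrank k (KC k K') * (extPlace Q).deg := by
  let _ : Algebra (KC k K') (IsLocalRing.ResidueField Q.O) := Place.algRes (extPlace Q)
  have h1 : IsScalarTower k (KC k K') (IsLocalRing.ResidueField Q.O) :=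
    IsScalarTower.of_algebraMap_eq fun _ => rfl
  have := @Module.finrank_mul_finrank k (KC k K') (IsLocalRing.ResidueField Q.O) _ _ _ _ _ _ h1 _ _
  exact this.symm

/-- the degree formula for zeros, over a base field that need not be algebraically closed
in `K'` -/
theorem sum_zeros_eq_finrank (h : IsFFw k K') {x : K'} (hx : Transcendental k x)
    (S : Finset (FunFld.Place k K')) (hS : ∀ Q : FunFld.Place k K', v Q x < 1 → Q ∈ S) :
    (∑ Q ∈ S, max (Q.ord x) 0 * (Q.deg : ℤ)) = (Module.finrank k⟮x⟯ K' : ℤ) := by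
  classical
  have hKc := isFunctionField_KC h
  have hxc := transcendental_KC hx
  have h1 := deg_zdiv hKc hxc
  have hx0 : x ≠ 0 := by
    rintro rfl
    exact hx isAlgebraic_zero
  rw [finrank_adjoin_eq_mul h hx]
  push_cast
  rw [← h1, deg_def]
  have hsub : (zdiv (k := KC k K') x).support ⊆ S.map ⟨extPlace, extPlace_injective⟩ := by
    intro Q hQ
    rw [Finsupp.mem_support_iff, zdiv_apply hKc] at hQ
    have hpos : 0 < Q.ord x := by
      rcases max_cases (Q.ord x) 0 with ⟨h1, h2⟩ | ⟨h1, h2⟩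
      · omega
      · exact absurd h1 hQ
    have h2 : v (resPlace Q) x < 1 := (v_lt_one_iff Q hx0).2 hpos
    rw [Finset.mem_map]
    exact ⟨resPlace Q, hS _ h2, by simp⟩
  rw [Finsupp.sum_of_support_subset _ hsub _ (by simp), Finset.sum_map, Finset.mul_sum]
  refine Finset.sum_congr rfl fun Q _ => ?_
  simp only [Function.Embedding.coeFn_mk]
  rw [zdiv_apply hKc, ord_extPlace, deg_eq_mul_deg_extPlace Q]
  push_cast
  ring

end Transfer


section Tower

variable {k K K' : Type*} [Field k] [Field K] [Field K'] [Algebra k K] [Algebra K K']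
  [Algebra k K'] [IsScalarTower k K K']

theorem map_adjoin_simple (x₀ : K) :
    (k⟮x₀⟯).map (IsScalarTower.toAlgHom k K K') = k⟮algebraMap K K' x₀⟯ := by
  rw [IntermediateField.adjoin_map, Set.image_singleton]
  rfl

/-- `[K' : k(x)] = [K' : K] [K : k(x)]` for `x ∈ K` -/
theorem finrank_adjoin_algebraMap (x₀ : K) :
    Module.finrank k⟮algebraMap K K' x₀⟯ K' = Module.finrank k⟮x₀⟯ K * Module.finrank K K' := by
  rw [Module.finrank_mul_finrank k⟮x₀⟯ K K', ← map_adjoin_simple]
  symm
  apply Algebra.finrank_eq_of_equiv_equiv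
    ((k⟮x₀⟯).equivMap (IsScalarTower.toAlgHom k K K')).toRingEquiv (RingEquiv.refl K')
  ext a
  rfl

theorem finiteDimensional_adjoin_algebraMap [FiniteDimensional K K'] (x₀ : K)
    [FiniteDimensional k⟮x₀⟯ K] : FiniteDimensional k⟮algebraMap K K' x₀⟯ K' := by
  have h1 : FiniteDimensional k⟮x₀⟯ K' := Module.Finite.trans K K'
  rw [← map_adjoin_simple]
  exact Module.Finite.of_equiv_equiv
    ((k⟮x₀⟯).equivMap (IsScalarTower.toAlgHom k K K')).toRingEquiv (RingEquiv.refl K')
    (by ext a; rfl)

theorem isFFw_of_finite [FiniteDimensional K K'] (hK : IsFunctionField k K) : IsFFw k K' := by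
  obtain ⟨⟨x₀, hx₀, hfin⟩, -⟩ := hK
  refine ⟨algebraMap K K' x₀, ?_, finiteDimensional_adjoin_algebraMap x₀⟩
  exact (transcendental_algebraMap_iff (algebraMap K K').injective).2 hx₀

end Tower


section Restrict

variable {k K K' : Type*} [Field k] [Field K] [Field K'] [Algebra k K] [Algebra K K']
  [Algebra k K'] [IsScalarTower k K K']

theorem isOverWith_one_le {Q : FunFld.Place k K'} {P : FunFld.Place k K} {e : ℕ}
    (h : IsOverWith Q P e) : 1 ≤ e := by
  by_contra hlt
  have he : e = 0 := by omega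
  have := h 0
  rw [he, map_zero, map_zero, pow_zero] at this
  exact zero_ne_one this

theorem isOverWith_lt_one_iff {Q : FunFld.Place k K'} {P : FunFld.Place k K} {e : ℕ}
    (h : IsOverWith Q P e) (z : K) : v Q (algebraMap K K' z) < 1 ↔ v P z < 1 := by
  have he := isOverWith_one_le h
  change Q.1 _ < 1 ↔ _
  rw [h z]
  constructor
  · intro hlt
    by_contra hge
    push Not at hge
    exact absurd hlt (not_lt.2 (one_le_pow₀ hge))
  · intro hlt
    exact pow_lt_one₀ zero_le hlt (by omega)

theorem isOverWith_unique {Q : FunFld.Place k K'} {P P' : FunFld.Place k K} {e e' : ℕ}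
    (h : IsOverWith Q P e) (h' : IsOverWith Q P' e') : P = P' := by
  apply place_eq_of_lt_one_imp
  intro z hz
  exact (isOverWith_lt_one_iff h' z).1 ((isOverWith_lt_one_iff h z).2 hz)

theorem isOverWith_ord {Q : FunFld.Place k K'} {P : FunFld.Place k K} {e : ℕ}
    (h : IsOverWith Q P e) (z : K) : Q.ord (algebraMap K K' z) = e * P.ord z := by
  rw [ord_def, ord_def]
  change -WithZero.log (Q.1 _) = _
  rw [h z]
  change -WithZero.log (v P z ^ e) = _
  rw [WithZero.log_pow]
  simp

theorem isOverWith_e_unique {Q : FunFld.Place k K'} {P : FunFld.Place k K} {e e' : ℕ}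
    (h : IsOverWith Q P e) (h' : IsOverWith Q P e') : e = e' := by
  obtain ⟨t, ht⟩ := exists_uniformizer P
  have h1 := h t
  rw [h' t] at h1
  change v P t ^ e' = v P t ^ e at h1
  rw [ht, ← WithZero.exp_nsmul, ← WithZero.exp_nsmul, WithZero.exp_inj] at h1
  simp at h1
  omega

end Restrict


section Restrict2

variable {k K K' : Type*} [Field k] [Field K] [Field K'] [Algebra k K] [Algebra K K']
  [Algebra k K'] [IsScalarTower k K K']

/-- the restriction of a place of `K'` to `K` is nontrivial -/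
theorem exists_comap_lt_one [Algebra.IsAlgebraic K K'] (Q : FunFld.Place k K') :
    ∃ z : K, z ≠ 0 ∧ v Q (algebraMap K K' z) < 1 := by
  by_contra hcon
  push Not at hcon
  have hK1 : ∀ c : K, v Q (algebraMap K K' c) ≤ 1 := by
    intro c
    by_cases hc : c = 0
    · simp [hc]
    have h1 := hcon c⁻¹ (inv_ne_zero hc)
    rw [map_inv₀, map_inv₀] at h1
    have hne : v Q (algebraMap K K' c) ≠ 0 := by
      rw [Valuation.ne_zero_iff]
      simpa using hc
    exact (one_le_inv₀ (zero_lt_iff.2 hne)).1 h1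
  obtain ⟨y, hy⟩ := exists_v_eq Q 1
  have h2 := w_le_one_of_isAlgebraic (k := K) (v Q) hK1 (Algebra.IsAlgebraic.isAlgebraic y)
  rw [hy, ← WithZero.exp_zero, WithZero.exp_le_exp] at h2
  omega

theorem exists_isOverWith [FiniteDimensional K K'] (hK : IsFunctionField k K)
    (Q : FunFld.Place k K') : ∃ (P : FunFld.Place k K) (e : ℕ), IsOverWith Q P e := by
  set w : Valuation K ℤᵐ⁰ := Q.1.comap (algebraMap K K') with hw
  have hwk : ∀ c : k, w (algebraMap k K c) ≤ 1 := by
    intro c
    rw [hw, Valuation.comap_apply, ← IsScalarTower.algebraMap_apply]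
    exact Q.2.1 c
  set O : ValuationSubring K := w.valuationSubring with hO
  have hkO : ∀ c : k, algebraMap k K c ∈ O := fun c =>
    (Valuation.mem_valuationSubring_iff _ _).2 (hwk c)
  obtain ⟨z₀, hz₀, hz₀lt⟩ := exists_comap_lt_one (K := K) Q
  have hz₀O : z₀ ∈ O := (Valuation.mem_valuationSubring_iff _ _).2 hz₀lt.le
  have hnf : ∃ a : O, a ≠ 0 ∧ ¬IsUnit a := by
    refine ⟨⟨z₀, hz₀O⟩, fun h => hz₀ (congrArg Subtype.val h), ?_⟩
    intro hu
    have h1 := (Valuation.valuationSubring.integers w).isUnit_iff_valuation_eq_one.1 hu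
    have h2 : w z₀ < 1 := hz₀lt
    change w z₀ = 1 at h1
    rw [h1] at h2
    exact lt_irrefl _ h2
  have := isDiscreteValuationRing_valuationSubring hK O hkO hnf
  set P := placeOfDVR O hkO with hP
  -- `v P z ≤ 1 ↔ w z ≤ 1`
  have hle : ∀ z : K, w z ≤ 1 → v P z ≤ 1 := fun z hz =>
    placeOfDVR_le_one O hkO ⟨z, (Valuation.mem_valuationSubring_iff _ _).2 hz⟩
  have hunit : ∀ z : K, z ≠ 0 → v P z = 1 → w z = 1 := by
    intro z hz0 hz
    by_contra hne
    rcases lt_or_gt_of_ne hne with hlt | hgt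
    · -- `z` is a nonunit of `O`
      have hzO : z ∈ O := (Valuation.mem_valuationSubring_iff _ _).2 hlt.le
      have h1 : ¬ IsUnit (⟨z, hzO⟩ : O) := by
        intro hu
        have h1 := (Valuation.valuationSubring.integers w).isUnit_iff_valuation_eq_one.1 hu
        exact hne h1
      have h2 := (placeOfDVR_lt_one_iff O hkO ⟨z, hzO⟩).2 h1
      rw [← hP] at h2
      change v P z < 1 at h2
      rw [hz] at h2
      exact lt_irrefl _ h2
    · have hlt : w z⁻¹ < 1 := by
        rw [map_inv₀]; exact inv_lt_one_of_one_lt₀ hgt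
      have hzO : z⁻¹ ∈ O := (Valuation.mem_valuationSubring_iff _ _).2 hlt.le
      have h1 : ¬ IsUnit (⟨z⁻¹, hzO⟩ : O) := by
        intro hu
        have h1 := (Valuation.valuationSubring.integers w).isUnit_iff_valuation_eq_one.1 hu
        change w z⁻¹ = 1 at h1
        rw [h1] at hlt
        exact lt_irrefl _ hlt
      have h2 := (placeOfDVR_lt_one_iff O hkO ⟨z⁻¹, hzO⟩).2 h1
      rw [← hP] at h2
      change v P z⁻¹ < 1 at h2
      rw [map_inv₀, hz, inv_one] at h2
      exact lt_irrefl _ h2
  obtain ⟨t, ht⟩ := exists_uniformizer P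
  have ht0 : t ≠ 0 := by
    rintro rfl
    rw [map_zero] at ht
    exact WithZero.exp_ne_zero ht.symm
  have hwt0 : w t ≠ 0 := (Valuation.ne_zero_iff _).2 ht0
  -- `w t < 1`
  have hwt : w t < 1 := by
    by_contra hge
    push Not at hge
    have h1 : w t⁻¹ ≤ 1 := by
      rw [map_inv₀]; exact inv_le_one_of_one_le₀ hge
    have h2 := hle _ h1
    rw [map_inv₀, ht, ← WithZero.exp_neg, ← WithZero.exp_zero, WithZero.exp_le_exp] at h2
    omega
  set a : ℤ := WithZero.log (w t) with ha
  have hwta : w t = WithZero.exp a := (WithZero.exp_log hwt0).symm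
  have ha0 : a < 0 := by
    rw [hwta, ← WithZero.exp_zero, WithZero.exp_lt_exp] at hwt
    exact hwt
  refine ⟨P, (-a).toNat, fun z => ?_⟩
  have he : (((-a).toNat : ℕ) : ℤ) = -a := Int.toNat_of_nonneg (by omega)
  change w z = v P z ^ (-a).toNat
  by_cases hz0 : z = 0
  · rw [hz0, map_zero, map_zero, zero_pow]
    intro h0
    rw [h0] at he
    simp at he
    omega
  set m : ℤ := P.ord z with hm
  have hu1 : v P (z * t ^ (-m)) = 1 := by
    rw [map_mul, map_zpow₀, v_eq_exp_neg_ord P hz0, ht, ← hm, ← WithZero.exp_zsmul,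
      ← WithZero.exp_add]
    simp
  have hu0 : z * t ^ (-m) ≠ 0 := mul_ne_zero hz0 (zpow_ne_zero _ ht0)
  have hu2 := hunit _ hu0 hu1
  have hz : z = (z * t ^ (-m)) * t ^ m := by
    rw [mul_assoc, ← zpow_add₀ ht0]; simp
  rw [hz, map_mul, hu2, one_mul, map_zpow₀, hwta, ← WithZero.exp_zsmul, map_mul, hu1, one_mul,
    map_zpow₀, ht, ← WithZero.exp_zsmul, ← WithZero.exp_nsmul, WithZero.exp_inj]
  simp only [smul_eq_mul, nsmul_eq_mul, he]
  ring

end Restrict2


end Groth.Agent.Lib.Helper2.FF
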