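import Mathlib
import Groth.Agent.Lib.Helper2.FunFld.Ext

set_option autoImplicit false
set_option linter.unusedSectionVars false
open scoped WithZero IntermediateField NNReal
open FunFld Polynomial
open Groth.Agent.Lib.Helper2.RelDim

namespace Groth.Agent.Lib.Helper2.FF

section SingleZero

variable {k K : Type*} [Field k] [Field K] [Algebra k K]

/-- an element of `K` whose only zero is `P` -/
theorem exists_single_zero (hK : IsFunctionField k K) (P : FunFld.Place k K) :
    ∃ x : K, x ≠ 0 ∧ Transcendental k x ∧ ∀ P' : FunFld.Place k K, v P' x < 1 ↔ P' = P := by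
  classical
  set g := genus k K
  have hdegP := deg_pos P hK
  have hell : 2 ≤ ell (nP P ((g + 1 : ℕ) : ℤ)) := by
    have h1 := delta_le_genus hK (nP P ((g + 1 : ℕ) : ℤ))
    rw [deg_nP] at h1
    have h2 : (1 : ℤ) ≤ P.deg := by exact_mod_cast hdegP
    have h3 : ((g + 1 : ℕ) : ℤ) ≤ ((g + 1 : ℕ) : ℤ) * P.deg := by
      have : (0 : ℤ) ≤ ((g + 1 : ℕ) : ℤ) := Int.natCast_nonneg _
      nlinarith
    have : (2 : ℤ) ≤ ell (nP P ((g + 1 : ℕ) : ℤ)) := by push_cast at h1 h3 ⊢; omega
    exact_mod_cast this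
  obtain ⟨y, hyL, hyk⟩ := exists_mem_L_not_mem_range hK hell
  have hyt := transcendental_of_not_mem_range hK hyk
  have hy0 : y ≠ 0 := by
    rintro rfl
    exact hyt isAlgebraic_zero
  obtain ⟨P₁, hP₁⟩ := exists_place_one_lt hK hyt
  have hpole : ∀ P' : FunFld.Place k K, 1 < v P' y → P' = P := by
    intro P' h1
    by_contra hne
    have := hyL P'
    rw [nP, Finsupp.single_apply, if_neg (Ne.symm hne), WithZero.exp_zero] at this
    exact absurd h1 (not_lt.2 this)
  have hP₁P : P₁ = P := hpole P₁ hP₁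
  refine ⟨y⁻¹, inv_ne_zero hy0, transcendental_inv hyt, fun P' => ?_⟩
  rw [map_inv₀, inv_lt_one₀ (zero_lt_iff.2 ((Valuation.ne_zero_iff _).2 hy0))]
  constructor
  · exact hpole P'
  · rintro rfl
    rw [← hP₁P]; exact hP₁

end SingleZero

section Sum

variable {k K K' : Type*} [Field k] [Field K] [Field K'] [Algebra k K] [Algebra K K']
  [Algebra k K'] [IsScalarTower k K K']

theorem isOverWith_ramIdx {Q : FunFld.Place k K'} {P : FunFld.Place k K} (h : IsOver Q P) :
    IsOverWith Q P (ramIdx Q P) := by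
  classical
  unfold ramIdx
  rw [dif_pos h]
  exact Nat.find_spec h

theorem ramIdx_eq {Q : FunFld.Place k K'} {P : FunFld.Place k K} {e : ℕ}
    (h : IsOverWith Q P e) : ramIdx Q P = e :=
  isOverWith_e_unique (isOverWith_ramIdx ⟨e, h⟩) h

/-- S11009 -/
theorem sum_ramIdx_mul_deg [FiniteDimensional K K'] (hK : IsFunctionField k K)
    (P : FunFld.Place k K) :
    {Q : FunFld.Place k K' | IsOver Q P}.Finite ∧
    ∀ (Qs : Finset (FunFld.Place k K')), (∀ Q, Q ∈ Qs ↔ IsOver Q P) →
      (∑ Q ∈ Qs, ramIdx Q P * Q.deg) = Module.finrank K K' * P.deg := by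
  classical
  obtain ⟨x₀, hx₀0, hx₀t, hx₀⟩ := exists_single_zero hK P
  have hFF : IsFFw k K' := isFFw_of_finite hK
  set x : K' := algebraMap K K' x₀ with hx
  have hxt : Transcendental k x :=
    (transcendental_algebraMap_iff (algebraMap K K').injective).2 hx₀t
  have hx0 : x ≠ 0 := by
    rw [hx]; simpa using hx₀0
  -- zeros of `x` are the places over `P`
  have hzero : ∀ Q : FunFld.Place k K', v Q x < 1 ↔ IsOver Q P := by
    intro Q
    constructor
    · intro hQ
      obtain ⟨P', e, hPe⟩ := exists_isOverWith hK Q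
      have h1 := (isOverWith_lt_one_iff hPe x₀).1 hQ
      have h2 := (hx₀ P').1 h1
      subst h2
      exact ⟨e, hPe⟩
    · rintro ⟨e, he⟩
      exact (isOverWith_lt_one_iff he x₀).2 ((hx₀ P).2 rfl)
  have hfin : {Q : FunFld.Place k K' | IsOver Q P}.Finite := by
    have hKc := isFunctionField_KC hFF
    have h1 := finite_zeros hKc (transcendental_KC hxt)
    have h2 := h1.preimage (f := extPlace (k := k) (K' := K')) extPlace_injective.injOn
    refine h2.subset fun Q hQ => ?_
    simp only [Set.mem_preimage, Set.mem_ofPred_eq]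
    rw [v_extPlace]
    exact (hzero Q).2 hQ
  refine ⟨hfin, fun Qs hQs => ?_⟩
  have h1 := sum_zeros_eq_finrank hFF hxt Qs (fun Q hQ => (hQs Q).2 ((hzero Q).1 hQ))
  rw [finrank_adjoin_algebraMap, Nat.cast_mul, ← deg_zdiv hK hx₀t] at h1
  -- the zero divisor of `x₀` in `K`
  have hr : 0 < P.ord x₀ := (v_lt_one_iff P hx₀0).1 ((hx₀ P).2 rfl)
  have hzd : zdiv (k := k) x₀ = Finsupp.single P (P.ord x₀) := by
    ext P'
    rw [zdiv_apply hK, Finsupp.single_apply]
    by_cases hP' : P = P'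
    · subst hP'
      rw [if_pos rfl]
      exact max_eq_left hr.le
    · rw [if_neg hP']
      have : ¬ v P' x₀ < 1 := fun h => hP' ((hx₀ P').1 h).symm
      rw [v_lt_one_iff P' hx₀0] at this
      exact max_eq_right (by omega)
  have hsum : (∑ Q ∈ Qs, max (Q.ord x) 0 * (Q.deg : ℤ)) =
      P.ord x₀ * ∑ Q ∈ Qs, ((ramIdx Q P * Q.deg : ℕ) : ℤ) := by
    rw [Finset.mul_sum]
    refine Finset.sum_congr rfl fun Q hQ => ?_
    have hov := isOverWith_ramIdx ((hQs Q).1 hQ)
    rw [hx, isOverWith_ord hov x₀]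
    have : (0 : ℤ) ≤ (ramIdx Q P : ℤ) * P.ord x₀ :=
      mul_nonneg (Int.natCast_nonneg _) hr.le
    rw [max_eq_left this]
    push_cast
    ring
  rw [hsum, hzd, deg_single] at h1
  push_cast at h1
  have h2 : P.ord x₀ * (∑ Q ∈ Qs, ((ramIdx Q P : ℤ) * (Q.deg : ℤ))) =
      P.ord x₀ * ((Module.finrank K K' : ℤ) * P.deg) := by
    rw [h1]; ring
  have h3 := mul_left_cancel₀ (ne_of_gt hr) h2
  exact_mod_cast h3

end Sum

end Groth.Agent.Lib.Helper2.FF
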