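import Mathlib
import Groth.Agent.Lib.Helper2.FunFld.ExtSum

set_option autoImplicit false
set_option linter.unusedSectionVars false
open scoped WithZero IntermediateField NNReal
open FunFld Polynomial
open Groth.Agent.Lib.Helper2.RelDim

namespace Groth.Agent.Lib.Helper2.FF

section Normalize

variable {k K : Type*} [Field k] [Field K] [Algebra k K]

/-- every nontrivial `ℤ`-valued valuation of `K` trivial on `k` is a power of a place -/
theorem exists_place_pow_eq (h : IsFFw k K) (w : Valuation K ℤᵐ⁰)
    (hwk : ∀ c : k, w (algebraMap k K c) ≤ 1) (hnt : ∃ z : K, z ≠ 0 ∧ w z < 1) :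
    ∃ (P : FunFld.Place k K) (e : ℕ), ∀ z : K, w z = v P z ^ e := by
  have hKc := isFunctionField_KC h
  have hwkc : ∀ c : KC k K, w (algebraMap (KC k K) K c) ≤ 1 := fun c =>
    w_le_one_of_isAlgebraic w hwk (mem_algebraicClosure_iff.1 c.2)
  set O : ValuationSubring K := w.valuationSubring with hO
  have hkO : ∀ c : KC k K, algebraMap (KC k K) K c ∈ O := fun c =>
    (Valuation.mem_valuationSubring_iff _ _).2 (hwkc c)
  obtain ⟨z₀, hz₀, hz₀lt⟩ := hnt
  have hz₀O : z₀ ∈ O := (Valuation.mem_valuationSubring_iff _ _).2 hz₀lt.le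
  have hnf : ∃ a : O, a ≠ 0 ∧ ¬IsUnit a := by
    refine ⟨⟨z₀, hz₀O⟩, fun h => hz₀ (congrArg Subtype.val h), ?_⟩
    intro hu
    have h1 := (Valuation.valuationSubring.integers w).isUnit_iff_valuation_eq_one.1 hu
    have h2 : w z₀ < 1 := hz₀lt
    change w z₀ = 1 at h1
    rw [h1] at h2
    exact lt_irrefl _ h2
  have := isDiscreteValuationRing_valuationSubring hKc O hkO hnf
  set P := placeOfDVR O hkO with hP
  -- `v P z ≤ 1 ↔ w z ≤ 1`
  have hle : ∀ z : K, w z ≤ 1 → v P z ≤ 1 := fun z hz =>
    placeOfDVR_le_one O hkO ⟨z, (Valuation.mem_valuationSubring_iff _ _).2 hz⟩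
  have hunit : ∀ z : K, z ≠ 0 → v P z = 1 → w z = 1 := by
    intro z hz0 hz
    by_contra hne
    rcases lt_or_gt_of_ne hne with hlt | hgt
    · -- `z` is a nonunit of `O`
      have hzO : z ∈ O := (Valuation.mem_valuationSubring_iff _ _).2 hlt.le
      have h1 : ¬ IsUnit (⟨z, hzO⟩ : O) := by
        intro hu
        have h1 := (Valuation.valuationSubring.integers w).isUnit_iff_valuation_eq_one.1 hu
        exact hne h1
      have h2 := (placeOfDVR_lt_one_iff O hkO ⟨z, hzO⟩).2 h1
      rw [← hP] at h2
      change v P z < 1 at h2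
      rw [hz] at h2
      exact lt_irrefl _ h2
    · have hlt : w z⁻¹ < 1 := by
        rw [map_inv₀]; exact inv_lt_one_of_one_lt₀ hgt
      have hzO : z⁻¹ ∈ O := (Valuation.mem_valuationSubring_iff _ _).2 hlt.le
      have h1 : ¬ IsUnit (⟨z⁻¹, hzO⟩ : O) := by
        intro hu
        have h1 := (Valuation.valuationSubring.integers w).isUnit_iff_valuation_eq_one.1 hu
        change w z⁻¹ = 1 at h1
        rw [h1] at hlt
        exact lt_irrefl _ hlt
      have h2 := (placeOfDVR_lt_one_iff O hkO ⟨z⁻¹, hzO⟩).2 h1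
      rw [← hP] at h2
      change v P z⁻¹ < 1 at h2
      rw [map_inv₀, hz, inv_one] at h2
      exact lt_irrefl _ h2
  obtain ⟨t, ht⟩ := exists_uniformizer P
  have ht0 : t ≠ 0 := by
    rintro rfl
    rw [map_zero] at ht
    exact WithZero.exp_ne_zero ht.symm
  have hwt0 : w t ≠ 0 := (Valuation.ne_zero_iff _).2 ht0
  -- `w t < 1`
  have hwt : w t < 1 := by
    by_contra hge
    push Not at hge
    have h1 : w t⁻¹ ≤ 1 := by
      rw [map_inv₀]; exact inv_le_one_of_one_le₀ hge
    have h2 := hle _ h1
    rw [map_inv₀, ht, ← WithZero.exp_neg, ← WithZero.exp_zero, WithZero.exp_le_exp] at h2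
    omega
  set a : ℤ := WithZero.log (w t) with ha
  have hwta : w t = WithZero.exp a := (WithZero.exp_log hwt0).symm
  have ha0 : a < 0 := by
    rw [hwta, ← WithZero.exp_zero, WithZero.exp_lt_exp] at hwt
    exact hwt
  refine ⟨resPlace P, (-a).toNat, fun z => ?_⟩
  have he : (((-a).toNat : ℕ) : ℤ) = -a := Int.toNat_of_nonneg (by omega)
  change w z = v P z ^ (-a).toNat
  by_cases hz0 : z = 0
  · rw [hz0, map_zero, map_zero, zero_pow]
    intro h0
    rw [h0] at he
    simp at he
    omega
  set m : ℤ := P.ord z with hm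
  have hu1 : v P (z * t ^ (-m)) = 1 := by
    rw [map_mul, map_zpow₀, v_eq_exp_neg_ord P hz0, ht, ← hm, ← WithZero.exp_zsmul,
      ← WithZero.exp_add]
    simp
  have hu0 : z * t ^ (-m) ≠ 0 := mul_ne_zero hz0 (zpow_ne_zero _ ht0)
  have hu2 := hunit _ hu0 hu1
  have hz : z = (z * t ^ (-m)) * t ^ m := by
    rw [mul_assoc, ← zpow_add₀ ht0]; simp
  rw [hz, map_mul, hu2, one_mul, map_zpow₀, hwta, ← WithZero.exp_zsmul, map_mul, hu1, one_mul,
    map_zpow₀, ht, ← WithZero.exp_zsmul, ← WithZero.exp_nsmul, WithZero.exp_inj]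
  simp only [smul_eq_mul, nsmul_eq_mul, he]
  ring

end Normalize

section Restrict3

variable {k K K' : Type*} [Field k] [Field K] [Field K'] [Algebra k K] [Algebra K K']
  [Algebra k K'] [IsScalarTower k K K']

/-- every place of `K'` lies over a place of `K` (weak hypothesis on the base) -/
theorem exists_isOverWith' [Algebra.IsAlgebraic K K'] (h : IsFFw k K)
    (Q : FunFld.Place k K') : ∃ (P : FunFld.Place k K) (e : ℕ), IsOverWith Q P e := by
  apply exists_place_pow_eq h (Q.1.comap (algebraMap K K'))
  · intro c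
    rw [Valuation.comap_apply, ← IsScalarTower.algebraMap_apply]
    exact Q.2.1 c
  · exact exists_comap_lt_one (K := K) Q

theorem isOverWith_trans {K'' : Type*} [Field K''] [Algebra k K''] [Algebra K' K'']
    [Algebra K K''] [IsScalarTower K K' K''] {Q'' : FunFld.Place k K''}
    {Q' : FunFld.Place k K'} {P : FunFld.Place k K} {e' e : ℕ}
    (h' : IsOverWith Q'' Q' e') (h : IsOverWith Q' P e) : IsOverWith Q'' P (e * e') := by
  intro z
  rw [IsScalarTower.algebraMap_apply K K' K'', h' _, h z, pow_mul]

end Restrict3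


section DegHom

variable {k K : Type*} [Field k] [Field K] [Algebra k K]

/-- the degree as an additive homomorphism -/
noncomputable def degAddHom : Divisor k K →+ ℤ where
  toFun := Divisor.deg
  map_zero' := deg_zero
  map_add' := deg_add

theorem degAddHom_apply (D : Divisor k K) : degAddHom D = D.deg := rfl

theorem deg_zsmul (n : ℤ) (D : Divisor k K) : (n • D).deg = n * D.deg := by
  rw [← degAddHom_apply, map_zsmul, degAddHom_apply, smul_eq_mul]

/-- `div` under the weak hypothesis -/
theorem div_apply' (h : IsFFw k K) (x : K) (P : FunFld.Place k K) :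
    FunFld.div k x P = P.ord x := by
  have hKc := isFunctionField_KC h
  have h1 := finite_support_ord hKc x
  have h2 : (Function.support fun P : FunFld.Place k K => P.ord x).Finite := by
    have h3 := h1.preimage (f := extPlace (k := k) (K' := K)) extPlace_injective.injOn
    refine h3.subset fun Q hQ => ?_
    simpa [ord_extPlace] using hQ
  unfold FunFld.div
  rw [dif_pos h2]
  rfl

end DegHom

section Conorm

variable {k K K' : Type*} [Field k] [Field K] [Field K'] [Algebra k K] [Algebra K K']
  [Algebra k K'] [IsScalarTower k K K']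

open Classical in
theorem conorm_apply (hfin : ∀ P' : FunFld.Place k K, {Q : FunFld.Place k K' | IsOver Q P'}.Finite)
    (D : Divisor k K) {Q : FunFld.Place k K'} {P : FunFld.Place k K} (hQP : IsOver Q P) :
    conorm K' D Q = ramIdx Q P * D P := by
  unfold conorm
  rw [Finsupp.sum, Finsupp.finsetSum_apply]
  have hterm : ∀ P' : FunFld.Place k K,
      (D P' • if h : {Q : FunFld.Place k K' | IsOver Q P'}.Finite then
        h.toFinset.sum (fun Q => (ramIdx Q P' : ℤ) • (Finsupp.single Q 1 : Divisor k K'))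
        else 0) Q = if P' = P then (ramIdx Q P : ℤ) * D P else 0 := by
    intro P'
    rw [dif_pos (hfin P'), Finsupp.smul_apply, Finsupp.finsetSum_apply]
    by_cases hP' : P' = P
    · subst hP'
      rw [if_pos rfl, Finset.sum_eq_single Q]
      · simp [mul_comm]
      · intro Q' _ hne
        simp [hne]
      · intro hQ
        exact absurd ((hfin P').mem_toFinset.2 hQP) hQ
    · rw [if_neg hP', Finset.sum_eq_zero, smul_zero]
      intro Q' hQ'
      have hov : IsOver Q' P' := (hfin P').mem_toFinset.1 hQ'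
      have hne : Q' ≠ Q := by
        rintro rfl
        obtain ⟨e, he⟩ := hov
        obtain ⟨e', he'⟩ := hQP
        exact hP' (isOverWith_unique he he')
      simp [hne]
  simp only [hterm]
  rw [Finset.sum_ite_eq']
  split_ifs with hmem
  · rfl
  · rw [Finsupp.notMem_support_iff.1 hmem, mul_zero]

theorem finite_isOver [FiniteDimensional K K'] (hK : IsFunctionField k K)
    (P : FunFld.Place k K) : {Q : FunFld.Place k K' | IsOver Q P}.Finite :=
  (sum_ramIdx_mul_deg hK P).1

open Classical in
theorem deg_conorm [FiniteDimensional K K'] (hK : IsFunctionField k K) (D : Divisor k K) :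
    (conorm K' D).deg = Module.finrank K K' * D.deg := by
  unfold conorm
  rw [← degAddHom_apply, map_finsuppSum, deg_def, Finsupp.sum, Finsupp.sum, Finset.mul_sum]
  refine Finset.sum_congr rfl fun P _ => ?_
  rw [dif_pos (finite_isOver hK P), degAddHom_apply, deg_zsmul, ← degAddHom_apply, map_sum]
  have h1 := (sum_ramIdx_mul_deg (K' := K') hK P).2 (finite_isOver hK P).toFinset
    (fun Q => (finite_isOver hK P).mem_toFinset)
  have h2 : ∑ Q ∈ (finite_isOver (K' := K') hK P).toFinset,
      degAddHom ((ramIdx Q P : ℤ) • (Finsupp.single Q 1 : Divisor k K')) =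
      ((∑ Q ∈ (finite_isOver (K' := K') hK P).toFinset, ramIdx Q P * Q.deg : ℕ) : ℤ) := by
    push_cast
    refine Finset.sum_congr rfl fun Q _ => ?_
    rw [degAddHom_apply, deg_zsmul, deg_single, one_mul]
  rw [h2, h1]
  push_cast
  ring

/-- S11032, second part -/
theorem div_algebraMap_eq_conorm [FiniteDimensional K K'] (hK : IsFunctionField k K) (x : K) :
    FunFld.div k (algebraMap K K' x) = conorm K' (FunFld.div k x) := by
  ext Q
  obtain ⟨P, e, hPe⟩ := exists_isOverWith hK Q
  rw [conorm_apply (fun P' => finite_isOver hK P') _ ⟨e, hPe⟩, div_apply' (isFFw_of_finite hK),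
    div_apply hK, ramIdx_eq hPe, isOverWith_ord hPe]

end Conorm


section Trans

variable {k K K' K'' : Type*} [Field k] [Field K] [Field K'] [Field K'']
  [Algebra k K] [Algebra k K'] [Algebra k K''] [Algebra K K'] [Algebra K' K''] [Algebra K K'']
  [IsScalarTower k K K'] [IsScalarTower k K' K''] [IsScalarTower k K K'']
  [IsScalarTower K K' K'']

/-- S12514 -/
theorem conorm_conorm [FiniteDimensional K K'] [FiniteDimensional K' K'']
    (hK : IsFunctionField k K) (D : Divisor k K) :
    conorm K'' (conorm K' D) = conorm K'' D := by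
  have : FiniteDimensional K K'' := Module.Finite.trans K' K''
  have hFF' : IsFFw k K' := isFFw_of_finite hK
  have hfin'' : ∀ Q' : FunFld.Place k K', {Q'' : FunFld.Place k K'' | IsOver Q'' Q'}.Finite := by
    intro Q'
    obtain ⟨P₁, e₁, h₁⟩ := exists_isOverWith hK Q'
    refine (finite_isOver (K' := K'') hK P₁).subset ?_
    rintro Q'' ⟨e', he'⟩
    exact ⟨_, isOverWith_trans he' h₁⟩
  ext Q''
  obtain ⟨Q', e', he'⟩ := exists_isOverWith' hFF' Q''
  obtain ⟨P, e, he⟩ := exists_isOverWith hK Q'
  have htr := isOverWith_trans he' he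
  rw [conorm_apply hfin'' _ ⟨e', he'⟩, conorm_apply (fun P' => finite_isOver hK P') _ ⟨e, he⟩,
    conorm_apply (fun P' => finite_isOver hK P') _ ⟨_, htr⟩, ramIdx_eq he', ramIdx_eq he,
    ramIdx_eq htr]
  push_cast
  ring

end Trans

end Groth.Agent.Lib.Helper2.FF
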