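import Mathlib
import Groth.Agent.Lib.Helper2.FunFld.Conorm
import Groth.Prelude.Def_W4bk4goldsch45

set_option autoImplicit false
set_option linter.unusedSectionVars false
open scoped WithZero IntermediateField NNReal
open FunFld Polynomial
open Groth.Agent.Lib.Helper2.RelDim

namespace Groth.Agent.Lib.Helper2.FF

section MapDiv

variable {k K : Type*} [Field k] [Field K] [Algebra k K]

theorem finite_support_ord' (h : IsFFw k K) (x : K) :
    (Function.support fun P : FunFld.Place k K => P.ord x).Finite := by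
  have hKc := isFunctionField_KC h
  have h1 := finite_support_ord hKc x
  have h3 := h1.preimage (f := extPlace (k := k) (K' := K)) extPlace_injective.injOn
  refine h3.subset fun Q hQ => ?_
  simpa [ord_extPlace] using hQ

theorem mapDiv_apply (h : IsFFw k K) {ι : Type*} [Fintype ι] [Nonempty ι] (φ : ι → K)
    (P : FunFld.Place k K) :
    mapDiv k φ P = -Finset.univ.inf' Finset.univ_nonempty (fun i => P.ord (φ i)) := by
  classical
  have hfin : (Function.support fun P : FunFld.Place k K =>
      -Finset.univ.inf' Finset.univ_nonempty (fun i => P.ord (φ i))).Finite := by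
    have h1 : (⋃ i, Function.support fun P : FunFld.Place k K => P.ord (φ i)).Finite :=
      Set.finite_iUnion fun i => finite_support_ord' h (φ i)
    refine h1.subset fun P hP => ?_
    by_contra hcon
    simp only [Set.mem_iUnion, Function.mem_support, not_exists, not_not] at hcon
    apply hP
    simp [hcon]
  unfold mapDiv
  rw [dif_pos hfin]
  rfl

end MapDiv

section MapDivConorm

variable {k K K' : Type*} [Field k] [Field K] [Field K'] [Algebra k K] [Algebra K K']
  [Algebra k K'] [IsScalarTower k K K']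

/-- S11069 (no hypothesis on `k`, `φ`) -/
theorem mapDiv_algebraMap_eq_conorm [FiniteDimensional K K'] (hK : IsFunctionField k K)
    {ι : Type*} [Fintype ι] [Nonempty ι] (φ : ι → K) :
    mapDiv k (fun i => algebraMap K K' (φ i)) = conorm K' (mapDiv k φ) := by
  ext Q
  obtain ⟨P, e, hPe⟩ := exists_isOverWith hK Q
  have he := isOverWith_one_le hPe
  rw [conorm_apply (fun P' => finite_isOver hK P') _ ⟨e, hPe⟩, mapDiv_apply (isFFw_of_finite hK),
    mapDiv_apply ⟨hK.1.choose, hK.1.choose_spec⟩, ramIdx_eq hPe]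
  simp only [isOverWith_ord hPe]
  rw [mul_neg, neg_inj]
  -- `inf' (e * f) = e * inf' f`
  obtain ⟨i₀, -, hi₀⟩ := Finset.exists_mem_eq_inf' Finset.univ_nonempty (fun i => P.ord (φ i))
  apply le_antisymm
  · rw [hi₀]
    exact Finset.inf'_le _ (Finset.mem_univ i₀)
  · rw [Finset.le_inf'_iff]
    intro i _
    exact mul_le_mul_of_nonneg_left (Finset.inf'_le _ (Finset.mem_univ i)) (Int.natCast_nonneg e)

end MapDivConorm

end Groth.Agent.Lib.Helper2.FF

namespace Groth.Agent.Lib.Helper2.FF

section Endo

variable {k K : Type*} [Field k] [Field K] [Algebra k K]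

/-- `K` viewed as an extension of itself along `τ` -/
def Kτ (_τ : K →ₐ[k] K) : Type _ := K

instance (τ : K →ₐ[k] K) : Field (Kτ τ) := inferInstanceAs (Field K)
instance (τ : K →ₐ[k] K) : Algebra k (Kτ τ) := inferInstanceAs (Algebra k K)
instance (τ : K →ₐ[k] K) : Algebra K (Kτ τ) := τ.toRingHom.toAlgebra
instance (τ : K →ₐ[k] K) : IsScalarTower k K (Kτ τ) :=
  IsScalarTower.of_algebraMap_eq (fun c => (τ.commutes c).symm)

theorem algebraMap_Kτ (τ : K →ₐ[k] K) (z : K) : algebraMap K (Kτ τ) z = τ z := rfl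

theorem finiteDimensional_fieldRange (hK : IsFunctionField k K) (τ : K →ₐ[k] K) :
    FiniteDimensional τ.fieldRange K := by
  obtain ⟨⟨x, hx, -⟩, -⟩ := id hK
  have hτx : Transcendental k (τ x) := by
    intro h
    exact hx ((isAlgebraic_algHom_iff τ τ.injective).1 h)
  have hfin := finiteDimensional_adjoin_simple hK hτx
  have hle : k⟮τ x⟯ ≤ τ.fieldRange := by
    rw [IntermediateField.adjoin_simple_le_iff]
    exact ⟨x, rfl⟩
  let _ := (IntermediateField.inclusion hle).toRingHom.toAlgebra
  have : IsScalarTower k⟮τ x⟯ τ.fieldRange K := IsScalarTower.of_algebraMap_eq fun _ => rfl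
  exact Module.Finite.of_restrictScalars_finite k⟮τ x⟯ τ.fieldRange K

theorem finiteDimensional_Kτ (hK : IsFunctionField k K) (τ : K →ₐ[k] K) :
    FiniteDimensional K (Kτ τ) := by
  have := finiteDimensional_fieldRange hK τ
  exact Module.Finite.of_equiv_equiv (A₁ := τ.fieldRange) (B₁ := K) (A₂ := K) (B₂ := Kτ τ)
    (AlgEquiv.ofInjectiveField τ).symm.toRingEquiv (RingEquiv.refl K)
    (by
      ext y
      obtain ⟨z, rfl⟩ := (AlgEquiv.ofInjectiveField τ).surjective y
      simp only [RingHom.coe_comp]
      change τ ((AlgEquiv.ofInjectiveField τ).symm ((AlgEquiv.ofInjectiveField τ) z)) = _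
      rw [AlgEquiv.symm_apply_apply]
      rfl)

theorem finrank_Kτ (τ : K →ₐ[k] K) :
    Module.finrank K (Kτ τ) = Module.finrank τ.fieldRange K := by
  symm
  exact Algebra.finrank_eq_of_equiv_equiv (R₀ := τ.fieldRange) (S₀ := K) (R₁ := K) (S₁ := Kτ τ)
    (AlgEquiv.ofInjectiveField τ).symm.toRingEquiv (RingEquiv.refl K)
    (by
      ext y
      obtain ⟨z, rfl⟩ := (AlgEquiv.ofInjectiveField τ).surjective y
      simp only [RingHom.coe_comp]
      change τ ((AlgEquiv.ofInjectiveField τ).symm ((AlgEquiv.ofInjectiveField τ) z)) = _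
      rw [AlgEquiv.symm_apply_apply]
      rfl)

/-- S11052 -/
theorem deg_mapDiv_comp_algHom (hK : IsFunctionField k K) (τ : K →ₐ[k] K)
    {ι : Type*} [Fintype ι] [Nonempty ι] (φ : ι → K) :
    (mapDiv k (τ ∘ φ)).deg = Module.finrank τ.fieldRange K * (mapDiv k φ).deg := by
  have := finiteDimensional_Kτ hK τ
  have h1 := mapDiv_algebraMap_eq_conorm (K' := Kτ τ) hK φ
  have h2 := deg_conorm (K' := Kτ τ) hK (mapDiv k φ)
  rw [← h1, finrank_Kτ] at h2
  exact h2

end Endo

end Groth.Agent.Lib.Helper2.FF
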