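import Mathlib
import Groth.Agent.Lib.Helper2.FunFld.MapDiv

set_option autoImplicit false
set_option linter.unusedSectionVars false
open scoped WithZero IntermediateField NNReal
open FunFld Polynomial
open Groth.Agent.Lib.Helper2.RelDim

namespace Groth.Agent.Lib.Helper2.FF

section Galois

variable {k K K' : Type*} [Field k] [Field K] [Field K'] [Algebra k K] [Algebra K K']
  [Algebra k K'] [IsScalarTower k K K']

/-- the action of `Gal(K'/K)` on places of `K'` -/
noncomputable def galPlace (σ : K' ≃ₐ[K] K') (Q : FunFld.Place k K') : FunFld.Place k K' :=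
  comapPlace (σ.restrictScalars k) Q

theorem v_galPlace (σ : K' ≃ₐ[K] K') (Q : FunFld.Place k K') (z : K') :
    v (galPlace σ Q) z = v Q (σ z) := rfl

theorem galPlace_val (σ : K' ≃ₐ[K] K') (Q : FunFld.Place k K') :
    (galPlace σ Q).1 = Q.1.comap (σ : K' →+* K') := rfl

theorem galPlace_mul (σ τ : K' ≃ₐ[K] K') (Q : FunFld.Place k K') :
    galPlace (σ * τ) Q = galPlace τ (galPlace σ Q) := by
  apply place_eq_of_lt_one_imp
  intro z hz
  exact hz

theorem galPlace_one (Q : FunFld.Place k K') : galPlace (1 : K' ≃ₐ[K] K') Q = Q := by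
  apply place_eq_of_lt_one_imp
  intro z hz
  exact hz

/-- S11013 -/
theorem exists_algEquiv_comap_place [FiniteDimensional K K'] [IsGalois K K']
    (Q₁ Q₂ : FunFld.Place k K')
    (h : (Q₁.1.comap (algebraMap K K')).IsEquiv (Q₂.1.comap (algebraMap K K'))) :
    ∃ σ : K' ≃ₐ[K] K', Q₁.1.comap (σ : K' →+* K') = Q₂.1 := by
  classical
  by_contra hcon
  push Not at hcon
  have hne : ∀ σ τ : K' ≃ₐ[K] K', galPlace σ Q₁ ≠ galPlace τ Q₂ := by
    intro σ τ heq
    apply hcon (σ * τ⁻¹)
    have h1 : galPlace (σ * τ⁻¹) Q₁ = Q₂ := by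
      rw [galPlace_mul, heq, ← galPlace_mul, mul_inv_cancel, galPlace_one]
    rw [← galPlace_val, h1]
  set O₁ : Finset (FunFld.Place k K') := Finset.univ.image (fun σ : K' ≃ₐ[K] K' => galPlace σ Q₁)
  set O₂ : Finset (FunFld.Place k K') := Finset.univ.image (fun σ : K' ≃ₐ[K] K' => galPlace σ Q₂)
  have hdisj : ∀ Q ∈ O₁, Q ∉ O₂ := by
    intro Q hQ₁ hQ₂
    obtain ⟨σ, -, rfl⟩ := Finset.mem_image.1 hQ₁
    obtain ⟨τ, -, hτ⟩ := Finset.mem_image.1 hQ₂
    exact hne σ τ hτ.symm
  obtain ⟨z, hz0, hz⟩ := exists_ord_eq (fun Q : {Q // Q ∈ O₁ ∪ O₂} => Q.1)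
    Subtype.val_injective (fun Q => if Q.1 ∈ O₂ then -1 else 0)
  have hz₁ : ∀ σ : K' ≃ₐ[K] K', v Q₁ (σ z) = 1 := by
    intro σ
    have hmem : galPlace σ Q₁ ∈ O₁ := Finset.mem_image.2 ⟨σ, Finset.mem_univ _, rfl⟩
    have := hz ⟨galPlace σ Q₁, Finset.mem_union_left _ hmem⟩
    simp only [if_neg (hdisj _ hmem), WithZero.exp_zero] at this
    exact this
  have hz₂ : ∀ σ : K' ≃ₐ[K] K', v Q₂ (σ z) = WithZero.exp (-1 : ℤ) := by
    intro σ
    have hmem : galPlace σ Q₂ ∈ O₂ := Finset.mem_image.2 ⟨σ, Finset.mem_univ _, rfl⟩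
    have := hz ⟨galPlace σ Q₂, Finset.mem_union_right _ hmem⟩
    simp only [if_pos hmem] at this
    exact this
  have hnorm := Algebra.norm_eq_prod_automorphisms K z
  have h1 : v Q₁ (algebraMap K K' (Algebra.norm K z)) = 1 := by
    rw [hnorm, map_prod]
    exact Finset.prod_eq_one fun σ _ => hz₁ σ
  have h2 : v Q₂ (algebraMap K K' (Algebra.norm K z)) < 1 := by
    rw [hnorm, map_prod]
    have : ∏ σ : K' ≃ₐ[K] K', v Q₂ (σ z) = WithZero.exp (-1 : ℤ) ^ (Fintype.card (K' ≃ₐ[K] K')) := by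
      rw [Finset.prod_congr rfl fun σ _ => hz₂ σ]
      simp
    rw [this]
    apply pow_lt_one₀ zero_le
    · rw [← WithZero.exp_zero, WithZero.exp_lt_exp]; omega
    · exact Fintype.card_ne_zero
  have h3 := (h.eq_one_iff_eq_one (x := Algebra.norm K z)).1 h1
  rw [Valuation.comap_apply] at h3
  change v Q₂ _ = 1 at h3
  rw [h3] at h2
  exact lt_irrefl _ h2

end Galois

end Groth.Agent.Lib.Helper2.FF

namespace Groth.Agent.Lib.Helper2.FF

section Galois2

open scoped Pointwise

variable {k K K' : Type*} [Field k] [Field K] [Field K'] [Algebra k K] [Algebra K K']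
  [Algebra k K'] [IsScalarTower k K K']

theorem place_eq_of_O_eq {Q Q' : FunFld.Place k K'} (h : Q.O = Q'.O) : Q = Q' := by
  apply place_eq_of_lt_one_imp
  intro z hz
  by_contra hge
  push Not at hge
  by_cases hz0 : z = 0
  · subst hz0; simp at hge
  -- `z⁻¹ ∈ O_{Q'} = O_Q` but `v_Q z⁻¹ > 1`
  have h1 : z⁻¹ ∈ Q'.O := by
    rw [mem_O_iff, map_inv₀]
    exact inv_le_one_of_one_le₀ hge
  rw [← h, mem_O_iff, map_inv₀] at h1
  have h2 : 1 < (v Q z)⁻¹ := by
    rw [one_lt_inv₀ (zero_lt_iff.2 ((Valuation.ne_zero_iff _).2 hz0))]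
    exact hz
  exact absurd h1 (not_le.2 h2)

theorem smul_O (σ : K' ≃ₐ[K] K') (Q : FunFld.Place k K') :
    σ • Q.O = (galPlace σ⁻¹ Q).O := by
  ext x
  rw [ValuationSubring.mem_pointwise_smul_iff_inv_smul_mem, mem_O_iff, mem_O_iff, v_galPlace]
  rfl

theorem galPlace_isOverWith (σ : K' ≃ₐ[K] K') {Q : FunFld.Place k K'} {P : FunFld.Place k K}
    {e : ℕ} (h : IsOverWith Q P e) : IsOverWith (galPlace σ Q) P e := by
  intro x
  change v Q (σ (algebraMap K K' x)) = _
  rw [σ.commutes]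
  exact h x

theorem mem_decompositionSubgroup_iff (σ : K' ≃ₐ[K] K') (Q : FunFld.Place k K') :
    σ ∈ (Q.O).decompositionSubgroup K ↔ galPlace σ Q = Q := by
  rw [MulAction.mem_stabilizer_iff, smul_O]
  constructor
  · intro h
    have h1 := place_eq_of_O_eq h
    have h2 := congrArg (galPlace σ) h1
    rw [← galPlace_mul, inv_mul_cancel, galPlace_one] at h2
    exact h2.symm
  · intro h
    have h2 := congrArg (galPlace σ⁻¹) h
    rw [← galPlace_mul, mul_inv_cancel, galPlace_one] at h2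
    rw [← h2]

/-- the orbit of `O_Q` is the set of places over `P` -/
noncomputable def orbitEquivOver [FiniteDimensional K K'] [IsGalois K K']
    {Q : FunFld.Place k K'} {P : FunFld.Place k K} {e : ℕ} (he : IsOverWith Q P e) :
    {Q' : FunFld.Place k K' // IsOver Q' P} ≃ MulAction.orbit (K' ≃ₐ[K] K') Q.O :=
  Equiv.ofBijective (fun Q' => ⟨Q'.1.O, by
      obtain ⟨e', he'⟩ := Q'.2
      obtain ⟨σ, hσ⟩ := exists_algEquiv_comap_place Q Q'.1 (by
        intro x y
        simp only [Valuation.comap_apply]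
        rw [he x, he y, he' x, he' y]
        rw [pow_le_pow_iff_left₀ zero_le zero_le (by have := isOverWith_one_le he; omega),
          pow_le_pow_iff_left₀ zero_le zero_le (by have := isOverWith_one_le he'; omega)])
      refine ⟨σ⁻¹, ?_⟩
      change σ⁻¹ • Q.O = Q'.1.O
      rw [smul_O, inv_inv]
      congr 1
      exact Subtype.ext hσ⟩)
    ⟨fun Q₁ Q₂ h => by
      have h1 : Q₁.1.O = Q₂.1.O := congrArg Subtype.val h
      exact Subtype.ext (place_eq_of_O_eq h1),
    fun A => by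
      obtain ⟨σ, hσ⟩ := A.2
      refine ⟨⟨galPlace σ⁻¹ Q, ⟨e, galPlace_isOverWith _ he⟩⟩, ?_⟩
      apply Subtype.ext
      change (galPlace σ⁻¹ Q).O = A.1
      rw [← smul_O]
      exact hσ⟩

/-- S11022, first part -/
theorem card_over_mul_card_decomposition [FiniteDimensional K K'] [IsGalois K K']
    {Q : FunFld.Place k K'} {P : FunFld.Place k K} {e : ℕ} (he : IsOverWith Q P e) :
    Nat.card {Q' : FunFld.Place k K' // IsOver Q' P} *
      Nat.card ((Q.O).decompositionSubgroup K) = Module.finrank K K' := by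
  rw [Nat.card_congr (orbitEquivOver he), Nat.card_coe_set_eq, ← MulAction.index_stabilizer,
    mul_comm, Subgroup.card_mul_index, IsGalois.card_aut_eq_finrank]

end Galois2

end Groth.Agent.Lib.Helper2.FF

namespace Groth.Agent.Lib.Helper2.FF

section Galois3

variable {k K K' : Type*} [Field k] [Field K] [Field K'] [Algebra k K] [Algebra K K']
  [Algebra k K'] [IsScalarTower k K K']

/-- `σ` maps `O_{Q∘σ}` isomorphically onto `O_Q` -/
noncomputable def galPlaceOEquiv (σ : K' ≃ₐ[K] K') (Q : FunFld.Place k K') :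
    (galPlace σ Q).O ≃+* Q.O where
  toFun z := ⟨σ z.1, (mem_O_iff Q _).2 ((mem_O_iff (galPlace σ Q) z.1).1 z.2)⟩
  invFun w := ⟨σ.symm w.1, (mem_O_iff (galPlace σ Q) _).2 (by
    rw [v_galPlace, AlgEquiv.apply_symm_apply]; exact (mem_O_iff Q w.1).1 w.2)⟩
  left_inv z := Subtype.ext (σ.symm_apply_apply z.1)
  right_inv w := Subtype.ext (σ.apply_symm_apply w.1)
  map_mul' a b := Subtype.ext (map_mul σ a.1 b.1)
  map_add' a b := Subtype.ext (map_add σ a.1 b.1)

theorem deg_galPlace (σ : K' ≃ₐ[K] K') (Q : FunFld.Place k K') :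
    (galPlace σ Q).deg = Q.deg := by
  unfold Place.deg
  apply Algebra.finrank_eq_of_equiv_equiv (RingEquiv.refl k)
    (IsLocalRing.ResidueField.mapEquiv (galPlaceOEquiv σ Q))
  ext c
  simp only [RingHom.coe_comp, Function.comp_apply]
  change IsLocalRing.residue _ _ = IsLocalRing.ResidueField.map _ (IsLocalRing.residue _ _)
  rw [IsLocalRing.ResidueField.map_residue]
  congr 1
  apply Subtype.ext
  change algebraMap k K' c = σ (algebraMap k K' c)
  rw [IsScalarTower.algebraMap_apply k K K', σ.commutes]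

/-- S11022, second part -/
theorem isOverWith_and_deg_eq_of_isOver [FiniteDimensional K K'] [IsGalois K K']
    {Q : FunFld.Place k K'} {P : FunFld.Place k K} {e : ℕ} (he : IsOverWith Q P e)
    (Q' : FunFld.Place k K') (hQ' : IsOver Q' P) : IsOverWith Q' P e ∧ Q'.deg = Q.deg := by
  obtain ⟨e', he'⟩ := hQ'
  obtain ⟨σ, hσ⟩ := exists_algEquiv_comap_place Q Q' (by
    intro x y
    simp only [Valuation.comap_apply]
    rw [he x, he y, he' x, he' y]
    rw [pow_le_pow_iff_left₀ zero_le zero_le (by have := isOverWith_one_le he; omega),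
      pow_le_pow_iff_left₀ zero_le zero_le (by have := isOverWith_one_le he'; omega)])
  have h1 : galPlace σ Q = Q' := Subtype.ext hσ
  rw [← h1]
  exact ⟨galPlace_isOverWith σ he, deg_galPlace σ Q⟩

/-- S11021 -/
theorem card_decomposition_mul_deg [FiniteDimensional K K'] [IsGalois K K']
    (hK : IsFunctionField k K) {Q : FunFld.Place k K'} {P : FunFld.Place k K} {e : ℕ}
    (he : IsOverWith Q P e) :
    Nat.card ((Q.O).decompositionSubgroup K) * P.deg = e * Q.deg := by
  classical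
  have hfin := finite_isOver (K' := K') hK P
  have h1 := (sum_ramIdx_mul_deg (K' := K') hK P).2 hfin.toFinset (fun Q => hfin.mem_toFinset)
  have h2 : ∀ Q' ∈ hfin.toFinset, ramIdx Q' P * Q'.deg = e * Q.deg := by
    intro Q' hQ'
    obtain ⟨h3, h4⟩ := isOverWith_and_deg_eq_of_isOver he Q' (hfin.mem_toFinset.1 hQ')
    rw [ramIdx_eq h3, h4]
  rw [Finset.sum_congr rfl h2, Finset.sum_const, smul_eq_mul] at h1
  have h3 := card_over_mul_card_decomposition he
  have h4 : hfin.toFinset.card = Nat.card {Q' : FunFld.Place k K' // IsOver Q' P} := by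
    rw [← Nat.card_eq_card_finite_toFinset hfin]
    rfl
  rw [h4, ← h3, mul_assoc] at h1
  have hpos : 0 < Nat.card {Q' : FunFld.Place k K' // IsOver Q' P} := by
    have : Nonempty {Q' : FunFld.Place k K' // IsOver Q' P} := ⟨⟨Q, e, he⟩⟩
    have : Finite {Q' : FunFld.Place k K' // IsOver Q' P} := hfin
    exact Nat.card_pos
  exact (Nat.eq_of_mul_eq_mul_left hpos h1).symm

end Galois3

end Groth.Agent.Lib.Helper2.FF
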