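import Mathlib
import Groth.Agent.Lib.Helper2.FunFld.Galois

set_option autoImplicit false
open scoped WithZero IntermediateField NNReal
open FunFld Polynomial
open Groth.Agent.Lib.Helper2.RelDim

namespace Groth.Agent.Lib.Helper2.FF

section Abstract

/-- lifting a basis of `M/mM`: abstract dimension count -/
theorem exists_lift_indep {k A M : Type*} [Field k] [CommRing A] [Algebra k A] [IsLocalRing A]
    [AddCommGroup M] [Module A M] [Module k M] [IsScalarTower k A M]
    (d n : ℕ) (hd : 0 < d) (hn : 0 < n)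
    (hκ : Module.finrank k (A ⧸ IsLocalRing.maximalIdeal A) = d)
    (hM : Module.finrank k (M ⧸ (IsLocalRing.maximalIdeal A • ⊤ : Submodule A M)) = n * d) :
    ∃ b : Fin n → M, ∀ a : Fin n → A,
      (∑ i, a i • b i) ∈ (IsLocalRing.maximalIdeal A • ⊤ : Submodule A M) →
        ∀ i, a i ∈ IsLocalRing.maximalIdeal A := by
  set m := IsLocalRing.maximalIdeal A with hm
  letI : Field (A ⧸ m) := Ideal.Quotient.field m
  have hST : IsScalarTower k (A ⧸ m) (M ⧸ (m • ⊤ : Submodule A M)) := by
    refine ⟨fun c x y => ?_⟩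
    obtain ⟨x, rfl⟩ := Ideal.Quotient.mk_surjective x
    obtain ⟨y, rfl⟩ := Submodule.Quotient.mk_surjective _ y
    rw [Module.Quotient.mk_smul_mk]
    have h1 : c • (Ideal.Quotient.mk m) x = Ideal.Quotient.mk m (c • x) := rfl
    rw [h1, Module.Quotient.mk_smul_mk, smul_assoc]
    rfl
  have h1 := Module.finrank_mul_finrank k (A ⧸ m) (M ⧸ (m • ⊤ : Submodule A M))
  rw [hκ, hM] at h1
  have h2 : Module.finrank (A ⧸ m) (M ⧸ (m • ⊤ : Submodule A M)) = n := by
    have : d * Module.finrank (A ⧸ m) (M ⧸ (m • ⊤ : Submodule A M)) = d * n := by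
      rw [h1]; ring
    exact Nat.eq_of_mul_eq_mul_left hd this
  haveI : Module.Finite (A ⧸ m) (M ⧸ (m • ⊤ : Submodule A M)) :=
    Module.finite_of_finrank_pos (by rw [h2]; exact hn)
  let bb := Module.finBasisOfFinrankEq (A ⧸ m) (M ⧸ (m • ⊤ : Submodule A M)) h2
  have hb : ∀ i, ∃ y : M, Submodule.Quotient.mk (p := (m • ⊤ : Submodule A M)) y = bb i :=
    fun i => Submodule.Quotient.mk_surjective _ _
  choose b hb using hb
  refine ⟨b, fun a ha i => ?_⟩
  have h3 : ∑ i, (Ideal.Quotient.mk m (a i)) • bb i = 0 := by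
    have h4 : Submodule.Quotient.mk (p := (m • ⊤ : Submodule A M)) (∑ i, a i • b i) = 0 :=
      (Submodule.Quotient.mk_eq_zero _).2 ha
    rw [← h4]
    have : (Submodule.Quotient.mk (p := (m • ⊤ : Submodule A M)) (∑ i, a i • b i)) =
        ∑ i, Submodule.Quotient.mk (p := (m • ⊤ : Submodule A M)) (a i • b i) :=
      map_sum (Submodule.mkQ (m • ⊤ : Submodule A M)) _ _
    rw [this]
    refine Finset.sum_congr rfl fun j _ => ?_
    rw [← hb j, Module.Quotient.mk_smul_mk]
  have h5 := Fintype.linearIndependent_iff.1 bb.linearIndependent _ h3 i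
  exact Ideal.Quotient.eq_zero_iff_mem.1 h5

end Abstract

end Groth.Agent.Lib.Helper2.FF
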