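import Mathlib
import Groth.Agent.Lib.Helper2.FunFld.Galois
import Groth.Agent.Lib.Helper2.FunFld.IntClA

set_option autoImplicit false
open scoped WithZero IntermediateField NNReal
open FunFld Polynomial
open Groth.Agent.Lib.Helper2.RelDim

namespace Groth.Agent.Lib.Helper2.FF

section IntCl

variable {k K K' : Type*} [Field k] [Field K] [Field K'] [Algebra k K] [Algebra K K'] [Algebra k K']
  [IsScalarTower k K K']

theorem finiteDimensional_residueField_w (h : IsFFw k K') (Q : FunFld.Place k K') :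
    FiniteDimensional k (IsLocalRing.ResidueField Q.O) := by
  let _ : Algebra (KC k K') (IsLocalRing.ResidueField Q.O) := Place.algRes (extPlace Q)
  have h1 : IsScalarTower k (KC k K') (IsLocalRing.ResidueField Q.O) :=
    IsScalarTower.of_algebraMap_eq fun _ => rfl
  have := finiteDimensional_KC h
  have h2 : FiniteDimensional (KC k K') (IsLocalRing.ResidueField Q.O) :=
    finiteDimensional_residueField (extPlace Q) (isFunctionField_KC h)
  exact @Module.Finite.trans k (KC k K') (IsLocalRing.ResidueField Q.O) _ _ _ _ _ _ h1 _ h2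

theorem finrank_VV' {ι : Type*} [Fintype ι] (P : ι → FunFld.Place k K)
    (hfin : ∀ i, FiniteDimensional k (IsLocalRing.ResidueField (P i).O))
    (e : ι → ℕ) : Module.finrank k (VV P e) = ∑ i, e i * (P i).deg := by
  haveI hVfin : ∀ i, Module.Finite k (RQ (ball (P i) (-(e i : ℤ))) (ball (P i) 0)) :=
    fun i => finIdx_ball (P i) (by omega)
  haveI hVfree : ∀ i, Module.Free k (RQ (ball (P i) (-(e i : ℤ))) (ball (P i) 0)) :=
    fun i => inferInstance
  have h0 := Module.finrank_pi_fintype k (M := fun i => RQ (ball (P i) (-(e i : ℤ))) (ball (P i) 0))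
  refine h0.trans ?_
  refine Finset.sum_congr rfl fun i _ => ?_
  have := idx_ball (P i) (m := -(e i : ℤ)) (n := 0) (by omega)
  have h3 : (idx (ball (P i) (-(e i : ℤ))) (ball (P i) 0) : ℤ) = ((e i * (P i).deg : ℕ) : ℤ) := by
    rw [this]; push_cast; ring
  exact_mod_cast h3

/-- places over `P` -/
abbrev OverP (K' : Type*) [Field K'] [Algebra K K'] [Algebra k K'] (P : FunFld.Place k K) : Type _ :=
  {Q : FunFld.Place k K' // IsOver Q P}

theorem finite_overP [FiniteDimensional K K'] (hK : IsFunctionField k K) (P : FunFld.Place k K) :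
    Finite (OverP K' P) := (sum_ramIdx_mul_deg hK P).1.to_subtype

theorem sum_overP [FiniteDimensional K K'] (hK : IsFunctionField k K) (P : FunFld.Place k K)
    [Fintype (OverP K' P)] :
    ∑ i : OverP K' P, ramIdx i.1 P * i.1.deg = Module.finrank K K' * P.deg := by
  classical
  obtain ⟨hfin, h⟩ := sum_ramIdx_mul_deg (K' := K') hK P
  rw [← h hfin.toFinset (fun Q => by simp)]
  exact (Finset.sum_subtype (p := fun Q : FunFld.Place k K' => IsOver Q P) hfin.toFinset
    (fun Q => by simp) (fun Q => ramIdx Q P * Q.deg)).symm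

variable (P : FunFld.Place k K) [Algebra P.O K'] [IsScalarTower P.O K K']

theorem algebraMap_O_apply (a : P.O) : algebraMap P.O K' a = algebraMap K K' (a : K) := by
  rw [IsScalarTower.algebraMap_apply P.O K K']; rfl

theorem v_over_algebraMap_le (i : OverP K' P) (a : P.O) : v i.1 (algebraMap P.O K' a) ≤ 1 := by
  rw [algebraMap_O_apply]
  obtain ⟨e, he⟩ := i.2
  change i.1.1 _ ≤ 1
  rw [he]
  exact pow_le_one' ((Valuation.mem_valuationSubring_iff _ _).1 a.2) e

/-- the semilocal ring of places over `P`, as a `P.O`-subalgebra of `K'` -/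
def BP : Subalgebra P.O K' where
  carrier := {z | ∀ i : OverP K' P, v i.1 z ≤ 1}
  mul_mem' {a b} ha hb i := by
    rw [map_mul]; exact mul_le_one' (ha i) (hb i)
  one_mem' i := by simp
  add_mem' {a b} ha hb i := (Valuation.map_add (v i.1) a b).trans (max_le (ha i) (hb i))
  zero_mem' i := by simp
  algebraMap_mem' a i := v_over_algebraMap_le P i a

theorem mem_BP {z : K'} : z ∈ BP (K' := K') P ↔ ∀ i : OverP K' P, v i.1 z ≤ 1 := Iff.rfl

theorem isScalarTower_k_O : IsScalarTower k P.O K' :=
  IsScalarTower.of_algebraMap_eq fun c => by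
    rw [algebraMap_O_apply, IsScalarTower.algebraMap_apply k K K']; rfl

attribute [local instance] isScalarTower_k_O

/-- the index family of places over `P` -/
abbrev Qf (K' : Type*) [Field K'] [Algebra K K'] [Algebra k K'] (P : FunFld.Place k K) :
    OverP K' P → FunFld.Place k K' := Subtype.val

/-- ramification indices -/
noncomputable abbrev ef (K' : Type*) [Field K'] [Algebra K K'] [Algebra k K'] (P : FunFld.Place k K) :
    OverP K' P → ℕ := fun i => ramIdx i.1 P

/-- `BP → semilocal` -/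
def toSemilocal : ↥(BP (K' := K') P) →ₗ[k] ↥(semilocal (Qf K' P)) where
  toFun z := ⟨z.1, z.2⟩
  map_add' _ _ := rfl
  map_smul' _ _ := rfl

/-- the reduction map -/
noncomputable def fB : ↥(BP (K' := K') P) →ₗ[k] VV (Qf K' P) (ef K' P) :=
  (phi (Qf K' P) (ef K' P)).comp (toSemilocal P)

theorem fB_surjective [FiniteDimensional K K'] (hK : IsFunctionField k K) :
    Function.Surjective (fB (K' := K') P) := by
  haveI := finite_overP (K' := K') hK P
  intro q
  obtain ⟨r, hr⟩ := phi_surjective (Qf K' P) Subtype.val_injective (ef K' P) q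
  exact ⟨⟨r.1, r.2⟩, hr⟩

theorem v_over_uniformizer {t : K} (ht : v P t = WithZero.exp (-1 : ℤ)) (i : OverP K' P) :
    v i.1 (algebraMap K K' t) = WithZero.exp (-(ramIdx i.1 P : ℤ)) := by
  have h := isOverWith_ramIdx i.2 t
  change v i.1 _ = (v P t) ^ _ at h
  rw [h, ht, ← WithZero.exp_nsmul]
  simp

theorem fB_eq_zero_iff (z : ↥(BP (K' := K') P)) :
    fB P z = 0 ↔ ∀ i : OverP K' P, v i.1 z.1 ≤ WithZero.exp (-(ramIdx i.1 P : ℤ)) := by
  constructor
  · intro h i
    have := congrFun h i
    rw [fB, LinearMap.comp_apply, phi_apply, Pi.zero_apply, compMap_eq_zero_iff] at this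
    exact this
  · intro h
    funext i
    rw [fB, LinearMap.comp_apply, phi_apply, Pi.zero_apply, compMap_eq_zero_iff]
    exact h i

theorem coe_smul_BP (a : P.O) (w : ↥(BP (K' := K') P)) :
    ((a • w : ↥(BP (K' := K') P)) : K') = algebraMap P.O K' a * w.1 := by
  rw [← Algebra.smul_def]; rfl

theorem ker_fB : LinearMap.ker (fB (K' := K') P) =
    (IsLocalRing.maximalIdeal P.O • ⊤ : Submodule P.O ↥(BP (K' := K') P)).restrictScalars k := by
  obtain ⟨t, ht⟩ := exists_uniformizer P
  have ht1 : v P t ≤ 1 := by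
    rw [ht, ← WithZero.exp_zero, WithZero.exp_le_exp]; norm_num
  have ht0 : t ≠ 0 := by
    rintro rfl
    rw [map_zero] at ht
    exact WithZero.exp_ne_zero ht.symm
  ext z
  rw [LinearMap.mem_ker, fB_eq_zero_iff, Submodule.restrictScalars_mem]
  constructor
  · intro h
    -- z = t • (z / t)
    have hw : z.1 * (algebraMap K K' t)⁻¹ ∈ BP (K' := K') P := by
      intro i
      rw [map_mul, map_inv₀, v_over_uniformizer P ht i]
      have := h i
      rw [← WithZero.exp_neg, neg_neg]
      calc v i.1 z.1 * WithZero.exp (ramIdx i.1 P : ℤ)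
          ≤ WithZero.exp (-(ramIdx i.1 P : ℤ)) * WithZero.exp (ramIdx i.1 P : ℤ) :=
            mul_le_mul_left this _
        _ = 1 := by rw [← WithZero.exp_add]; simp
    have htm : (⟨t, (Valuation.mem_valuationSubring_iff _ _).2 ht1⟩ : P.O) ∈
        IsLocalRing.maximalIdeal P.O := by
      apply (Valuation.mem_maximalIdeal_iff _ _).2
      change v P t < 1
      rw [ht, ← WithZero.exp_zero, WithZero.exp_lt_exp]; norm_num
    have hz : z = (⟨t, (Valuation.mem_valuationSubring_iff _ _).2 ht1⟩ : P.O) •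
        (⟨_, hw⟩ : ↥(BP (K' := K') P)) := by
      apply Subtype.ext
      rw [coe_smul_BP, algebraMap_O_apply]
      have : algebraMap K K' t ≠ 0 := by simpa using ht0
      field_simp
    rw [hz]
    exact Submodule.smul_mem_smul htm Submodule.mem_top
  · intro h
    refine Submodule.smul_induction_on h ?_ ?_
    · intro a ha w _ i
      have ha1 : v P (a : K) < 1 := (Valuation.mem_maximalIdeal_iff _ _).1 ha
      rw [coe_smul_BP, map_mul, algebraMap_O_apply]
      have hov := isOverWith_ramIdx i.2 (a : K)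
      change v i.1 _ = (v P (a : K)) ^ _ at hov
      rw [hov]
      have ha2 : v P (a : K) ≤ WithZero.exp (-1 : ℤ) := by
        have := (lt_exp_succ_iff (v P (a : K)) (-1)).1 (by simpa using ha1)
        exact this
      calc v P (a : K) ^ ramIdx i.1 P * v i.1 w.1
          ≤ WithZero.exp (-1 : ℤ) ^ ramIdx i.1 P * 1 :=
            mul_le_mul' (pow_le_pow_left' ha2 _) (w.2 i)
        _ = _ := by rw [mul_one, ← WithZero.exp_nsmul]; simp
    · intro x y hx hy i
      exact (Valuation.map_add (v i.1) x.1 y.1).trans (max_le (hx i) (hy i))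

theorem finrank_quotient_maximalIdeal :
    Module.finrank k (P.O ⧸ IsLocalRing.maximalIdeal P.O) = P.deg := by
  let e : (P.O ⧸ IsLocalRing.maximalIdeal P.O) ≃ₗ[k] IsLocalRing.ResidueField P.O :=
    { AddEquiv.refl _ with
      map_smul' := fun c x => by
        obtain ⟨x, rfl⟩ := Ideal.Quotient.mk_surjective x
        rfl }
  exact e.finrank_eq

theorem finrank_BP_quotient [FiniteDimensional K K'] (hK : IsFunctionField k K) :
    Module.finrank k (↥(BP (K' := K') P) ⧸
      (IsLocalRing.maximalIdeal P.O • ⊤ : Submodule P.O ↥(BP (K' := K') P))) =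
      Module.finrank K K' * P.deg := by
  classical
  haveI := finite_overP (K' := K') hK P
  haveI := Fintype.ofFinite (OverP K' P)
  have hFF : IsFFw k K' := isFFw_of_finite hK
  have h1 : Module.finrank k (↥(BP (K' := K') P) ⧸
      (IsLocalRing.maximalIdeal P.O • ⊤ : Submodule P.O ↥(BP (K' := K') P))) =
      Module.finrank k (↥(BP (K' := K') P) ⧸
      (IsLocalRing.maximalIdeal P.O • ⊤ : Submodule P.O ↥(BP (K' := K') P)).restrictScalars k) :=
    (Submodule.Quotient.restrictScalarsEquiv k
      (IsLocalRing.maximalIdeal P.O • ⊤ : Submodule P.O ↥(BP (K' := K') P))).finrank_eq.symm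
  have h2 : Module.finrank k (↥(BP (K' := K') P) ⧸
      (IsLocalRing.maximalIdeal P.O • ⊤ : Submodule P.O ↥(BP (K' := K') P)).restrictScalars k) =
      Module.finrank k (↥(BP (K' := K') P) ⧸ LinearMap.ker (fB (K' := K') P)) := by
    rw [ker_fB]
  have h3 : Module.finrank k (↥(BP (K' := K') P) ⧸ LinearMap.ker (fB (K' := K') P)) =
      Module.finrank k (VV (Qf K' P) (ef K' P)) :=
    ((fB (K' := K') P).quotKerEquivOfSurjective (fB_surjective P hK)).finrank_eq
  have h4 : Module.finrank k (VV (Qf K' P) (ef K' P)) =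
      ∑ i : OverP K' P, ramIdx i.1 P * i.1.deg :=
    finrank_VV' (Qf K' P) (fun i => finiteDimensional_residueField_w hFF i.1) (ef K' P)
  have h5 : ∑ i : OverP K' P, ramIdx i.1 P * i.1.deg = Module.finrank K K' * P.deg :=
    sum_overP hK P
  exact h1.trans (h2.trans (h3.trans (h4.trans h5)))

theorem exists_star [FiniteDimensional K K'] (hK : IsFunctionField k K) :
    ∃ z : Fin (Module.finrank K K') → K', (∀ j, z j ∈ BP (K' := K') P) ∧
      ∀ a : Fin (Module.finrank K K') → K, (∀ j, v P (a j) ≤ 1) →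
        (∀ i : OverP K' P, v i.1 (∑ j, a j • z j) ≤ WithZero.exp (-(ramIdx i.1 P : ℤ))) →
        ∀ j, v P (a j) < 1 := by
  obtain ⟨b, hb⟩ := exists_lift_indep (k := k) (A := P.O) (M := ↥(BP (K' := K') P)) P.deg
    (Module.finrank K K') (deg_pos P hK) Module.finrank_pos
    (finrank_quotient_maximalIdeal P) (finrank_BP_quotient P hK)
  refine ⟨fun j => (b j).1, fun j => (b j).2, fun a ha h j => ?_⟩
  have h1 := hb (fun j => ⟨a j, (mem_O_iff P _).2 (ha j)⟩) ?_ j
  · exact (Valuation.mem_maximalIdeal_iff _ _).1 h1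
  · have h2 : (∑ j, (⟨a j, (mem_O_iff P _).2 (ha j)⟩ : P.O) • b j) ∈
        LinearMap.ker (fB (K' := K') P) := by
      rw [LinearMap.mem_ker, fB_eq_zero_iff]
      intro i
      have h3 : ((∑ j, (⟨a j, (mem_O_iff P _).2 (ha j)⟩ : P.O) • b j : ↥(BP (K' := K') P)) : K') =
          ∑ j, a j • (b j).1 := by
        rw [AddSubmonoidClass.coe_finsetSum]
        refine Finset.sum_congr rfl fun j _ => ?_
        rw [coe_smul_BP, algebraMap_O_apply, Algebra.smul_def]
      rw [h3]
      exact h i
    rw [ker_fB] at h2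
    exact h2

omit [Algebra P.O K'] [IsScalarTower P.O K K'] in
theorem linearIndependent_of_star {n : ℕ} (z : Fin n → K')
    (hstar : ∀ a : Fin n → K, (∀ j, v P (a j) ≤ 1) →
      (∀ i : OverP K' P, v i.1 (∑ j, a j • z j) ≤ WithZero.exp (-(ramIdx i.1 P : ℤ))) →
      ∀ j, v P (a j) < 1) :
    LinearIndependent K z := by
  rw [Fintype.linearIndependent_iff]
  intro a ha
  by_contra hne
  push Not at hne
  obtain ⟨j₀, hj₀⟩ := hne
  obtain ⟨j, -, hj⟩ := Finset.exists_max_image Finset.univ (fun j => v P (a j))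
    ⟨j₀, Finset.mem_univ _⟩
  have haj : a j ≠ 0 := by
    intro h
    have h1 := hj j₀ (Finset.mem_univ _)
    rw [h, map_zero] at h1
    exact hj₀ ((map_eq_zero _).1 (le_antisymm h1 zero_le))
  have hvj : v P (a j) ≠ 0 := (Valuation.ne_zero_iff _).2 haj
  have h1 := hstar (fun i => (a j)⁻¹ * a i) (fun i => by
      rw [map_mul, map_inv₀]
      calc (v P (a j))⁻¹ * v P (a i) ≤ (v P (a j))⁻¹ * v P (a j) :=
            mul_le_mul_right (hj i (Finset.mem_univ _)) _
        _ = 1 := inv_mul_cancel₀ hvj)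
    (fun i => by
      have : ∑ j', ((a j)⁻¹ * a j') • z j' = (a j)⁻¹ • ∑ j', a j' • z j' := by
        rw [Finset.smul_sum]
        exact Finset.sum_congr rfl fun _ _ => mul_smul _ _ _
      rw [this, ha, smul_zero, map_zero]
      exact zero_le) j
  have h1' : v P ((a j)⁻¹ * a j) < 1 := h1
  rw [inv_mul_cancel₀ haj, map_one] at h1'
  exact lt_irrefl _ h1'

omit [Algebra P.O K'] [IsScalarTower P.O K K'] in
theorem exists_repr_of_star [FiniteDimensional K K'] {n : ℕ} (hn : n = Module.finrank K K')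
    (z : Fin n → K')
    (hstar : ∀ a : Fin n → K, (∀ j, v P (a j) ≤ 1) →
      (∀ i : OverP K' P, v i.1 (∑ j, a j • z j) ≤ WithZero.exp (-(ramIdx i.1 P : ℤ))) →
      ∀ j, v P (a j) < 1)
    (w : K') (hw : ∀ i : OverP K' P, v i.1 w ≤ 1) :
    ∃ a : Fin n → K, (∀ j, v P (a j) ≤ 1) ∧ w = ∑ j, a j • z j := by
  have hli := linearIndependent_of_star P z hstar
  haveI : Nonempty (Fin n) := ⟨⟨0, by rw [hn]; exact Module.finrank_pos⟩⟩
  let bs := basisOfLinearIndependentOfCardEqFinrank hli (by simpa using hn)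
  have hbs : ∀ j, bs j = z j := fun j => by simp [bs]
  have hsum : w = ∑ j, bs.repr w j • z j := by
    have := bs.sum_repr w
    simp only [hbs] at this
    exact this.symm
  refine ⟨fun j => bs.repr w j, ?_, ?_⟩
  · by_contra hne
    push Not at hne
    obtain ⟨j₀, hj₀⟩ := hne
    obtain ⟨j, -, hj⟩ := Finset.exists_max_image Finset.univ (fun j => v P (bs.repr w j))
      ⟨j₀, Finset.mem_univ _⟩
    have hvj1 : 1 < v P (bs.repr w j) := lt_of_lt_of_le hj₀ (hj j₀ (Finset.mem_univ _))
    have hvj : v P (bs.repr w j) ≠ 0 := (lt_trans zero_lt_one hvj1).ne'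
    have haj : bs.repr w j ≠ 0 := (Valuation.ne_zero_iff _).1 hvj
    have hc1 : v P (bs.repr w j)⁻¹ < 1 := by
      rw [map_inv₀]
      exact inv_lt_one_of_one_lt₀ hvj1
    have hc2 : v P (bs.repr w j)⁻¹ ≤ WithZero.exp (-1 : ℤ) :=
      (lt_exp_succ_iff _ (-1)).1 (by simpa using hc1)
    have h1 := hstar (fun i => (bs.repr w j)⁻¹ * bs.repr w i) (fun i => by
        rw [map_mul, map_inv₀]
        calc (v P (bs.repr w j))⁻¹ * v P (bs.repr w i)
            ≤ (v P (bs.repr w j))⁻¹ * v P (bs.repr w j) :=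
              mul_le_mul_right (hj i (Finset.mem_univ _)) _
          _ = 1 := inv_mul_cancel₀ hvj)
      (fun i => by
        have : ∑ j', ((bs.repr w j)⁻¹ * bs.repr w j') • z j' = (bs.repr w j)⁻¹ • w := by
          have h0 : (bs.repr w j)⁻¹ • w = (bs.repr w j)⁻¹ • ∑ j', bs.repr w j' • z j' := by
            rw [← hsum]
          rw [h0, Finset.smul_sum]
          exact Finset.sum_congr rfl fun j' _ => by rw [mul_smul]
        rw [this, Algebra.smul_def, map_mul]
        have hov := isOverWith_ramIdx i.2 (bs.repr w j)⁻¹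
        change v i.1 _ = (v P _) ^ _ at hov
        rw [hov]
        calc v P (bs.repr w j)⁻¹ ^ ramIdx i.1 P * v i.1 w
            ≤ WithZero.exp (-1 : ℤ) ^ ramIdx i.1 P * 1 :=
              mul_le_mul' (pow_le_pow_left' hc2 _) (hw i)
          _ = _ := by rw [mul_one, ← WithZero.exp_nsmul]; simp) j
    have h1' : v P ((bs.repr w j)⁻¹ * bs.repr w j) < 1 := h1
    rw [inv_mul_cancel₀ haj, map_one] at h1'
    exact lt_irrefl _ h1'
  · exact hsum

omit [Algebra P.O K'] [IsScalarTower P.O K K'] in
/-- **Integral basis at `P`**: the semilocal ring of the places over `P` is a free `O_P`-module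
on a `K`-basis of `K'`. -/
theorem exists_integral_basis [FiniteDimensional K K'] (hK : IsFunctionField k K) :
    ∃ z : Fin (Module.finrank K K') → K', LinearIndependent K z ∧
      (∀ j, ∀ i : OverP K' P, v i.1 (z j) ≤ 1) ∧
      (∀ w : K', (∀ i : OverP K' P, v i.1 w ≤ 1) →
        ∃ a : Fin (Module.finrank K K') → K, (∀ j, v P (a j) ≤ 1) ∧ w = ∑ j, a j • z j) ∧
      ∀ a : Fin (Module.finrank K K') → K, (∀ j, v P (a j) ≤ 1) →
        (∀ i : OverP K' P, v i.1 (∑ j, a j • z j) ≤ WithZero.exp (-(ramIdx i.1 P : ℤ))) →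
        ∀ j, v P (a j) < 1 := by
  letI : Algebra P.O K' := ((algebraMap K K').comp P.O.subtype).toAlgebra
  haveI : IsScalarTower P.O K K' := IsScalarTower.of_algebraMap_eq (fun _ => rfl)
  obtain ⟨z, hz, hstar⟩ := exists_star (K' := K') P hK
  exact ⟨z, linearIndependent_of_star P z hstar, hz,
    fun w hw => exists_repr_of_star (K' := K') P rfl z hstar w hw, hstar⟩

end IntCl

end Groth.Agent.Lib.Helper2.FF
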