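import Mathlib
import Groth.Agent.Lib.Helper2.FunFld.IntCl

set_option autoImplicit false
open scoped WithZero IntermediateField NNReal
open FunFld Polynomial
open Groth.Agent.Lib.Helper2.RelDim

namespace Groth.Agent.Lib.Helper2.FF

section DVR

variable {k K : Type*} [Field k] [Field K] [Algebra k K] (P : FunFld.Place k K)

theorem isPrincipalIdealRing_O : IsPrincipalIdealRing P.O := by
  refine ⟨fun I => ?_⟩
  by_cases hI : I = ⊥
  · rw [hI]; exact bot_isPrincipal
  obtain ⟨x, hxI, hx0⟩ := Submodule.exists_mem_ne_zero_of_ne_bot hI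
  -- choose element of minimal order
  have hex : ∃ n : ℕ, ∃ a ∈ I, a ≠ 0 ∧ P.ord (a : K) = n := by
    have hx0' : (x : K) ≠ 0 := fun h => hx0 (Subtype.ext h)
    have := (v_le_one_iff P hx0').1 ((mem_O_iff P _).1 x.2)
    exact ⟨(P.ord (x : K)).toNat, x, hxI, hx0, (Int.toNat_of_nonneg this).symm⟩
  classical
  obtain ⟨a, haI, ha0, han⟩ := Nat.find_spec hex
  have hmin := fun m hm => Nat.find_min hex (m := m) hm
  refine ⟨a, ?_⟩
  apply le_antisymm
  · intro b hb
    by_cases hb0 : b = 0
    · rw [hb0]; exact Submodule.zero_mem _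
    have ha0' : (a : K) ≠ 0 := fun h => ha0 (Subtype.ext h)
    have hb0' : (b : K) ≠ 0 := fun h => hb0 (Subtype.ext h)
    have hbn : 0 ≤ P.ord (b : K) := (v_le_one_iff P hb0').1 ((mem_O_iff P _).1 b.2)
    have hle : P.ord (a : K) ≤ P.ord (b : K) := by
      by_contra hlt
      push Not at hlt
      apply hmin (P.ord (b : K)).toNat
      · have : ((P.ord (b : K)).toNat : ℤ) < Nat.find hex := by
          rw [Int.toNat_of_nonneg hbn, ← han]; exact hlt
        exact_mod_cast this
      · exact ⟨b, hb, hb0, (Int.toNat_of_nonneg hbn).symm⟩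
    have hc : (b : K) * (a : K)⁻¹ ∈ P.O := by
      rw [mem_O_iff, v_le_one_iff P (mul_ne_zero hb0' (inv_ne_zero ha0')),
        ord_mul P hb0' (inv_ne_zero ha0'), ord_inv]
      omega
    rw [Submodule.mem_span_singleton]
    refine ⟨⟨_, hc⟩, ?_⟩
    apply Subtype.ext
    change (b : K) * (a : K)⁻¹ * (a : K) = b
    field_simp
  · rw [Submodule.span_singleton_le_iff_mem]
    exact haI

theorem isDiscreteValuationRing_O : IsDiscreteValuationRing P.O := by
  haveI := isPrincipalIdealRing_O P
  refine { not_a_field' := ?_ }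
  obtain ⟨t, ht⟩ := exists_uniformizer P
  have ht1 : v P t < 1 := by
    rw [ht, ← WithZero.exp_zero, WithZero.exp_lt_exp]; norm_num
  intro h
  have hm : (⟨t, (mem_O_iff P t).2 ht1.le⟩ : P.O) ∈ IsLocalRing.maximalIdeal P.O :=
    (Valuation.mem_maximalIdeal_iff _ _).2 ht1
  rw [h] at hm
  have : t = 0 := congrArg Subtype.val ((Submodule.mem_bot _).1 hm)
  rw [this, map_zero] at ht
  exact WithZero.exp_ne_zero ht.symm

end DVR

section Integral

theorem v_le_one_of_isIntegral {R L Γ : Type*} [CommRing R] [Field L] [Algebra R L]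
    [LinearOrderedCommGroupWithZero Γ] (w : Valuation L Γ)
    (hR : ∀ r : R, w (algebraMap R L r) ≤ 1) {x : L} (hx : IsIntegral R x) : w x ≤ 1 := by
  obtain ⟨f, hm, hf⟩ := hx
  by_cases hn : f.natDegree = 0
  · rw [Polynomial.natDegree_eq_zero] at hn
    obtain ⟨c, rfl⟩ := hn
    have : c = 1 := by
      have := hm.leadingCoeff
      simpa using this
    subst this
    simp at hf
  rw [Polynomial.eval₂_eq_sum_range, Finset.sum_range_succ, hm.coeff_natDegree, map_one,
    one_mul, add_eq_zero_iff_eq_neg] at hf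
  by_contra hcon
  push Not at hcon
  have h1 : w (∑ i ∈ Finset.range f.natDegree, algebraMap R L (f.coeff i) * x ^ i) <
      w x ^ f.natDegree := by
    refine w.map_sum_lt ?_ ?_
    · exact pow_ne_zero _ (hcon.trans' zero_lt_one).ne'
    · intro i hi
      rw [Finset.mem_range] at hi
      rw [map_mul, map_pow]
      exact mul_lt_of_le_one_of_lt (hR _) <| pow_lt_pow_right₀ hcon hi
  have h2 := congrArg w hf
  rw [Valuation.map_neg, map_pow] at h2
  rw [h2] at h1
  exact lt_irrefl _ h1

end Integral

section Finite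

variable {k K K' : Type*} [Field k] [Field K] [Field K'] [Algebra k K] [Algebra K K'] [Algebra k K']
  [IsScalarTower k K K'] (P : FunFld.Place k K) [Algebra P.O K'] [IsScalarTower P.O K K']

theorem integralClosure_le_BP : integralClosure P.O K' ≤ BP (K' := K') P := by
  intro x hx i
  exact v_le_one_of_isIntegral (v i.1) (fun r => v_over_algebraMap_le P i r) hx

theorem BP_le_span [FiniteDimensional K K'] (hK : IsFunctionField k K) :
    ∃ z : Fin (Module.finrank K K') → K', LinearIndependent K z ∧ (∀ j, z j ∈ BP (K' := K') P) ∧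
      Subalgebra.toSubmodule (BP (K' := K') P) = Submodule.span P.O (Set.range z) := by
  obtain ⟨z, hli, hzB, hz, -⟩ := exists_integral_basis (K' := K') P hK
  refine ⟨z, hli, hzB, le_antisymm ?_ ?_⟩
  · intro x hx
    obtain ⟨a, ha, rfl⟩ := hz x hx
    refine Submodule.sum_mem _ fun j _ => ?_
    have : a j • z j = (⟨a j, (mem_O_iff P _).2 (ha j)⟩ : P.O) • z j := by
      rw [Algebra.smul_def, Algebra.smul_def, algebraMap_O_apply]
    rw [this]
    exact Submodule.smul_mem _ _ (Submodule.subset_span ⟨j, rfl⟩)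
  · rw [Submodule.span_le]
    rintro _ ⟨j, rfl⟩
    exact hzB j

theorem fg_BP [FiniteDimensional K K'] (hK : IsFunctionField k K) :
    (Subalgebra.toSubmodule (BP (K' := K') P)).FG := by
  obtain ⟨z, -, -, hz⟩ := BP_le_span (K' := K') P hK
  rw [hz]
  exact Submodule.fg_span (Set.finite_range z)

theorem integralClosure_eq_BP [FiniteDimensional K K'] (hK : IsFunctionField k K) :
    integralClosure P.O K' = BP (K' := K') P := by
  refine le_antisymm (integralClosure_le_BP P) ?_
  intro x hx
  exact IsIntegral.of_mem_of_fg (BP (K' := K') P) (fg_BP P hK) x hx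

/-- S10981 -/
theorem finite_integralClosure [FiniteDimensional K K'] (hK : IsFunctionField k K) :
    Module.Finite P.O (integralClosure P.O K') := by
  rw [integralClosure_eq_BP P hK]
  exact (Module.Finite.iff_fg (N := Subalgebra.toSubmodule (BP (K' := K') P))).2 (fg_BP P hK)

end Finite

end Groth.Agent.Lib.Helper2.FF
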