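import Mathlib
import Groth.Agent.Lib.Helper2.FunFld.IntCl2

set_option autoImplicit false
open scoped WithZero IntermediateField NNReal
open FunFld Polynomial
open Groth.Agent.Lib.Helper2.RelDim

namespace Groth.Agent.Lib.Helper2.FF

section Quot

variable {k K : Type*} [Field k] [Field K] [Algebra k K] (P : FunFld.Place k K)

theorem coe_smul_O (c : k) (a : P.O) : ((c • a : P.O) : K) = c • (a : K) := by
  rw [Algebra.smul_def, Algebra.smul_def]; rfl

/-- `O_P → ball 0` -/
def toBall0 : P.O →ₗ[k] ball P 0 where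
  toFun a := ⟨a.1, by rw [mem_ball, WithZero.exp_zero]; exact (mem_O_iff P _).1 a.2⟩
  map_add' _ _ := rfl
  map_smul' c a := Subtype.ext (coe_smul_O P c a)

theorem toBall0_surjective : Function.Surjective (toBall0 P) := by
  intro a
  have := a.2
  rw [mem_ball, WithZero.exp_zero] at this
  exact ⟨⟨a.1, (mem_O_iff P _).2 this⟩, rfl⟩

/-- `O_P → O_P / ball (-m)` -/
def toBallQ (m : ℕ) : P.O →ₗ[k] RQ (ball P (-(m : ℤ))) (ball P 0) :=
  ((ball P (-(m : ℤ))).submoduleOf (ball P 0)).mkQ.comp (toBall0 P)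

theorem toBallQ_surjective (m : ℕ) : Function.Surjective (toBallQ P m) := by
  intro q
  obtain ⟨a, rfl⟩ := Submodule.mkQ_surjective _ q
  obtain ⟨b, rfl⟩ := toBall0_surjective P a
  exact ⟨b, rfl⟩

theorem toBallQ_eq_zero_iff (m : ℕ) (a : P.O) :
    toBallQ P m a = 0 ↔ v P (a : K) ≤ WithZero.exp (-(m : ℤ)) := by
  rw [toBallQ, LinearMap.comp_apply, Submodule.mkQ_apply, Submodule.Quotient.mk_eq_zero]
  rfl

theorem ker_toBallQ {a : P.O} (ha : a ≠ 0) (m : ℕ) (hm : P.ord (a : K) = m) :
    LinearMap.ker (toBallQ P m) = (Ideal.span {a}).restrictScalars k := by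
  have ha0 : (a : K) ≠ 0 := fun h => ha (Subtype.ext h)
  ext b
  rw [LinearMap.mem_ker, toBallQ_eq_zero_iff, Submodule.restrictScalars_mem,
    Ideal.mem_span_singleton']
  constructor
  · intro h
    have hc : (b : K) * (a : K)⁻¹ ∈ P.O := by
      rw [mem_O_iff, map_mul, map_inv₀, v_eq_exp_neg_ord P ha0, hm, ← WithZero.exp_neg, neg_neg]
      calc v P (b : K) * WithZero.exp (m : ℤ) ≤ WithZero.exp (-(m : ℤ)) * WithZero.exp (m : ℤ) :=
            mul_le_mul_left h _
        _ = 1 := by rw [← WithZero.exp_add]; simp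
    refine ⟨⟨_, hc⟩, ?_⟩
    apply Subtype.ext
    change (b : K) * (a : K)⁻¹ * (a : K) = b
    field_simp
  · rintro ⟨c, rfl⟩
    change v P ((c : K) * (a : K)) ≤ _
    rw [map_mul, v_eq_exp_neg_ord P ha0, hm]
    calc v P (c : K) * WithZero.exp (-(m : ℤ)) ≤ 1 * WithZero.exp (-(m : ℤ)) :=
          mul_le_mul_left ((mem_O_iff P _).1 c.2) _
      _ = _ := one_mul _

theorem finrank_O_quotient_span [hfin : FiniteDimensional k (IsLocalRing.ResidueField P.O)]
    {a : P.O} (ha : a ≠ 0) (m : ℕ) (hm : P.ord (a : K) = m) :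
    Module.Finite k (P.O ⧸ Ideal.span {a}) ∧
      Module.finrank k (P.O ⧸ Ideal.span {a}) = m * P.deg := by
  have e1 : (P.O ⧸ (Ideal.span {a}).restrictScalars k) ≃ₗ[k] (P.O ⧸ Ideal.span {a}) :=
    Submodule.Quotient.restrictScalarsEquiv k (Ideal.span {a})
  have e2 : (P.O ⧸ LinearMap.ker (toBallQ P m)) ≃ₗ[k] RQ (ball P (-(m : ℤ))) (ball P 0) :=
    (toBallQ P m).quotKerEquivOfSurjective (toBallQ_surjective P m)
  have e3 : (P.O ⧸ LinearMap.ker (toBallQ P m)) ≃ₗ[k] (P.O ⧸ (Ideal.span {a}).restrictScalars k) :=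
    Submodule.quotEquivOfEq _ _ (ker_toBallQ P ha m hm)
  have hf : Module.Finite k (RQ (ball P (-(m : ℤ))) (ball P 0)) := finIdx_ball P (by omega)
  have e := (e2.symm.trans e3).trans e1
  refine ⟨Module.Finite.equiv e, ?_⟩
  rw [← e.finrank_eq]
  have := idx_ball P (m := -(m : ℤ)) (n := 0) (by omega)
  have h3 : (idx (ball P (-(m : ℤ))) (ball P 0) : ℤ) = ((m * P.deg : ℕ) : ℤ) := by
    rw [this]; push_cast; ring
  exact_mod_cast h3

end Quot

section Norm

variable {k K K' : Type*} [Field k] [Field K] [Field K'] [Algebra k K] [Algebra K K'] [Algebra k K']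
  [IsScalarTower k K K'] (P : FunFld.Place k K) [Algebra P.O K'] [IsScalarTower P.O K K']

attribute [local instance] isScalarTower_k_O

/-- the reduction map with general exponents -/
noncomputable def fBe (e : OverP K' P → ℕ) : ↥(BP (K' := K') P) →ₗ[k] VV (Qf K' P) e :=
  (phi (Qf K' P) e).comp (toSemilocal P)

theorem fBe_surjective [FiniteDimensional K K'] (hK : IsFunctionField k K) (e : OverP K' P → ℕ) :
    Function.Surjective (fBe (K' := K') P e) := by
  haveI := finite_overP (K' := K') hK P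
  intro q
  obtain ⟨r, hr⟩ := phi_surjective (Qf K' P) Subtype.val_injective e q
  exact ⟨⟨r.1, r.2⟩, hr⟩

theorem fBe_eq_zero_iff (e : OverP K' P → ℕ) (z : ↥(BP (K' := K') P)) :
    fBe P e z = 0 ↔ ∀ i : OverP K' P, v i.1 z.1 ≤ WithZero.exp (-(e i : ℤ)) := by
  constructor
  · intro h i
    have := congrFun h i
    rw [fBe, LinearMap.comp_apply, phi_apply, Pi.zero_apply, compMap_eq_zero_iff] at this
    exact this
  · intro h
    funext i
    rw [fBe, LinearMap.comp_apply, phi_apply, Pi.zero_apply, compMap_eq_zero_iff]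
    exact h i

theorem ker_fBe {f : ↥(BP (K' := K') P)} (hf : f ≠ 0) (e : OverP K' P → ℕ)
    (he : ∀ i : OverP K' P, i.1.ord f.1 = e i) :
    LinearMap.ker (fBe (K' := K') P e) = (Ideal.span {f}).restrictScalars k := by
  have hf0 : f.1 ≠ 0 := fun h => hf (Subtype.ext h)
  ext b
  rw [LinearMap.mem_ker, fBe_eq_zero_iff, Submodule.restrictScalars_mem,
    Ideal.mem_span_singleton']
  constructor
  · intro h
    have hc : b.1 * f.1⁻¹ ∈ BP (K' := K') P := by
      intro i
      rw [map_mul, map_inv₀, v_eq_exp_neg_ord i.1 hf0, he i, ← WithZero.exp_neg, neg_neg]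
      calc v i.1 b.1 * WithZero.exp (e i : ℤ)
          ≤ WithZero.exp (-(e i : ℤ)) * WithZero.exp (e i : ℤ) := mul_le_mul_left (h i) _
        _ = 1 := by rw [← WithZero.exp_add]; simp
    refine ⟨⟨_, hc⟩, ?_⟩
    apply Subtype.ext
    change b.1 * f.1⁻¹ * f.1 = b.1
    field_simp
  · rintro ⟨c, rfl⟩ i
    change v i.1 (c.1 * f.1) ≤ _
    rw [map_mul, v_eq_exp_neg_ord i.1 hf0, he i]
    calc v i.1 c.1 * WithZero.exp (-(e i : ℤ)) ≤ 1 * WithZero.exp (-(e i : ℤ)) :=
          mul_le_mul_left (c.2 i) _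
      _ = _ := one_mul _

theorem finrank_BP_quotient_span [FiniteDimensional K K'] (hK : IsFunctionField k K)
    [Fintype (OverP K' P)]
    {f : ↥(BP (K' := K') P)} (hf : f ≠ 0) (e : OverP K' P → ℕ)
    (he : ∀ i : OverP K' P, i.1.ord f.1 = e i) :
    Module.finrank k (↥(BP (K' := K') P) ⧸ Ideal.span {f}) = ∑ i : OverP K' P, e i * i.1.deg := by
  have hFF : IsFFw k K' := isFFw_of_finite hK
  have h1 : Module.finrank k (↥(BP (K' := K') P) ⧸ Ideal.span {f}) =
      Module.finrank k (↥(BP (K' := K') P) ⧸ (Ideal.span {f}).restrictScalars k) :=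
    (Submodule.Quotient.restrictScalarsEquiv k (Ideal.span {f})).finrank_eq.symm
  have h2 : Module.finrank k (↥(BP (K' := K') P) ⧸ (Ideal.span {f}).restrictScalars k) =
      Module.finrank k (↥(BP (K' := K') P) ⧸ LinearMap.ker (fBe (K' := K') P e)) := by
    rw [ker_fBe P hf e he]
  have h3 : Module.finrank k (↥(BP (K' := K') P) ⧸ LinearMap.ker (fBe (K' := K') P e)) =
      Module.finrank k (VV (Qf K' P) e) :=
    ((fBe (K' := K') P e).quotKerEquivOfSurjective (fBe_surjective P hK e)).finrank_eq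
  have h4 : Module.finrank k (VV (Qf K' P) e) = ∑ i : OverP K' P, e i * i.1.deg :=
    finrank_VV' (Qf K' P) (fun i => finiteDimensional_residueField_w hFF i.1) e
  exact h1.trans (h2.trans (h3.trans h4))

/-- the chosen integral basis vectors -/
noncomputable def zB [FiniteDimensional K K'] (hK : IsFunctionField k K) :
    Fin (Module.finrank K K') → K' := Classical.choose (BP_le_span (K' := K') P hK)

theorem zB_spec [FiniteDimensional K K'] (hK : IsFunctionField k K) :
    LinearIndependent K (zB (K' := K') P hK) ∧ (∀ j, zB (K' := K') P hK j ∈ BP (K' := K') P) ∧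
      Subalgebra.toSubmodule (BP (K' := K') P) =
        Submodule.span P.O (Set.range (zB (K' := K') P hK)) :=
  Classical.choose_spec (BP_le_span (K' := K') P hK)

/-- the integral basis as a `P.O`-basis of `BP` -/
noncomputable def basisBP [FiniteDimensional K K'] (hK : IsFunctionField k K) :
    Module.Basis (Fin (Module.finrank K K')) P.O ↥(BP (K' := K') P) :=
  Module.Basis.mk (v := fun j => (⟨zB P hK j, (zB_spec P hK).2.1 j⟩ : ↥(BP (K' := K') P)))
    (by
      apply LinearIndependent.of_comp (BP (K' := K') P).val.toLinearMap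
      have h := (zB_spec (K' := K') P hK).1
      have hinj : Function.Injective fun r : P.O => r • (1 : K) := by
        intro a b hab
        apply Subtype.ext
        simpa [Algebra.smul_def] using hab
      exact h.restrict_scalars hinj)
    (by
      intro w _
      have h1 : (Submodule.span P.O (Set.range fun j =>
          (⟨zB P hK j, (zB_spec P hK).2.1 j⟩ : ↥(BP (K' := K') P)))).map
            (BP (K' := K') P).val.toLinearMap =
          Submodule.span P.O (Set.range (zB (K' := K') P hK)) := by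
        rw [Submodule.map_span, ← Set.range_comp]
        rfl
      have h2 : w.1 ∈ Submodule.span P.O (Set.range (zB (K' := K') P hK)) := by
        rw [← (zB_spec (K' := K') P hK).2.2]
        exact w.2
      rw [← h1] at h2
      obtain ⟨y, hy, hyw⟩ := h2
      have : y = w := Subtype.ext hyw
      rw [← this]
      exact hy)

theorem basisBP_apply [FiniteDimensional K K'] (hK : IsFunctionField k K)
    (j : Fin (Module.finrank K K')) : ((basisBP (K' := K') P hK j : ↥(BP (K' := K') P)) : K') =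
      zB P hK j := by
  simp [basisBP]

/-- the same vectors as a `K`-basis of `K'` -/
noncomputable def basisK [FiniteDimensional K K'] (hK : IsFunctionField k K) :
    Module.Basis (Fin (Module.finrank K K')) K K' :=
  haveI : Nonempty (Fin (Module.finrank K K')) := ⟨⟨0, Module.finrank_pos⟩⟩
  basisOfLinearIndependentOfCardEqFinrank (zB_spec (K' := K') P hK).1 (by simp)

theorem basisK_apply [FiniteDimensional K K'] (hK : IsFunctionField k K)
    (j : Fin (Module.finrank K K')) : basisK (K' := K') P hK j = zB P hK j := by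
  simp [basisK]

theorem norm_BP [FiniteDimensional K K'] (hK : IsFunctionField k K) (f : ↥(BP (K' := K') P)) :
    ((Algebra.norm P.O f : P.O) : K) = Algebra.norm K (f : K') := by
  classical
  rw [Algebra.norm_eq_matrix_det (basisBP (K' := K') P hK),
    Algebra.norm_eq_matrix_det (basisK (K' := K') P hK)]
  have hM : Algebra.leftMulMatrix (basisK (K' := K') P hK) (f : K') =
      (algebraMap P.O K).mapMatrix (Algebra.leftMulMatrix (basisBP (K' := K') P hK) f) := by
    ext i j
    rw [Algebra.leftMulMatrix_eq_repr_mul, RingHom.mapMatrix_apply, Matrix.map_apply,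
      Algebra.leftMulMatrix_eq_repr_mul]
    have h1 := (basisBP (K' := K') P hK).sum_repr (f * basisBP (K' := K') P hK j)
    have h2 : (f : K') * basisK (K' := K') P hK j =
        ∑ i, (algebraMap P.O K ((basisBP (K' := K') P hK).repr
          (f * basisBP (K' := K') P hK j) i)) • basisK (K' := K') P hK i := by
      have h3 := congrArg (Subtype.val) h1
      rw [AddSubmonoidClass.coe_finsetSum] at h3
      rw [basisK_apply, ← basisBP_apply]
      have h4 : (f : K') * ((basisBP (K' := K') P hK j : ↥(BP (K' := K') P)) : K') =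
          ((f * basisBP (K' := K') P hK j : ↥(BP (K' := K') P)) : K') := rfl
      rw [h4, ← h3]
      refine Finset.sum_congr rfl fun i _ => ?_
      rw [coe_smul_BP, basisK_apply, basisBP_apply, Algebra.smul_def, algebraMap_O_apply]
      rfl
    rw [h2, Module.Basis.repr_sum_self]
  rw [hM, ← RingHom.map_det]
  rfl

omit [Algebra k K'] [IsScalarTower k K K'] [Algebra P.O K'] [IsScalarTower P.O K K'] in
theorem ord_prod {ι : Type*} (s : Finset ι) (a : ι → K) (ha : ∀ i ∈ s, a i ≠ 0) :
    P.ord (∏ i ∈ s, a i) = ∑ i ∈ s, P.ord (a i) := by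
  classical
  induction s using Finset.induction_on with
  | empty => simp [ord_one]
  | insert j s hj ih =>
    rw [Finset.prod_insert hj, Finset.sum_insert hj,
      ord_mul P (ha j (Finset.mem_insert_self _ _))
        (Finset.prod_ne_zero_iff.2 fun i hi => ha i (Finset.mem_insert_of_mem hi)),
      ih fun i hi => ha i (Finset.mem_insert_of_mem hi)]

theorem deg_mul_ord_norm_BP [FiniteDimensional K K'] (hK : IsFunctionField k K)
    [Fintype (OverP K' P)] {f : ↥(BP (K' := K') P)} (hf : f ≠ 0) :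
    (P.deg : ℤ) * P.ord (Algebra.norm K (f : K')) =
      ∑ i : OverP K' P, (i.1.deg : ℤ) * i.1.ord f.1 := by
  classical
  haveI := isPrincipalIdealRing_O P
  haveI hfinP := finiteDimensional_residueField P hK
  have hf0 : f.1 ≠ 0 := fun h => hf (Subtype.ext h)
  have hI : Ideal.span {f} ≠ ⊥ := Ideal.span_singleton_eq_bot.not.2 hf
  set b := basisBP (K' := K') P hK with hb
  -- Smith coefficients
  have ha0 : ∀ i, Ideal.smithCoeffs b _ hI i ≠ 0 := fun i => Ideal.smithCoeffs_ne_zero b _ hI i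
  have ha0' : ∀ i, ((Ideal.smithCoeffs b _ hI i : P.O) : K) ≠ 0 :=
    fun i h => ha0 i (Subtype.ext h)
  have hm : ∀ i, 0 ≤ P.ord ((Ideal.smithCoeffs b _ hI i : P.O) : K) := fun i =>
    (v_le_one_iff P (ha0' i)).1 ((mem_O_iff P _).1 (Ideal.smithCoeffs b _ hI i).2)
  have hq := fun i => finrank_O_quotient_span P (ha0 i)
    (P.ord ((Ideal.smithCoeffs b _ hI i : P.O) : K)).toNat (Int.toNat_of_nonneg (hm i)).symm
  haveI : ∀ i, Module.Finite k (P.O ⧸ Ideal.span {Ideal.smithCoeffs b _ hI i}) :=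
    fun i => (hq i).1
  have h1 := Ideal.finrank_quotient_eq_sum k hI b
  -- orders of f
  have he0 : ∀ i : OverP K' P, 0 ≤ i.1.ord f.1 := fun i =>
    (v_le_one_iff i.1 hf0).1 (f.2 i)
  have h2 := finrank_BP_quotient_span P hK hf (fun i => (i.1.ord f.1).toNat)
    (fun i => (Int.toNat_of_nonneg (he0 i)).symm)
  rw [h1] at h2
  -- the norm
  have h3 := associated_norm_prod_smith b hf
  obtain ⟨u, hu⟩ := h3
  have hu1 : v P ((u : P.O) : K) = 1 := by
    have h4 : v P ((u : P.O) : K) ≤ 1 := (mem_O_iff P _).1 (u : P.O).2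
    have h5 : v P (((u⁻¹ : (P.O)ˣ) : P.O) : K) ≤ 1 := (mem_O_iff P _).1 ((u⁻¹ : (P.O)ˣ) : P.O).2
    have h6 : ((u : P.O) : K) * (((u⁻¹ : (P.O)ˣ) : P.O) : K) = 1 := by
      have := congrArg Subtype.val (u.mul_inv)
      exact this
    have h7 := congrArg (v P) h6
    rw [map_mul, map_one] at h7
    refine le_antisymm h4 ?_
    by_contra hlt
    push Not at hlt
    have : v P ((u : P.O) : K) * v P (((u⁻¹ : (P.O)ˣ) : P.O) : K) < 1 :=
      mul_lt_one_of_lt_of_le hlt h5
    rw [h7] at this
    exact lt_irrefl _ this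
  have hu0 : ((u : P.O) : K) ≠ 0 := by
    intro h
    rw [h, map_zero] at hu1
    exact zero_ne_one hu1
  have hN0 : Algebra.norm K (f : K') ≠ 0 := Algebra.norm_ne_zero_iff.2 hf0
  have h8 : P.ord (Algebra.norm K (f : K')) =
      ∑ i, P.ord ((Ideal.smithCoeffs b _ hI i : P.O) : K) := by
    have h9 := congrArg Subtype.val hu
    change ((Algebra.norm P.O f : P.O) : K) * ((u : P.O) : K) =
      ((∏ i, Ideal.smithCoeffs b _ hI i : P.O) : K) at h9
    rw [norm_BP P hK f] at h9
    have h10 : ((∏ i, Ideal.smithCoeffs b _ hI i : P.O) : K) =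
        ∏ i, ((Ideal.smithCoeffs b _ hI i : P.O) : K) :=
      map_prod P.O.subtype _ _
    rw [h10] at h9
    have h11 := congrArg P.ord h9
    rw [ord_mul P hN0 hu0, (v_eq_one_iff P hu0).1 hu1, add_zero,
      ord_prod P _ _ (fun i _ => ha0' i)] at h11
    exact h11
  rw [h8, Finset.mul_sum]
  have h12 : (∑ i, (P.deg : ℤ) * P.ord ((Ideal.smithCoeffs b _ hI i : P.O) : K)) =
      ((∑ i, Module.finrank k (P.O ⧸ Ideal.span {Ideal.smithCoeffs b _ hI i}) : ℕ) : ℤ) := by
    push_cast
    refine Finset.sum_congr rfl fun i _ => ?_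
    rw [(hq i).2]
    push_cast
    rw [Int.toNat_of_nonneg (hm i)]
    ring
  rw [h12, h2]
  push_cast
  refine Finset.sum_congr rfl fun i _ => ?_
  rw [Int.toNat_of_nonneg (he0 i)]
  ring

omit [Algebra P.O K'] [IsScalarTower P.O K K'] in
/-- S11033 -/
theorem deg_mul_ord_norm [FiniteDimensional K K'] (hK : IsFunctionField k K) (x : K')
    (Qs : Finset (FunFld.Place k K')) (hQs : ∀ Q, Q ∈ Qs ↔ IsOver Q P) :
    (P.deg : ℤ) * P.ord (Algebra.norm K x) = ∑ Q ∈ Qs, (Q.deg : ℤ) * Q.ord x := by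
  classical
  letI : Algebra P.O K' := ((algebraMap K K').comp P.O.subtype).toAlgebra
  haveI : IsScalarTower P.O K K' := IsScalarTower.of_algebraMap_eq (fun _ => rfl)
  letI : Fintype (OverP K' P) := Fintype.subtype Qs hQs
  have hsum : ∀ g : FunFld.Place k K' → ℤ, ∑ Q ∈ Qs, g Q = ∑ i : OverP K' P, g i.1 := fun g =>
    Finset.sum_subtype (p := fun Q : FunFld.Place k K' => IsOver Q P) Qs hQs g
  by_cases hx : x = 0
  · subst hx
    simp [ord_zero]
  obtain ⟨t, ht⟩ := exists_uniformizer P
  have ht0 : t ≠ 0 := by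
    rintro rfl
    rw [map_zero] at ht
    exact WithZero.exp_ne_zero ht.symm
  set τ : K' := algebraMap K K' t with hτ
  have hτ0 : τ ≠ 0 := by simpa [hτ] using ht0
  have hordτ : ∀ i : OverP K' P, i.1.ord τ = ramIdx i.1 P := fun i => by
    rw [ord_eq_iff i.1 hτ0]
    exact v_over_uniformizer P ht i
  obtain ⟨N, hN⟩ : ∃ N : ℕ, ∀ i : OverP K' P, -(i.1.ord x) ≤ N := by
    refine ⟨∑ i : OverP K' P, (i.1.ord x).natAbs, fun i => ?_⟩
    have h1 : (i.1.ord x).natAbs ≤ ∑ i : OverP K' P, (i.1.ord x).natAbs :=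
      Finset.single_le_sum (f := fun i : OverP K' P => (i.1.ord x).natAbs)
        (fun _ _ => Nat.zero_le _) (Finset.mem_univ i)
    have h2 : -(i.1.ord x) ≤ ((i.1.ord x).natAbs : ℤ) := by omega
    exact h2.trans (by exact_mod_cast h1)
  have hg0 : τ ^ N ≠ 0 := pow_ne_zero _ hτ0
  have hgB : τ ^ N ∈ BP (K' := K') P := by
    intro i
    rw [v_le_one_iff i.1 hg0, ord_pow, hordτ]
    positivity
  have hfB : x * τ ^ N ∈ BP (K' := K') P := by
    intro i
    rw [v_le_one_iff i.1 (mul_ne_zero hx hg0), ord_mul i.1 hx hg0, ord_pow, hordτ]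
    have h1 := hN i
    have h2 : (1 : ℤ) ≤ ramIdx i.1 P := by exact_mod_cast isOverWith_one_le (isOverWith_ramIdx i.2)
    nlinarith [Int.natCast_nonneg N]
  have h1 := deg_mul_ord_norm_BP P hK (f := ⟨τ ^ N, hgB⟩) (fun h => hg0 (congrArg Subtype.val h))
  have h2 := deg_mul_ord_norm_BP P hK (f := ⟨x * τ ^ N, hfB⟩)
    (fun h => mul_ne_zero hx hg0 (congrArg Subtype.val h))
  simp only at h1 h2
  rw [map_mul, ord_mul P (Algebra.norm_ne_zero_iff.2 hx) (Algebra.norm_ne_zero_iff.2 hg0),
    mul_add, h1] at h2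
  rw [hsum]
  have h3 : ∑ i : OverP K' P, (i.1.deg : ℤ) * i.1.ord (x * τ ^ N) =
      ∑ i : OverP K' P, (i.1.deg : ℤ) * i.1.ord x +
        ∑ i : OverP K' P, (i.1.deg : ℤ) * i.1.ord (τ ^ N) := by
    rw [← Finset.sum_add_distrib]
    refine Finset.sum_congr rfl fun i _ => ?_
    rw [ord_mul i.1 hx hg0]; ring
  rw [h3] at h2
  linarith

end Norm

end Groth.Agent.Lib.Helper2.FF
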