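import Mathlib
import Groth.Agent.Lib.Helper2.FunFld.IntCl3

set_option autoImplicit false
open scoped WithZero IntermediateField NNReal
open FunFld Polynomial
open Groth.Agent.Lib.Helper2.RelDim

namespace Groth.Agent.Lib.Helper2.FF

section Trace

variable {k K K' : Type*} [Field k] [Field K] [Field K'] [Algebra k K] [Algebra K K'] [Algebra k K']
  [IsScalarTower k K K'] (P : FunFld.Place k K) [Algebra P.O K'] [IsScalarTower P.O K K']

theorem leftMulMatrix_basisK [FiniteDimensional K K'] (hK : IsFunctionField k K)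
    (f : ↥(BP (K' := K') P)) :
    Algebra.leftMulMatrix (basisK (K' := K') P hK) (f : K') =
      (algebraMap P.O K).mapMatrix (Algebra.leftMulMatrix (basisBP (K' := K') P hK) f) := by
  classical
  ext i j
  rw [Algebra.leftMulMatrix_eq_repr_mul, RingHom.mapMatrix_apply, Matrix.map_apply,
    Algebra.leftMulMatrix_eq_repr_mul]
  have h1 := (basisBP (K' := K') P hK).sum_repr (f * basisBP (K' := K') P hK j)
  have h2 : (f : K') * basisK (K' := K') P hK j =
      ∑ i, (algebraMap P.O K ((basisBP (K' := K') P hK).repr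
        (f * basisBP (K' := K') P hK j) i)) • basisK (K' := K') P hK i := by
    have h3 := congrArg (Subtype.val) h1
    rw [AddSubmonoidClass.coe_finsetSum] at h3
    rw [basisK_apply, ← basisBP_apply]
    have h4 : (f : K') * ((basisBP (K' := K') P hK j : ↥(BP (K' := K') P)) : K') =
        ((f * basisBP (K' := K') P hK j : ↥(BP (K' := K') P)) : K') := rfl
    rw [h4, ← h3]
    refine Finset.sum_congr rfl fun i _ => ?_
    rw [coe_smul_BP, basisK_apply, basisBP_apply, Algebra.smul_def, algebraMap_O_apply]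
    rfl
  rw [h2, Module.Basis.repr_sum_self]

theorem trace_BP [FiniteDimensional K K'] (hK : IsFunctionField k K) (f : ↥(BP (K' := K') P)) :
    ((Algebra.trace P.O ↥(BP (K' := K') P) f : P.O) : K) = Algebra.trace K K' (f : K') := by
  classical
  rw [Algebra.trace_eq_matrix_trace (basisBP (K' := K') P hK),
    Algebra.trace_eq_matrix_trace (basisK (K' := K') P hK), leftMulMatrix_basisK,
    RingHom.mapMatrix_apply]
  exact (AddMonoidHom.map_trace (algebraMap P.O K).toAddMonoidHom _)

theorem v_trace_le_one [FiniteDimensional K K'] (hK : IsFunctionField k K) {x : K'}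
    (hx : x ∈ BP (K' := K') P) : v P (Algebra.trace K K' x) ≤ 1 := by
  have := trace_BP P hK ⟨x, hx⟩
  rw [← this]
  exact (mem_O_iff P _).1 (Algebra.trace P.O ↥(BP (K' := K') P) ⟨x, hx⟩).2

theorem v_trace_lt_one [FiniteDimensional K K'] (hK : IsFunctionField k K) {u : K'}
    (hu : ∀ i : OverP K' P, v i.1 u < 1) : v P (Algebra.trace K K' u) < 1 := by
  classical
  haveI := finite_overP (K' := K') hK P
  haveI := Fintype.ofFinite (OverP K' P)
  have huB : u ∈ BP (K' := K') P := fun i => (hu i).le
  obtain ⟨t, ht⟩ := exists_uniformizer P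
  have ht1 : v P t < 1 := by
    rw [ht, ← WithZero.exp_zero, WithZero.exp_lt_exp]; norm_num
  have ht0 : t ≠ 0 := by
    rintro rfl
    rw [map_zero] at ht
    exact WithZero.exp_ne_zero ht.symm
  set τ : K' := algebraMap K K' t with hτ
  have hτ0 : τ ≠ 0 := by simpa [hτ] using ht0
  -- a power of u is divisible by τ
  set N : ℕ := ∑ i : OverP K' P, ramIdx i.1 P with hN
  have hNi : ∀ i : OverP K' P, ramIdx i.1 P ≤ N := fun i =>
    Finset.single_le_sum (f := fun i : OverP K' P => ramIdx i.1 P)
      (fun _ _ => Nat.zero_le _) (Finset.mem_univ i)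
  have hcB : u ^ N * τ⁻¹ ∈ BP (K' := K') P := by
    intro i
    rw [map_mul, map_inv₀, map_pow, v_over_uniformizer P ht i, ← WithZero.exp_neg, neg_neg]
    have h1 : v i.1 u ≤ WithZero.exp (-1 : ℤ) :=
      (lt_exp_succ_iff _ (-1)).1 (by simpa using hu i)
    calc v i.1 u ^ N * WithZero.exp (ramIdx i.1 P : ℤ)
        ≤ WithZero.exp (-1 : ℤ) ^ N * WithZero.exp (ramIdx i.1 P : ℤ) :=
          mul_le_mul_left (pow_le_pow_left' h1 _) _
      _ = WithZero.exp (-(N : ℤ) + ramIdx i.1 P) := by
          rw [← WithZero.exp_nsmul, ← WithZero.exp_add]; simp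
      _ ≤ 1 := by
          rw [← WithZero.exp_zero, WithZero.exp_le_exp]
          have := hNi i
          omega
  set tO : P.O := ⟨t, (mem_O_iff P t).2 ht1.le⟩ with htO
  have htm : tO ∈ IsLocalRing.maximalIdeal P.O := (Valuation.mem_maximalIdeal_iff _ _).2 ht1
  set b := basisBP (K' := K') P hK with hb
  set uB : ↥(BP (K' := K') P) := ⟨u, huB⟩ with huB'
  set cB : ↥(BP (K' := K') P) := ⟨_, hcB⟩ with hcB'
  have hpow : uB ^ N = tO • cB := by
    apply Subtype.ext
    rw [coe_smul_BP, algebraMap_O_apply]
    change u ^ N = τ * (u ^ N * τ⁻¹)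
    field_simp
  -- the matrix of u
  set M := Algebra.leftMulMatrix b uB with hM
  have hMN : M ^ N = tO • Algebra.leftMulMatrix b cB := by
    rw [hM, ← map_pow, hpow, map_smul]
  -- reduce mod the maximal ideal
  let res := IsLocalRing.residue P.O
  have hnil : IsNilpotent (res.mapMatrix M) := by
    refine ⟨N, ?_⟩
    rw [← map_pow, hMN]
    ext i j
    simp only [RingHom.mapMatrix_apply, Matrix.map_apply, Matrix.smul_apply, smul_eq_mul, map_mul,
      Matrix.zero_apply]
    rw [(IsLocalRing.residue_eq_zero_iff _).2 htm, zero_mul]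
  have htr := Matrix.isNilpotent_trace_of_isNilpotent hnil
  have htr0 : (res.mapMatrix M).trace = 0 := htr.eq_zero
  have h5 : res (Algebra.trace P.O ↥(BP (K' := K') P) uB) = 0 := by
    rw [Algebra.trace_eq_matrix_trace b, ← htr0, RingHom.mapMatrix_apply]
    exact (AddMonoidHom.map_trace res.toAddMonoidHom _)
  have h6 := (IsLocalRing.residue_eq_zero_iff _).1 h5
  have h7 := (Valuation.mem_maximalIdeal_iff _ _).1 h6
  rw [trace_BP P hK uB] at h7
  exact h7

omit [Algebra P.O K'] [IsScalarTower P.O K K'] in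
/-- If a `K`-basis of `K'` is integral at all places over `P` and its discriminant is a unit at
`P`, then `P` is unramified in `K'`. -/
theorem ramIdx_eq_one_of_discr_unit [FiniteDimensional K K'] (hK : IsFunctionField k K)
    {ι : Type*} [Fintype ι] [DecidableEq ι] (b : Module.Basis ι K K')
    (hbB : ∀ j, ∀ i : OverP K' P, v i.1 (b j) ≤ 1) (hd : v P (Algebra.discr K b) = 1)
    (i₀ : OverP K' P) : ramIdx i₀.1 P = 1 := by
  classical
  letI : Algebra P.O K' := ((algebraMap K K').comp P.O.subtype).toAlgebra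
  haveI : IsScalarTower P.O K K' := IsScalarTower.of_algebraMap_eq (fun _ => rfl)
  haveI := finite_overP (K' := K') hK P
  have h1 := isOverWith_one_le (isOverWith_ramIdx i₀.2)
  by_contra hne
  have h2 : 2 ≤ ramIdx i₀.1 P := by omega
  -- a common uniformizer
  choose π hπ using fun i : OverP K' P => exists_uniformizer i.1
  obtain ⟨u, hu⟩ := weak_approx (Qf K' P) Subtype.val_injective π (fun _ => -1)
  have hvu : ∀ i : OverP K' P, v i.1 u = WithZero.exp (-1 : ℤ) := by
    intro i
    have h3 : u = π i + (u - π i) := by ring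
    rw [h3, Valuation.map_add_eq_of_lt_left, hπ]
    rw [hπ]
    exact hu i
  have hu1 : ∀ i : OverP K' P, v i.1 u < 1 := fun i => by
    rw [hvu, ← WithZero.exp_zero, WithZero.exp_lt_exp]; norm_num
  -- traces
  have hT : ∀ l, v P (Algebra.trace K K' (u * b l)) < 1 := fun l =>
    v_trace_lt_one P hK (fun i => by
      rw [map_mul]
      exact mul_lt_one_of_lt_of_le (hu1 i) (hbB l i))
  -- the trace matrix over `O_P`
  have hG : ∀ j l, v P (Algebra.trace K K' (b j * b l)) ≤ 1 := fun j l =>
    v_trace_le_one P hK (fun i => by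
      rw [map_mul]; exact mul_le_one' (hbB j i) (hbB l i))
  set G : Matrix ι ι K := Algebra.traceMatrix K b with hGdef
  set G' : Matrix ι ι P.O := fun j l => ⟨Algebra.trace K K' (b j * b l), (mem_O_iff P _).2 (hG j l)⟩
    with hG'def
  have hGG' : G = (algebraMap P.O K).mapMatrix G' := by
    ext j l
    rfl
  have hadj : ∀ j l, v P (G.adjugate j l) ≤ 1 := by
    intro j l
    rw [hGG', ← RingHom.map_adjugate]
    exact (mem_O_iff P _).1 (G'.adjugate j l).2
  -- coordinates of u
  set c := b.repr u with hc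
  have hcu : u = ∑ j, c j • b j := (b.sum_repr u).symm
  have hTc : ∀ l, Algebra.trace K K' (u * b l) = ∑ j, c j * G j l := by
    intro l
    conv_lhs => rw [hcu, Finset.sum_mul, map_sum]
    refine Finset.sum_congr rfl fun j _ => ?_
    rw [smul_mul_assoc, map_smul, smul_eq_mul]
    rfl
  have hdet : G.det = Algebra.discr K b := by
    rw [Algebra.discr_def]
  have hkey : ∀ j, G.det * c j = ∑ l, Algebra.trace K K' (u * b l) * G.adjugate l j := by
    intro j
    have h3 : Matrix.vecMul (fun j => c j) (G * G.adjugate) =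
        Matrix.vecMul (fun l => Algebra.trace K K' (u * b l)) G.adjugate := by
      rw [← Matrix.vecMul_vecMul]
      congr 1
      funext l
      rw [hTc l]
      rfl
    rw [Matrix.mul_adjugate, Matrix.vecMul_smul, Matrix.vecMul_one] at h3
    have := congrFun h3 j
    simpa [Matrix.vecMul, dotProduct] using this
  have hcj : ∀ j, v P (c j) < 1 := by
    intro j
    have h3 : v P (G.det * c j) < 1 := by
      rw [hkey j]
      refine Valuation.map_sum_lt _ one_ne_zero fun l _ => ?_
      rw [map_mul]
      exact mul_lt_one_of_lt_of_le (hT l) (hadj l j)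
    rw [map_mul, hdet, hd, one_mul] at h3
    exact h3
  -- contradiction
  have h4 : v i₀.1 u ≤ WithZero.exp (-(ramIdx i₀.1 P : ℤ)) := by
    rw [hcu]
    refine Valuation.map_sum_le _ fun j _ => ?_
    rw [Algebra.smul_def, map_mul]
    have hov := isOverWith_ramIdx i₀.2 (c j)
    change v i₀.1 _ = (v P _) ^ _ at hov
    rw [hov]
    have h5 : v P (c j) ≤ WithZero.exp (-1 : ℤ) :=
      (lt_exp_succ_iff _ (-1)).1 (by simpa using hcj j)
    calc v P (c j) ^ ramIdx i₀.1 P * v i₀.1 (b j)
        ≤ WithZero.exp (-1 : ℤ) ^ ramIdx i₀.1 P * 1 :=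
          mul_le_mul' (pow_le_pow_left' h5 _) (hbB j i₀)
      _ = _ := by rw [mul_one, ← WithZero.exp_nsmul]; simp
  rw [hvu, WithZero.exp_le_exp] at h4
  omega

end Trace

section Finite

variable {k K K' : Type*} [Field k] [Field K] [Field K'] [Algebra k K] [Algebra K K'] [Algebra k K']
  [IsScalarTower k K K']

/-- S11020 -/
theorem finite_ramified [FiniteDimensional K K'] (hK : IsFunctionField k K)
    [Algebra.IsSeparable K K'] :
    {Q : FunFld.Place k K' | ¬ Function.Surjective (Q.1.comap (algebraMap K K'))}.Finite := by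
  classical
  have hFF : IsFFw k K' := isFFw_of_finite hK
  let b := Module.finBasis K K'
  have hd0 : Algebra.discr K b ≠ 0 := Algebra.discr_not_zero_of_basis K b
  set S1 : Set (FunFld.Place k K') := ⋃ j, Function.support fun Q : FunFld.Place k K' => Q.ord (b j)
    with hS1
  have hS1fin : S1.Finite := Set.finite_iUnion fun j => finite_support_ord' hFF (b j)
  set S2 : Set (FunFld.Place k K) := Function.support fun P : FunFld.Place k K =>
    P.ord (Algebra.discr K b) with hS2
  have hS2fin : S2.Finite := finite_support_ord hK _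
  have hfin1 : (⋃ Q' ∈ S1, {Q : FunFld.Place k K' | ∃ P : FunFld.Place k K,
      IsOver Q' P ∧ IsOver Q P}).Finite := by
    refine hS1fin.biUnion fun Q' _ => ?_
    obtain ⟨P₀, e₀, h₀⟩ := exists_isOverWith hK Q'
    refine (finite_isOver (K' := K') hK P₀).subset ?_
    rintro Q ⟨P, ⟨e, he⟩, hQP⟩
    have := isOverWith_unique he h₀
    subst this
    exact hQP
  have hfin2 : (⋃ P ∈ S2, {Q : FunFld.Place k K' | IsOver Q P}).Finite :=
    hS2fin.biUnion fun P _ => finite_isOver hK P
  refine (hfin1.union hfin2).subset ?_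
  intro Q hQ
  simp only [Set.mem_ofPred_eq] at hQ
  obtain ⟨P, e, he⟩ := exists_isOverWith hK Q
  have hram : ramIdx Q P ≠ 1 := by
    intro h1
    apply hQ
    have he1 : e = 1 := by rw [← ramIdx_eq he]; exact h1
    subst he1
    intro γ
    obtain ⟨z, hz⟩ := P.2.2 γ
    refine ⟨z, ?_⟩
    rw [Valuation.comap_apply, he z, pow_one, hz]
  by_cases hgood : (∀ j, ∀ i : OverP K' P, v i.1 (b j) ≤ 1) ∧ v P (Algebra.discr K b) = 1
  · exact absurd (ramIdx_eq_one_of_discr_unit P hK b hgood.1 hgood.2 ⟨Q, e, he⟩) hram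
  · rw [not_and_or] at hgood
    rcases hgood with h | h
    · push Not at h
      obtain ⟨j, i, hji⟩ := h
      left
      simp only [Set.mem_iUnion]
      refine ⟨i.1, ?_, P, i.2, e, he⟩
      rw [hS1, Set.mem_iUnion]
      refine ⟨j, ?_⟩
      rw [Function.mem_support]
      have hbj0 : b j ≠ 0 := b.ne_zero j
      have := (one_lt_v_iff i.1 hbj0).1 hji
      omega
    · right
      simp only [Set.mem_iUnion]
      refine ⟨P, ?_, e, he⟩
      rw [hS2, Function.mem_support]
      intro h0
      exact h ((v_eq_one_iff P hd0).2 h0)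

end Finite

end Groth.Agent.Lib.Helper2.FF
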