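import Mathlib
import Groth.Agent.Lib.Helper2.FunFld.Ramif

set_option autoImplicit false
open scoped WithZero IntermediateField NNReal Pointwise
open FunFld Polynomial
open Groth.Agent.Lib.Helper2.RelDim

namespace Groth.Agent.Lib.Helper2.FF

section Inertia

variable {k K K' : Type*} [Field k] [Field K] [Field K'] [Algebra k K] [Algebra K K'] [Algebra k K']
  [IsScalarTower k K K'] (P : FunFld.Place k K) [Algebra P.O K'] [IsScalarTower P.O K K']

omit [Algebra P.O K'] [IsScalarTower P.O K K'] in
theorem galPlace_isOver (σ : K' ≃ₐ[K] K') {Q : FunFld.Place k K'} (h : IsOver Q P) :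
    IsOver (galPlace σ Q) P := by
  obtain ⟨e, he⟩ := h
  exact ⟨e, galPlace_isOverWith σ he⟩

/-- the Galois group acts on places over `P` -/
noncomputable def galOver (σ : K' ≃ₐ[K] K') (i : OverP K' P) : OverP K' P :=
  ⟨galPlace σ i.1, galPlace_isOver P σ i.2⟩

/-- the Galois group acts on `BP` -/
noncomputable instance instMulSemiringActionBP :
    MulSemiringAction (K' ≃ₐ[K] K') ↥(BP (K' := K') P) where
  smul σ b := ⟨σ b.1, fun i => b.2 (galOver P σ i)⟩
  one_smul _ := Subtype.ext rfl
  mul_smul _ _ _ := Subtype.ext rfl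
  smul_zero σ := Subtype.ext (map_zero σ)
  smul_add σ a b := Subtype.ext (map_add σ a.1 b.1)
  smul_one σ := Subtype.ext (map_one σ)
  smul_mul σ a b := Subtype.ext (map_mul σ a.1 b.1)

theorem coe_galSmul_BP (σ : K' ≃ₐ[K] K') (b : ↥(BP (K' := K') P)) :
    ((σ • b : ↥(BP (K' := K') P)) : K') = σ b.1 := rfl

instance instSMulCommClassBP : SMulCommClass (K' ≃ₐ[K] K') P.O ↥(BP (K' := K') P) where
  smul_comm σ a b := by
    apply Subtype.ext
    rw [coe_galSmul_BP, coe_smul_BP, coe_smul_BP, coe_galSmul_BP, map_mul, algebraMap_O_apply,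
      σ.commutes]

omit [Algebra P.O K'] [IsScalarTower P.O K K'] in
theorem nonempty_overP [FiniteDimensional K K'] (hK : IsFunctionField k K) :
    Nonempty (OverP K' P) := by
  classical
  haveI := finite_overP (K' := K') hK P
  haveI := Fintype.ofFinite (OverP K' P)
  by_contra hne
  rw [not_nonempty_iff] at hne
  have h1 := sum_overP (K' := K') hK P
  rw [Finset.univ_eq_empty, Finset.sum_empty] at h1
  have h2 : 0 < Module.finrank K K' * P.deg := Nat.mul_pos Module.finrank_pos (deg_pos P hK)
  omega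

theorem isInvariant_BP [FiniteDimensional K K'] [IsGalois K K'] (hK : IsFunctionField k K) :
    Algebra.IsInvariant P.O ↥(BP (K' := K') P) (K' ≃ₐ[K] K') := by
  refine ⟨fun b hb => ?_⟩
  have h1 : b.1 ∈ (⊥ : IntermediateField K K') := by
    rw [IsGalois.mem_bot_iff_fixed]
    intro σ
    exact congrArg Subtype.val (hb σ)
  obtain ⟨x, hx⟩ := IntermediateField.mem_bot.1 h1
  obtain ⟨i⟩ := nonempty_overP (K' := K') P hK
  · have h2 := b.2 i
    rw [← hx] at h2
    obtain ⟨e, he⟩ := i.2
    change i.1.1 _ ≤ 1 at h2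
    rw [he x] at h2
    have he1 := isOverWith_one_le he
    have h3 : v P x ≤ 1 := by
      by_contra hlt
      push Not at hlt
      exact absurd h2 (not_le.2 (one_lt_pow₀ hlt (by omega)))
    refine ⟨⟨x, (mem_O_iff P x).2 h3⟩, ?_⟩
    apply Subtype.ext
    change algebraMap P.O K' _ = b.1
    rw [algebraMap_O_apply]
    exact hx

/-- `BP → O_Q` -/
def toOQ (i : OverP K' P) : ↥(BP (K' := K') P) →+* i.1.O where
  toFun b := ⟨b.1, (mem_O_iff i.1 _).2 (b.2 i)⟩
  map_one' := rfl
  map_mul' _ _ := rfl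
  map_zero' := rfl
  map_add' _ _ := rfl

/-- the reduction map `BP → κ(Q)` -/
noncomputable def redQ (i : OverP K' P) : ↥(BP (K' := K') P) →+* IsLocalRing.ResidueField i.1.O :=
  (IsLocalRing.residue i.1.O).comp (toOQ P i)

theorem redQ_eq_zero_iff (i : OverP K' P) (b : ↥(BP (K' := K') P)) :
    redQ P i b = 0 ↔ v i.1 b.1 < 1 := by
  rw [redQ, RingHom.comp_apply, IsLocalRing.residue_eq_zero_iff]
  exact Valuation.mem_maximalIdeal_iff _ _

theorem redQ_surjective [FiniteDimensional K K'] (hK : IsFunctionField k K) (i : OverP K' P) :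
    Function.Surjective (redQ P i) := by
  classical
  haveI := finite_overP (K' := K') hK P
  intro y
  obtain ⟨x, rfl⟩ := IsLocalRing.residue_surjective y
  obtain ⟨b, hb⟩ := weak_approx (Qf K' P) Subtype.val_injective
    (fun j => if j = i then (x : K') else 0) (fun _ => 0)
  have hbB : b ∈ BP (K' := K') P := by
    intro j
    have h1 := hb j
    rw [WithZero.exp_zero] at h1
    by_cases hj : j = i
    · subst hj
      rw [if_pos rfl] at h1
      have : b = (b - x) + x := by ring
      rw [this]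
      exact (Valuation.map_add _ _ _).trans (max_le h1.le ((mem_O_iff j.1 _).1 x.2))
    · rw [if_neg hj, sub_zero] at h1
      exact h1.le
  refine ⟨⟨b, hbB⟩, ?_⟩
  rw [redQ, RingHom.comp_apply, ← sub_eq_zero, ← map_sub, IsLocalRing.residue_eq_zero_iff]
  apply (Valuation.mem_maximalIdeal_iff _ _).2
  have h1 := hb i
  rw [if_pos rfl, WithZero.exp_zero] at h1
  exact h1

/-- the prime of `BP` at `Q` -/
noncomputable def primeQ (i : OverP K' P) : Ideal ↥(BP (K' := K') P) := RingHom.ker (redQ P i)

theorem mem_primeQ (i : OverP K' P) (b : ↥(BP (K' := K') P)) :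
    b ∈ primeQ P i ↔ v i.1 b.1 < 1 := by
  rw [primeQ, RingHom.mem_ker, redQ_eq_zero_iff]

theorem primeQ_isMaximal [FiniteDimensional K K'] (hK : IsFunctionField k K) (i : OverP K' P) :
    (primeQ P i).IsMaximal :=
  RingHom.ker_isMaximal_of_surjective _ (redQ_surjective P hK i)

theorem primeQ_liesOver (i : OverP K' P) :
    (primeQ P i).LiesOver (IsLocalRing.maximalIdeal P.O) := by
  refine ⟨?_⟩
  ext a
  rw [Ideal.under_def, Ideal.mem_comap, mem_primeQ]
  obtain ⟨e, he⟩ := i.2
  have h1 : ((algebraMap P.O ↥(BP (K' := K') P) a : ↥(BP (K' := K') P)) : K') =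
      algebraMap K K' (a : K) := by
    rw [← algebraMap_O_apply]; rfl
  rw [h1, isOverWith_lt_one_iff he]
  exact Valuation.mem_maximalIdeal_iff _ _

theorem primeQ_injective [FiniteDimensional K K'] (hK : IsFunctionField k K) :
    Function.Injective (primeQ (K' := K') P) := by
  classical
  haveI := finite_overP (K' := K') hK P
  intro i j hij
  by_contra hne
  obtain ⟨b, hb⟩ := weak_approx (Qf K' P) Subtype.val_injective
    (fun l => if l = i then (0 : K') else 1) (fun _ => 0)
  have hbB : b ∈ BP (K' := K') P := by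
    intro l
    have h1 := hb l
    rw [WithZero.exp_zero] at h1
    by_cases hl : l = i
    · subst hl
      rw [if_pos rfl, sub_zero] at h1
      exact h1.le
    · rw [if_neg hl] at h1
      have : b = (b - 1) + 1 := by ring
      rw [this]
      exact (Valuation.map_add _ _ _).trans (max_le h1.le (by simp))
  have h1 : (⟨b, hbB⟩ : ↥(BP (K' := K') P)) ∈ primeQ P i := by
    rw [mem_primeQ]
    have := hb i
    rw [if_pos rfl, sub_zero, WithZero.exp_zero] at this
    exact this
  rw [hij, mem_primeQ] at h1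
  have h2 := hb j
  rw [if_neg (Ne.symm hne), WithZero.exp_zero] at h2
  have h3 : v j.1 (1 : K') ≤ max (v j.1 b) (v j.1 (b - 1)) := by
    have : (1 : K') = b - (b - 1) := by ring
    conv_lhs => rw [this]
    exact Valuation.map_sub _ _ _
  rw [map_one] at h3
  exact absurd h3 (not_le.2 (max_lt h1 h2))

theorem smul_primeQ (σ : K' ≃ₐ[K] K') (i : OverP K' P) :
    σ • primeQ P i = primeQ P (galOver P σ⁻¹ i) := by
  ext b
  rw [Ideal.mem_pointwise_smul_iff_inv_smul_mem, mem_primeQ, mem_primeQ]
  rfl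

theorem stabilizer_primeQ [FiniteDimensional K K'] (hK : IsFunctionField k K) (i : OverP K' P) :
    MulAction.stabilizer (K' ≃ₐ[K] K') (primeQ P i) = (i.1.O).decompositionSubgroup K := by
  ext σ
  rw [MulAction.mem_stabilizer_iff, smul_primeQ]
  constructor
  · intro h
    have h1 := primeQ_injective P hK h
    have h2 : galPlace σ⁻¹ i.1 = i.1 := congrArg Subtype.val h1
    have h3 : σ⁻¹ ∈ (i.1.O).decompositionSubgroup K := (mem_decompositionSubgroup_iff _ _).2 h2
    simpa using Subgroup.inv_mem _ h3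
  · intro h
    have h3 : σ⁻¹ ∈ (i.1.O).decompositionSubgroup K := Subgroup.inv_mem _ h
    have h2 := (mem_decompositionSubgroup_iff _ _).1 h3
    congr 1
    exact Subtype.ext h2

omit [IsScalarTower k K K'] in
theorem mem_inertiaSubgroup_iff (Q : FunFld.Place k K') (σ : (Q.O).decompositionSubgroup K) :
    σ ∈ (Q.O).inertiaSubgroup K ↔ ∀ x : K', v Q x ≤ 1 → v Q (σ.1 x - x) < 1 := by
  unfold ValuationSubring.inertiaSubgroup
  rw [MonoidHom.mem_ker, RingEquiv.ext_iff]
  constructor
  · intro h x hx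
    have h1 := h (IsLocalRing.residue Q.O ⟨x, (mem_O_iff Q x).2 hx⟩)
    rw [MulSemiringAction.toRingAut_apply, RingAut.one_apply,
      MulSemiringAction.toRingEquiv_apply,
      ← IsLocalRing.ResidueField.residue_smul, ← sub_eq_zero, ← map_sub,
      IsLocalRing.residue_eq_zero_iff] at h1
    exact (Valuation.mem_maximalIdeal_iff _ _).1 h1
  · intro h y
    obtain ⟨x, rfl⟩ := IsLocalRing.residue_surjective y
    rw [MulSemiringAction.toRingAut_apply, RingAut.one_apply,
      MulSemiringAction.toRingEquiv_apply,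
      ← IsLocalRing.ResidueField.residue_smul, ← sub_eq_zero, ← map_sub,
      IsLocalRing.residue_eq_zero_iff]
    exact (Valuation.mem_maximalIdeal_iff _ _).2 (h x.1 ((mem_O_iff Q _).1 x.2))

theorem inertia_primeQ [FiniteDimensional K K'] (hK : IsFunctionField k K) (i : OverP K' P) :
    (primeQ P i).inertia (K' ≃ₐ[K] K') =
      ((i.1.O).inertiaSubgroup K).map ((i.1.O).decompositionSubgroup K).subtype := by
  ext σ
  rw [Subgroup.mem_map]
  constructor
  · intro h
    have hD : σ ∈ (i.1.O).decompositionSubgroup K := by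
      rw [← stabilizer_primeQ P hK i]
      exact Ideal.inertia_le_stabilizer _ h
    refine ⟨⟨σ, hD⟩, ?_, rfl⟩
    rw [mem_inertiaSubgroup_iff]
    intro x hx
    obtain ⟨b, hb⟩ := redQ_surjective P hK i (IsLocalRing.residue i.1.O ⟨x, (mem_O_iff i.1 x).2 hx⟩)
    have hxb : v i.1 (x - b.1) < 1 := by
      have h1 : IsLocalRing.residue i.1.O (⟨x, (mem_O_iff i.1 x).2 hx⟩ - toOQ P i b) = 0 := by
        rw [map_sub, sub_eq_zero]; exact hb.symm
      rw [IsLocalRing.residue_eq_zero_iff] at h1
      exact (Valuation.mem_maximalIdeal_iff _ _).1 h1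
    have hσ : galPlace σ i.1 = i.1 := (mem_decompositionSubgroup_iff _ _).1 hD
    have h2 : v i.1 (σ (x - b.1)) < 1 := by
      have : v i.1 (σ (x - b.1)) = v (galPlace σ i.1) (x - b.1) := rfl
      rw [this, hσ]; exact hxb
    have h3 : v i.1 (σ b.1 - b.1) < 1 := (mem_primeQ P i _).1 (h b)
    have h4 : σ x - x = σ (x - b.1) + (-(x - b.1) + (σ b.1 - b.1)) := by
      rw [map_sub]; ring
    change v i.1 (σ x - x) < 1
    rw [h4]
    refine lt_of_le_of_lt (Valuation.map_add _ _ _) (max_lt h2 ?_)
    refine lt_of_le_of_lt (Valuation.map_add _ _ _) (max_lt ?_ h3)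
    rw [Valuation.map_neg]; exact hxb
  · rintro ⟨τ, hτ, rfl⟩
    rw [mem_inertiaSubgroup_iff] at hτ
    intro b
    change _ ∈ primeQ P i
    rw [mem_primeQ]
    exact hτ b.1 (b.2 i)

end Inertia

end Groth.Agent.Lib.Helper2.FF
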