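import Mathlib
import Groth.Agent.Lib.Helper2.FunFld.Inertia

set_option autoImplicit false
open scoped WithZero IntermediateField NNReal Pointwise
open FunFld Polynomial
open Groth.Agent.Lib.Helper2.RelDim

namespace Groth.Agent.Lib.Helper2.FF

section Inertia2

variable {k K K' : Type*} [Field k] [Field K] [Field K'] [Algebra k K] [Algebra K K'] [Algebra k K']
  [IsScalarTower k K K'] (P : FunFld.Place k K) [Algebra P.O K'] [IsScalarTower P.O K K']

attribute [local instance] isScalarTower_k_O Ideal.Quotient.field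

/-- `BP/𝔮 ≃ κ(Q)` as `k`-algebras -/
noncomputable def quotPrimeQEquiv [FiniteDimensional K K'] (hK : IsFunctionField k K)
    (i : OverP K' P) :
    (↥(BP (K' := K') P) ⧸ primeQ P i) ≃ₐ[k] IsLocalRing.ResidueField i.1.O :=
  { RingHom.quotientKerEquivOfSurjective (redQ_surjective P hK i) with
    commutes' := fun c => rfl }

theorem finrank_quot_primeQ [FiniteDimensional K K'] (hK : IsFunctionField k K)
    (i : OverP K' P) :
    FiniteDimensional k (↥(BP (K' := K') P) ⧸ primeQ P i) ∧
      Module.finrank k (↥(BP (K' := K') P) ⧸ primeQ P i) = i.1.deg := by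
  have hFF : IsFFw k K' := isFFw_of_finite hK
  have hfinQ : FiniteDimensional k (IsLocalRing.ResidueField i.1.O) :=
    finiteDimensional_residueField_w hFF i.1
  let ψ : (↥(BP (K' := K') P) ⧸ primeQ P i) ≃ₗ[k] IsLocalRing.ResidueField i.1.O :=
    { (RingHom.quotientKerEquivOfSurjective (redQ_surjective P hK i)).toAddEquiv with
      map_smul' := fun c x => by
        obtain ⟨x, rfl⟩ := Ideal.Quotient.mk_surjective x
        change redQ P i (c • x) = c • redQ P i x
        have h1 : toOQ P i (c • x) = c • toOQ P i x := by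
          apply Subtype.ext
          change ((c • x : ↥(BP (K' := K') P)) : K') = ((c • toOQ P i x : i.1.O) : K')
          rw [coe_smul_O]
          rfl
        rw [redQ, RingHom.comp_apply, RingHom.comp_apply, h1]
        rfl }
  exact ⟨Module.Finite.equiv ψ.symm, ψ.finrank_eq⟩

theorem isSeparable_quot_primeQ [FiniteDimensional K K'] (hK : IsFunctionField k K)
    (i : OverP K' P) [Algebra.IsSeparable k (IsLocalRing.ResidueField i.1.O)] :
    Algebra.IsSeparable k (↥(BP (K' := K') P) ⧸ primeQ P i) :=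
  AlgEquiv.Algebra.isSeparable (quotPrimeQEquiv P hK i).symm

omit [Algebra P.O K'] [IsScalarTower P.O K K'] in
theorem deg_pos_of_finite' [FiniteDimensional K K'] (hK : IsFunctionField k K)
    (Q : FunFld.Place k K') : 0 < Q.deg := by
  have hFF : IsFFw k K' := isFFw_of_finite hK
  rw [deg_eq_mul_deg_extPlace]
  have h1 := deg_pos (extPlace Q) (isFunctionField_KC hFF)
  haveI := finiteDimensional_KC hFF
  have h2 : 0 < Module.finrank k (KC k K') := Module.finrank_pos
  exact Nat.mul_pos h2 h1

theorem isScalarTower_quot (i : OverP K' P) :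
    letI := primeQ_liesOver P i
    IsScalarTower k (P.O ⧸ IsLocalRing.maximalIdeal P.O) (↥(BP (K' := K') P) ⧸ primeQ P i) := by
  letI := primeQ_liesOver P i
  refine ⟨fun c x y => ?_⟩
  obtain ⟨x, rfl⟩ := Ideal.Quotient.mk_surjective x
  obtain ⟨y, rfl⟩ := Ideal.Quotient.mk_surjective y
  exact congrArg (Ideal.Quotient.mk (primeQ P i)) (smul_assoc c x y)

set_option synthInstance.maxHeartbeats 200000 in
set_option maxHeartbeats 1000000 in
theorem finrank_residue_ext [FiniteDimensional K K'] (hK : IsFunctionField k K)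
    (i : OverP K' P) :
    letI := primeQ_liesOver P i
    FiniteDimensional (P.O ⧸ IsLocalRing.maximalIdeal P.O) (↥(BP (K' := K') P) ⧸ primeQ P i) ∧
    P.deg * Module.finrank (P.O ⧸ IsLocalRing.maximalIdeal P.O)
      (↥(BP (K' := K') P) ⧸ primeQ P i) = i.1.deg := by
  letI := primeQ_liesOver P i
  haveI := isScalarTower_quot P i
  obtain ⟨h1, h2⟩ := finrank_quot_primeQ P hK i
  have h3 := Module.finrank_mul_finrank k (P.O ⧸ IsLocalRing.maximalIdeal P.O)
    (↥(BP (K' := K') P) ⧸ primeQ P i)
  rw [h2, finrank_quotient_maximalIdeal P] at h3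
  exact ⟨Module.Finite.of_restrictScalars_finite k _ _, h3⟩

set_option synthInstance.maxHeartbeats 200000 in
set_option maxHeartbeats 1000000 in
theorem card_aut_residue [FiniteDimensional K K'] [IsGalois K K'] (hK : IsFunctionField k K)
    (i : OverP K' P) [Algebra.IsSeparable k (IsLocalRing.ResidueField i.1.O)] :
    letI := primeQ_liesOver P i
    P.deg * Nat.card ((↥(BP (K' := K') P) ⧸ primeQ P i) ≃ₐ[P.O ⧸ IsLocalRing.maximalIdeal P.O]
      (↥(BP (K' := K') P) ⧸ primeQ P i)) = i.1.deg := by
  letI := primeQ_liesOver P i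
  haveI := isScalarTower_quot P i
  haveI : (primeQ P i).IsMaximal := primeQ_isMaximal P hK i
  haveI : Algebra.IsInvariant P.O ↥(BP (K' := K') P) (K' ≃ₐ[K] K') := isInvariant_BP P hK
  obtain ⟨hfin, hdeg⟩ := finrank_residue_ext P hK i
  haveI := isSeparable_quot_primeQ P hK i
  haveI hsep : Algebra.IsSeparable (P.O ⧸ IsLocalRing.maximalIdeal P.O)
      (↥(BP (K' := K') P) ⧸ primeQ P i) :=
    Algebra.isSeparable_tower_top_of_isSeparable k _ _
  haveI hnorm : Normal (P.O ⧸ IsLocalRing.maximalIdeal P.O) (↥(BP (K' := K') P) ⧸ primeQ P i) :=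
    Ideal.Quotient.normal (K' ≃ₐ[K] K') (IsLocalRing.maximalIdeal P.O) (primeQ P i)
  haveI hgal : IsGalois (P.O ⧸ IsLocalRing.maximalIdeal P.O)
      (↥(BP (K' := K') P) ⧸ primeQ P i) := ⟨⟩
  have h := IsGalois.card_aut_eq_finrank (P.O ⧸ IsLocalRing.maximalIdeal P.O)
    (↥(BP (K' := K') P) ⧸ primeQ P i)
  rw [← hdeg]
  congr 1

set_option synthInstance.maxHeartbeats 200000 in
set_option maxHeartbeats 1000000 in
theorem card_inertia_aux [FiniteDimensional K K'] [IsGalois K K'] (hK : IsFunctionField k K)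
    (i : OverP K' P) {e : ℕ} (he : IsOverWith i.1 P e)
    [Algebra.IsSeparable k (IsLocalRing.ResidueField i.1.O)] :
    Nat.card ((i.1.O).inertiaSubgroup K) = e := by
  classical
  letI := primeQ_liesOver P i
  haveI : (primeQ P i).IsMaximal := primeQ_isMaximal P hK i
  haveI : Algebra.IsInvariant P.O ↥(BP (K' := K') P) (K' ≃ₐ[K] K') := isInvariant_BP P hK
  have hsurj := Ideal.Quotient.stabilizerHom_surjective (K' ≃ₐ[K] K')
    (IsLocalRing.maximalIdeal P.O) (primeQ P i)
  have haut := card_aut_residue P hK i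
  set E := Ideal.Quotient.stabilizerHom (primeQ P i) (IsLocalRing.maximalIdeal P.O)
    (K' ≃ₐ[K] K') with hE
  have hc1 : Nat.card (MulAction.stabilizer (K' ≃ₐ[K] K') (primeQ P i)) =
      Nat.card E.ker * Nat.card ((↥(BP (K' := K') P) ⧸ primeQ P i) ≃ₐ[P.O ⧸
        IsLocalRing.maximalIdeal P.O] (↥(BP (K' := K') P) ⧸ primeQ P i)) := by
    rw [← Subgroup.card_mul_index E.ker, Subgroup.index_ker,
      MonoidHom.range_eq_top.2 hsurj, Subgroup.card_top]
  have hc2 : Nat.card (MulAction.stabilizer (K' ≃ₐ[K] K') (primeQ P i)) =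
      Nat.card ((i.1.O).decompositionSubgroup K) := by
    rw [stabilizer_primeQ P hK i]
  have hc3 : Nat.card E.ker = Nat.card ((i.1.O).inertiaSubgroup K) := by
    have h1 := Ideal.Quotient.map_ker_stabilizer_subtype (primeQ P i)
      (IsLocalRing.maximalIdeal P.O) (K' ≃ₐ[K] K')
    rw [inertia_primeQ P hK i] at h1
    have h2 : Nat.card ↥(Subgroup.map (MulAction.stabilizer (K' ≃ₐ[K] K') (primeQ P i)).subtype
        E.ker) = Nat.card ↥(Subgroup.map ((i.1.O).decompositionSubgroup K).subtype
          ((i.1.O).inertiaSubgroup K)) := by rw [h1]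
    rw [Subgroup.card_map_of_injective (Subgroup.subtype_injective _),
      Subgroup.card_map_of_injective (Subgroup.subtype_injective _)] at h2
    exact h2
  have hc4 := card_decomposition_mul_deg hK he
  rw [← hc2, hc1, hc3] at hc4
  have hPpos := deg_pos P hK
  have hQpos : 0 < i.1.deg := deg_pos_of_finite' hK i.1
  have h5 : Nat.card ((i.1.O).inertiaSubgroup K) * i.1.deg = e * i.1.deg := by
    rw [← hc4]
    conv_lhs => rw [← haut]
    ring
  exact Nat.eq_of_mul_eq_mul_right hQpos h5

omit [Algebra P.O K'] [IsScalarTower P.O K K'] in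
/-- S11023 -/
theorem card_inertia [FiniteDimensional K K'] [IsGalois K K'] (hK : IsFunctionField k K)
    (Q : FunFld.Place k K') {e : ℕ} (he : IsOverWith Q P e)
    [Algebra.IsSeparable k (IsLocalRing.ResidueField Q.O)] :
    Nat.card ((Q.O).inertiaSubgroup K) = e := by
  letI : Algebra P.O K' := ((algebraMap K K').comp P.O.subtype).toAlgebra
  haveI : IsScalarTower P.O K K' := IsScalarTower.of_algebraMap_eq (fun _ => rfl)
  exact card_inertia_aux P hK ⟨Q, e, he⟩ he

end Inertia2

end Groth.Agent.Lib.Helper2.FF
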