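import Mathlib
import Groth.Agent.Lib.Helper2.FunFld.Inertia2

set_option autoImplicit false
open scoped WithZero IntermediateField NNReal Pointwise
open FunFld Polynomial
open Groth.Agent.Lib.Helper2.RelDim

namespace Groth.Agent.Lib.Helper2.FF

section Weak

variable {k E K' : Type*} [Field k] [Field E] [Field K'] [Algebra k E] [Algebra E K'] [Algebra k K']
  [IsScalarTower k E K']

/-- a place of `K'/k` as a place over the constants of `E` -/
def liftPlace (Q : FunFld.Place k K') : FunFld.Place (KC k E) K' :=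
  ⟨Q.1, fun c => w_le_one_of_isAlgebraic Q.1 Q.2.1 (by
    change IsAlgebraic k (algebraMap E K' (c : E))
    exact (mem_algebraicClosure_iff.1 c.2).algebraMap), Q.2.2⟩

theorem card_inertia_weak [FiniteDimensional E K'] [IsGalois E K'] (hE : IsFFw k E)
    (Q : FunFld.Place k K') (QE : FunFld.Place k E) {e : ℕ} (he : IsOverWith Q QE e)
    [Algebra.IsSeparable k (IsLocalRing.ResidueField Q.O)] :
    Nat.card ((Q.O).inertiaSubgroup E) = e := by
  have hK₁ := isFunctionField_KC hE
  let Q' : FunFld.Place (KC k E) K' := liftPlace Q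
  letI : Algebra (KC k E) (IsLocalRing.ResidueField Q.O) := Place.algRes Q'
  haveI hST : IsScalarTower k (KC k E) (IsLocalRing.ResidueField Q.O) :=
    IsScalarTower.of_algebraMap_eq fun c => by
      change IsLocalRing.residue Q.O _ = IsLocalRing.residue Q.O _
      congr 1
      apply Subtype.ext
      change algebraMap k K' c = algebraMap (KC k E) K' (algebraMap k (KC k E) c)
      rw [← IsScalarTower.algebraMap_apply]
  haveI : Algebra.IsSeparable (KC k E) (IsLocalRing.ResidueField Q'.O) :=
    Algebra.isSeparable_tower_top_of_isSeparable k (KC k E) (IsLocalRing.ResidueField Q.O)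
  exact card_inertia (extPlace QE) hK₁ Q' (e := e) he

end Weak

section InertiaField

variable {k K K' : Type*} [Field k] [Field K] [Field K'] [Algebra k K] [Algebra K K'] [Algebra k K']
  [IsScalarTower k K K']

/-- an automorphism over an intermediate field whose restriction to `K` lies in the inertia
group of `Q` lies in the inertia group of `Q` over the intermediate field -/
theorem mem_inertia_of_restrict (Q : FunFld.Place k K') (E : IntermediateField K K')
    (τ : K' ≃ₐ[E] K')
    (hτ : τ.restrictScalars K ∈ ((Q.O).inertiaSubgroup K).map ((Q.O).decompositionSubgroup K).subtype) :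
    ∃ h : τ ∈ (Q.O).decompositionSubgroup E, (⟨τ, h⟩ : (Q.O).decompositionSubgroup E) ∈
      (Q.O).inertiaSubgroup E := by
  obtain ⟨d, hd, hdτ⟩ := hτ
  have hD : τ ∈ (Q.O).decompositionSubgroup E := by
    rw [MulAction.mem_stabilizer_iff]
    have h1 := d.2
    rw [MulAction.mem_stabilizer_iff] at h1
    ext x
    rw [ValuationSubring.mem_pointwise_smul_iff_inv_smul_mem]
    have h2 : x ∈ (d.1 • Q.O) ↔ x ∈ Q.O := by rw [h1]
    rw [ValuationSubring.mem_pointwise_smul_iff_inv_smul_mem] at h2
    rw [← h2]
    have h3 : (d : K' ≃ₐ[K] K') = τ.restrictScalars K := hdτ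
    rw [h3]
    rfl
  refine ⟨hD, ?_⟩
  rw [mem_inertiaSubgroup_iff]
  intro x hx
  have h1 := (mem_inertiaSubgroup_iff Q d).1 hd x hx
  have h3 : (d : K' ≃ₐ[K] K') = τ.restrictScalars K := hdτ
  rw [h3] at h1
  exact h1

/-- S12521 -/
theorem totallyRamified_over_inertiaField [FiniteDimensional K K'] [IsGalois K K']
    (hK : IsFunctionField k K) (Q : FunFld.Place k K')
    [Algebra.IsSeparable k (IsLocalRing.ResidueField Q.O)] :
    let K₁ : IntermediateField K K' := IntermediateField.fixedField
        (((Q.O).inertiaSubgroup K).map ((Q.O).decompositionSubgroup K).subtype)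
    ∃ Q₁ : FunFld.Place k K₁, FunFld.IsOverWith Q Q₁ (Module.finrank K₁ K') := by
  intro K₁
  haveI : IsScalarTower k K₁ K' := IsScalarTower.of_algebraMap_eq (fun _ => rfl)
  have hFF : IsFFw k K₁ := isFFw_of_finite hK
  obtain ⟨Q₁, e, he⟩ := exists_isOverWith' (K := K₁) (K' := K') hFF Q
  refine ⟨Q₁, ?_⟩
  have h1 := card_inertia_weak hFF Q Q₁ he
  have hall : ∀ τ : K' ≃ₐ[K₁] K', ∃ h : τ ∈ (Q.O).decompositionSubgroup K₁,
      (⟨τ, h⟩ : (Q.O).decompositionSubgroup K₁) ∈ (Q.O).inertiaSubgroup K₁ := by
    intro τ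
    apply mem_inertia_of_restrict Q K₁ τ
    have h2 : τ.restrictScalars K ∈ K₁.fixingSubgroup := by
      rw [IntermediateField.mem_fixingSubgroup_iff]
      intro x hx
      exact τ.commutes ⟨x, hx⟩
    rw [IntermediateField.fixingSubgroup_fixedField] at h2
    exact h2
  have h2 : (Q.O).inertiaSubgroup K₁ = ⊤ := by
    rw [eq_top_iff]
    intro d _
    obtain ⟨h, hd⟩ := hall d.1
    exact hd
  have h3 : (Q.O).decompositionSubgroup K₁ = ⊤ := by
    rw [eq_top_iff]
    intro τ _
    exact (hall τ).1
  have h4 : Nat.card ((Q.O).inertiaSubgroup K₁) = Module.finrank K₁ K' := by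
    rw [h2, Subgroup.card_top, h3, Subgroup.card_top, IsGalois.card_aut_eq_finrank]
  rw [← h4, h1]
  exact he

end InertiaField

end Groth.Agent.Lib.Helper2.FF
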