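import Mathlib
import Groth.Agent.Lib.Helper2.FunFld.Inertia3

set_option autoImplicit false
open scoped WithZero IntermediateField NNReal Pointwise
open FunFld Polynomial
open Groth.Agent.Lib.Helper2.RelDim

namespace Groth.Agent.Lib.Helper2.FF

section Range

variable {k K K' : Type*} [Field k] [Field K] [Field K'] [Algebra k K] [Algebra K K'] [Algebra k K']

theorem range_comap_eq {Q : FunFld.Place k K'} {P : FunFld.Place k K} {e : ℕ}
    (h : IsOverWith Q P e) :
    Set.range (Q.1.comap (algebraMap K K')) = Set.range fun γ : ℤᵐ⁰ => γ ^ e := by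
  ext γ
  constructor
  · rintro ⟨x, rfl⟩
    exact ⟨P.1 x, (h x).symm⟩
  · rintro ⟨δ, rfl⟩
    obtain ⟨x, rfl⟩ := P.2.2 δ
    exact ⟨x, h x⟩

theorem range_pow_eq_iff {e e' : ℕ} (he : 1 ≤ e) (he' : 1 ≤ e') :
    (Set.range fun γ : ℤᵐ⁰ => γ ^ e) = (Set.range fun γ : ℤᵐ⁰ => γ ^ e') ↔ e = e' := by
  constructor
  · intro h
    have key : ∀ a b : ℕ, 1 ≤ a → 1 ≤ b →
        (Set.range fun γ : ℤᵐ⁰ => γ ^ a) ⊆ (Set.range fun γ : ℤᵐ⁰ => γ ^ b) → b ∣ a := by
      intro a b ha hb hsub
      obtain ⟨δ, hδ⟩ := hsub ⟨WithZero.exp (1 : ℤ), rfl⟩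
      simp only at hδ
      have hδ0 : δ ≠ 0 := by
        rintro rfl
        rw [zero_pow (by omega)] at hδ
        exact WithZero.exp_ne_zero (pow_eq_zero_iff (by omega) |>.1 hδ.symm)
      obtain ⟨m, rfl⟩ : ∃ m : ℤ, δ = WithZero.exp m := ⟨WithZero.log δ, (WithZero.exp_log hδ0).symm⟩
      rw [← WithZero.exp_nsmul, ← WithZero.exp_nsmul, WithZero.exp_inj] at hδ
      simp only [nsmul_eq_mul, mul_one] at hδ
      have : (b : ℤ) ∣ a := ⟨m, hδ.symm⟩
      exact_mod_cast this
    exact Nat.dvd_antisymm (key e' e he' he h.ge) (key e e' he he' h.le)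
  · rintro rfl; rfl

end Range

section InertiaField2

variable {k K K' : Type*} [Field k] [Field K] [Field K'] [Algebra k K] [Algebra K K'] [Algebra k K']
  [IsScalarTower k K K']

theorem restrict_mem_inertia (Q : FunFld.Place k K') (E : IntermediateField K K')
    (τ : (Q.O).decompositionSubgroup E) (hτ : τ ∈ (Q.O).inertiaSubgroup E) :
    τ.1.restrictScalars K ∈
      ((Q.O).inertiaSubgroup K).map ((Q.O).decompositionSubgroup K).subtype := by
  have hD : τ.1.restrictScalars K ∈ (Q.O).decompositionSubgroup K := by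
    rw [MulAction.mem_stabilizer_iff]
    have h1 := τ.2
    rw [MulAction.mem_stabilizer_iff] at h1
    ext x
    rw [ValuationSubring.mem_pointwise_smul_iff_inv_smul_mem]
    have h2 : x ∈ (τ.1 • Q.O) ↔ x ∈ Q.O := by rw [h1]
    rw [ValuationSubring.mem_pointwise_smul_iff_inv_smul_mem] at h2
    rw [← h2]
    rfl
  refine ⟨⟨_, hD⟩, ?_, rfl⟩
  change (⟨_, hD⟩ : (Q.O).decompositionSubgroup K) ∈ (Q.O).inertiaSubgroup K
  rw [mem_inertiaSubgroup_iff]
  intro x hx
  exact (mem_inertiaSubgroup_iff Q τ).1 hτ x hx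

theorem card_inertia_intermediate (Q : FunFld.Place k K') (E : IntermediateField K K') :
    Nat.card ((Q.O).inertiaSubgroup E) =
      Nat.card ↥((((Q.O).inertiaSubgroup K).map ((Q.O).decompositionSubgroup K).subtype) ⊓
        E.fixingSubgroup) := by
  let f : ↥((Q.O).inertiaSubgroup E) → ↥((((Q.O).inertiaSubgroup K).map
      ((Q.O).decompositionSubgroup K).subtype) ⊓ E.fixingSubgroup) := fun τ =>
    ⟨τ.1.1.restrictScalars K, restrict_mem_inertia Q E τ.1 τ.2, by
      change τ.1.1.restrictScalars K ∈ E.fixingSubgroup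
      rw [IntermediateField.mem_fixingSubgroup_iff]
      intro x hx
      exact τ.1.1.commutes ⟨x, hx⟩⟩
  apply Nat.card_eq_of_bijective f
  constructor
  · intro τ₁ τ₂ h
    have h1 : τ₁.1.1.restrictScalars K = τ₂.1.1.restrictScalars K := congrArg Subtype.val h
    apply Subtype.ext
    apply Subtype.ext
    exact AlgEquiv.restrictScalars_injective K h1
  · rintro ⟨σ, hσI, hσE⟩
    let τ : K' ≃ₐ[E] K' := IntermediateField.fixingSubgroupEquiv E ⟨σ, hσE⟩
    have hτσ : τ.restrictScalars K = σ := by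
      ext x
      rfl
    obtain ⟨hD, hI⟩ := mem_inertia_of_restrict Q E τ (by rw [hτσ]; exact hσI)
    exact ⟨⟨⟨τ, hD⟩, hI⟩, Subtype.ext hτσ⟩

/-- S11029 -/
theorem unramified_iff_le_inertiaField [FiniteDimensional K K'] [IsGalois K K']
    (hK : IsFunctionField k K) (Q : FunFld.Place k K')
    [Algebra.IsSeparable k (IsLocalRing.ResidueField Q.O)] (E : IntermediateField K K') :
    Set.range (Q.1.comap (algebraMap E K')) = Set.range (Q.1.comap (algebraMap K K')) ↔
      E ≤ IntermediateField.fixedField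
        (((Q.O).inertiaSubgroup K).map ((Q.O).decompositionSubgroup K).subtype) := by
  haveI : IsScalarTower k E K' := IsScalarTower.of_algebraMap_eq (fun _ => rfl)
  have hFF : IsFFw k E := isFFw_of_finite hK
  obtain ⟨PE, eE, hE⟩ := exists_isOverWith' (K := E) (K' := K') hFF Q
  obtain ⟨P, e, he⟩ := exists_isOverWith hK Q
  rw [range_comap_eq hE, range_comap_eq he,
    range_pow_eq_iff (isOverWith_one_le hE) (isOverWith_one_le he), IntermediateField.le_iff_le]
  have h1 := card_inertia_weak hFF Q PE hE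
  have h2 := card_inertia P hK Q he
  rw [card_inertia_intermediate] at h1
  set H := ((Q.O).inertiaSubgroup K).map ((Q.O).decompositionSubgroup K).subtype with hH
  have h3 : Nat.card H = e := by
    rw [hH, Subgroup.card_map_of_injective (Subgroup.subtype_injective _)]
    exact h2
  rw [← h1, ← h3]
  constructor
  · intro h
    have h4 : H ⊓ E.fixingSubgroup = H := by
      apply Subgroup.eq_of_le_of_card_ge inf_le_left
      rw [h]
    rw [← h4]
    exact inf_le_right
  · intro h
    rw [inf_eq_left.2 h]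

end InertiaField2

end Groth.Agent.Lib.Helper2.FF
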