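import Mathlib
import Groth.Agent.Lib.Helper2.FunFld.Inertia4

set_option autoImplicit false
open scoped WithZero IntermediateField NNReal Pointwise TensorProduct
open FunFld Polynomial
open Groth.Agent.Lib.Helper2.RelDim

namespace Groth.Agent.Lib.Helper2.FF

section Coord

variable {k K K' : Type*} [Field k] [Field K] [Field K'] [Algebra k K] [Algebra K K'] [Algebra k K']
  [IsScalarTower k K K'] (P : FunFld.Place k K)

/-- coordinates w.r.t. a basis with integral trace matrix of unit discriminant are bounded by
the traces -/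
theorem v_repr_le_of_trace_le [FiniteDimensional K K']
    {ι : Type*} [Fintype ι] [DecidableEq ι] (b : Module.Basis ι K K')
    (hG : ∀ j l, v P (Algebra.trace K K' (b j * b l)) ≤ 1) (hd : v P (Algebra.discr K b) = 1)
    (u : K') (γ : ℤᵐ⁰) (hT : ∀ l, v P (Algebra.trace K K' (u * b l)) ≤ γ) (j : ι) :
    v P (b.repr u j) ≤ γ := by
  classical
  set G : Matrix ι ι K := Algebra.traceMatrix K b with hGdef
  set G' : Matrix ι ι P.O := fun j l => ⟨Algebra.trace K K' (b j * b l), (mem_O_iff P _).2 (hG j l)⟩
    with hG'def
  have hGG' : G = (algebraMap P.O K).mapMatrix G' := by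
    ext j l
    rfl
  have hadj : ∀ j l, v P (G.adjugate j l) ≤ 1 := by
    intro j l
    rw [hGG', ← RingHom.map_adjugate]
    exact (mem_O_iff P _).1 (G'.adjugate j l).2
  set c := b.repr u with hc
  have hcu : u = ∑ j, c j • b j := (b.sum_repr u).symm
  have hTc : ∀ l, Algebra.trace K K' (u * b l) = ∑ j, c j * G j l := by
    intro l
    conv_lhs => rw [hcu, Finset.sum_mul, map_sum]
    refine Finset.sum_congr rfl fun j _ => ?_
    rw [smul_mul_assoc, map_smul, smul_eq_mul]
    rfl
  have hdet : G.det = Algebra.discr K b := by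
    rw [Algebra.discr_def]
  have hkey : G.det * c j = ∑ l, Algebra.trace K K' (u * b l) * G.adjugate l j := by
    have h3 : Matrix.vecMul (fun j => c j) (G * G.adjugate) =
        Matrix.vecMul (fun l => Algebra.trace K K' (u * b l)) G.adjugate := by
      rw [← Matrix.vecMul_vecMul]
      congr 1
      funext l
      rw [hTc l]
      rfl
    rw [Matrix.mul_adjugate, Matrix.vecMul_smul, Matrix.vecMul_one] at h3
    have := congrFun h3 j
    simpa [Matrix.vecMul, dotProduct] using this
  have h3 : v P (G.det * c j) ≤ γ := by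
    rw [hkey]
    refine Valuation.map_sum_le _ fun l _ => ?_
    rw [map_mul]
    calc v P (Algebra.trace K K' (u * b l)) * v P (G.adjugate l j) ≤ γ * 1 :=
          mul_le_mul' (hT l) (hadj l j)
      _ = γ := mul_one _
  rw [map_mul, hdet, hd, one_mul] at h3
  exact h3

end Coord

end Groth.Agent.Lib.Helper2.FF
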