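import Mathlib
import Groth.Agent.Lib.Helper2.FunFld.CExt1

set_option autoImplicit false
open scoped WithZero IntermediateField NNReal Pointwise TensorProduct
open FunFld Polynomial
open Groth.Agent.Lib.Helper2.RelDim

namespace Groth.Agent.Lib.Helper2.FF

section CBasis

variable {k k' K K' : Type*} [Field k] [Field k'] [Field K] [Field K']
    [Algebra k k'] [Algebra k K] [Algebra K K'] [Algebra k' K'] [Algebra k K']
    [IsScalarTower k k' K'] [IsScalarTower k K K']

/-- the `K`-algebra map `K ⊗ k' → K'` -/
noncomputable def prodLeft : K ⊗[k] k' →ₐ[K] K' :=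
  Algebra.TensorProduct.productLeftAlgHom (Algebra.ofId K K') (IsScalarTower.toAlgHom k k' K')

theorem prodLeft_eq (t : K ⊗[k] k') :
    prodLeft (K' := K') t = Algebra.TensorProduct.productMap
      (IsScalarTower.toAlgHom k k' K') (IsScalarTower.toAlgHom k K K')
      (Algebra.TensorProduct.comm k K k' t) := by
  induction t using TensorProduct.induction_on with
  | zero => simp
  | tmul x y =>
    simp [prodLeft, mul_comm]
  | add x y hx hy => rw [map_add, map_add, map_add, hx, hy]

theorem prodLeft_bijective
    (h : Function.Bijective (Algebra.TensorProduct.productMap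
      (IsScalarTower.toAlgHom k k' K') (IsScalarTower.toAlgHom k K K'))) :
    Function.Bijective (prodLeft (k := k) (k' := k') (K := K) (K' := K')) := by
  have : (prodLeft (k := k) (k' := k') (K := K) (K' := K') : K ⊗[k] k' → K') =
      (Algebra.TensorProduct.productMap
      (IsScalarTower.toAlgHom k k' K') (IsScalarTower.toAlgHom k K K')) ∘
        (Algebra.TensorProduct.comm k K k') := by
    funext t
    exact prodLeft_eq t
  rw [this]
  exact h.comp (Algebra.TensorProduct.comm k K k').bijective

/-- a `k`-basis of `k'` as a `K`-basis of `K' = k' ⊗ K` -/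
noncomputable def cBasis {ι : Type*} (b : Module.Basis ι k k')
    (h : Function.Bijective (Algebra.TensorProduct.productMap
      (IsScalarTower.toAlgHom k k' K') (IsScalarTower.toAlgHom k K K'))) :
    Module.Basis ι K K' :=
  (Algebra.TensorProduct.basis K b).map
    (LinearEquiv.ofBijective (prodLeft (k := k) (k' := k') (K := K) (K' := K')).toLinearMap
      (prodLeft_bijective h))

theorem cBasis_apply {ι : Type*} (b : Module.Basis ι k k')
    (h : Function.Bijective (Algebra.TensorProduct.productMap
      (IsScalarTower.toAlgHom k k' K') (IsScalarTower.toAlgHom k K K'))) (j : ι) :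
    cBasis b h j = algebraMap k' K' (b j) := by
  simp [cBasis, prodLeft]

theorem leftMulMatrix_cBasis {ι : Type*} [Fintype ι] [DecidableEq ι] (b : Module.Basis ι k k')
    (h : Function.Bijective (Algebra.TensorProduct.productMap
      (IsScalarTower.toAlgHom k k' K') (IsScalarTower.toAlgHom k K K'))) (c : k') :
    Algebra.leftMulMatrix (cBasis (K := K) b h) (algebraMap k' K' c) =
      (algebraMap k K).mapMatrix (Algebra.leftMulMatrix b c) := by
  ext i j
  rw [Algebra.leftMulMatrix_eq_repr_mul, RingHom.mapMatrix_apply, Matrix.map_apply,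
    Algebra.leftMulMatrix_eq_repr_mul]
  have h1 := b.sum_repr (c * b j)
  have h2 : algebraMap k' K' c * cBasis (K := K) b h j =
      ∑ i, (algebraMap k K (b.repr (c * b j) i)) • cBasis (K := K) b h i := by
    rw [cBasis_apply, ← map_mul, ← h1, map_sum]
    refine Finset.sum_congr rfl fun i _ => ?_
    rw [cBasis_apply, Algebra.smul_def, Algebra.smul_def, map_mul,
      ← IsScalarTower.algebraMap_apply k k' K', ← IsScalarTower.algebraMap_apply k K K']
    congr 2
    rw [h1]
  rw [h2, Module.Basis.repr_sum_self]

theorem trace_cExt [FiniteDimensional k k']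
    (h : Function.Bijective (Algebra.TensorProduct.productMap
      (IsScalarTower.toAlgHom k k' K') (IsScalarTower.toAlgHom k K K'))) (c : k') :
    Algebra.trace K K' (algebraMap k' K' c) = algebraMap k K (Algebra.trace k k' c) := by
  classical
  let b := Module.finBasis k k'
  rw [Algebra.trace_eq_matrix_trace (cBasis (K := K) b h), Algebra.trace_eq_matrix_trace b,
    leftMulMatrix_cBasis, RingHom.mapMatrix_apply]
  exact (AddMonoidHom.map_trace (algebraMap k K).toAddMonoidHom _).symm

theorem discr_cBasis [FiniteDimensional k k'] {ι : Type*} [Fintype ι] [DecidableEq ι]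
    (b : Module.Basis ι k k')
    (h : Function.Bijective (Algebra.TensorProduct.productMap
      (IsScalarTower.toAlgHom k k' K') (IsScalarTower.toAlgHom k K K'))) :
    Algebra.discr K (cBasis (K := K) b h) = algebraMap k K (Algebra.discr k b) := by
  rw [Algebra.discr_def, Algebra.discr_def, RingHom.map_det]
  congr 1
  ext i j
  rw [RingHom.mapMatrix_apply, Matrix.map_apply, Algebra.traceMatrix_apply,
    Algebra.traceMatrix_apply, Algebra.traceForm_apply, Algebra.traceForm_apply, cBasis_apply,
    cBasis_apply, ← map_mul, trace_cExt h]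

end CBasis

section SepCExt

variable {k k' K K' : Type*} [Field k] [Field k'] [Field K] [Field K']
    [Algebra k k'] [Algebra k K] [Algebra K K'] [Algebra k' K'] [Algebra k K']
    [IsScalarTower k k' K'] [IsScalarTower k K K']

theorem finiteDimensional_cExt [FiniteDimensional k k']
    (h : Function.Bijective (Algebra.TensorProduct.productMap
      (IsScalarTower.toAlgHom k k' K') (IsScalarTower.toAlgHom k K K'))) :
    FiniteDimensional K K' :=
  Module.Finite.of_basis (cBasis (K := K) (Module.finBasis k k') h)

theorem v_algebraMap_const_le [Algebra.IsAlgebraic k k'] (Q : FunFld.Place k K') (c : k') :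
    v Q (algebraMap k' K' c) ≤ 1 :=
  w_le_one_of_isAlgebraic Q.1 Q.2.1 ((Algebra.IsAlgebraic.isAlgebraic (R := k) c).algebraMap)

/-- S11012 -/
theorem cExt_separable [FiniteDimensional k k'] [Algebra.IsSeparable k k']
    (h : Function.Bijective (Algebra.TensorProduct.productMap
      (IsScalarTower.toAlgHom k k' K') (IsScalarTower.toAlgHom k K K')))
    (hK : IsFunctionField k K) (P : FunFld.Place k K) [Algebra P.O K'] [IsScalarTower P.O K K']
    (Q : FunFld.Place k K') (hQ : IsOver Q P) :
    (integralClosure P.O K').toSubring =
      (Algebra.adjoin P.O (Set.range (algebraMap k' K'))).toSubring ∧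
    IsOverWith Q P 1 := by
  classical
  haveI := finiteDimensional_cExt (K := K) (K' := K') h
  let b := Module.finBasis k k'
  set B := cBasis (K := K) b h with hB
  have hbB : ∀ j, ∀ i : OverP K' P, v i.1 (B j) ≤ 1 := fun j i => by
    rw [hB, cBasis_apply]
    exact v_algebraMap_const_le i.1 _
  have hd0 : Algebra.discr k b ≠ 0 := Algebra.discr_not_zero_of_basis k b
  have hd : v P (Algebra.discr K B) = 1 := by
    rw [hB, discr_cBasis]
    exact v_algebraMap P hd0
  constructor
  · rw [integralClosure_eq_BP P hK]
    congr 1
    apply le_antisymm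
    · intro u hu
      have hG : ∀ j l, v P (Algebra.trace K K' (B j * B l)) ≤ 1 := fun j l =>
        v_trace_le_one P hK (fun i => by
          rw [map_mul]; exact mul_le_one' (hbB j i) (hbB l i))
      have hT : ∀ l, v P (Algebra.trace K K' (u * B l)) ≤ 1 := fun l =>
        v_trace_le_one P hK (fun i => by
          rw [map_mul]; exact mul_le_one' (hu i) (hbB l i))
      have hc := v_repr_le_of_trace_le P B hG hd u 1 hT
      rw [← B.sum_repr u]
      refine Subalgebra.sum_mem _ fun j _ => ?_
      have h1 : B.repr u j • B j = (⟨B.repr u j, (mem_O_iff P _).2 (hc j)⟩ : P.O) • B j := by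
        rw [Algebra.smul_def, Algebra.smul_def, algebraMap_O_apply]
      rw [h1]
      refine Subalgebra.smul_mem _ (Algebra.subset_adjoin ?_) _
      rw [hB, cBasis_apply]
      exact ⟨_, rfl⟩
    · apply Algebra.adjoin_le
      rintro _ ⟨c, rfl⟩ i
      exact v_algebraMap_const_le i.1 c
  · have h1 := ramIdx_eq_one_of_discr_unit P hK B hbB hd ⟨Q, hQ⟩
    have h2 := isOverWith_ramIdx hQ
    rw [h1] at h2
    exact h2

end SepCExt

end Groth.Agent.Lib.Helper2.FF
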