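import Mathlib
import Groth.Agent.Lib.Helper2.FunFld.CExt2

set_option autoImplicit false
open scoped WithZero IntermediateField
open FunFld Polynomial

namespace Groth.Agent.Lib.Helper2.FF

section PI

variable {k K K' : Type*} [Field k] [Field K] [Field K'] [Algebra k K] [Algebra K K'] [Algebra k K']
  [IsScalarTower k K K']

theorem place_unique_of_isPurelyInseparable [IsPurelyInseparable K K']
    {Q Q' : FunFld.Place k K'} {P : FunFld.Place k K} (hQ : IsOver Q P) (hQ' : IsOver Q' P) :
    Q = Q' := by
  obtain ⟨e, he⟩ := hQ
  obtain ⟨e', he'⟩ := hQ'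
  apply place_eq_of_lt_one_imp
  intro z hz
  obtain ⟨n, x, hx⟩ := IsPurelyInseparable.pow_mem K (ringExpChar K) z
  have hq : ringExpChar K ^ n ≠ 0 := pow_ne_zero _ (expChar_ne_zero K (ringExpChar K))
  have h1 : v Q (z ^ ringExpChar K ^ n) < 1 := by
    rw [map_pow]; exact pow_lt_one' hz hq
  rw [← hx] at h1
  have h2 := (isOverWith_lt_one_iff he x).1 h1
  have h3 := (isOverWith_lt_one_iff he' x).2 h2
  change v Q' (algebraMap K K' x) < 1 at h3
  rw [hx, map_pow] at h3
  exact (pow_lt_one_iff hq).1 h3

end PI

section G

theorem finrank_mul_le_of_sep_of_pi {k F₁ F₂ ks : Type*} [Field k] [Field F₁] [Field F₂] [Field ks]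
    [Algebra k F₁] [Algebra k F₂] [Algebra F₁ F₂] [IsScalarTower k F₁ F₂]
    [IsPurelyInseparable k F₁] [FiniteDimensional k F₂]
    [Algebra k ks] [FiniteDimensional k ks] [Algebra.IsSeparable k ks] (ι : ks →ₐ[k] F₂) :
    Module.finrank k ks * Module.finrank k F₁ ≤ Module.finrank k F₂ := by
  obtain ⟨α, hα⟩ := Field.exists_primitive_element k ks
  have hint : IsIntegral k α := Algebra.IsIntegral.isIntegral α
  have hdeg : (minpoly k α).natDegree = Module.finrank k ks := by
    rw [← IntermediateField.adjoin.finrank hint, hα, IntermediateField.finrank_top']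
  have hsep : (minpoly k α).Separable := Algebra.IsSeparable.isSeparable k α
  have hirr : Irreducible ((minpoly k α).map (algebraMap k F₁)) :=
    Polynomial.Separable.map_irreducible_of_isPurelyInseparable F₁ hsep (minpoly.irreducible hint)
  have hroot : aeval (ι α) ((minpoly k α).map (algebraMap k F₁)) = 0 := by
    rw [aeval_map_algebraMap, aeval_algHom_apply, minpoly.aeval, map_zero]
  have hmin : (minpoly k α).map (algebraMap k F₁) = minpoly F₁ (ι α) :=
    minpoly.eq_of_irreducible_of_monic hirr hroot ((minpoly.monic hint).map _)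
  haveI : FiniteDimensional F₁ F₂ := Module.Finite.of_restrictScalars_finite k F₁ F₂
  have h1 : Module.finrank k ks ≤ Module.finrank F₁ F₂ := by
    rw [← hdeg, ← Polynomial.natDegree_map (algebraMap k F₁), hmin]
    exact minpoly.natDegree_le _
  rw [← Module.finrank_mul_finrank k F₁ F₂, mul_comm]
  exact Nat.mul_le_mul_left _ h1

end G

section D
variable {k K : Type*} [Field k] [Field K] [Algebra k K]

theorem deg_eq_finrank_algRes (P : FunFld.Place k K) :
    P.deg = @Module.finrank k (IsLocalRing.ResidueField P.O) _ _ (Place.algRes P).toModule := by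
  let e : @LinearEquiv k k _ _ (RingHom.id k) (RingHom.id k) _ _ (IsLocalRing.ResidueField P.O) (IsLocalRing.ResidueField P.O) _ _ _ (Place.algRes P).toModule :=
    { AddEquiv.refl _ with
      map_smul' := fun c x => by
        obtain ⟨x, rfl⟩ := Ideal.Quotient.mk_surjective x
        rfl }
  exact e.finrank_eq

/-- the identity as a linear equiv between the two `k`-module structures on the residue field -/
noncomputable def resFieldModEquiv (P : FunFld.Place k K) :
    @LinearEquiv k k _ _ (RingHom.id k) (RingHom.id k) _ _ (IsLocalRing.ResidueField P.O)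
      (IsLocalRing.ResidueField P.O) _ _ _ (Place.algRes P).toModule :=
  { AddEquiv.refl _ with
    map_smul' := fun c x => by
      obtain ⟨x, rfl⟩ := Ideal.Quotient.mk_surjective x
      rfl }
end D

section B

variable {k K K' : Type*} [Field k] [Field K] [Field K'] [Algebra k K] [Algebra K K'] [Algebra k K']
  [IsScalarTower k K K']

/-- the inclusion of valuation rings for a place over another -/
noncomputable def oMap' {Q : FunFld.Place k K'} {P : FunFld.Place k K} {e : ℕ}
    (he : IsOverWith Q P e) : P.O →+* Q.O where
  toFun x := ⟨algebraMap K K' x.1, by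
    rw [mem_O_iff, he x.1]
    exact pow_le_one' ((mem_O_iff P _).1 x.2) e⟩
  map_one' := Subtype.ext (by simp)
  map_mul' a b := Subtype.ext (by simp)
  map_zero' := Subtype.ext (by simp)
  map_add' a b := Subtype.ext (by simp)

theorem isLocalHom_oMap' {Q : FunFld.Place k K'} {P : FunFld.Place k K} {e : ℕ}
    (he : IsOverWith Q P e) : IsLocalHom (oMap' he) := by
  constructor
  intro a ha
  have h1 := (Valuation.valuationSubring.integers Q.1).isUnit_iff_valuation_eq_one.1 ha
  change Q.1 (algebraMap K K' a.1) = 1 at h1
  rw [he a.1] at h1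
  have he1 := isOverWith_one_le he
  have h2 : P.1 a.1 = 1 := by
    rcases (pow_eq_one_iff (M := ℤᵐ⁰) (a := P.1 a.1) (n := e)).1 h1 with h | h
    · exact h
    · omega
  exact (Valuation.valuationSubring.integers P.1).isUnit_iff_valuation_eq_one.2 h2

theorem deg_ge_of_sep_const {ks : Type*} [Field ks] [Algebra k ks] [FiniteDimensional k ks]
    [Algebra.IsSeparable k ks] [Algebra ks K'] [IsScalarTower k ks K'] (hFF : IsFFw k K')
    {Q : FunFld.Place k K'} {P : FunFld.Place k K} {e : ℕ} (he : IsOverWith Q P e)
    [IsPurelyInseparable k (IsLocalRing.ResidueField P.O)] :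
    Module.finrank k ks * P.deg ≤ Q.deg := by
  haveI := isLocalHom_oMap' he
  letI : Algebra (IsLocalRing.ResidueField P.O) (IsLocalRing.ResidueField Q.O) :=
    (IsLocalRing.ResidueField.map (oMap' he)).toAlgebra
  haveI : IsScalarTower k (IsLocalRing.ResidueField P.O) (IsLocalRing.ResidueField Q.O) := by
    refine IsScalarTower.of_algebraMap_eq fun c => ?_
    change IsLocalRing.residue Q.O (algebraMap k Q.O c) =
      IsLocalRing.ResidueField.map (oMap' he) (IsLocalRing.residue P.O (algebraMap k P.O c))
    rw [IsLocalRing.ResidueField.map_residue]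
    congr 1
    apply Subtype.ext
    change algebraMap k K' c = algebraMap K K' (algebraMap k K c)
    rw [← IsScalarTower.algebraMap_apply]
  haveI hfin : @Module.Finite k (IsLocalRing.ResidueField Q.O) _ _ (Place.algRes Q).toModule := by
    haveI := finiteDimensional_residueField_w hFF Q
    exact Module.Finite.equiv (resFieldModEquiv Q)
  let ι : ks →ₐ[k] IsLocalRing.ResidueField Q.O :=
    { (IsLocalRing.residue Q.O).comp ((algebraMap ks K').codRestrict Q.O.toSubring fun c =>
        w_le_one_of_isAlgebraic Q.1 Q.2.1
          ((Algebra.IsAlgebraic.isAlgebraic (R := k) c).algebraMap)) with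
      commutes' := fun c => by
        change IsLocalRing.residue Q.O _ = IsLocalRing.residue Q.O (algebraMap k Q.O c)
        congr 1
        apply Subtype.ext
        change algebraMap ks K' (algebraMap k ks c) = algebraMap k K' c
        rw [← IsScalarTower.algebraMap_apply] }
  have h := finrank_mul_le_of_sep_of_pi (k := k) (F₁ := IsLocalRing.ResidueField P.O) ι
  rw [deg_eq_finrank_algRes P, deg_eq_finrank_algRes Q]
  exact h

end B

theorem isPurelyInseparable_of_adjoin_eq_top {L E : Type*} [Field L] [Field E] [Algebra L E]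
    (q : ℕ) [ExpChar L q] {S : Set E} (hS : IntermediateField.adjoin L S = ⊤)
    (h : ∀ x ∈ S, ∃ n : ℕ, x ^ q ^ n ∈ (algebraMap L E).range) : IsPurelyInseparable L E := by
  have h1 := (IntermediateField.isPurelyInseparable_adjoin_iff_pow_mem L E q).2 h
  rw [hS] at h1
  exact (IntermediateField.topEquiv (F := L) (E := E)).isPurelyInseparable

section C

variable {k k' K K' : Type*} [Field k] [Field k'] [Field K] [Field K']
    [Algebra k k'] [Algebra k K] [Algebra K K'] [Algebra k' K'] [Algebra k K']
    [IsScalarTower k k' K'] [IsScalarTower k K K']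

/-- over any intermediate `L ⊇ K`, `K'` is generated by the constants `k'` -/
theorem adjoin_const_eq_top
    (h : Function.Surjective (Algebra.TensorProduct.productMap
      (IsScalarTower.toAlgHom k k' K') (IsScalarTower.toAlgHom k K K')))
    (L : Type*) [Field L] [Algebra K L] [Algebra L K'] [IsScalarTower K L K'] :
    IntermediateField.adjoin L (Set.range (algebraMap k' K')) = ⊤ := by
  rw [eq_top_iff]
  intro z _
  obtain ⟨t, rfl⟩ := h z
  clear ‹_ ∈ (⊤ : IntermediateField L K')›
  induction t using TensorProduct.induction_on with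
  | zero => rw [map_zero]; exact zero_mem _
  | tmul c x =>
    rw [Algebra.TensorProduct.productMap_apply_tmul]
    refine mul_mem (IntermediateField.subset_adjoin _ _ ⟨c, rfl⟩) ?_
    change algebraMap K K' x ∈ _
    rw [IsScalarTower.algebraMap_apply K L K']
    exact IntermediateField.algebraMap_mem _ _
  | add a b ha hb => rw [map_add]; exact add_mem ha hb

end C

section B2

variable {k K K' : Type*} [Field k] [Field K] [Field K'] [Algebra k K] [Algebra K K'] [Algebra k K']
  [IsScalarTower k K K']

theorem place_unique_of_sep_const {ks : Type*} [Field ks] [Algebra k ks] [FiniteDimensional k ks]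
    [Algebra.IsSeparable k ks] [Algebra ks K'] [IsScalarTower k ks K'] [FiniteDimensional K K']
    (hK : IsFunctionField k K) (hspan : Module.finrank K K' ≤ Module.finrank k ks)
    {P : FunFld.Place k K} [IsPurelyInseparable k (IsLocalRing.ResidueField P.O)]
    {Q Q' : FunFld.Place k K'} (hQ : IsOver Q P) (hQ' : IsOver Q' P) : Q = Q' := by
  classical
  by_contra hne
  have hFF : IsFFw k K' := isFFw_of_finite hK
  obtain ⟨hfin, hsum⟩ := sum_ramIdx_mul_deg (K' := K') hK P
  have hs := hsum hfin.toFinset (fun Q => by simp)
  have hsub : ({Q, Q'} : Finset (FunFld.Place k K')) ⊆ hfin.toFinset := by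
    intro R hR
    simp only [Finset.mem_insert, Finset.mem_singleton] at hR
    rcases hR with rfl | rfl <;> simpa
  have h1 := Finset.sum_le_sum_of_subset (f := fun Q => ramIdx Q P * Q.deg) hsub
  rw [Finset.sum_pair hne, hs] at h1
  have hd : ∀ R : FunFld.Place k K', IsOver R P →
      Module.finrank k ks * P.deg ≤ ramIdx R P * R.deg := fun R hR => by
    have h2 := isOverWith_ramIdx hR
    have h3 := deg_ge_of_sep_const (ks := ks) hFF h2
    have h4 := isOverWith_one_le h2
    calc Module.finrank k ks * P.deg ≤ R.deg := h3
      _ = 1 * R.deg := (one_mul _).symm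
      _ ≤ ramIdx R P * R.deg := Nat.mul_le_mul_right _ h4
  have h5 := hd Q hQ
  have h6 := hd Q' hQ'
  have h7 : Module.finrank K K' * P.deg ≤ Module.finrank k ks * P.deg :=
    Nat.mul_le_mul_right _ hspan
  have h8 : 0 < Module.finrank k ks * P.deg :=
    Nat.mul_pos Module.finrank_pos (deg_pos P hK)
  omega

end B2

end Groth.Agent.Lib.Helper2.FF
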