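import Mathlib
import Groth.Agent.Lib.Helper2.FunFld.PInsep

set_option autoImplicit false
open scoped WithZero IntermediateField
open FunFld Polynomial

namespace Groth.Agent.Lib.Helper2.FF

section Main

variable {k k' K K' : Type*} [Field k] [Field k'] [Field K] [Field K']
    [Algebra k k'] [Algebra k K] [Algebra K K'] [Algebra k' K'] [Algebra k K']
    [IsScalarTower k k' K'] [IsScalarTower k K K']

theorem isPurelyInseparable_cExt [IsPurelyInseparable k k']
    (h : Function.Surjective (Algebra.TensorProduct.productMap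
      (IsScalarTower.toAlgHom k k' K') (IsScalarTower.toAlgHom k K K'))) :
    IsPurelyInseparable K K' := by
  haveI : ExpChar K (ringExpChar k) :=
    expChar_of_injective_algebraMap (algebraMap k K).injective (ringExpChar k)
  refine isPurelyInseparable_of_adjoin_eq_top (ringExpChar k) (adjoin_const_eq_top h K) ?_
  rintro _ ⟨c, rfl⟩
  obtain ⟨n, a, ha⟩ := IsPurelyInseparable.pow_mem k (ringExpChar k) c
  refine ⟨n, algebraMap k K a, ?_⟩
  rw [← map_pow, ← ha, ← IsScalarTower.algebraMap_apply, ← IsScalarTower.algebraMap_apply]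

/-- restriction of a place to an intermediate field, lying over `P` -/
theorem exists_restrict_isOver [FiniteDimensional K K'] (hK : IsFunctionField k K)
    (Ks : IntermediateField K K') {Q : FunFld.Place k K'} {P : FunFld.Place k K}
    (hQ : IsOver Q P) :
    ∃ Qs : FunFld.Place k Ks, IsOver Q Qs ∧ IsOver Qs P := by
  haveI : IsScalarTower k Ks K' := IsScalarTower.of_algebraMap_eq (fun _ => rfl)
  have hFFs : IsFFw k Ks := isFFw_of_finite hK
  obtain ⟨Qs, es, hes⟩ := exists_isOverWith' (K := Ks) (K' := K') hFFs Q
  obtain ⟨P', e', he'⟩ := exists_isOverWith (K := K) (K' := Ks) hK Qs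
  obtain ⟨e, he⟩ := hQ
  have h1 := isOverWith_trans hes he'
  have h2 : P' = P := isOverWith_unique h1 he
  subst h2
  exact ⟨Qs, ⟨es, hes⟩, ⟨e', he'⟩⟩

theorem place_unique_cExt_of_residue_pi [FiniteDimensional k k']
    (h : Function.Bijective (Algebra.TensorProduct.productMap
      (IsScalarTower.toAlgHom k k' K') (IsScalarTower.toAlgHom k K K')))
    (hK : IsFunctionField k K) (P : FunFld.Place k K)
    [IsPurelyInseparable k (IsLocalRing.ResidueField P.O)]
    {Q Q' : FunFld.Place k K'} (hQ : IsOver Q P) (hQ' : IsOver Q' P) : Q = Q' := by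
  haveI := finiteDimensional_cExt (K := K) (K' := K') h
  let ks : IntermediateField k k' := separableClosure k k'
  let L : IntermediateField k K' := ks.map (IsScalarTower.toAlgHom k k' K')
  let eL : ks ≃ₐ[k] L := IntermediateField.equivMap ks (IsScalarTower.toAlgHom k k' K')
  haveI : FiniteDimensional k L := Module.Finite.equiv eL.toLinearEquiv
  haveI : Algebra.IsSeparable k L := AlgEquiv.Algebra.isSeparable eL
  let Ks : IntermediateField K K' := IntermediateField.adjoin K (L : Set K')
  haveI : IsScalarTower k Ks K' := IsScalarTower.of_algebraMap_eq (fun _ => rfl)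
  have hspan : Module.finrank K Ks ≤ Module.finrank k L := by
    have h1 := IntermediateField.adjoin_rank_le_of_isAlgebraic_right (F := k) K L
    exact Cardinal.toNat_le_toNat h1 (Module.rank_lt_aleph0 k L)
  letI : Algebra L Ks := (Subring.inclusion (show L.toSubfield.toSubring ≤ Ks.toSubfield.toSubring
    from fun x hx => IntermediateField.subset_adjoin K _ hx)).toAlgebra
  haveI : IsScalarTower k L Ks := IsScalarTower.of_algebraMap_eq (fun _ => rfl)
  -- `K'/Ks` purely inseparable
  haveI hpi : IsPurelyInseparable Ks K' := by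
    haveI : ExpChar ks (ringExpChar k) :=
      expChar_of_injective_algebraMap (algebraMap k ks).injective (ringExpChar k)
    haveI : ExpChar Ks (ringExpChar k) :=
      expChar_of_injective_algebraMap (algebraMap k Ks).injective (ringExpChar k)
    refine isPurelyInseparable_of_adjoin_eq_top (ringExpChar k)
      (adjoin_const_eq_top h.surjective Ks) ?_
    rintro _ ⟨c, rfl⟩
    obtain ⟨n, a, ha⟩ := IsPurelyInseparable.pow_mem ks (ringExpChar k) c
    refine ⟨n, ⟨algebraMap k' K' a, IntermediateField.subset_adjoin K _ ⟨a, a.2, rfl⟩⟩, ?_⟩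
    change algebraMap k' K' a = _
    rw [← map_pow, ← ha]
    rfl
  obtain ⟨Qs, h1, h2⟩ := exists_restrict_isOver hK Ks hQ
  obtain ⟨Qs', h1', h2'⟩ := exists_restrict_isOver hK Ks hQ'
  have h3 : Qs = Qs' := place_unique_of_sep_const (ks := L) hK hspan h2 h2'
  subst h3
  exact place_unique_of_isPurelyInseparable h1 h1'

end Main

end Groth.Agent.Lib.Helper2.FF
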