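import Mathlib
import Groth.Agent.Lib.Helper2.FunFld.PInsep2

set_option autoImplicit false
open scoped WithZero IntermediateField
open FunFld Polynomial

namespace Groth.Agent.Lib.Helper2.FF

section IL

variable {k K : Type*} [Field k] [Field K] [Algebra k K]

theorem exists_map_eq_of_monic_dvd
    (hc : ∀ y : K, IsAlgebraic k y → y ∈ Set.range (algebraMap k K)) {f : k[X]} (hf : f.Monic)
    {g : K[X]} (hg : g.Monic) (hd : g ∣ f.map (algebraMap k K)) :
    ∃ g₀ : k[X], g₀.map (algebraMap k K) = g := by
  have h1 := integralClosure.mem_lifts_of_monic_of_dvd_map K hf hg hd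
  rw [lifts_iff_coeff_lifts] at h1
  rw [← mem_lifts, lifts_iff_coeff_lifts]
  intro n
  obtain ⟨y, hy⟩ := h1 n
  have h2 : IsAlgebraic k (y : K) := (isAlgebraic_iff_isIntegral).2 y.2
  obtain ⟨c, hc'⟩ := hc _ h2
  exact ⟨c, hc'.trans hy⟩

theorem irreducible_map_of_algClosedIn
    (hc : ∀ y : K, IsAlgebraic k y → y ∈ Set.range (algebraMap k K)) {f : k[X]} (hf : f.Monic)
    (hirr : Irreducible f) : Irreducible (f.map (algebraMap k K)) := by
  have hinj : Function.Injective (Polynomial.map (algebraMap k K)) :=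
    Polynomial.map_injective _ (algebraMap k K).injective
  rw [(hf.map _).irreducible_iff_natDegree]
  constructor
  · intro h1
    have : f = 1 := hinj (by rw [h1, Polynomial.map_one])
    exact hirr.ne_one this
  · intro a b ha hb hab
    obtain ⟨a₀, rfl⟩ := exists_map_eq_of_monic_dvd hc hf ha ⟨b, hab.symm⟩
    obtain ⟨b₀, rfl⟩ := exists_map_eq_of_monic_dvd hc hf hb ⟨_, (mul_comm _ _).trans hab |>.symm⟩
    rw [← Polynomial.map_mul] at hab
    have hab' : a₀ * b₀ = f := hinj hab
    rw [natDegree_map, natDegree_map]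
    rcases hirr.isUnit_or_isUnit hab'.symm with h | h
    · exact Or.inl (natDegree_eq_zero_of_isUnit h)
    · exact Or.inr (natDegree_eq_zero_of_isUnit h)

end IL

end Groth.Agent.Lib.Helper2.FF
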