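import Mathlib
import Groth.Agent.Lib.Helper2.FunFld.CF1

set_option autoImplicit false
open scoped WithZero IntermediateField
open FunFld Polynomial

namespace Groth.Agent.Lib.Helper2.FF

section CFa

variable {k K K' : Type*} [Field k] [Field K] [Field K'] [Algebra k K] [Algebra K K'] [Algebra k K']
  [IsScalarTower k K K']

theorem minpoly_map_eq_of_algClosedIn
    (hc : ∀ y : K, IsAlgebraic k y → y ∈ Set.range (algebraMap k K)) {γ : K'}
    (hγ : IsIntegral k γ) : minpoly K γ = (minpoly k γ).map (algebraMap k K) := by
  symm
  apply minpoly.eq_of_irreducible_of_monic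
    (irreducible_map_of_algClosedIn hc (minpoly.monic hγ) (minpoly.irreducible hγ))
  · rw [aeval_map_algebraMap, minpoly.aeval]
  · exact (minpoly.monic hγ).map _

theorem finrank_KC_le [FiniteDimensional K K'] [PerfectField k] (hK : IsFunctionField k K) :
    Module.finrank k (KC k K') ≤ Module.finrank K K' := by
  have hFF : IsFFw k K' := isFFw_of_finite hK
  haveI := finiteDimensional_KC hFF
  haveI : Algebra.IsSeparable k (KC k K') := Algebra.IsAlgebraic.isSeparable_of_perfectField
  obtain ⟨γ, hγ⟩ := Field.exists_primitive_element k (KC k K')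
  have hint : IsIntegral k γ := Algebra.IsIntegral.isIntegral γ
  have hint' : IsIntegral k (γ : K') := (isIntegral_algebraMap_iff
    (algebraMap (KC k K') K').injective).2 hint
  have h1 : Module.finrank k (KC k K') = (minpoly k γ).natDegree := by
    rw [← IntermediateField.adjoin.finrank hint, hγ, IntermediateField.finrank_top']
  have h2 : minpoly k γ = minpoly k (γ : K') :=
    minpoly.algebraMap_eq (algebraMap (KC k K') K').injective γ |>.symm
  rw [h1, h2, ← natDegree_map (algebraMap k K), ← minpoly_map_eq_of_algClosedIn hK.2 hint']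
  exact minpoly.natDegree_le _

end CFa


section CFc

variable {k k' K K' : Type*} [Field k] [Field k'] [Field K] [Field K']
    [Algebra k k'] [Algebra k K] [Algebra K K'] [Algebra k' K'] [Algebra k K']
    [IsScalarTower k k' K'] [IsScalarTower k K K']

theorem finrank_cExt [FiniteDimensional k k']
    (h : Function.Bijective (Algebra.TensorProduct.productMap
      (IsScalarTower.toAlgHom k k' K') (IsScalarTower.toAlgHom k K K'))) :
    Module.finrank K K' = Module.finrank k k' := by
  rw [Module.finrank_eq_card_basis (cBasis (K := K) (Module.finBasis k k') h),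
    Module.finrank_eq_card_basis (Module.finBasis k k')]
  simp

/-- the constants of `K' = k' ⊗ K` are `k'` (perfect base field) -/
theorem const_cExt [FiniteDimensional k k'] [PerfectField k]
    (h : Function.Bijective (Algebra.TensorProduct.productMap
      (IsScalarTower.toAlgHom k k' K') (IsScalarTower.toAlgHom k K K')))
    (hK : IsFunctionField k K) (y : K') (hy : IsAlgebraic k' y) :
    y ∈ Set.range (algebraMap k' K') := by
  haveI := finiteDimensional_cExt (K := K) (K' := K') h
  have hFF : IsFFw k K' := isFFw_of_finite hK
  haveI := finiteDimensional_KC hFF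
  have hyk : IsAlgebraic k y := IsAlgebraic.restrictScalars k hy
  let ι : k' →ₗ[k] KC k K' :=
    { toFun := fun c => ⟨algebraMap k' K' c, mem_algebraicClosure_iff.2
        ((Algebra.IsAlgebraic.isAlgebraic (R := k) c).algebraMap)⟩
      map_add' := fun a b => Subtype.ext (by simp)
      map_smul' := fun a b => Subtype.ext (by
        simp only [RingHom.id_apply]
        change algebraMap k' K' (a • b) = a • algebraMap k' K' b
        rw [Algebra.smul_def, map_mul, ← IsScalarTower.algebraMap_apply, Algebra.smul_def]) }
  have hinj : Function.Injective ι := fun a b hab =>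
    (algebraMap k' K').injective (congrArg Subtype.val hab)
  have hle : Module.finrank k (KC k K') ≤ Module.finrank k k' := by
    rw [← finrank_cExt (K := K) (K' := K') h]
    exact finrank_KC_le hK
  have hle2 := LinearMap.finrank_le_finrank_of_injective hinj
  have hsurj : Function.Surjective ι :=
    (LinearMap.injective_iff_surjective_of_finrank_eq_finrank (le_antisymm hle2 hle)).1 hinj
  obtain ⟨c, hc⟩ := hsurj ⟨y, mem_algebraicClosure_iff.2 hyk⟩
  exact ⟨c, congrArg Subtype.val hc⟩

theorem finiteDimensional_adjoin_of_tower (x : K') [FiniteDimensional k⟮x⟯ K'] :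
    FiniteDimensional k'⟮x⟯ K' := by
  have hle : k⟮x⟯ ≤ (k'⟮x⟯).restrictScalars k := by
    rw [IntermediateField.adjoin_simple_le_iff]
    exact IntermediateField.mem_adjoin_simple_self k' x
  let _ := (IntermediateField.inclusion hle).toRingHom.toAlgebra
  have : IsScalarTower k⟮x⟯ ((k'⟮x⟯).restrictScalars k) K' :=
    IsScalarTower.of_algebraMap_eq fun _ => rfl
  exact Module.Finite.of_restrictScalars_finite k⟮x⟯ ((k'⟮x⟯).restrictScalars k) K'

theorem isFunctionField_cExt [FiniteDimensional k k'] [PerfectField k]
    (h : Function.Bijective (Algebra.TensorProduct.productMap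
      (IsScalarTower.toAlgHom k k' K') (IsScalarTower.toAlgHom k K K')))
    (hK : IsFunctionField k K) : IsFunctionField k' K' := by
  haveI := finiteDimensional_cExt (K := K) (K' := K') h
  obtain ⟨x, hx, hfin⟩ := isFFw_of_finite (K' := K') hK
  refine ⟨⟨x, fun hx' => hx (IsAlgebraic.restrictScalars k hx'),
    finiteDimensional_adjoin_of_tower (k := k) x⟩, const_cExt h hK⟩

/-- a place over `k` is a place over the algebraic extension `k'` -/
def upPlace [Algebra.IsAlgebraic k k'] (Q : FunFld.Place k K') : FunFld.Place k' K' :=
  ⟨Q.1, fun c => w_le_one_of_isAlgebraic Q.1 Q.2.1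
    ((Algebra.IsAlgebraic.isAlgebraic (R := k) c).algebraMap), Q.2.2⟩

/-- a place over `k'` is a place over `k` -/
def downPlace (Q : FunFld.Place k' K') : FunFld.Place k K' :=
  ⟨Q.1, fun c => by
    rw [IsScalarTower.algebraMap_apply k k' K']
    exact Q.2.1 (algebraMap k k' c), Q.2.2⟩

@[simp] theorem downPlace_upPlace [Algebra.IsAlgebraic k k'] (Q : FunFld.Place k K') :
    downPlace (k := k) (upPlace (k' := k') Q) = Q := rfl

@[simp] theorem upPlace_downPlace [Algebra.IsAlgebraic k k'] (Q : FunFld.Place k' K') :
    upPlace (downPlace (k := k) Q) = Q := rfl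

/-- places over `k` and over `k'` correspond -/
def placeEquiv [Algebra.IsAlgebraic k k'] : FunFld.Place k K' ≃ FunFld.Place k' K' where
  toFun := upPlace
  invFun := downPlace
  left_inv := downPlace_upPlace
  right_inv := upPlace_downPlace

theorem deg_eq_mul_deg_upPlace [Algebra.IsAlgebraic k k'] (Q : FunFld.Place k K') :
    Q.deg = Module.finrank k k' * (upPlace (k' := k') Q).deg := by
  let _ : Algebra k' (IsLocalRing.ResidueField Q.O) := Place.algRes (upPlace (k' := k') Q)
  have h1 : IsScalarTower k k' (IsLocalRing.ResidueField Q.O) :=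
    IsScalarTower.of_algebraMap_eq fun c => by
      change IsLocalRing.residue Q.O (algebraMap k Q.O c) =
        IsLocalRing.residue Q.O (algebraMap k' (upPlace (k' := k') Q).O (algebraMap k k' c))
      congr 1
      apply Subtype.ext
      exact IsScalarTower.algebraMap_apply k k' K' c
  have := @Module.finrank_mul_finrank k k' (IsLocalRing.ResidueField Q.O) _ _ _ _ _ _ h1 _ _
  exact this.symm

end CFc

end Groth.Agent.Lib.Helper2.FF
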