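import Mathlib
import Groth.Prelude.Def_LocRes
import Groth.Agent.Lib.Helper2.Tate.TD2
import Groth.Agent.Lib.Helper2.Tate.LD2

set_option autoImplicit false
open LaurentSeries HahnSeries KaehlerDifferential FunFld
open Groth.Agent.Lib.Helper2.FF Groth.Agent.Lib.Helper2.Tate

namespace Groth.Agent.Lib.Helper2.AD

universe u v v' w

section Star

variable {k : Type u} {K : Type v} {K' : Type v'} {F F' : Type w} [Field k] [Field K] [Field K']
  [Field F] [Field F'] [Algebra k K] [Algebra K K'] [Algebra k K'] [IsScalarTower k K K']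
  [Algebra k F] [Algebra k F'] [FiniteDimensional K K'] [FiniteDimensional k F]
  [FiniteDimensional k F']

/-- elements whose order at each place above `P` is at least minus the different exponent lie in
the trace dual of the integral closure -/
theorem trace_le_one_of_dual (hK : IsFunctionField k K) {P : Place k K} {φ : K →ₐ[k] F⸨X⸩}
    (hφ : LocRes.IsExpansionAt P.1 φ)
    (Ψ : Place k K' → (K' →ₐ[k] F'⸨X⸩))
    (hΨ : ∀ Q, IsOver Q P → LocRes.IsExpansionAt Q.1 (Ψ Q))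
    (hfr : Module.finrank K (Ω[K⁄k]) = 1) (hfr' : Module.finrank K' (Ω[K'⁄k]) = 1)
    {t : K} (ht : P.1 t = WithZero.exp (-1)) (ht' : D k K' (algebraMap K K' t) ≠ 0)
    (y z : K')
    (hy : ∀ Q, IsOver Q P →
      Q.1 y ≤ WithZero.exp (LocRes.ordDiff (Ψ Q) 1 (algebraMap K K' t)))
    (hz : ∀ Q, IsOver Q P → Q.1 z ≤ 1) :
    P.1 (Algebra.trace K K' (y * z)) ≤ 1 := by
  classical
  by_cases hy0 : y = 0
  · rw [hy0, zero_mul, map_zero, map_zero]; exact zero_le
  by_contra hlt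
  push Not at hlt
  obtain ⟨a, ha⟩ : ∃ a : K, a = Algebra.trace K K' (y * z) := ⟨_, rfl⟩
  rw [← ha] at hlt
  have ha0 : a ≠ 0 := by
    intro h0
    rw [h0, map_zero] at hlt
    exact not_lt_of_ge zero_le hlt
  obtain ⟨hDφt, hordt⟩ := ordDiff_uniformizer hφ ht
  have hDt : D k K t ≠ 0 := D_ne_zero_of_D_phi_ne_zero φ hDφt
  have hNeq : LocRes.ordDiff φ a t = - WithZero.log (P.1 a) + 0 := by
    rw [ordDiff_eq_add hφ ha0 hDφt, hordt]
  have hPa0 : P.1 a ≠ 0 := (Valuation.ne_zero_iff _).2 ha0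
  have hNneg : LocRes.ordDiff φ a t < 0 := by
    have hlt' : WithZero.exp (0 : ℤ) < P.1 a := by rw [WithZero.exp_zero]; exact hlt
    rw [← WithZero.exp_log hPa0, WithZero.exp_lt_exp] at hlt'
    omega
  obtain ⟨b, hb, hres⟩ := exists_locRes_ne_zero_of_lt hfr hφ ha0 hDt
  have hb1 : P.1 b ≤ 1 := hb.trans (by rw [← WithZero.exp_zero, WithZero.exp_le_exp]; omega)
  have hba : b * a = Algebra.trace K K' (y * (algebraMap K K' b * z)) := by
    rw [ha, ← smul_eq_mul b, ← map_smul, Algebra.smul_def]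
    congr 1
    ring
  rw [hba] at hres
  have hb' : ∀ Q' : Place k K', IsOver Q' P → Q'.1 (algebraMap K K' b) ≤ 1 := by
    rintro Q' ⟨e', he'⟩
    rw [he']
    exact pow_le_one' hb1 e'
  set Qs := (finite_isOver (K' := K') hK P).toFinset with hQsdef
  have hQs : ∀ Q', Q' ∈ Qs ↔ IsOver Q' P := fun Q' => (finite_isOver hK P).mem_toFinset
  have h1 := res_trace_places hK P Qs hQs (y * (algebraMap K K' b * z)) t
  rw [res_OP_eq_locRes hφ] at h1
  apply hres
  rw [h1]
  refine Finset.sum_eq_zero fun Q' hQ' => ?_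
  have hov := (hQs Q').1 hQ'
  rw [res_OP_eq_locRes (hΨ Q' hov)]
  have hDψ : LocRes.D F' (Ψ Q' (algebraMap K K' t)) ≠ 0 := D_phi_ne_zero hfr' (hΨ Q' hov) ht'
  have h3 : y * (algebraMap K K' b * z) = (algebraMap K K' b * z) * y := by ring
  rw [h3]
  apply locRes_eq_zero_of_le hfr' (hΨ Q' hov) hy0 ht'
  rw [ordDiff_eq_add (hΨ Q' hov) hy0 hDψ]
  have hQy0 : Q'.1 y ≠ 0 := (Valuation.ne_zero_iff _).2 hy0
  have h4 : WithZero.log (Q'.1 y) ≤ LocRes.ordDiff (Ψ Q') 1 (algebraMap K K' t) := by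
    exact (WithZero.log_le_iff_le_exp hQy0).2 (hy Q' hov)
  have h5 : Q'.1 (algebraMap K K' b * z) ≤ 1 := by
    rw [map_mul]
    exact (mul_le_mul' (hb' Q' hov) (hz Q' hov)).trans_eq (one_mul _)
  have h6 : (1 : WithZero (Multiplicative ℤ)) ≤ WithZero.exp (-WithZero.log (Q'.1 y) +
      LocRes.ordDiff (Ψ Q') 1 (algebraMap K K' t)) := by
    calc (1 : WithZero (Multiplicative ℤ)) = WithZero.exp 0 := WithZero.exp_zero.symm
      _ ≤ _ := WithZero.exp_le_exp.2 (by omega)
  exact h5.trans h6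

end Star

end Groth.Agent.Lib.Helper2.AD
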