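import Mathlib
import Groth.Agent.Lib.Helper26.LocRing2

set_option autoImplicit false
open scoped WithZero
open FunFld
open Groth.Agent.Lib.Helper2.FF

namespace Groth.Agent.Lib.Helper2.AD

universe u v

section LinInv

variable {k : Type u} {K : Type v} [Field k] [Field K] [Algebra k K] {ι : Type*} [Fintype ι]

/-- change of coordinates in the affine coordinate ring -/
theorem changeCoord (φ ψ : ι → K) (B : Matrix ι ι k) (s : K) (hs : s ≠ 0)
    (hψ : ∀ i, ψ i = s * ∑ l, algebraMap k K (B i l) * φ l) (j j' : ι) (hj0 : φ j ≠ 0)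
    (hj'0 : ψ j' ≠ 0) {a : K}
    (ha : a ∈ Algebra.adjoin k (Set.range fun i => ψ i / ψ j')) :
    ∃ N : ℕ, ∀ M, N ≤ M →
      a * (ψ j' / (s * φ j)) ^ M ∈ Algebra.adjoin k (Set.range fun i => φ i / φ j) := by
  set A := Algebra.adjoin k (Set.range fun i => φ i / φ j) with hA
  have hgen : ∀ i, φ i / φ j ∈ A := fun i => Algebra.subset_adjoin ⟨i, rfl⟩
  have hlin : ∀ i, ψ i / (s * φ j) ∈ A := by
    intro i
    rw [hψ i, mul_div_mul_left _ _ hs, Finset.sum_div]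
    refine Subalgebra.sum_mem _ fun l _ => ?_
    rw [mul_div_assoc]
    exact mul_mem (Subalgebra.algebraMap_mem _ _) (hgen l)
  refine Algebra.adjoin_induction
    (p := fun a _ => ∃ N : ℕ, ∀ M, N ≤ M → a * (ψ j' / (s * φ j)) ^ M ∈ A) ?_ ?_ ?_ ?_ ha
  · rintro _ ⟨i, rfl⟩
    refine ⟨1, fun M hM => ?_⟩
    obtain ⟨M', rfl⟩ : ∃ M', M = M' + 1 := ⟨M - 1, by omega⟩
    have e : ψ i / ψ j' * (ψ j' / (s * φ j)) ^ (M' + 1) =
        ψ i / (s * φ j) * (ψ j' / (s * φ j)) ^ M' := by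
      rw [pow_succ]; field_simp
    rw [e]
    exact mul_mem (hlin i) (pow_mem (hlin j') _)
  · intro c
    exact ⟨0, fun M _ => mul_mem (Subalgebra.algebraMap_mem _ c) (pow_mem (hlin j') _)⟩
  · rintro x y _ _ ⟨N₁, h₁⟩ ⟨N₂, h₂⟩
    refine ⟨max N₁ N₂, fun M hM => ?_⟩
    rw [add_mul]
    exact add_mem (h₁ M (le_trans (le_max_left _ _) hM)) (h₂ M (le_trans (le_max_right _ _) hM))
  · rintro x y _ _ ⟨N₁, h₁⟩ ⟨N₂, h₂⟩
    refine ⟨N₁ + N₂, fun M hM => ?_⟩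
    have e : x * y * (ψ j' / (s * φ j)) ^ M =
        (x * (ψ j' / (s * φ j)) ^ N₁) * (y * (ψ j' / (s * φ j)) ^ (M - N₁)) := by
      have : M = N₁ + (M - N₁) := by omega
      conv_lhs => rw [this, pow_add]
      ring
    rw [e]
    exact mul_mem (h₁ N₁ le_rfl) (h₂ (M - N₁) (by omega))

/-- the local ring of a projective map is unchanged by a linear change of coordinates and
scaling -/
theorem inLocRing_of_linear (φ ψ : ι → K) (Q : FunFld.Place k K) (B : Matrix ι ι k) (s : K)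
    (hs : s ≠ 0) (hψ : ∀ i, ψ i = s * ∑ l, algebraMap k K (B i l) * φ l)
    (j j' : ι) (hj0 : φ j ≠ 0) (hj : ∀ i, v Q (φ i) ≤ v Q (φ j))
    (hj'0 : ψ j' ≠ 0) (hj' : ∀ i, v Q (ψ i) ≤ v Q (ψ j'))
    (hjj' : v Q (ψ j') = v Q s * v Q (φ j)) {z : K} (hz : InLocRing ψ Q z) :
    InLocRing φ Q z := by
  obtain ⟨u, hu, w, hw, hw1, hzw⟩ :=
    (Groth.Agent.Lib.Helper26.LocRing2.inLocRing_iff ψ Q j' hj'0 hj' z).1 hz
  obtain ⟨N₁, h₁⟩ := changeCoord φ ψ B s hs hψ j j' hj0 hj'0 hu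
  obtain ⟨N₂, h₂⟩ := changeCoord φ ψ B s hs hψ j j' hj0 hj'0 hw
  rw [Groth.Agent.Lib.Helper26.LocRing2.inLocRing_iff φ Q j hj0 hj z]
  refine ⟨_, h₁ (max N₁ N₂) (le_max_left _ _), _, h₂ (max N₁ N₂) (le_max_right _ _), ?_, ?_⟩
  · have hx : v Q (ψ j' / (s * φ j)) = 1 := by
      rw [map_div₀, map_mul, hjj']
      exact div_self (mul_ne_zero ((Valuation.ne_zero_iff _).2 hs)
        ((Valuation.ne_zero_iff _).2 hj0))
    rw [map_mul, map_pow, hx, one_pow, mul_one, hw1]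
  · rw [← hzw]; ring

end LinInv

end Groth.Agent.Lib.Helper2.AD
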