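import Mathlib
import Groth.Agent.Lib.Helper2.FunFld.AD1

set_option autoImplicit false
open LaurentSeries HahnSeries KaehlerDifferential FunFld Polynomial
open Groth.Agent.Lib.Helper2.FF Groth.Agent.Lib.Helper2.Tate

namespace Groth.Agent.Lib.Helper2.AD

universe u v v' w

section Coeffs

variable {L : Type v} {K : Type v'} [Field L] [Field K] [Algebra L K]
  {Γ : Type*} [LinearOrderedCommGroupWithZero Γ]

/-- the coefficients of `a₀ · μ(X)/(X - y)` are integral at any valuation at which the
coefficients of `a₀ · μ` are integral -/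
theorem v_mul_coeff_minpolyDiv_le_one (w : Valuation K Γ) (y : K) (hy : IsIntegral L y) (a₀ : L)
    (ha₀ : ∀ j, w (algebraMap L K (a₀ * (minpoly L y).coeff j)) ≤ 1) (i : ℕ) :
    w (algebraMap L K a₀ * (minpolyDiv L y).coeff i) ≤ 1 := by
  by_cases hwy : w y ≤ 1
  · -- downward induction
    have key : ∀ m i, (minpoly L y).natDegree ≤ i + m →
        w (algebraMap L K a₀ * (minpolyDiv L y).coeff i) ≤ 1 := by
      intro m
      induction m with
      | zero =>
        intro i hi
        rw [coeff_eq_zero_of_natDegree_lt, mul_zero, map_zero]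
        · exact zero_le
        · have := natDegree_minpolyDiv_lt (R := L) hy
          omega
      | succ m ih =>
        intro i hi
        rw [coeff_minpolyDiv, mul_add, ← map_mul, ← mul_assoc]
        refine (Valuation.map_add _ _ _).trans (max_le (ha₀ _) ?_)
        rw [map_mul]
        exact mul_le_one' (ih (i + 1) (by omega)) hwy
    exact key (minpoly L y).natDegree i (by omega)
  · push Not at hwy
    have hy0 : w y ≠ 0 := (lt_trans zero_lt_one hwy).ne'
    have hy0' : y ≠ 0 := (Valuation.ne_zero_iff w).1 hy0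
    have hinv : (w y)⁻¹ ≤ 1 := inv_le_one_of_one_le₀ hwy.le
    induction i with
    | zero =>
      have h0 : (minpolyDiv L y).coeff 0 * (-y) = algebraMap L K ((minpoly L y).coeff 0) := by
        have := congrArg (fun p => Polynomial.coeff p 0) (minpolyDiv_spec L y)
        simp only [Polynomial.mul_coeff_zero, Polynomial.coeff_sub, Polynomial.coeff_X_zero,
          Polynomial.coeff_C_zero, zero_sub, Polynomial.coeff_map] at this
        exact this
      have h1 : algebraMap L K a₀ * (minpolyDiv L y).coeff 0 =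
          -(algebraMap L K (a₀ * (minpoly L y).coeff 0)) * y⁻¹ := by
        rw [map_mul, ← h0]; field_simp
      rw [h1, map_mul, Valuation.map_neg, map_inv₀]
      exact mul_le_one' (ha₀ 0) hinv
    | succ i ih =>
      have h0 := coeff_minpolyDiv L y i
      have h1 : algebraMap L K a₀ * (minpolyDiv L y).coeff (i + 1) =
          (algebraMap L K a₀ * (minpolyDiv L y).coeff i -
            algebraMap L K (a₀ * (minpoly L y).coeff (i + 1))) * y⁻¹ := by
        rw [h0, map_mul]; field_simp; ring
      rw [h1, map_mul, map_inv₀]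
      refine mul_le_one' ?_ hinv
      exact (Valuation.map_sub _ _ _).trans (max_le ih (ha₀ _))

end Coeffs

section Coords

variable {k : Type u} {L : Type v} {K : Type v'} {F F' : Type w} [Field k] [Field L] [Field K]
  [Field F] [Field F'] [Algebra k L] [Algebra L K] [Algebra k K] [IsScalarTower k L K]
  [Algebra k F] [Algebra k F'] [FiniteDimensional L K] [FiniteDimensional k F]
  [FiniteDimensional k F'] [Algebra.IsSeparable L K]

/-- **conductor-type inclusion**: an element of sufficiently high order at all places above `P₀`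
has `P₀`-integral coordinates in the power basis -/
theorem coords_le_one (hL : IsFunctionField k L) {P₀ : Place k L} {φ : L →ₐ[k] F⸨X⸩}
    (hφ : LocRes.IsExpansionAt P₀.1 φ)
    (Ψ : Place k K → (K →ₐ[k] F'⸨X⸩))
    (hΨ : ∀ Q, IsOver Q P₀ → LocRes.IsExpansionAt Q.1 (Ψ Q))
    (hfr : Module.finrank L (Ω[L⁄k]) = 1) (hfr' : Module.finrank K (Ω[K⁄k]) = 1)
    {t : L} (ht : P₀.1 t = WithZero.exp (-1)) (ht' : D k K (algebraMap L K t) ≠ 0)
    (pb : PowerBasis L K) (a₀ : L) (ha₀0 : a₀ ≠ 0)
    (ha₀ : ∀ j, P₀.1 (a₀ * (minpoly L pb.gen).coeff j) ≤ 1)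
    (z : K)
    (hz : ∀ Q, IsOver Q P₀ → Q.1 z ≤
      Q.1 (algebraMap L K a₀ * aeval pb.gen (derivative (minpoly L pb.gen))) *
        WithZero.exp (LocRes.ordDiff (Ψ Q) 1 (algebraMap L K t)))
    (i : Fin pb.dim) : P₀.1 (pb.basis.repr z i) ≤ 1 := by
  classical
  have hint : IsIntegral L pb.gen := Algebra.IsIntegral.isIntegral _
  have hd0 : aeval pb.gen (derivative (minpoly L pb.gen)) ≠ 0 :=
    (Algebra.IsSeparable.isSeparable L pb.gen).aeval_derivative_ne_zero (minpoly.aeval _ _)
  have ha₀K : algebraMap L K a₀ ≠ 0 := by simpa using ha₀0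
  obtain ⟨d, hd⟩ : ∃ d : K, d = algebraMap L K a₀ * aeval pb.gen (derivative (minpoly L pb.gen)) :=
    ⟨_, rfl⟩
  have hdne : d ≠ 0 := by rw [hd]; exact mul_ne_zero ha₀K hd0
  rw [← hd] at hz
  have h1 : pb.basis.repr z i = Algebra.trace L K ((z / d) *
      (algebraMap L K a₀ * (minpolyDiv L pb.gen).coeff i)) := by
    have h2 : pb.basis.repr z i = pb.basis.traceDual.traceDual.repr z i := by
      rw [Module.Basis.traceDual_traceDual]
    rw [h2, Module.Basis.traceDual_repr_apply, Algebra.traceForm_apply,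
      Module.Basis.traceDual_powerBasis_eq, hd]
    congr 1
    field_simp
  rw [h1]
  refine trace_le_one_of_dual hL hφ Ψ hΨ hfr hfr' ht ht' _ _ ?_ ?_
  · intro Q hQ
    rw [map_div₀]
    have hQd : Q.1 d ≠ 0 := (Valuation.ne_zero_iff _).2 hdne
    rw [div_le_iff₀ (zero_lt_iff.2 hQd), mul_comm]
    exact hz Q hQ
  · intro Q hQ
    apply v_mul_coeff_minpolyDiv_le_one Q.1 pb.gen hint a₀
    intro j
    obtain ⟨e, he⟩ := hQ
    rw [he]
    exact pow_le_one' (ha₀ j) e

end Coords

end Groth.Agent.Lib.Helper2.AD
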