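import Mathlib
import Groth.Agent.Lib.Helper2.FunFld.Rational
import Groth.Agent.Lib.Helper26.PlaneModel2

set_option autoImplicit false
open scoped IntermediateField
open FunFld Polynomial
open Groth.Agent.Lib.Helper2.FF

namespace Groth.Agent.Lib.Helper2.AD

universe u v

section Unif

variable {k : Type u} {L : Type v} [Field k] [Field L] [Algebra k L]

/-- a generator of a rational function field has a simple zero wherever it vanishes -/
theorem v_eq_exp_neg_one_of_adjoin_eq_top (hL : IsFunctionField k L) {z : L} (hz : k⟮z⟯ = ⊤)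
    (P₀ : FunFld.Place k L) (h : v P₀ z < 1) : P₀.1 z = WithZero.exp (-1) := by
  classical
  have htr : Transcendental k z := transcendental_of_adjoin_eq_top hL hz
  have hz0 : z ≠ 0 := by
    rintro rfl
    exact htr ⟨Polynomial.X, Polynomial.X_ne_zero, by simp⟩
  have hdeg : (zdiv (k := k) z).deg = 1 := by
    rw [deg_zdiv hL htr, hz]
    have : Module.finrank (⊤ : IntermediateField k L) L = 1 := IntermediateField.finrank_top
    rw [this]; rfl
  obtain ⟨P, -, hP⟩ := exists_eq_single_of_deg_eq_one hL (zdiv_nonneg z) hdeg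
  have hord : 0 < P₀.ord z := (v_lt_one_iff P₀ hz0).1 h
  have h1 : zdiv (k := k) z P₀ = P₀.ord z := by
    rw [zdiv_apply hL]; exact max_eq_left hord.le
  rw [hP] at h1
  by_cases hPP : P = P₀
  · subst hPP
    rw [Finsupp.single_eq_same] at h1
    exact (ord_eq_iff P hz0 1).1 h1.symm
  · rw [Finsupp.single_eq_of_ne (Ne.symm hPP)] at h1
    omega

end Unif

section Gen

variable {k : Type u} {K : Type v} [Field k] [Field K] [Algebra k K]

theorem adjoin_gen_sub_eq_top (x : K) (a : k) :
    k⟮IntermediateField.AdjoinSimple.gen k x - algebraMap k k⟮x⟯ a⟯ = ⊤ := by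
  have htop : IntermediateField.adjoin k
      ({IntermediateField.AdjoinSimple.gen k x} : Set k⟮x⟯) = ⊤ := by
    apply IntermediateField.map_injective (IntermediateField.val k⟮x⟯)
    rw [IntermediateField.adjoin_map, Set.image_singleton]
    simp only [IntermediateField.coe_val, IntermediateField.AdjoinSimple.coe_gen]
    rw [← AlgHom.fieldRange_eq_map, IntermediateField.fieldRange_val]
  rw [eq_top_iff, ← htop, IntermediateField.adjoin_simple_le_iff]
  have h1 : IntermediateField.AdjoinSimple.gen k x - algebraMap k k⟮x⟯ a ∈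
      k⟮IntermediateField.AdjoinSimple.gen k x - algebraMap k k⟮x⟯ a⟯ :=
    IntermediateField.mem_adjoin_simple_self _ _
  have h2 : algebraMap k k⟮x⟯ a ∈
      k⟮IntermediateField.AdjoinSimple.gen k x - algebraMap k k⟮x⟯ a⟯ :=
    IntermediateField.algebraMap_mem _ _
  have := add_mem h1 h2
  rwa [sub_add_cancel] at this

end Gen

end Groth.Agent.Lib.Helper2.AD
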