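import Mathlib
import Groth.Agent.Lib.Helper2.FunFld.AD3

set_option autoImplicit false
open scoped IntermediateField
open FunFld Polynomial
open Groth.Agent.Lib.Helper2.FF

namespace Groth.Agent.Lib.Helper2.AD

universe u v

section Ev

variable {k : Type u} {K : Type v} [Field k] [Field K] [Algebra k K] (x : K)

/-- evaluation `X₀ ↦ x` (in `k(x)`), `X₁ ↦ Y` -/
noncomputable def evX : MvPolynomial (Fin 2) k →ₐ[k] (k⟮x⟯)[X] :=
  MvPolynomial.aeval ![Polynomial.C (IntermediateField.AdjoinSimple.gen k x), Polynomial.X]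

theorem evX_X0 : evX (k := k) x (MvPolynomial.X 0) =
    Polynomial.C (IntermediateField.AdjoinSimple.gen k x) := by
  simp [evX]

theorem evX_X1 : evX (k := k) x (MvPolynomial.X 1) = Polynomial.X := by
  simp [evX]

theorem aeval_evX (y : K) (G : MvPolynomial (Fin 2) k) :
    Polynomial.aeval y (evX x G) = MvPolynomial.aeval ![x, y] G := by
  have h : ((Polynomial.aeval y : (k⟮x⟯)[X] →ₐ[k⟮x⟯] K).restrictScalars k).comp (evX x) =
      MvPolynomial.aeval ![x, y] := by
    apply MvPolynomial.algHom_ext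
    intro i
    fin_cases i
    · simp [evX_X0]
    · simp [evX_X1]
  exact congrArg (fun φ : MvPolynomial (Fin 2) k →ₐ[k] K => φ G) h

theorem aeval_derivative_evX (y : K) (G : MvPolynomial (Fin 2) k) :
    Polynomial.aeval y (derivative (evX x G)) =
      MvPolynomial.aeval ![x, y] (MvPolynomial.pderiv 1 G) := by
  induction G using MvPolynomial.induction_on with
  | C a =>
    have : evX (k := k) x (MvPolynomial.C a) = Polynomial.C (algebraMap k k⟮x⟯ a) := by
      simp [evX]
    rw [this]; simp
  | add p q hp hq => rw [map_add, derivative_add, map_add, hp, hq, map_add, map_add]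
  | mul_X p i hp =>
    rw [map_mul, derivative_mul, map_add, map_mul, map_mul, hp, Derivation.leibniz,
      map_add, smul_eq_mul, smul_eq_mul, map_mul, map_mul]
    have h1 : Polynomial.aeval y (evX (k := k) x (MvPolynomial.X i)) =
        MvPolynomial.aeval ![x, y] (MvPolynomial.X i : MvPolynomial (Fin 2) k) := aeval_evX x y _
    have h2 : Polynomial.aeval y (derivative (evX (k := k) x (MvPolynomial.X i))) =
        MvPolynomial.aeval ![x, y]
          (MvPolynomial.pderiv 1 (MvPolynomial.X i : MvPolynomial (Fin 2) k)) := by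
      fin_cases i
      · change Polynomial.aeval y (derivative (evX (k := k) x (MvPolynomial.X 0))) =
          MvPolynomial.aeval ![x, y]
            (MvPolynomial.pderiv 1 (MvPolynomial.X 0 : MvPolynomial (Fin 2) k))
        rw [evX_X0]
        simp
      · change Polynomial.aeval y (derivative (evX (k := k) x (MvPolynomial.X 1))) =
          MvPolynomial.aeval ![x, y]
            (MvPolynomial.pderiv 1 (MvPolynomial.X 1 : MvPolynomial (Fin 2) k))
        rw [evX_X1]
        simp
    rw [h1, h2, aeval_evX]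
    ring

theorem evX_aeval_X0 (s : k[X]) : evX (k := k) x (Polynomial.aeval (MvPolynomial.X 0) s) =
    Polynomial.C (Polynomial.aeval (IntermediateField.AdjoinSimple.gen k x) s) := by
  rw [← Polynomial.aeval_algHom_apply, evX_X0, Polynomial.C_eq_algebraMap]
  exact Polynomial.aeval_algebraMap_apply _ _ _

theorem coeff_evX (G : MvPolynomial (Fin 2) k) (j : ℕ) :
    ∃ r : k[X], (evX x G).coeff j = Polynomial.aeval (IntermediateField.AdjoinSimple.gen k x) r := by
  induction G using MvPolynomial.induction_on generalizing j with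
  | C a =>
    have : evX (k := k) x (MvPolynomial.C a) = Polynomial.C (algebraMap k k⟮x⟯ a) := by
      simp [evX]
    rw [this, Polynomial.coeff_C]
    split_ifs
    · exact ⟨Polynomial.C a, by simp⟩
    · exact ⟨0, by simp⟩
  | add p q hp hq =>
    obtain ⟨r₁, h₁⟩ := hp j
    obtain ⟨r₂, h₂⟩ := hq j
    exact ⟨r₁ + r₂, by rw [map_add, Polynomial.coeff_add, h₁, h₂, map_add]⟩
  | mul_X p i hp =>
    fin_cases i
    · obtain ⟨r, hr⟩ := hp j
      refine ⟨r * Polynomial.X, ?_⟩
      change (evX x (p * MvPolynomial.X 0)).coeff j = _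
      rw [map_mul, evX_X0, Polynomial.coeff_mul_C, hr, map_mul, Polynomial.aeval_X]
    · change ∃ r : k[X], (evX x (p * MvPolynomial.X 1)).coeff j = _
      rw [map_mul, evX_X1]
      cases j with
      | zero => exact ⟨0, by simp⟩
      | succ j =>
        obtain ⟨r, hr⟩ := hp j
        exact ⟨r, by rw [Polynomial.coeff_mul_X, hr]⟩

theorem exists_evX_eq (p : (k⟮x⟯)[X]) :
    ∃ (G : MvPolynomial (Fin 2) k) (s : k[X]),
      Polynomial.aeval (IntermediateField.AdjoinSimple.gen k x) s ≠ 0 ∧
      Polynomial.C (Polynomial.aeval (IntermediateField.AdjoinSimple.gen k x) s) * p = evX x G := by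
  induction p using Polynomial.induction_on' with
  | add p q hp hq =>
    obtain ⟨G₁, s₁, hs₁, h₁⟩ := hp
    obtain ⟨G₂, s₂, hs₂, h₂⟩ := hq
    refine ⟨G₁ * Polynomial.aeval (MvPolynomial.X 0) s₂ + G₂ * Polynomial.aeval (MvPolynomial.X 0) s₁,
      s₁ * s₂, ?_, ?_⟩
    · rw [map_mul]; exact mul_ne_zero hs₁ hs₂
    · have e1 : evX x (G₁ * Polynomial.aeval (MvPolynomial.X 0) s₂ +
          G₂ * Polynomial.aeval (MvPolynomial.X 0) s₁) =
          evX x G₁ * Polynomial.C (Polynomial.aeval (IntermediateField.AdjoinSimple.gen k x) s₂) +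
          evX x G₂ * Polynomial.C (Polynomial.aeval (IntermediateField.AdjoinSimple.gen k x) s₁) := by
        rw [map_add, map_mul, map_mul, evX_aeval_X0, evX_aeval_X0]
      rw [e1, ← h₁, ← h₂, map_mul, map_mul]
      ring
  | monomial n a =>
    obtain ⟨r, s, hrs⟩ := (IntermediateField.mem_adjoin_simple_iff k (a : K)).1 a.2
    by_cases hs0 : Polynomial.aeval x s = 0
    · have ha0 : a = 0 := by
        apply Subtype.ext
        rw [hrs, hs0, div_zero]; rfl
      refine ⟨0, 1, by simp, ?_⟩
      rw [ha0]; simp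
    · have hcoe : ∀ q : k[X], ((Polynomial.aeval (IntermediateField.AdjoinSimple.gen k x) q : k⟮x⟯) : K) =
          Polynomial.aeval x q := by
        intro q
        have := Polynomial.aeval_algHom_apply (IntermediateField.val k⟮x⟯)
          (IntermediateField.AdjoinSimple.gen k x) q
        rw [IntermediateField.coe_val, IntermediateField.AdjoinSimple.coe_gen] at this
        exact this.symm
      refine ⟨Polynomial.aeval (MvPolynomial.X 0) r * MvPolynomial.X 1 ^ n, s, ?_, ?_⟩
      · intro h0
        apply hs0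
        rw [← hcoe, h0]; rfl
      · rw [map_mul, map_pow, evX_X1, evX_aeval_X0, ← Polynomial.C_mul_X_pow_eq_monomial,
          ← mul_assoc, ← Polynomial.C_mul]
        congr 2
        apply Subtype.ext
        change ((Polynomial.aeval (IntermediateField.AdjoinSimple.gen k x) s : k⟮x⟯) : K) * (a : K) = _
        rw [hcoe, hcoe, hrs]
        field_simp

theorem evX_eq_C_mul_minpoly {x y : K} {f : MvPolynomial (Fin 2) k}
    (hker : RingHom.ker (MvPolynomial.aeval ![x, y] : MvPolynomial (Fin 2) k →ₐ[k] K) =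
      Ideal.span {f})
    (hy : IsIntegral k⟮x⟯ y) :
    ∃ a₀ : k⟮x⟯, a₀ ≠ 0 ∧ evX x f = Polynomial.C a₀ * minpoly k⟮x⟯ y := by
  have hfk : MvPolynomial.aeval ![x, y] f = 0 := by
    have : f ∈ RingHom.ker (MvPolynomial.aeval ![x, y] : MvPolynomial (Fin 2) k →ₐ[k] K) := by
      rw [hker]; exact Ideal.mem_span_singleton_self f
    exact this
  have hμ0 : minpoly k⟮x⟯ y ≠ 0 := minpoly.ne_zero hy
  obtain ⟨h, hh⟩ : minpoly k⟮x⟯ y ∣ evX x f := by
    apply minpoly.dvd
    rw [aeval_evX, hfk]
  obtain ⟨G, s, hs, hG⟩ := exists_evX_eq x (minpoly k⟮x⟯ y)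
  have hGk : G ∈ RingHom.ker (MvPolynomial.aeval ![x, y] : MvPolynomial (Fin 2) k →ₐ[k] K) := by
    rw [RingHom.mem_ker]
    change MvPolynomial.aeval ![x, y] G = 0
    rw [← aeval_evX, ← hG, map_mul, minpoly.aeval, mul_zero]
  rw [hker, Ideal.mem_span_singleton] at hGk
  obtain ⟨H, hH⟩ := hGk
  have h1 : minpoly k⟮x⟯ y * Polynomial.C (Polynomial.aeval
      (IntermediateField.AdjoinSimple.gen k x) s) = minpoly k⟮x⟯ y * (h * evX x H) := by
    rw [mul_comm, hG, hH, map_mul, hh]; ring
  have h2 := mul_left_cancel₀ hμ0 h1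
  have hunit : IsUnit h := by
    refine IsUnit.of_mul_eq_one (evX x H * Polynomial.C (Polynomial.aeval
      (IntermediateField.AdjoinSimple.gen k x) s)⁻¹) ?_
    rw [← mul_assoc, ← h2, ← Polynomial.C_mul, mul_inv_cancel₀ hs, Polynomial.C_1]
  obtain ⟨r, hr, hrh⟩ := Polynomial.isUnit_iff.1 hunit
  refine ⟨r, hr.ne_zero, ?_⟩
  rw [hh, ← hrh, mul_comm]

end Ev

end Groth.Agent.Lib.Helper2.AD
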