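import Mathlib
import Groth.Agent.Lib.Helper2.FunFld.CF2

set_option autoImplicit false
open scoped WithZero IntermediateField
open FunFld Polynomial

namespace Groth.Agent.Lib.Helper2.FF

section FF

theorem mem_range_of_pow_eq {F₁ F : Type*} [Field F₁] [Field F] [Finite F₁] (ρ : F₁ →+* F)
    {y : F} (hy : y ^ Nat.card F₁ = y) : y ∈ ρ.range := by
  classical
  letI := Fintype.ofFinite F₁
  set n := Nat.card F₁ with hn
  have hn1 : 1 < n := Finite.one_lt_card
  have hp : (X ^ n - X : F[X]) ≠ 0 := FiniteField.X_pow_card_sub_X_ne_zero F hn1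
  have hdeg : (X ^ n - X : F[X]).natDegree = n := FiniteField.X_pow_card_sub_X_natDegree_eq F hn1
  set S : Finset F := Finset.univ.image ρ with hS
  have hsub : S ⊆ (X ^ n - X : F[X]).roots.toFinset := by
    intro z hz
    rw [hS, Finset.mem_image] at hz
    obtain ⟨a, -, rfl⟩ := hz
    rw [Multiset.mem_toFinset, mem_roots hp, IsRoot.def, eval_sub, eval_pow, eval_X, ← map_pow,
      hn, ← Fintype.card_eq_nat_card, FiniteField.pow_card, sub_self]
  have hcard : S.card = n := by
    rw [hS, Finset.card_image_of_injective _ ρ.injective, Finset.card_univ, hn,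
      Fintype.card_eq_nat_card]
  have hle : (X ^ n - X : F[X]).roots.toFinset.card ≤ S.card := by
    rw [hcard]
    calc (X ^ n - X : F[X]).roots.toFinset.card ≤ Multiset.card (X ^ n - X : F[X]).roots :=
          Multiset.toFinset_card_le _
      _ ≤ (X ^ n - X : F[X]).natDegree := card_roots' _
      _ = n := hdeg
  have heq := Finset.eq_of_subset_of_card_le hsub hle
  have hy' : y ∈ (X ^ n - X : F[X]).roots.toFinset := by
    rw [Multiset.mem_toFinset, mem_roots hp, IsRoot.def, eval_sub, eval_pow, eval_X, hy, sub_self]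
  rw [← heq, hS, Finset.mem_image] at hy'
  obtain ⟨a, -, ha⟩ := hy'
  exact ⟨a, ha⟩

theorem pow_pow_mul_eq {F : Type*} [Monoid F] {y : F} {m : ℕ} (hy : y ^ m = y) (c : ℕ) :
    y ^ m ^ (c + 1) = y := by
  induction c with
  | zero => simpa using hy
  | succ c ih => rw [pow_succ, pow_mul, ih, hy]

end FF

end Groth.Agent.Lib.Helper2.FF
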