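import Mathlib
import Groth.Agent.Lib.Helper2.FunFld.CF3

set_option autoImplicit false
open scoped WithZero IntermediateField
open FunFld Polynomial

namespace Groth.Agent.Lib.Helper2.FF

section Split

variable {k k' K K' : Type*} [Field k] [Field k'] [Field K] [Field K']
    [Algebra k k'] [Algebra k K] [Algebra K K'] [Algebra k' K'] [Algebra k K']
    [IsScalarTower k k' K'] [IsScalarTower k K K']

/-- the residue map `κ(P) → κ(Q)` as a `k`-linear map -/
noncomputable def resLin {Q : FunFld.Place k K'} {P : FunFld.Place k K} {e : ℕ}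
    (he : IsOverWith Q P e) :
    IsLocalRing.ResidueField P.O →ₗ[k] IsLocalRing.ResidueField Q.O :=
  haveI := isLocalHom_oMap' he
  { toFun := IsLocalRing.ResidueField.map (oMap' he)
    map_add' := map_add _
    map_smul' := by
      intro c x
      obtain ⟨a, rfl⟩ := IsLocalRing.residue_surjective x
      simp only [RingHom.id_apply]
      change IsLocalRing.ResidueField.map (oMap' he) (IsLocalRing.residue _ (c • a)) =
        c • IsLocalRing.ResidueField.map (oMap' he) (IsLocalRing.residue _ a)
      rw [IsLocalRing.ResidueField.map_residue, IsLocalRing.ResidueField.map_residue]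
      change _ = IsLocalRing.residue _ (c • (oMap' he a))
      congr 1
      apply Subtype.ext
      change algebraMap K K' (algebraMap k K c * a.1) = algebraMap k K' c * algebraMap K K' a.1
      rw [map_mul, ← IsScalarTower.algebraMap_apply] }

theorem resLin_apply {Q : FunFld.Place k K'} {P : FunFld.Place k K} {e : ℕ}
    (he : IsOverWith Q P e) (a : P.O) :
    resLin he (IsLocalRing.residue P.O a) = IsLocalRing.residue Q.O (oMap' he a) := by
  haveI := isLocalHom_oMap' he
  exact IsLocalRing.ResidueField.map_residue _ _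

/-- when `[k':k]` divides `deg P`, the residue field does not grow in `k' ⊗ K` -/
theorem resLin_surjective_of_dvd [Finite k] [FiniteDimensional k k']
    (h : Function.Bijective (Algebra.TensorProduct.productMap
      (IsScalarTower.toAlgHom k k' K') (IsScalarTower.toAlgHom k K K')))
    (hK : IsFunctionField k K) (P : FunFld.Place k K) (hdvd : Module.finrank k k' ∣ P.deg)
    {Q : FunFld.Place k K'} (he : IsOverWith Q P 1) :
    Function.Surjective (resLin he) := by
  classical
  haveI := finiteDimensional_cExt (K := K) (K' := K') h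
  haveI : Algebra.IsSeparable k k' := Algebra.IsAlgebraic.isSeparable_of_perfectField
  letI : Algebra P.O K' := ((algebraMap K K').comp P.O.subtype).toAlgebra
  haveI : IsScalarTower P.O K K' := IsScalarTower.of_algebraMap_eq (fun _ => rfl)
  haveI := isLocalHom_oMap' he
  have hQ : IsOver Q P := ⟨1, he⟩
  let i : OverP K' P := ⟨Q, hQ⟩
  -- the ring hom underlying `resLin`
  set ρ : IsLocalRing.ResidueField P.O →+* IsLocalRing.ResidueField Q.O :=
    IsLocalRing.ResidueField.map (oMap' he) with hρ
  -- finiteness of κ(P)
  haveI := finiteDimensional_residueField P hK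
  haveI : Finite (IsLocalRing.ResidueField P.O) := Module.finite_of_finite k
  have hcardP : Nat.card (IsLocalRing.ResidueField P.O) = (Nat.card k) ^ P.deg := by
    rw [Module.natCard_eq_pow_finrank (K := k)]; rfl
  haveI : Finite k' := Module.finite_of_finite k
  have hcardk' : Nat.card k' = (Nat.card k) ^ Module.finrank k k' :=
    Module.natCard_eq_pow_finrank (K := k)
  -- every element of BP reduces into the range of ρ
  have hBP := (cExt_separable h hK P Q hQ).1
  rw [integralClosure_eq_BP P hK] at hBP
  have hdegpos := deg_pos P hK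
  obtain ⟨c₀, hc₀⟩ := hdvd
  have hc₀pos : 0 < c₀ := by
    rcases Nat.eq_zero_or_pos c₀ with h0 | h0
    · rw [h0, mul_zero] at hc₀; omega
    · exact h0
  obtain ⟨c₁, rfl⟩ : ∃ c₁, c₀ = c₁ + 1 := ⟨c₀ - 1, by omega⟩
  have key' : ∀ (z : K') (hz : z ∈ Algebra.adjoin P.O (Set.range (algebraMap k' K'))),
      ∃ hzQ : v Q z ≤ 1, IsLocalRing.residue Q.O ⟨z, (mem_O_iff Q z).2 hzQ⟩ ∈ ρ.range := by
    intro z hz
    induction hz using Algebra.adjoin_induction with
    | mem x hx =>
      obtain ⟨c, rfl⟩ := hx
      refine ⟨v_algebraMap_const_le Q c, ?_⟩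
      apply mem_range_of_pow_eq ρ
      rw [hcardP, hc₀, pow_mul, ← hcardk']
      apply pow_pow_mul_eq
      rw [← map_pow]
      congr 1
      apply Subtype.ext
      change (algebraMap k' K' c) ^ Nat.card k' = algebraMap k' K' c
      rw [← map_pow]
      congr 1
      letI := Fintype.ofFinite k'
      rw [← Fintype.card_eq_nat_card, FiniteField.pow_card]
    | algebraMap a =>
      refine ⟨v_over_algebraMap_le P i a, ⟨IsLocalRing.residue P.O a, ?_⟩⟩
      rw [hρ, IsLocalRing.ResidueField.map_residue]
      rfl
    | add x y _ _ hx hy =>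
      obtain ⟨hx1, hx2⟩ := hx
      obtain ⟨hy1, hy2⟩ := hy
      refine ⟨(Valuation.map_add (v Q) x y).trans (max_le hx1 hy1), ?_⟩
      have := ρ.range.add_mem hx2 hy2
      rw [← map_add] at this
      exact this
    | mul x y _ _ hx hy =>
      obtain ⟨hx1, hx2⟩ := hx
      obtain ⟨hy1, hy2⟩ := hy
      refine ⟨by rw [map_mul]; exact mul_le_one' hx1 hy1, ?_⟩
      have := ρ.range.mul_mem hx2 hy2
      rw [← map_mul] at this
      exact this
  have key : ∀ (z : K') (hz : z ∈ Algebra.adjoin P.O (Set.range (algebraMap k' K')))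
      (hzQ : v Q z ≤ 1), IsLocalRing.residue Q.O ⟨z, (mem_O_iff Q z).2 hzQ⟩ ∈ ρ.range :=
    fun z hz _ => (key' z hz).2
  intro y
  obtain ⟨b, rfl⟩ := redQ_surjective P hK i y
  have hb : (b : K') ∈ Algebra.adjoin P.O (Set.range (algebraMap k' K')) := by
    have : (b : K') ∈ (BP (K' := K') P).toSubring := b.2
    rw [hBP] at this
    exact this
  obtain ⟨a, ha⟩ := key b.1 hb (b.2 i)
  exact ⟨a, ha⟩

theorem isOverWith_one_cExt [Finite k] [FiniteDimensional k k']
    (h : Function.Bijective (Algebra.TensorProduct.productMap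
      (IsScalarTower.toAlgHom k k' K') (IsScalarTower.toAlgHom k K K')))
    (hK : IsFunctionField k K) (P : FunFld.Place k K)
    {Q : FunFld.Place k K'} (hQ : IsOver Q P) : IsOverWith Q P 1 := by
  haveI : Algebra.IsSeparable k k' := Algebra.IsAlgebraic.isSeparable_of_perfectField
  letI : Algebra P.O K' := ((algebraMap K K').comp P.O.subtype).toAlgebra
  haveI : IsScalarTower P.O K K' := IsScalarTower.of_algebraMap_eq (fun _ => rfl)
  exact (cExt_separable h hK P Q hQ).2

theorem deg_eq_of_dvd_cExt [Finite k] [FiniteDimensional k k']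
    (h : Function.Bijective (Algebra.TensorProduct.productMap
      (IsScalarTower.toAlgHom k k' K') (IsScalarTower.toAlgHom k K K')))
    (hK : IsFunctionField k K) (P : FunFld.Place k K) (hdvd : Module.finrank k k' ∣ P.deg)
    {Q : FunFld.Place k K'} (hQ : IsOver Q P) : Q.deg = P.deg := by
  have he := isOverWith_one_cExt h hK P hQ
  haveI := isLocalHom_oMap' he
  have hinj : Function.Injective (resLin he) :=
    (IsLocalRing.ResidueField.map (oMap' he)).injective
  have hsurj := resLin_surjective_of_dvd h hK P hdvd he
  exact (LinearEquiv.ofBijective (resLin he) ⟨hinj, hsurj⟩).finrank_eq.symm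

theorem card_overP_cExt [Finite k] [FiniteDimensional k k']
    (h : Function.Bijective (Algebra.TensorProduct.productMap
      (IsScalarTower.toAlgHom k k' K') (IsScalarTower.toAlgHom k K K')))
    (hK : IsFunctionField k K) (P : FunFld.Place k K) (hdvd : Module.finrank k k' ∣ P.deg) :
    Nat.card (OverP K' P) = Module.finrank k k' := by
  classical
  haveI := finiteDimensional_cExt (K := K) (K' := K') h
  haveI := finite_overP (K' := K') hK P
  letI := Fintype.ofFinite (OverP K' P)
  have h1 := sum_overP (K' := K') hK P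
  have h2 : ∀ i : OverP K' P, ramIdx i.1 P * i.1.deg = P.deg := fun i => by
    rw [ramIdx_eq (isOverWith_one_cExt h hK P i.2), deg_eq_of_dvd_cExt h hK P hdvd i.2, one_mul]
  simp_rw [h2] at h1
  rw [Finset.sum_const, Finset.card_univ, smul_eq_mul, finrank_cExt (K := K) (K' := K') h] at h1
  rw [Nat.card_eq_fintype_card]
  exact Nat.eq_of_mul_eq_mul_right (deg_pos P hK) h1

end Split

end Groth.Agent.Lib.Helper2.FF
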