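import Mathlib
import Groth.Agent.Lib.Helper2.FunFld.RR

set_option autoImplicit false
open scoped WithZero IntermediateField
open FunFld Polynomial

namespace Groth.Agent.Lib.Helper2.FF

section Z1

variable {k K : Type*} [Field k] [Field K] [Algebra k K]

theorem v_pow_card_sub_lt_one [Finite k] (hK : IsFunctionField k K) (P : FunFld.Place k K)
    {x : K} (hx : v P x ≤ 1) : v P (x ^ (Nat.card k) ^ P.deg - x) < 1 := by
  haveI := finiteDimensional_residueField P hK
  haveI : Finite (IsLocalRing.ResidueField P.O) := Module.finite_of_finite k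
  letI := Fintype.ofFinite (IsLocalRing.ResidueField P.O)
  have hcard : Fintype.card (IsLocalRing.ResidueField P.O) = (Nat.card k) ^ P.deg := by
    rw [Fintype.card_eq_nat_card, Module.natCard_eq_pow_finrank (K := k)]
    rfl
  have h1 := FiniteField.pow_card (IsLocalRing.residue P.O ⟨x, (mem_O_iff P x).2 hx⟩)
  rw [hcard, ← map_pow, ← sub_eq_zero, ← map_sub, IsLocalRing.residue_eq_zero_iff] at h1
  exact (Valuation.mem_maximalIdeal_iff _ _).1 h1

theorem finite_places_deg_le [Finite k] (hK : IsFunctionField k K) (n : ℕ) :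
    {P : FunFld.Place k K | P.deg ≤ n}.Finite := by
  obtain ⟨x, hx, -⟩ := hK.1
  have hy : ∀ d : ℕ, 0 < d → x ^ (Nat.card k) ^ d - x ≠ 0 := by
    intro d hd h0
    apply hx
    refine ⟨X ^ (Nat.card k) ^ d - X, ?_, by simpa using h0⟩
    have h1 : 1 < Nat.card k := Finite.one_lt_card
    have h2 : 1 < (Nat.card k) ^ d := Nat.one_lt_pow hd.ne' h1
    exact FiniteField.X_pow_card_sub_X_ne_zero k h2
  have hfin : ({P : FunFld.Place k K | 1 < v P x} ∪
      ⋃ d ∈ Finset.Icc 1 n, Function.support fun P : FunFld.Place k K =>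
        P.ord (x ^ (Nat.card k) ^ d - x)).Finite := by
    refine (finite_poles hK hx).union ?_
    refine Set.Finite.biUnion (Finset.finite_toSet _) fun d _ => finite_support_ord hK _
  refine hfin.subset fun P hP => ?_
  simp only [Set.mem_ofPred_eq] at hP
  by_cases hpole : 1 < v P x
  · exact Or.inl hpole
  · right
    push Not at hpole
    have hd := deg_pos P hK
    simp only [Set.mem_iUnion]
    refine ⟨P.deg, Finset.mem_Icc.2 ⟨hd, hP⟩, ?_⟩
    have h1 := v_pow_card_sub_lt_one hK P hpole
    have h2 := (v_lt_one_iff P (hy _ hd)).1 h1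
    exact h2.ne'

end Z1

end Groth.Agent.Lib.Helper2.FF
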