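import Mathlib
import Groth.Agent.Lib.Helper2.FunFld.Zeta1
import Groth.Prelude.Def_W4bk4goldsch45

set_option autoImplicit false
open scoped WithZero IntermediateField
open FunFld Polynomial

namespace Groth.Agent.Lib.Helper2.FF

section Z2

variable {k K : Type*} [Field k] [Field K] [Algebra k K]

theorem coeff_mul_deg_le {D : Divisor k K} (h0 : 0 ≤ D) (P : FunFld.Place k K) :
    D P * (P.deg : ℤ) ≤ D.deg := by
  classical
  have h1 : (Finsupp.single P (D P) : Divisor k K) ≤ D := by
    intro Q
    rw [Finsupp.single_apply]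
    split_ifs with h
    · subst h; exact le_rfl
    · exact h0 Q
  have h2 := deg_mono h1
  rwa [deg_single] at h2

theorem finite_effDiv_set [Finite k] (hK : IsFunctionField k K) (n : ℕ) :
    {D : Divisor k K | 0 ≤ D ∧ D.deg = n}.Finite := by
  classical
  have hS := finite_places_deg_le hK n
  refine ((hS.toFinset.finsupp (fun _ => Finset.Icc (0:ℤ) n)).finite_toSet).subset ?_
  rintro D ⟨h0, hd⟩
  rw [Finset.mem_coe, Finset.mem_finsupp_iff]
  have hb : ∀ P : FunFld.Place k K, D P * (P.deg : ℤ) ≤ n := fun P => by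
    rw [← hd]; exact coeff_mul_deg_le h0 P
  constructor
  · intro P hP
    rw [Finsupp.mem_support_iff] at hP
    have h1 : 1 ≤ D P := by
      have := h0 P
      change (0 : ℤ) ≤ D P at this
      omega
    rw [Set.Finite.mem_toFinset, Set.mem_ofPred_eq]
    have h2 := hb P
    have h3 : (P.deg : ℤ) ≤ D P * P.deg := by nlinarith
    exact_mod_cast h3.trans h2
  · intro P _
    rw [Finset.mem_Icc]
    refine ⟨h0 P, ?_⟩
    have h2 := hb P
    have h3 : (1 : ℤ) ≤ P.deg := by exact_mod_cast deg_pos P hK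
    have h4 : (0 : ℤ) ≤ D P := h0 P
    nlinarith

theorem degHom_apply (D : Divisor k K) : degHom k K D = D.deg := rfl

theorem mem_prinDivs_iff (hK : IsFunctionField k K) (D : Divisor k K) :
    D ∈ prinDivs k K ↔ ∃ x : K, x ≠ 0 ∧ D = FunFld.div k x := by
  constructor
  · intro h
    unfold prinDivs at h
    induction h using AddSubgroup.closure_induction with
    | mem x hx =>
      obtain ⟨y, rfl⟩ := hx
      by_cases hy : y = 0
      · subst hy
        refine ⟨1, one_ne_zero, ?_⟩
        ext P
        rw [div_apply hK, div_apply hK, ord_zero, ord_one]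
      · exact ⟨y, hy, rfl⟩
    | zero =>
      refine ⟨1, one_ne_zero, ?_⟩
      ext P
      rw [div_apply hK, ord_one]; rfl
    | add x y _ _ hx hy =>
      obtain ⟨a, ha, rfl⟩ := hx
      obtain ⟨b, hb, rfl⟩ := hy
      exact ⟨a * b, mul_ne_zero ha hb, (div_mul hK ha hb).symm⟩
    | neg x _ hx =>
      obtain ⟨a, ha, rfl⟩ := hx
      exact ⟨a⁻¹, inv_ne_zero ha, (div_inv hK a).symm⟩
  · rintro ⟨x, -, rfl⟩
    exact AddSubgroup.subset_closure ⟨x, rfl⟩

end Z2

end Groth.Agent.Lib.Helper2.FF
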