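import Mathlib
import Groth.Agent.Lib.Helper2.FunFld.Zeta2

set_option autoImplicit false
open scoped WithZero IntermediateField
open FunFld Polynomial

namespace Groth.Agent.Lib.Helper2.FF

section Z3

variable {k K : Type*} [Field k] [Field K] [Algebra k K]

variable (k K) in
abbrev Cl0 : Type _ :=
  (degHom k K).ker ⧸ (prinDivs k K).addSubgroupOf (degHom k K).ker

theorem exists_divisor_deg_ge (hK : IsFunctionField k K) (N : ℕ) :
    ∃ (C : Divisor k K) (n : ℕ), N ≤ n ∧ C.deg = n := by
  obtain ⟨P⟩ := nonempty_place hK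
  refine ⟨Finsupp.single P (N : ℤ), N * P.deg, ?_, ?_⟩
  · exact Nat.le_mul_of_pos_right _ (deg_pos P hK)
  · rw [deg_single]; push_cast; ring

theorem mk_eq_mk_iff (hK : IsFunctionField k K) (D D' : (degHom k K).ker) :
    (QuotientAddGroup.mk D : Cl0 k K) = QuotientAddGroup.mk D' ↔
      ∃ x : K, x ≠ 0 ∧ (D' : Divisor k K) = D + FunFld.div k x := by
  rw [QuotientAddGroup.eq, AddSubgroup.mem_addSubgroupOf, mem_prinDivs_iff hK]
  constructor
  · rintro ⟨x, hx, h⟩
    refine ⟨x, hx, ?_⟩
    rw [← h]
    push_cast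
    abel
  · rintro ⟨x, hx, h⟩
    refine ⟨x, hx, ?_⟩
    push_cast
    rw [h]; abel

theorem finite_Cl0 [Finite k] (hK : IsFunctionField k K) : Finite (Cl0 k K) := by
  classical
  obtain ⟨C, n, hn, hC⟩ := exists_divisor_deg_ge hK (genus k K)
  haveI : Finite {D : Divisor k K // 0 ≤ D ∧ D.deg = n} := (finite_effDiv_set hK n).to_subtype
  have key : ∀ c : Cl0 k K, ∃ z : K, z ≠ 0 ∧ z ∈ L (((Quotient.out c : (degHom k K).ker) :
      Divisor k K) + C) := by
    intro c
    set D : Divisor k K := ((Quotient.out c : (degHom k K).ker) : Divisor k K) with hD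
    have hD0 : D.deg = 0 := (Quotient.out c : (degHom k K).ker).2
    apply exists_ne_zero_mem_L hK
    have h1 := (riemann hK).1 (D + C)
    rw [deg_add, hD0, hC] at h1
    have : (0 : ℤ) < ell (D + C) := by
      have : (genus k K : ℤ) ≤ n := by exact_mod_cast hn
      omega
    exact_mod_cast this
  choose z hz0 hz using key
  let Φ : Cl0 k K → {D : Divisor k K // 0 ≤ D ∧ D.deg = n} := fun c =>
    ⟨FunFld.div k (z c) + (((Quotient.out c : (degHom k K).ker) : Divisor k K) + C),
      (mem_L_iff_div hK (hz0 c)).1 (hz c), by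
        rw [deg_add, deg_div hK, deg_add, hC]
        have hD0 : ((Quotient.out c : (degHom k K).ker) : Divisor k K).deg = 0 :=
          (Quotient.out c : (degHom k K).ker).2
        rw [hD0]; ring⟩
  refine Finite.of_injective Φ fun c c' h => ?_
  have h1 : FunFld.div k (z c) + (((Quotient.out c : (degHom k K).ker) : Divisor k K) + C) =
      FunFld.div k (z c') + (((Quotient.out c' : (degHom k K).ker) : Divisor k K) + C) :=
    congrArg Subtype.val h
  rw [← QuotientAddGroup.out_eq' c, ← QuotientAddGroup.out_eq' c', mk_eq_mk_iff hK]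
  refine ⟨z c * (z c')⁻¹, mul_ne_zero (hz0 c) (inv_ne_zero (hz0 c')), ?_⟩
  rw [div_mul hK (hz0 c) (inv_ne_zero (hz0 c')), div_inv hK]
  have h2 : ((Quotient.out c' : (degHom k K).ker) : Divisor k K) =
      FunFld.div k (z c) + ((Quotient.out c : (degHom k K).ker) : Divisor k K) -
        FunFld.div k (z c') := by
    rw [eq_sub_iff_add_eq]
    have h3 : ((Quotient.out c' : (degHom k K).ker) : Divisor k K) + FunFld.div k (z c') + C =
        FunFld.div k (z c) + ((Quotient.out c : (degHom k K).ker) : Divisor k K) + C := by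
      rw [add_assoc (FunFld.div k (z c)), h1]; abel
    exact add_right_cancel h3
  rw [h2]; abel

end Z3

end Groth.Agent.Lib.Helper2.FF
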