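import Mathlib
import Groth.Agent.Lib.Helper2.FunFld.Zeta3

set_option autoImplicit false
open scoped WithZero IntermediateField
open FunFld Polynomial

namespace Groth.Agent.Lib.Helper2.FF

section Z4

variable {k K : Type*} [Field k] [Field K] [Algebra k K]

theorem card_ne_zero_subtype (V : Type*) [AddCommGroup V] [Finite V] :
    Nat.card {y : V // y ≠ 0} = Nat.card V - 1 := by
  classical
  letI := Fintype.ofFinite V
  rw [Nat.card_eq_fintype_card, Nat.card_eq_fintype_card]
  exact Set.card_ne_eq (0 : V)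

theorem card_L_ne_zero [Finite k] (hK : IsFunctionField k K) (D : Divisor k K) :
    Finite {x : K // x ≠ 0 ∧ x ∈ L D} ∧
    Nat.card {x : K // x ≠ 0 ∧ x ∈ L D} = (Nat.card k) ^ ell D - 1 := by
  haveI := finiteDimensional_L hK D
  haveI : Finite (L D) := Module.finite_of_finite k
  let e : {x : K // x ≠ 0 ∧ x ∈ L D} ≃ {y : L D // y ≠ 0} :=
    { toFun := fun x => ⟨⟨x.1, x.2.2⟩, fun h => x.2.1 (congrArg Subtype.val h)⟩
      invFun := fun y => ⟨y.1.1, fun h => y.2 (Subtype.ext h), y.1.2⟩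
      left_inv := fun x => rfl
      right_inv := fun y => rfl }
  refine ⟨Finite.of_equiv _ e.symm, ?_⟩
  rw [Nat.card_congr e, card_ne_zero_subtype, Module.natCard_eq_pow_finrank (K := k)]
  rfl

theorem div_smul (hK : IsFunctionField k K) {a : k} (ha : a ≠ 0) (x : K) :
    FunFld.div k (a • x) = FunFld.div k x := by
  ext P
  rw [div_apply hK, div_apply hK, ord_def, ord_def, v_smul P a x ha]

theorem exists_smul_of_div_eq (hK : IsFunctionField k K) {x y : K} (hx : x ≠ 0) (hy : y ≠ 0)
    (h : FunFld.div k x = FunFld.div k y) : ∃ a : k, a ≠ 0 ∧ x = a • y := by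
  have h1 : x * y⁻¹ ∈ L (0 : Divisor k K) := by
    rw [mem_L_iff_div hK (mul_ne_zero hx (inv_ne_zero hy)), div_mul hK hx (inv_ne_zero hy),
      div_inv hK, h]
    simp
  rw [L_zero hK, Submodule.one_eq_range, LinearMap.mem_range] at h1
  obtain ⟨a, ha⟩ := h1
  rw [Algebra.linearMap_apply] at ha
  refine ⟨a, ?_, ?_⟩
  · rintro rfl
    rw [map_zero] at ha
    exact mul_ne_zero hx (inv_ne_zero hy) ha.symm
  · rw [Algebra.smul_def, ha, mul_assoc, inv_mul_cancel₀ hy, mul_one]

end Z4

end Groth.Agent.Lib.Helper2.FF
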