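import Mathlib
import Groth.Agent.Lib.Helper2.FunFld.Zeta4

set_option autoImplicit false
open scoped WithZero IntermediateField
open FunFld Polynomial

namespace Groth.Agent.Lib.Helper2.FF

section Z5

variable {k K : Type*} [Field k] [Field K] [Algebra k K]

/-- counting effective divisors in a fixed degree by classes -/
theorem card_effDiv_mul [Finite k] (hK : IsFunctionField k K) (n : ℕ)
    (hn : 2 * genus k K ≤ n + 1) (D₀ : Divisor k K) (hD₀ : D₀.deg = n) :
    Nat.card {D : Divisor k K // 0 ≤ D ∧ D.deg = n} * (Nat.card k - 1) =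
      Nat.card (Cl0 k K) * ((Nat.card k) ^ (n + 1 - genus k K) - 1) := by
  classical
  haveI := finite_Cl0 hK
  letI := Fintype.ofFinite (Cl0 k K)
  haveI : Finite {D : Divisor k K // 0 ≤ D ∧ D.deg = n} := (finite_effDiv_set hK n).to_subtype
  letI := Fintype.ofFinite {D : Divisor k K // 0 ≤ D ∧ D.deg = n}
  set Cc : Cl0 k K → Divisor k K := fun c =>
    D₀ + ((Quotient.out c : (degHom k K).ker) : Divisor k K) with hCc
  have hout : ∀ c : Cl0 k K, ((Quotient.out c : (degHom k K).ker) : Divisor k K).deg = 0 :=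
    fun c => (Quotient.out c : (degHom k K).ker).2
  have hdegC : ∀ c, (Cc c).deg = n := fun c => by
    rw [hCc]; simp only; rw [deg_add, hout, hD₀, add_zero]
  have hell : ∀ c, ell (Cc c) = n + 1 - genus k K := fun c => by
    have h1 := ell_eq_of_deg_ge hK (Cc c) (by rw [hdegC]; omega)
    rw [hdegC] at h1
    omega
  set T : Type _ := {p : Cl0 k K × K // p.2 ≠ 0 ∧ p.2 ∈ L (Cc p.1)} with hT
  -- first count
  have hfib : ∀ c : Cl0 k K, Finite {x : K // x ≠ 0 ∧ x ∈ L (Cc c)} :=
    fun c => (card_L_ne_zero hK (Cc c)).1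
  have hcount1 : Nat.card T = Nat.card (Cl0 k K) * ((Nat.card k) ^ (n + 1 - genus k K) - 1) := by
    rw [hT, Nat.card_congr (Equiv.subtypeProdEquivSigmaSubtype
      (fun (c : Cl0 k K) (x : K) => x ≠ 0 ∧ x ∈ L (Cc c))), Nat.card_sigma]
    simp_rw [(card_L_ne_zero hK (Cc _)).2, hell]
    rw [Finset.sum_const, Finset.card_univ, smul_eq_mul, Fintype.card_eq_nat_card]
  haveI : Finite T := by
    rw [hT]
    exact Finite.of_equiv _ (Equiv.subtypeProdEquivSigmaSubtype
      (fun (c : Cl0 k K) (x : K) => x ≠ 0 ∧ x ∈ L (Cc c))).symm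
  -- the map to effective divisors
  let Ψ : T → {D : Divisor k K // 0 ≤ D ∧ D.deg = n} := fun t =>
    ⟨FunFld.div k t.1.2 + Cc t.1.1, (mem_L_iff_div hK t.2.1).1 t.2.2, by
      rw [deg_add, deg_div hK, hdegC, zero_add]⟩
  have hcount2 : Nat.card T =
      Nat.card {D : Divisor k K // 0 ≤ D ∧ D.deg = n} * (Nat.card k - 1) := by
    rw [Nat.card_congr (Equiv.sigmaFiberEquiv Ψ).symm, Nat.card_sigma]
    have hf : ∀ E : {D : Divisor k K // 0 ≤ D ∧ D.deg = n},
        Nat.card {t : T // Ψ t = E} = Nat.card k - 1 := by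
      intro E
      have hE0 : (E.1 - D₀).deg = 0 := by rw [deg_sub, E.2.2, hD₀, sub_self]
      set cE : Cl0 k K := QuotientAddGroup.mk ⟨E.1 - D₀, hE0⟩ with hcE
      obtain ⟨x₀, hx₀, hx₀E⟩ := (mk_eq_mk_iff hK (Quotient.out cE) ⟨E.1 - D₀, hE0⟩).1
        (QuotientAddGroup.out_eq' cE)
      have hE : FunFld.div k x₀ + Cc cE = E.1 := by
        change E.1 - D₀ = _ at hx₀E
        rw [hCc]; simp only
        rw [add_comm (FunFld.div k x₀), add_assoc, ← hx₀E]; abel
      have hx₀L : x₀ ∈ L (Cc cE) := by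
        rw [mem_L_iff_div hK hx₀, hE]; exact E.2.1
      let f : {a : k // a ≠ 0} → {t : T // Ψ t = E} := fun a =>
        ⟨⟨(cE, a.1 • x₀), smul_ne_zero a.2 hx₀, Submodule.smul_mem _ _ hx₀L⟩, by
          apply Subtype.ext
          change FunFld.div k (a.1 • x₀) + Cc cE = E.1
          rw [div_smul hK a.2, hE]⟩
      have hfb : Function.Bijective f := by
        constructor
        · intro a b hab
          have h1 : a.1 • x₀ = b.1 • x₀ := congrArg (fun t => t.1.1.2) hab
          exact Subtype.ext (smul_left_injective k hx₀ h1)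
        · rintro ⟨⟨⟨c, x⟩, hx0, hxL⟩, ht⟩
          have ht' : FunFld.div k x + Cc c = E.1 := congrArg Subtype.val ht
          have hc : c = cE := by
            rw [← QuotientAddGroup.out_eq' c, hcE, mk_eq_mk_iff hK]
            refine ⟨x, hx0, ?_⟩
            change E.1 - D₀ = _
            rw [← ht', hCc]; simp only; abel
          subst hc
          have hdiv : FunFld.div k x = FunFld.div k x₀ := by
            have := ht'.trans hE.symm
            exact add_right_cancel this
          obtain ⟨a, ha, hxa⟩ := exists_smul_of_div_eq hK hx0 hx₀ hdiv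
          refine ⟨⟨a, ha⟩, ?_⟩
          apply Subtype.ext
          apply Subtype.ext
          change (cE, a • x₀) = (cE, x)
          exact Prod.ext rfl hxa.symm
      rw [← Nat.card_congr (Equiv.ofBijective f hfb), card_ne_zero_subtype]
    simp_rw [hf]
    rw [Finset.sum_const, Finset.card_univ, smul_eq_mul, Fintype.card_eq_nat_card]
  rw [← hcount2, hcount1]

end Z5

end Groth.Agent.Lib.Helper2.FF
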