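import Mathlib

set_option autoImplicit false
open PowerSeries Finset

namespace Groth.Agent.Lib.Helper2.FF

section G

/-- the geometric series `∑ X^{jd}` -/
noncomputable def geomD (d : ℕ) : ℤ⟦X⟧ := PowerSeries.mk fun m => if d ∣ m then (1 : ℤ) else 0

theorem coeff_geomD (d m : ℕ) : coeff m (geomD d) = if d ∣ m then (1 : ℤ) else 0 := by
  simp [geomD]

theorem geomD_mul (d : ℕ) (hd : 0 < d) : geomD d * (1 - (X : ℤ⟦X⟧) ^ d) = 1 := by
  ext n
  rw [mul_sub, mul_one, map_sub, coeff_mul_X_pow', coeff_geomD, coeff_one]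
  by_cases h : d ≤ n
  · rw [if_pos h, coeff_geomD]
    have h1 : d ∣ n - d ↔ d ∣ n := by
      constructor
      · intro h2
        have h3 : n = (n - d) + d := by omega
        rw [h3]
        exact Nat.dvd_add h2 (dvd_refl d)
      · intro h2; exact Nat.dvd_sub h2 (dvd_refl d)
    have hn : n ≠ 0 := by omega
    simp [h1, hn]
  · rw [if_neg h]
    push Not at h
    by_cases hn : n = 0
    · subst hn; simp
    · have : ¬ d ∣ n := fun hdn => by
        have := Nat.le_of_dvd (Nat.pos_of_ne_zero hn) hdn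
        omega
      simp [this, hn]

/-- generic Euler product: the coefficient of `X^n` in `∏ (1 - X^{w s})⁻¹` counts weighted
multiplicity functions -/
theorem coeff_prod_geomD {S : Type*} [Fintype S] (w : S → ℕ) (hw : ∀ s, 0 < w s) (n : ℕ) :
    coeff n (∏ s : S, geomD (w s)) = (Nat.card {f : S → ℕ // ∑ s, f s * w s = n} : ℤ) := by
  classical
  rw [coeff_prod]
  simp_rw [coeff_geomD]
  have h1 : ∀ l : S →₀ ℕ, (∏ i : S, if w i ∣ l i then (1 : ℤ) else 0) =
      if ∀ i, w i ∣ l i then 1 else 0 := by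
    intro l
    rw [Finset.prod_ite_zero]
    simp
  simp_rw [h1]
  rw [Finset.sum_boole]
  congr 1
  rw [← Nat.card_eq_finsetCard]
  symm
  apply Nat.card_congr
  exact
    { toFun := fun f => ⟨Finsupp.equivFunOnFinite.symm (fun s => f.1 s * w s), by
        rw [Finset.mem_filter, mem_finsuppAntidiag]
        refine ⟨⟨?_, Finset.subset_univ _⟩, fun i => ?_⟩
        · simpa using f.2
        · simp⟩
      invFun := fun l => ⟨fun s => l.1 s / w s, by
        have hl := l.2
        rw [Finset.mem_filter, mem_finsuppAntidiag] at hl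
        refine Eq.trans (Finset.sum_congr rfl fun s _ => ?_) hl.1.1
        exact Nat.div_mul_cancel (hl.2 s)⟩
      left_inv := fun f => by
        apply Subtype.ext
        funext s
        simp [Nat.mul_div_cancel _ (hw s)]
      right_inv := fun l => by
        apply Subtype.ext
        ext s
        have hl := l.2
        rw [Finset.mem_filter, mem_finsuppAntidiag] at hl
        simp [Nat.div_mul_cancel (hl.2 s)] }

end G

section RAT

theorem coeff_one_sub_X_mul (G : ℤ⟦X⟧) (n : ℕ) :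
    coeff n ((1 - X) * G) = coeff n G - if n = 0 then 0 else coeff (n - 1) G := by
  rw [sub_mul, one_mul, map_sub]
  cases n with
  | zero => simp
  | succ m => simp [coeff_succ_X_mul]

theorem coeff_one_sub_CX_mul (Q : ℤ) (G : ℤ⟦X⟧) (n : ℕ) :
    coeff n ((1 - C Q * X) * G) = coeff n G - if n = 0 then 0 else Q * coeff (n - 1) G := by
  rw [sub_mul, one_mul, map_sub, mul_assoc, coeff_C_mul]
  cases n with
  | zero => simp
  | succ m => simp [coeff_succ_X_mul]

theorem sum_coeff_one_sub_X_mul (G : ℤ⟦X⟧) (M : ℕ) :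
    ∑ n ∈ Finset.range (M + 1), coeff n ((1 - X) * G) = coeff M G := by
  induction M with
  | zero => simp [coeff_one_sub_X_mul]
  | succ m ih =>
    rw [Finset.sum_range_succ, ih, coeff_one_sub_X_mul]
    simp

theorem eval_one_trunc (F : ℤ⟦X⟧) (M : ℕ) :
    (trunc (M + 1) F).eval 1 = ∑ n ∈ Finset.range (M + 1), coeff n F := by
  rw [Polynomial.eval_eq_sum_range' (natDegree_trunc_lt F M)]
  refine Finset.sum_congr rfl fun n hn => ?_
  rw [coeff_trunc, if_pos (Finset.mem_range.1 hn)]
  simp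

/-- rationality from an eventually geometric coefficient sequence -/
theorem exists_poly_of_geometric (z : ℕ → ℤ) (Q c A B : ℤ) (n₀ : ℕ) (hc : c ≠ 0)
    (hz : ∀ n, n₀ ≤ n → c * z n = A * Q ^ (n - n₀) - B) :
    ∃ p : Polynomial ℤ, (p : ℤ⟦X⟧) = (1 - X) * (1 - C Q * X) * PowerSeries.mk z ∧
      c * p.eval 1 = B * (Q - 1) := by
  set G : ℤ⟦X⟧ := (1 - C Q * X) * PowerSeries.mk z with hG
  set F : ℤ⟦X⟧ := (1 - X) * G with hF
  have hGc : ∀ n, coeff n G = z n - if n = 0 then 0 else Q * z (n - 1) := fun n => by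
    rw [hG, coeff_one_sub_CX_mul]; simp
  have hvan : ∀ n, n₀ + 2 ≤ n → coeff n F = 0 := by
    intro n hn
    apply (mul_right_injective₀ hc)
    simp only
    rw [mul_zero, hF, coeff_one_sub_X_mul, hGc, hGc, if_neg (by omega), if_neg (by omega),
      if_neg (by omega)]
    have h1 := hz n (by omega)
    have h2 := hz (n - 1) (by omega)
    have h3 := hz (n - 1 - 1) (by omega)
    have e1 : n - n₀ = (n - 1 - 1 - n₀) + 2 := by omega
    have e2 : n - 1 - n₀ = (n - 1 - 1 - n₀) + 1 := by omega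
    rw [e1] at h1
    rw [e2] at h2
    have : c * (z n - Q * z (n - 1) - (z (n - 1) - Q * z (n - 1 - 1))) =
        c * z n - Q * (c * z (n - 1)) - (c * z (n - 1) - Q * (c * z (n - 1 - 1))) := by ring
    rw [this, h1, h2, h3]
    ring
  refine ⟨trunc (n₀ + 1 + 1) F, ?_, ?_⟩
  · rw [← mul_assoc] at hF
    rw [← hF]
    ext n
    rw [Polynomial.coeff_coe, coeff_trunc]
    split_ifs with h
    · rfl
    · exact (hvan n (by omega)).symm
  · rw [eval_one_trunc, hF, sum_coeff_one_sub_X_mul, hGc, if_neg (by omega)]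
    have h1 := hz (n₀ + 1) (by omega)
    have h2 := hz n₀ le_rfl
    have e1 : n₀ + 1 - n₀ = 1 := by omega
    rw [e1] at h1
    rw [Nat.sub_self] at h2
    have e2 : n₀ + 1 - 1 = n₀ := by omega
    rw [e2]
    have : c * (z (n₀ + 1) - Q * z n₀) = c * z (n₀ + 1) - Q * (c * z n₀) := by ring
    rw [this, h1, h2]
    ring

theorem pow_congr_mod (A B : ℤ⟦X⟧) (N r : ℕ) (h : ∀ m, m ≤ N → coeff m A = coeff m B) :
    ∀ m, m ≤ N → coeff m (A ^ r) = coeff m (B ^ r) := by
  have h1 : (X : ℤ⟦X⟧) ^ (N + 1) ∣ A - B := by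
    rw [X_pow_dvd_iff]
    intro m hm
    rw [map_sub, h m (by omega), sub_self]
  have h2 := h1.trans (sub_dvd_pow_sub_pow A B r)
  rw [X_pow_dvd_iff] at h2
  intro m hm
  have := h2 m (by omega)
  rwa [map_sub, sub_eq_zero] at this

end RAT

end Groth.Agent.Lib.Helper2.FF
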