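import Mathlib
import Groth.Agent.Lib.Helper2.FunFld.Zeta5
import Groth.Agent.Lib.Helper2.FunFld.ZetaG

set_option autoImplicit false
open scoped WithZero IntermediateField
open FunFld

namespace Groth.Agent.Lib.Helper2.FF

section EP

variable {k K : Type*} [Field k] [Field K] [Algebra k K]

/-- places of degree at most `N` -/
abbrev PlLe (k K : Type*) [Field k] [Field K] [Algebra k K] (N : ℕ) : Type _ :=
  {P : FunFld.Place k K // P.deg ≤ N}

theorem finite_PlLe [Finite k] (hK : IsFunctionField k K) (N : ℕ) : Finite (PlLe k K N) :=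
  (finite_places_deg_le hK N).to_subtype

open scoped Classical in
/-- the divisor of a multiplicity function on places of bounded degree -/
noncomputable def divOfFun [Finite k] (hK : IsFunctionField k K) (N : ℕ) (f : PlLe k K N → ℕ) :
    Divisor k K :=
  Finsupp.ofSupportFinite (fun P => if h : P.deg ≤ N then (f ⟨P, h⟩ : ℤ) else 0)
    ((finite_places_deg_le hK N).subset fun P hP => by
      rw [Function.mem_support] at hP
      by_contra h
      exact hP (dif_neg h))

theorem divOfFun_apply [Finite k] (hK : IsFunctionField k K) (N : ℕ) (f : PlLe k K N → ℕ)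
    (P : FunFld.Place k K) :
    divOfFun hK N f P = if h : P.deg ≤ N then (f ⟨P, h⟩ : ℤ) else 0 := rfl

theorem divOfFun_nonneg [Finite k] (hK : IsFunctionField k K) (N : ℕ) (f : PlLe k K N → ℕ) :
    0 ≤ divOfFun hK N f := by
  intro P
  rw [divOfFun_apply]
  split_ifs
  · exact Int.natCast_nonneg _
  · exact le_rfl

theorem deg_eq_sum_PlLe [Finite k] (hK : IsFunctionField k K) (N : ℕ) [Fintype (PlLe k K N)]
    (D : Divisor k K) (hD : ∀ P : FunFld.Place k K, D P ≠ 0 → P.deg ≤ N) :
    D.deg = ∑ P : PlLe k K N, D P.1 * (P.1.deg : ℤ) := by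
  classical
  have hS := finite_places_deg_le hK N
  rw [deg_def, Finsupp.sum_of_support_subset D (s := hS.toFinset) (fun P hP => by
    rw [Finsupp.mem_support_iff] at hP
    simpa using hD P hP) _ (by simp)]
  exact Finset.sum_subtype hS.toFinset (fun P => by simp) _

theorem deg_divOfFun [Finite k] (hK : IsFunctionField k K) (N : ℕ) [Fintype (PlLe k K N)]
    (f : PlLe k K N → ℕ) :
    (divOfFun hK N f).deg = ∑ P : PlLe k K N, (f P : ℤ) * (P.1.deg : ℤ) := by
  rw [deg_eq_sum_PlLe hK N]
  · refine Finset.sum_congr rfl fun P _ => ?_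
    rw [divOfFun_apply, dif_pos P.2]
  · intro P hP
    by_contra h
    exact hP (by rw [divOfFun_apply, dif_neg h])

/-- effective divisors of degree `m ≤ N` are multiplicity functions on places of degree `≤ N` -/
noncomputable def effDivEquiv [Finite k] (hK : IsFunctionField k K) (N : ℕ)
    [Fintype (PlLe k K N)] (m : ℕ) (hm : m ≤ N) :
    {D : Divisor k K // 0 ≤ D ∧ D.deg = m} ≃
      {f : PlLe k K N → ℕ // ∑ P, f P * P.1.deg = m} where
  toFun D := ⟨fun P => (D.1 P.1).toNat, by
    have hsupp : ∀ P : FunFld.Place k K, D.1 P ≠ 0 → P.deg ≤ N := by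
      intro P hP
      have h0 : (0 : ℤ) ≤ D.1 P := D.2.1 P
      have h1 := coeff_mul_deg_le D.2.1 P
      rw [D.2.2] at h1
      have h2 : (P.deg : ℤ) ≤ D.1 P * P.deg := by
        have : (1 : ℤ) ≤ D.1 P := by omega
        nlinarith
      have : (P.deg : ℤ) ≤ N := h2.trans (h1.trans (by exact_mod_cast hm))
      exact_mod_cast this
    have h1 := deg_eq_sum_PlLe hK N D.1 hsupp
    rw [D.2.2] at h1
    have h2 : ((∑ P : PlLe k K N, (D.1 P.1).toNat * P.1.deg : ℕ) : ℤ) = m := by
      refine Eq.trans ?_ h1.symm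
      push_cast
      refine Finset.sum_congr rfl fun P _ => ?_
      rw [Int.toNat_of_nonneg (D.2.1 P.1)]
    exact_mod_cast h2⟩
  invFun f := ⟨divOfFun hK N f.1, divOfFun_nonneg hK N f.1, by
    rw [deg_divOfFun]
    exact_mod_cast f.2⟩
  left_inv D := by
    apply Subtype.ext
    ext P
    change divOfFun hK N (fun P => (D.1 P.1).toNat) P = D.1 P
    rw [divOfFun_apply]
    split_ifs with h
    · exact Int.toNat_of_nonneg (D.2.1 P)
    · by_contra hne
      apply h
      have h0 : (0 : ℤ) ≤ D.1 P := D.2.1 P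
      have h1 := coeff_mul_deg_le D.2.1 P
      rw [D.2.2] at h1
      have h2 : (P.deg : ℤ) ≤ D.1 P * P.deg := by
        have : (1 : ℤ) ≤ D.1 P := by
          have := Ne.symm hne
          omega
        nlinarith
      have : (P.deg : ℤ) ≤ N := h2.trans (h1.trans (by exact_mod_cast hm))
      exact_mod_cast this
  right_inv f := by
    apply Subtype.ext
    funext P
    change (divOfFun hK N f.1 P.1).toNat = f.1 P
    rw [divOfFun_apply, dif_pos P.2]
    simp

end EP

end Groth.Agent.Lib.Helper2.FF
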