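import Mathlib
import Groth.Agent.Lib.Helper2.FunFld.ZetaEP

set_option autoImplicit false
open scoped WithZero IntermediateField
open FunFld PowerSeries

namespace Groth.Agent.Lib.Helper2.FF

section EP2

variable {k K : Type*} [Field k] [Field K] [Algebra k K]

theorem coeff_zetaZ (m : ℕ) : coeff m (zetaZ k K) = (effDivCount k K m : ℤ) := by
  simp [zetaZ]

/-- truncated Euler product -/
theorem coeff_zetaZ_eq_prod [Finite k] (hK : IsFunctionField k K) (N : ℕ)
    [Fintype (PlLe k K N)] (m : ℕ) (hm : m ≤ N) :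
    coeff m (zetaZ k K) = coeff m (∏ P : PlLe k K N, geomD P.1.deg) := by
  rw [coeff_zetaZ, coeff_prod_geomD (fun P : PlLe k K N => P.1.deg) (fun P => deg_pos P.1 hK)]
  unfold effDivCount
  rw [Nat.card_congr (effDivEquiv hK N m hm)]

/-- compressed truncated Euler product, when all degrees are multiples of `r` -/
theorem coeff_compressed_eq_prod [Finite k] (hK : IsFunctionField k K) (r : ℕ) (hr : 0 < r)
    (hdvd : ∀ P : FunFld.Place k K, r ∣ P.deg) (N : ℕ)
    [Fintype (PlLe k K (r * N))] (j : ℕ) (hj : j ≤ N) :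
    (effDivCount k K (r * j) : ℤ) =
      coeff j (∏ P : PlLe k K (r * N), geomD (P.1.deg / r)) := by
  rw [coeff_prod_geomD (fun P : PlLe k K (r * N) => P.1.deg / r) (fun P =>
    Nat.div_pos (Nat.le_of_dvd (deg_pos P.1 hK) (hdvd P.1)) hr)]
  unfold effDivCount
  rw [Nat.card_congr (effDivEquiv hK (r * N) (r * j) (Nat.mul_le_mul_left r hj))]
  congr 1
  apply Nat.card_congr
  refine Equiv.subtypeEquivRight fun f => ?_
  have h1 : ∑ P : PlLe k K (r * N), f P * P.1.deg =
      r * ∑ P : PlLe k K (r * N), f P * (P.1.deg / r) := by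
    rw [Finset.mul_sum]
    refine Finset.sum_congr rfl fun P _ => ?_
    obtain ⟨c, hc⟩ := hdvd P.1
    rw [hc, Nat.mul_div_cancel_left _ hr]; ring
  rw [h1]
  exact Nat.mul_right_inj hr.ne'

end EP2

end Groth.Agent.Lib.Helper2.FF
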