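import Mathlib
import Groth.Agent.Lib.Helper2.FunFld.CF4
import Groth.Agent.Lib.Helper2.FunFld.ZetaEP2

set_option autoImplicit false
open scoped WithZero IntermediateField
open FunFld PowerSeries

namespace Groth.Agent.Lib.Helper2.FF

section FKS

variable {k k' K K' : Type*} [Field k] [Field k'] [Field K] [Field K']
    [Algebra k k'] [Algebra k K] [Algebra K K'] [Algebra k' K'] [Algebra k K']
    [IsScalarTower k k' K'] [IsScalarTower k K K']

/-- the place of `K` below a place of `K'/k'` -/
theorem exists_below [FiniteDimensional K K'] [Algebra.IsAlgebraic k k'] (hK : IsFunctionField k K)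
    (Q' : FunFld.Place k' K') : ∃ P : FunFld.Place k K, IsOver (downPlace (k := k) Q') P := by
  obtain ⟨P, e, he⟩ := exists_isOverWith (K := K) hK (downPlace (k := k) Q')
  exact ⟨P, e, he⟩

noncomputable def below [FiniteDimensional K K'] [Algebra.IsAlgebraic k k']
    (hK : IsFunctionField k K) (Q' : FunFld.Place k' K') : FunFld.Place k K :=
  (exists_below hK Q').choose

theorem below_spec [FiniteDimensional K K'] [Algebra.IsAlgebraic k k']
    (hK : IsFunctionField k K) (Q' : FunFld.Place k' K') :
    IsOver (downPlace (k := k) Q') (below hK Q') :=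
  (exists_below hK Q').choose_spec

theorem below_eq [FiniteDimensional K K'] [Algebra.IsAlgebraic k k']
    (hK : IsFunctionField k K) {Q' : FunFld.Place k' K'} {P : FunFld.Place k K}
    (h : IsOver (downPlace (k := k) Q') P) : below hK Q' = P := by
  obtain ⟨e, he⟩ := below_spec hK Q'
  obtain ⟨e', he'⟩ := h
  exact isOverWith_unique he he'

/-- degrees in the constant extension, when `[k':k]` divides all degrees -/
theorem deg_mul_eq_below [Finite k] [FiniteDimensional k k']
    (h : Function.Bijective (Algebra.TensorProduct.productMap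
      (IsScalarTower.toAlgHom k k' K') (IsScalarTower.toAlgHom k K K')))
    (hK : IsFunctionField k K) (hdvd : ∀ P : FunFld.Place k K, Module.finrank k k' ∣ P.deg)
    (Q' : FunFld.Place k' K') :
    haveI := finiteDimensional_cExt (K := K) (K' := K') h
    Module.finrank k k' * Q'.deg = (below hK Q').deg := by
  haveI := finiteDimensional_cExt (K := K) (K' := K') h
  have h1 := deg_eq_mul_deg_upPlace (k' := k') (downPlace (k := k) Q')
  rw [upPlace_downPlace] at h1
  rw [← h1]
  exact deg_eq_of_dvd_cExt h hK _ (hdvd _) (below_spec hK Q')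

/-- fibres of `below` have `[k':k]` elements -/
theorem card_fibre_below [Finite k] [FiniteDimensional k k']
    (h : Function.Bijective (Algebra.TensorProduct.productMap
      (IsScalarTower.toAlgHom k k' K') (IsScalarTower.toAlgHom k K K')))
    (hK : IsFunctionField k K) (hdvd : ∀ P : FunFld.Place k K, Module.finrank k k' ∣ P.deg)
    (P : FunFld.Place k K) :
    haveI := finiteDimensional_cExt (K := K) (K' := K') h
    Nat.card {Q' : FunFld.Place k' K' // below hK Q' = P} = Module.finrank k k' := by
  haveI := finiteDimensional_cExt (K := K) (K' := K') h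
  rw [← card_overP_cExt h hK P (hdvd P)]
  apply Nat.card_congr
  exact
    { toFun := fun Q' => ⟨downPlace (k := k) Q'.1, by
        have := below_spec hK Q'.1
        rwa [Q'.2] at this⟩
      invFun := fun Q => ⟨upPlace Q.1, below_eq hK (by
        rw [downPlace_upPlace]; exact Q.2)⟩
      left_inv := fun Q' => rfl
      right_inv := fun Q => rfl }

theorem prod_geomD_cExt [Finite k] [FiniteDimensional k k']
    (h : Function.Bijective (Algebra.TensorProduct.productMap
      (IsScalarTower.toAlgHom k k' K') (IsScalarTower.toAlgHom k K K')))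
    (hK : IsFunctionField k K) (hdvd : ∀ P : FunFld.Place k K, Module.finrank k k' ∣ P.deg)
    (N : ℕ) [Fintype (PlLe k' K' N)] [Fintype (PlLe k K (Module.finrank k k' * N))] :
    ∏ Q' : PlLe k' K' N, geomD Q'.1.deg =
      (∏ P : PlLe k K (Module.finrank k k' * N), geomD (P.1.deg / Module.finrank k k')) ^
        Module.finrank k k' := by
  classical
  haveI := finiteDimensional_cExt (K := K) (K' := K') h
  have hrpos : 0 < Module.finrank k k' := Module.finrank_pos
  let π : PlLe k' K' N → PlLe k K (Module.finrank k k' * N) := fun Q' => ⟨below hK Q'.1, by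
    rw [← deg_mul_eq_below h hK hdvd Q'.1]
    exact Nat.mul_le_mul_left _ Q'.2⟩
  rw [← Finset.prod_pow, ← Fintype.prod_fiberwise π]
  apply Fintype.prod_congr
  intro P
  have hconst : ∀ Q' : {Q' : PlLe k' K' N // π Q' = P},
      geomD Q'.1.1.deg = geomD (P.1.deg / Module.finrank k k') := by
    intro Q'
    have h1 := deg_mul_eq_below h hK hdvd Q'.1.1
    have h2 : below hK Q'.1.1 = P.1 := congrArg Subtype.val Q'.2
    rw [h2] at h1
    rw [← h1, Nat.mul_div_cancel_left _ hrpos]
  rw [Finset.prod_eq_pow_card (fun Q' _ => hconst Q'), Finset.card_univ]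
  congr 1
  rw [Fintype.card_eq_nat_card]
  refine Eq.trans ?_ (card_fibre_below h hK hdvd P.1)
  apply Nat.card_congr
  exact
    { toFun := fun Q' => ⟨Q'.1.1, congrArg Subtype.val Q'.2⟩
      invFun := fun Q' => ⟨⟨Q'.1, by
        have h1 := deg_mul_eq_below h hK hdvd Q'.1
        rw [Q'.2] at h1
        have h2 := P.2
        rw [← h1] at h2
        exact Nat.le_of_mul_le_mul_left h2 hrpos⟩, Subtype.ext Q'.2⟩
      left_inv := fun Q' => rfl
      right_inv := fun Q' => rfl }

theorem zetaZ_cExt_eq_pow [Finite k] [FiniteDimensional k k'] [PerfectField k]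
    (h : Function.Bijective (Algebra.TensorProduct.productMap
      (IsScalarTower.toAlgHom k k' K') (IsScalarTower.toAlgHom k K K')))
    (hK : IsFunctionField k K) (hdvd : ∀ P : FunFld.Place k K, Module.finrank k k' ∣ P.deg) :
    zetaZ k' K' = (PowerSeries.mk fun j => (effDivCount k K (Module.finrank k k' * j) : ℤ)) ^
      Module.finrank k k' := by
  classical
  haveI : Finite k' := Module.finite_of_finite k
  have hK' : IsFunctionField k' K' := isFunctionField_cExt h hK
  have hrpos : 0 < Module.finrank k k' := Module.finrank_pos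
  ext m
  haveI := finite_PlLe hK' m
  letI := Fintype.ofFinite (PlLe k' K' m)
  haveI := finite_PlLe hK (Module.finrank k k' * m)
  letI := Fintype.ofFinite (PlLe k K (Module.finrank k k' * m))
  rw [coeff_zetaZ_eq_prod hK' m m le_rfl, prod_geomD_cExt h hK hdvd m]
  apply pow_congr_mod _ _ m _ _ m le_rfl
  intro j hj
  rw [coeff_mk]
  exact (coeff_compressed_eq_prod hK _ hrpos hdvd m j hj).symm

end FKS

end Groth.Agent.Lib.Helper2.FF
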