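import Mathlib
import Groth.Agent.Lib.Helper2.FunFld.FKS1

set_option autoImplicit false
open scoped WithZero IntermediateField
open FunFld PowerSeries

namespace Groth.Agent.Lib.Helper2.FF

section FKS2

variable {k k' K K' : Type*} [Field k] [Field k'] [Field K] [Field K']
    [Algebra k k'] [Algebra k K] [Algebra K K'] [Algebra k' K'] [Algebra k K']
    [IsScalarTower k k' K'] [IsScalarTower k K K']

theorem exists_divisor_deg_one_cExt [Finite k] [FiniteDimensional k k']
    (h : Function.Bijective (Algebra.TensorProduct.productMap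
      (IsScalarTower.toAlgHom k k' K') (IsScalarTower.toAlgHom k K K')))
    (hK : IsFunctionField k K) (hdvd : ∀ P : FunFld.Place k K, Module.finrank k k' ∣ P.deg)
    (D : Divisor k K) (hD : D.deg = Module.finrank k k') :
    ∃ D' : Divisor k' K', D'.deg = 1 := by
  classical
  haveI := finiteDimensional_cExt (K := K) (K' := K') h
  have hsel : ∀ P : FunFld.Place k K, ∃ Q' : FunFld.Place k' K', below hK Q' = P := by
    intro P
    obtain ⟨⟨Q, hQ⟩⟩ := nonempty_overP (K' := K') P hK
    exact ⟨upPlace Q, below_eq hK (by rw [downPlace_upPlace]; exact hQ)⟩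
  choose sel hsel using hsel
  refine ⟨D.mapDomain sel, ?_⟩
  have hrpos : (0 : ℤ) < Module.finrank k k' := by exact_mod_cast Module.finrank_pos
  have h1 : Divisor.deg (D.mapDomain sel : Divisor k' K') = D.sum fun P n => n * ((sel P).deg : ℤ) := by
    rw [deg_def]
    exact Finsupp.sum_mapDomain_index (fun _ => by simp) (fun _ _ _ => by ring)
  have h2 : (Module.finrank k k' : ℤ) * Divisor.deg (D.mapDomain sel : Divisor k' K') = D.deg := by
    rw [h1, deg_def, Finsupp.mul_sum]
    refine Finsupp.sum_congr fun P _ => ?_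
    have := deg_mul_eq_below h hK hdvd (sel P)
    rw [hsel P] at this
    rw [← this]
    push_cast
    ring
  rw [hD] at h2
  exact (mul_right_injective₀ hrpos.ne') (by simpa using h2)

theorem effDivCount_mul_eq [Finite k] (hK : IsFunctionField k K) (n : ℕ)
    (hn : 2 * genus k K ≤ n + 1) (D₀ : Divisor k K) (hD₀ : D₀.deg = n) :
    ((Nat.card k : ℤ) - 1) * (effDivCount k K n : ℤ) =
      (Nat.card (Cl0 k K) : ℤ) * ((Nat.card k : ℤ) ^ (n + 1 - genus k K) - 1) := by
  have h := card_effDiv_mul hK n hn D₀ hD₀
  have hq : 1 ≤ Nat.card k := Nat.one_le_iff_ne_zero.2 Nat.card_pos.ne'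
  have hq2 : 1 ≤ (Nat.card k) ^ (n + 1 - genus k K) := Nat.one_le_pow _ _ hq
  have h2 : ((Nat.card {D : Divisor k K // 0 ≤ D ∧ D.deg = n} * (Nat.card k - 1) : ℕ) : ℤ) =
      ((Nat.card (Cl0 k K) * ((Nat.card k) ^ (n + 1 - genus k K) - 1) : ℕ) : ℤ) := by rw [h]
  rw [Nat.cast_mul, Nat.cast_mul, Nat.cast_sub hq, Nat.cast_sub hq2, Nat.cast_pow,
    Nat.cast_one] at h2
  unfold effDivCount
  rw [mul_comm]
  exact h2

theorem fks_false [Finite k] [FiniteDimensional k k']
    (h : Function.Bijective (Algebra.TensorProduct.productMap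
      (IsScalarTower.toAlgHom k k' K') (IsScalarTower.toAlgHom k K K')))
    (hK : IsFunctionField k K) (hdvd : ∀ P : FunFld.Place k K, Module.finrank k k' ∣ P.deg)
    (hr2 : 2 ≤ Module.finrank k k') (D : Divisor k K) (hD : D.deg = Module.finrank k k') :
    False := by
  classical
  haveI : Finite k' := Module.finite_of_finite k
  have hK' : IsFunctionField k' K' := isFunctionField_cExt h hK
  obtain ⟨D', hD'⟩ := exists_divisor_deg_one_cExt h hK hdvd D hD
  have hq1 : 1 < Nat.card k := Finite.one_lt_card
  have hQ1 : 1 < Nat.card k' := Finite.one_lt_card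
  have hQ : Nat.card k' = (Nat.card k) ^ Module.finrank k k' :=
    Module.natCard_eq_pow_finrank (K := k)
  have hpow := zetaZ_cExt_eq_pow h hK hdvd
  haveI := finite_Cl0 hK
  have hhpos : 0 < Nat.card (Cl0 k K) := Nat.card_pos
  -- rationality of the compressed series of `K`
  obtain ⟨pt, hpt, hpt1⟩ := exists_poly_of_geometric
    (fun j => (effDivCount k K (Module.finrank k k' * j) : ℤ)) (Nat.card k' : ℤ)
    ((Nat.card k : ℤ) - 1)
    ((Nat.card (Cl0 k K) : ℤ) * (Nat.card k : ℤ) ^
      (Module.finrank k k' * (2 * genus k K) + 1 - genus k K))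
    (Nat.card (Cl0 k K) : ℤ) (2 * genus k K)
    (by
      have : (1 : ℤ) < Nat.card k := by exact_mod_cast hq1
      omega)
    (by
      intro j hj
      have hrpos : 0 < Module.finrank k k' := by omega
      have hj2 : 2 * genus k K ≤ Module.finrank k k' * j :=
        hj.trans (Nat.le_mul_of_pos_left j hrpos)
      have h1 := effDivCount_mul_eq hK (Module.finrank k k' * j) (by omega) (j • D) (by
        rw [deg_nsmul, hD]; push_cast; ring)
      rw [h1, hQ]
      have hn0 : 2 * genus k K ≤ Module.finrank k k' * (2 * genus k K) :=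
        Nat.le_mul_of_pos_left _ hrpos
      have e : Module.finrank k k' * j + 1 - genus k K =
          (Module.finrank k k' * (2 * genus k K) + 1 - genus k K) +
            Module.finrank k k' * (j - 2 * genus k K) := by
        have : Module.finrank k k' * j = Module.finrank k k' * (2 * genus k K) +
            Module.finrank k k' * (j - 2 * genus k K) := by
          rw [← Nat.mul_add]; congr 1; omega
        omega
      rw [e, pow_add, pow_mul]
      push_cast
      ring)
  -- rationality of the zeta series of `K'`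
  haveI := finite_Cl0 hK'
  obtain ⟨p', hp', -⟩ := exists_poly_of_geometric
    (fun m => (effDivCount k' K' m : ℤ)) (Nat.card k' : ℤ)
    ((Nat.card k' : ℤ) - 1)
    ((Nat.card (Cl0 k' K') : ℤ) * (Nat.card k' : ℤ) ^ (2 * genus k' K' + 1 - genus k' K'))
    (Nat.card (Cl0 k' K') : ℤ) (2 * genus k' K')
    (by
      have : (1 : ℤ) < Nat.card k' := by exact_mod_cast hQ1
      omega)
    (by
      intro m hm
      have h1 := effDivCount_mul_eq hK' m (by omega) (m • D') (by
        rw [deg_nsmul, hD']; push_cast; ring)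
      rw [h1]
      have e : m + 1 - genus k' K' = (2 * genus k' K' + 1 - genus k' K') +
          (m - 2 * genus k' K') := by omega
      rw [e, pow_add]
      ring)
  -- the polynomial identity
  have hz' : zetaZ k' K' = PowerSeries.mk fun m => (effDivCount k' K' m : ℤ) := rfl
  rw [← hz', hpow] at hp'
  set w : Polynomial ℤ := (1 - Polynomial.X) * (1 - Polynomial.C (Nat.card k' : ℤ) * Polynomial.X)
    with hw
  have hwc : (w : ℤ⟦X⟧) = (1 - X) * (1 - C (Nat.card k' : ℤ) * X) := by
    rw [hw, Polynomial.coe_mul, Polynomial.coe_sub, Polynomial.coe_sub, Polynomial.coe_one,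
      Polynomial.coe_X, Polynomial.coe_mul, Polynomial.coe_C, Polynomial.coe_X]
  obtain ⟨s, hs⟩ : ∃ s, Module.finrank k k' = s + 1 := ⟨Module.finrank k k' - 1, by omega⟩
  have hident : p' * w ^ s = pt ^ (s + 1) := by
    apply Polynomial.coe_injective ℤ
    rw [Polynomial.coe_mul, Polynomial.coe_pow, Polynomial.coe_pow, hp', hpt, hwc]
    generalize (PowerSeries.mk fun j => (effDivCount k K (Module.finrank k k' * j) : ℤ)) = Zt
    generalize (1 - X) * (1 - C (Nat.card k' : ℤ) * X) = W
    rw [hs]
    ring
  have hev := congrArg (Polynomial.eval 1) hident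
  rw [Polynomial.eval_mul, Polynomial.eval_pow, Polynomial.eval_pow] at hev
  have hw1 : w.eval 1 = 0 := by rw [hw]; simp
  have hs1 : s ≠ 0 := by omega
  rw [hw1, zero_pow hs1, mul_zero] at hev
  have hpt0 : pt.eval 1 = 0 := by
    have := hev.symm
    exact pow_eq_zero_iff (by omega) |>.1 this
  rw [hpt0, mul_zero] at hpt1
  have h1 : (0 : ℤ) < Nat.card (Cl0 k K) := by exact_mod_cast hhpos
  have h2 : (0 : ℤ) < (Nat.card k' : ℤ) - 1 := by
    have : (1 : ℤ) < Nat.card k' := by exact_mod_cast hQ1
    omega
  have := mul_pos h1 h2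
  omega

end FKS2

end Groth.Agent.Lib.Helper2.FF
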