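import Mathlib
import Groth.Agent.Lib.Helper2.FunFld.FKS2

set_option autoImplicit false
open scoped WithZero IntermediateField TensorProduct
open FunFld Polynomial

namespace Groth.Agent.Lib.Helper2.FF

section BIJ

variable {k k' K K' : Type*} [Field k] [Field k'] [Field K] [Field K']
    [Algebra k k'] [Algebra k K] [Algebra K K'] [Algebra k' K'] [Algebra k K']
    [IsScalarTower k k' K'] [IsScalarTower k K K']

theorem bijective_productMap_of_surjective [FiniteDimensional k k'] [FiniteDimensional K K']
    (hsurj : Function.Surjective (Algebra.TensorProduct.productMap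
      (IsScalarTower.toAlgHom k k' K') (IsScalarTower.toAlgHom k K K')))
    (hrank : Module.finrank K K' = Module.finrank k k') :
    Function.Bijective (Algebra.TensorProduct.productMap
      (IsScalarTower.toAlgHom k k' K') (IsScalarTower.toAlgHom k K K')) := by
  have h1 : (prodLeft (k := k) (k' := k') (K := K) (K' := K') : K ⊗[k] k' → K') =
      (Algebra.TensorProduct.productMap
      (IsScalarTower.toAlgHom k k' K') (IsScalarTower.toAlgHom k K K')) ∘
        (Algebra.TensorProduct.comm k K k') := by
    funext t
    exact prodLeft_eq t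
  have hs : Function.Surjective (prodLeft (k := k) (k' := k') (K := K) (K' := K')).toLinearMap := by
    change Function.Surjective (prodLeft (k := k) (k' := k') (K := K) (K' := K') : K ⊗[k] k' → K')
    rw [h1]
    exact hsurj.comp (Algebra.TensorProduct.comm k K k').surjective
  have hfr : Module.finrank K (K ⊗[k] k') = Module.finrank K K' := by
    rw [Module.finrank_baseChange, hrank]
  have hi : Function.Injective (prodLeft (k := k) (k' := k') (K := K) (K' := K')).toLinearMap :=
    (LinearMap.injective_iff_surjective_of_finrank_eq_finrank hfr).2 hs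
  have h2 : (Algebra.TensorProduct.productMap
      (IsScalarTower.toAlgHom k k' K') (IsScalarTower.toAlgHom k K K') : k' ⊗[k] K → K') =
      (prodLeft (k := k) (k' := k') (K := K) (K' := K') : K ⊗[k] k' → K') ∘
        (Algebra.TensorProduct.comm k K k').symm := by
    rw [h1]
    funext t
    simp
  rw [h2]
  exact Function.Bijective.comp ⟨hi, hs⟩ (Algebra.TensorProduct.comm k K k').symm.bijective

end BIJ


section Final

variable {k K : Type*} [Field k] [Field K] [Algebra k K]

/-- there is no `r ≥ 2` dividing all degrees and attained as a degree -/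
theorem fks_no_common_divisor [Finite k] (hK : IsFunctionField k K) (r : ℕ) (hr2 : 2 ≤ r)
    (hdvd : ∀ P : FunFld.Place k K, r ∣ P.deg) (D : Divisor k K) (hD : D.deg = r) : False := by
  classical
  obtain ⟨p, hp⟩ := CharP.exists k
  haveI : Fact p.Prime := ⟨CharP.char_is_prime k p⟩
  haveI : NeZero r := ⟨by omega⟩
  let k' := FiniteField.Extension k p r
  have hfr : Module.finrank k k' = r := FiniteField.finrank_extension k p r
  haveI : Algebra.IsSeparable k k' := Algebra.IsAlgebraic.isSeparable_of_perfectField
  let pb : PowerBasis k k' := Field.powerBasisOfFiniteOfSeparable k k'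
  let m : k[X] := minpoly k pb.gen
  have hm : m.Monic := minpoly.monic (Algebra.IsIntegral.isIntegral _)
  have hmirr : Irreducible m := minpoly.irreducible (Algebra.IsIntegral.isIntegral _)
  have hmdeg : m.natDegree = r := by
    rw [← hfr, pb.finrank]
    exact pb.natDegree_minpoly
  have hfirr : Irreducible (m.map (algebraMap k K)) :=
    irreducible_map_of_algClosedIn hK.2 hm hmirr
  haveI : Fact (Irreducible (m.map (algebraMap k K))) := ⟨hfirr⟩
  let K' := AdjoinRoot (m.map (algebraMap k K))
  have hroot : aeval (AdjoinRoot.root (m.map (algebraMap k K))) (minpoly k pb.gen) = 0 := by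
    have h1 := AdjoinRoot.eval₂_root (m.map (algebraMap k K))
    rw [Polynomial.eval₂_map] at h1
    exact h1
  let φ : k' →ₐ[k] K' := pb.lift (AdjoinRoot.root (m.map (algebraMap k K))) hroot
  letI : Algebra k' K' := φ.toRingHom.toAlgebra
  haveI : IsScalarTower k k' K' := IsScalarTower.of_algebraMap_eq (fun c => (φ.commutes c).symm)
  have hgen : algebraMap k' K' pb.gen = AdjoinRoot.root (m.map (algebraMap k K)) :=
    pb.lift_gen _ hroot
  haveI : FiniteDimensional K K' :=
    (AdjoinRoot.powerBasis hfirr.ne_zero).finite
  have hrank : Module.finrank K K' = Module.finrank k k' := by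
    rw [(AdjoinRoot.powerBasis hfirr.ne_zero).finrank, AdjoinRoot.powerBasis_dim,
      natDegree_map, hmdeg, hfr]
  have hsurj : Function.Surjective (Algebra.TensorProduct.productMap
      (IsScalarTower.toAlgHom k k' K') (IsScalarTower.toAlgHom k K K')) := by
    intro z
    obtain ⟨g, rfl⟩ := AdjoinRoot.mk_surjective z
    induction g using Polynomial.induction_on' with
    | add a b ha hb =>
      obtain ⟨ta, hta⟩ := ha
      obtain ⟨tb, htb⟩ := hb
      exact ⟨ta + tb, by rw [map_add, hta, htb, map_add]⟩
    | monomial n a =>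
      refine ⟨(pb.gen ^ n) ⊗ₜ a, ?_⟩
      rw [Algebra.TensorProduct.productMap_apply_tmul]
      change algebraMap k' K' (pb.gen ^ n) * algebraMap K K' a = _
      rw [map_pow, hgen, ← Polynomial.C_mul_X_pow_eq_monomial, map_mul, map_pow,
        AdjoinRoot.mk_C, AdjoinRoot.mk_X, mul_comm]
      rfl
  have h := bijective_productMap_of_surjective hsurj hrank
  exact fks_false h hK (by rw [hfr]; exact hdvd) (by rw [hfr]; exact hr2) D (by rw [hfr]; exact hD)

/-- **F. K. Schmidt**: over a finite constant field there is a divisor of degree one -/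
theorem deg_surjective [Finite k] (hK : IsFunctionField k K) :
    Function.Surjective (Divisor.deg : Divisor k K → ℤ) := by
  classical
  have hex : ∃ n : ℕ, 0 < n ∧ ∃ D : Divisor k K, D.deg = n := by
    obtain ⟨P⟩ := nonempty_place hK
    exact ⟨P.deg, deg_pos P hK, Finsupp.single P 1, by rw [deg_single]; simp⟩
  obtain ⟨hdpos, D₁, hD₁⟩ := Nat.find_spec hex
  have hmin : ∀ n : ℕ, (0 < n ∧ ∃ D : Divisor k K, D.deg = n) → Nat.find hex ≤ n :=
    fun n hn => Nat.find_min' hex hn
  set d := Nat.find hex with hd
  have hzsmul : ∀ (n : ℤ) (D : Divisor k K), (n • D).deg = n * D.deg := fun n D => by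
    have := map_zsmul (degHom k K) n D
    rw [degHom_apply, degHom_apply, smul_eq_mul] at this
    exact this
  have hdvd : ∀ D : Divisor k K, (d : ℤ) ∣ D.deg := by
    intro D
    have hdpos' : (0 : ℤ) < d := by exact_mod_cast hdpos
    apply Int.dvd_of_emod_eq_zero
    by_contra hne
    have h1 : 0 ≤ D.deg % d := Int.emod_nonneg _ hdpos'.ne'
    have h2 : D.deg % d < d := Int.emod_lt_of_pos _ hdpos'
    have h3 : (D - (D.deg / d) • D₁).deg = D.deg % d := by
      rw [deg_sub, hzsmul, hD₁, Int.emod_def]; ring
    have h4 := hmin (D.deg % d).toNat ⟨by omega, D - (D.deg / d) • D₁, by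
      rw [h3, Int.toNat_of_nonneg h1]⟩
    omega
  have hdvdP : ∀ P : FunFld.Place k K, d ∣ P.deg := by
    intro P
    have := hdvd (Finsupp.single P 1)
    rw [deg_single, one_mul] at this
    exact_mod_cast this
  by_cases h1 : d = 1
  · intro n
    refine ⟨n • D₁, ?_⟩
    rw [hzsmul, hD₁, h1]; simp
  · exact (fks_no_common_divisor hK d (by omega) hdvdP D₁ hD₁).elim

end Final

end Groth.Agent.Lib.Helper2.FF
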