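import Mathlib
import Groth.Agent.Lib.Helper2.FunFld.FKS3

set_option autoImplicit false
open scoped WithZero IntermediateField
open FunFld Polynomial

namespace Groth.Agent.Lib.Helper2.FF

section Gen

variable {k k' K K' : Type*} [Field k] [Field k'] [Field K] [Field K']
    [Algebra k k'] [Algebra k K] [Algebra K K'] [Algebra k' K'] [Algebra k K']
    [IsScalarTower k k' K'] [IsScalarTower k K K']

/-- The residue field of `Q` is generated by the residue field of `P` and `k'`. -/
theorem residue_mem_of_gens [Finite k] [FiniteDimensional k k']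
    (h : Function.Bijective (Algebra.TensorProduct.productMap
      (IsScalarTower.toAlgHom k k' K') (IsScalarTower.toAlgHom k K K')))
    (hK : IsFunctionField k K) (P : FunFld.Place k K)
    {Q : FunFld.Place k K'} (he : IsOverWith Q P 1)
    (T : Subring (IsLocalRing.ResidueField Q.O))
    (h1 : ∀ a : P.O, IsLocalRing.residue Q.O (oMap' he a) ∈ T)
    (h2 : ∀ c : k', IsLocalRing.residue Q.O
      ⟨algebraMap k' K' c, (mem_O_iff Q _).2 (v_algebraMap_const_le Q c)⟩ ∈ T) :
    ∀ y, y ∈ T := by
  classical
  haveI := finiteDimensional_cExt (K := K) (K' := K') h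
  haveI : Algebra.IsSeparable k k' := Algebra.IsAlgebraic.isSeparable_of_perfectField
  letI : Algebra P.O K' := ((algebraMap K K').comp P.O.subtype).toAlgebra
  haveI : IsScalarTower P.O K K' := IsScalarTower.of_algebraMap_eq (fun _ => rfl)
  haveI := isLocalHom_oMap' he
  have hQ : IsOver Q P := ⟨1, he⟩
  let i : OverP K' P := ⟨Q, hQ⟩
  have hBP := (cExt_separable h hK P Q hQ).1
  rw [integralClosure_eq_BP P hK] at hBP
  have key' : ∀ (z : K') (hz : z ∈ Algebra.adjoin P.O (Set.range (algebraMap k' K'))),
      ∃ hzQ : v Q z ≤ 1, IsLocalRing.residue Q.O ⟨z, (mem_O_iff Q z).2 hzQ⟩ ∈ T := by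
    intro z hz
    induction hz using Algebra.adjoin_induction with
    | mem x hx =>
      obtain ⟨c, rfl⟩ := hx
      exact ⟨v_algebraMap_const_le Q c, h2 c⟩
    | algebraMap a =>
      exact ⟨v_over_algebraMap_le P i a, h1 a⟩
    | add x y _ _ hx hy =>
      obtain ⟨hx1, hx2⟩ := hx
      obtain ⟨hy1, hy2⟩ := hy
      refine ⟨(Valuation.map_add (v Q) x y).trans (max_le hx1 hy1), ?_⟩
      have := T.add_mem hx2 hy2
      rw [← map_add] at this
      exact this
    | mul x y _ _ hx hy =>
      obtain ⟨hx1, hx2⟩ := hx
      obtain ⟨hy1, hy2⟩ := hy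
      refine ⟨by rw [map_mul]; exact mul_le_one' hx1 hy1, ?_⟩
      have := T.mul_mem hx2 hy2
      rw [← map_mul] at this
      exact this
  intro y
  obtain ⟨b, rfl⟩ := redQ_surjective P hK i y
  have hb : (b : K') ∈ Algebra.adjoin P.O (Set.range (algebraMap k' K')) := by
    have : (b : K') ∈ (BP (K' := K') P).toSubring := b.2
    rw [hBP] at this
    exact this
  obtain ⟨_, ha⟩ := key' b.1 hb
  exact ha

theorem pow_pow_eq_self {F : Type*} [Monoid F] {y : F} {m : ℕ} (hy : y ^ m = y) (c : ℕ) :
    y ^ m ^ c = y := by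
  induction c with
  | zero => simp
  | succ c ih => rw [pow_succ, pow_mul, ih, hy]

theorem finrank_dvd_of_forall_pow_eq (k F : Type*) [Field k] [Fintype k] [Field F] [Algebra k F]
    [Finite F] (N : ℕ) (h : ∀ x : F, x ^ (Fintype.card k ^ N) = x) : Module.finrank k F ∣ N := by
  rw [← FiniteField.orderOf_frobeniusAlgHom k F]
  apply orderOf_dvd_of_pow_eq_one
  ext x
  rw [AlgHom.coe_pow, FiniteField.coe_frobeniusAlgHom, pow_iterate]
  exact h x

/-- the degree of `Q | P` in a constant field extension divides any common multiple of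
`deg P` and `[k':k]` -/
theorem deg_dvd_of_dvd_cExt [Finite k] [FiniteDimensional k k']
    (h : Function.Bijective (Algebra.TensorProduct.productMap
      (IsScalarTower.toAlgHom k k' K') (IsScalarTower.toAlgHom k K K')))
    (hK : IsFunctionField k K) (P : FunFld.Place k K) (N : ℕ)
    (hd : P.deg ∣ N) (hn : Module.finrank k k' ∣ N)
    {Q : FunFld.Place k K'} (hQ : IsOver Q P) : Q.deg ∣ N := by
  classical
  letI := Fintype.ofFinite k
  have he := isOverWith_one_cExt h hK P hQ
  haveI := finiteDimensional_cExt (K := K) (K' := K') h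
  haveI := isLocalHom_oMap' he
  haveI := finiteDimensional_residueField P hK
  haveI : Finite (IsLocalRing.ResidueField P.O) := Module.finite_of_finite k
  haveI := finiteDimensional_residueField_w (isFFw_of_finite (K' := K') hK) Q
  haveI : Finite (IsLocalRing.ResidueField Q.O) := Module.finite_of_finite k
  haveI : Finite k' := Module.finite_of_finite k
  have hcardP : Nat.card (IsLocalRing.ResidueField P.O) = (Fintype.card k) ^ P.deg := by
    rw [Module.natCard_eq_pow_finrank (K := k), Nat.card_eq_fintype_card]; rfl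
  have hcardk' : Nat.card k' = (Fintype.card k) ^ Module.finrank k k' := by
    rw [Module.natCard_eq_pow_finrank (K := k), Nat.card_eq_fintype_card]
  apply finrank_dvd_of_forall_pow_eq k (IsLocalRing.ResidueField Q.O) N
  let T : Subring (IsLocalRing.ResidueField Q.O) :=
    ((FiniteField.frobeniusAlgHom k (IsLocalRing.ResidueField Q.O)) ^ N).toRingHom.eqLocus
      (RingHom.id _)
  have hT : ∀ x, x ∈ T ↔ x ^ (Fintype.card k ^ N) = x := by
    intro x
    change ((FiniteField.frobeniusAlgHom k (IsLocalRing.ResidueField Q.O)) ^ N) x = x ↔ _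
    rw [AlgHom.coe_pow, FiniteField.coe_frobeniusAlgHom, pow_iterate]
  intro x
  rw [← hT]
  apply residue_mem_of_gens h hK P he T
  · intro a
    rw [hT, ← IsLocalRing.ResidueField.map_residue, ← map_pow]
    congr 1
    obtain ⟨m, rfl⟩ := hd
    rw [pow_mul, ← hcardP]
    apply pow_pow_eq_self
    letI := Fintype.ofFinite (IsLocalRing.ResidueField P.O)
    rw [← Fintype.card_eq_nat_card, FiniteField.pow_card]
  · intro c
    rw [hT, ← map_pow]
    congr 1
    apply Subtype.ext
    change (algebraMap k' K' c) ^ _ = algebraMap k' K' c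
    rw [← map_pow]
    congr 1
    obtain ⟨m, rfl⟩ := hn
    rw [pow_mul, ← hcardk']
    apply pow_pow_eq_self
    letI := Fintype.ofFinite k'
    rw [← Fintype.card_eq_nat_card, FiniteField.pow_card]

theorem deg_dvd_deg_of_isOverWith {Q : FunFld.Place k K'} {P : FunFld.Place k K} {e : ℕ}
    (he : IsOverWith Q P e) : P.deg ∣ Q.deg := by
  haveI := isLocalHom_oMap' he
  letI : Algebra (IsLocalRing.ResidueField P.O) (IsLocalRing.ResidueField Q.O) :=
    (IsLocalRing.ResidueField.map (oMap' he)).toAlgebra
  refine ⟨_, (@Module.finrank_mul_finrank k (IsLocalRing.ResidueField P.O)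
    (IsLocalRing.ResidueField Q.O) _ _ _ _ _ _ ⟨fun c x y => ?_⟩ _ _ _ _).symm⟩
  rw [Algebra.smul_def, Algebra.smul_def]
  change resLin he (c • x) * y = c • (resLin he x * y)
  rw [map_smul, smul_mul_assoc]

theorem bijective_of_isConstExt [FiniteDimensional k k']
    (hce : FunFld.IsConstExt k K k' K') :
    Function.Bijective (Algebra.TensorProduct.productMap
      (IsScalarTower.toAlgHom k k' K') (IsScalarTower.toAlgHom k K K')) := by
  obtain ⟨-, hadj, hrank⟩ := hce
  have hpos : 0 < Module.finrank K K' := by rw [hrank]; exact Module.finrank_pos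
  haveI : FiniteDimensional K K' := Module.finite_of_finrank_pos hpos
  apply bijective_productMap_of_surjective _ hrank
  rw [← AlgHom.range_eq_top, Algebra.TensorProduct.productMap_range]
  have h1 := congrArg (Subalgebra.restrictScalars k) hadj
  rw [Algebra.Subalgebra.restrictScalars_adjoin, Subalgebra.restrictScalars_top] at h1
  have h2 : Algebra.adjoin k (Set.range (algebraMap k' K')) =
      (IsScalarTower.toAlgHom k k' K').range := by
    have : Set.range (algebraMap k' K') = ((IsScalarTower.toAlgHom k k' K').range : Set K') := by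
      ext x; simp
    rw [this, Algebra.adjoin_eq]
  rw [h2] at h1
  rw [sup_comm]
  exact h1

end Gen

end Groth.Agent.Lib.Helper2.FF
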