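import Mathlib
import Groth.Agent.Lib.Helper2.FunFld.CEG1

set_option autoImplicit false
open scoped WithZero IntermediateField
open FunFld Polynomial

namespace Groth.Agent.Lib.Helper2.FF

section Gen

variable {k k' K K' : Type*} [Field k] [Field k'] [Field K] [Field K']
    [Algebra k K] [Algebra K K'] [Algebra k' K'] [Algebra k K']
    [IsScalarTower k K K']

theorem isOver_of_hasExtension [FiniteDimensional K K'] (hK : IsFunctionField k K)
    (P : FunFld.Place k K) (Q : FunFld.Place k K') [P.1.HasExtension Q.1] : IsOver Q P := by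
  obtain ⟨P₀, e, he⟩ := exists_isOverWith (K := K) hK Q
  have he1 := isOverWith_one_le he
  have : P₀ = P := by
    apply place_eq_of_lt_one_imp
    intro z hz
    have h1 : Q.1 (algebraMap K K' z) < 1 := by
      rw [he z]
      exact pow_lt_one' hz (by omega)
    exact (Valuation.HasExtension.val_map_lt_one_iff P.1 Q.1 z).1 h1
  rw [← this]
  exact ⟨e, he⟩

/-- The residue field of `Q` is generated by the residue field of `P` and `k'`, when `P` is
nonsingular with respect to `k'`. -/
theorem residue_mem_of_gens_ns [FiniteDimensional K K']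
    (hK : IsFunctionField k K) (P : FunFld.Place k K) [Algebra P.O K'] [IsScalarTower P.O K K']
    (hns : (integralClosure P.O K').toSubring =
      (Algebra.adjoin P.O (Set.range (algebraMap k' K'))).toSubring)
    {Q : FunFld.Place k K'} {e : ℕ} (he : IsOverWith Q P e)
    (hk' : ∀ c : k', Q.1 (algebraMap k' K' c) ≤ 1)
    (T : Subring (IsLocalRing.ResidueField Q.O))
    (h1 : ∀ a : P.O, IsLocalRing.residue Q.O (oMap' he a) ∈ T)
    (h2 : ∀ c : k', IsLocalRing.residue Q.O ⟨algebraMap k' K' c, hk' c⟩ ∈ T) :
    ∀ y, y ∈ T := by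
  classical
  haveI := isLocalHom_oMap' he
  have hQ : IsOver Q P := ⟨e, he⟩
  let i : OverP K' P := ⟨Q, hQ⟩
  have hBP := hns
  rw [integralClosure_eq_BP P hK] at hBP
  have key' : ∀ (z : K') (hz : z ∈ Algebra.adjoin P.O (Set.range (algebraMap k' K'))),
      ∃ hzQ : v Q z ≤ 1, IsLocalRing.residue Q.O ⟨z, (mem_O_iff Q z).2 hzQ⟩ ∈ T := by
    intro z hz
    induction hz using Algebra.adjoin_induction with
    | mem x hx =>
      obtain ⟨c, rfl⟩ := hx
      exact ⟨hk' c, h2 c⟩
    | algebraMap a =>
      refine ⟨v_over_algebraMap_le P i a, ?_⟩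
      have := h1 a
      convert this using 2
      apply Subtype.ext
      change algebraMap P.O K' a = algebraMap K K' a.1
      rw [IsScalarTower.algebraMap_apply P.O K K']
      rfl
    | add x y _ _ hx hy =>
      obtain ⟨hx1, hx2⟩ := hx
      obtain ⟨hy1, hy2⟩ := hy
      refine ⟨(Valuation.map_add (v Q) x y).trans (max_le hx1 hy1), ?_⟩
      have := T.add_mem hx2 hy2
      rw [← map_add] at this
      exact this
    | mul x y _ _ hx hy =>
      obtain ⟨hx1, hx2⟩ := hx
      obtain ⟨hy1, hy2⟩ := hy
      refine ⟨by rw [map_mul]; exact mul_le_one' hx1 hy1, ?_⟩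
      have := T.mul_mem hx2 hy2
      rw [← map_mul] at this
      exact this
  intro y
  obtain ⟨b, rfl⟩ := redQ_surjective P hK i y
  have hb : (b : K') ∈ Algebra.adjoin P.O (Set.range (algebraMap k' K')) := by
    have : (b : K') ∈ (BP (K' := K') P).toSubring := b.2
    rw [hBP] at this
    exact this
  obtain ⟨_, ha⟩ := key' b.1 hb
  exact ha

end Gen

end Groth.Agent.Lib.Helper2.FF
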