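import Mathlib
import Groth.Agent.Lib.Helper2.FunFld.CEG3

set_option autoImplicit false
open scoped WithZero IntermediateField TensorProduct
open FunFld Polynomial

namespace Groth.Agent.Lib.Helper2.FF

section Red

/-- a finite separable field extension stays reduced after any base field extension -/
theorem isReduced_tensor_of_isSeparable (k k' F : Type*) [Field k] [Field k'] [Field F]
    [Algebra k k'] [Algebra k F] [FiniteDimensional k F] [Algebra.IsSeparable k F] :
    IsReduced (k' ⊗[k] F) := by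
  haveI : Algebra.FormallyUnramified k F := Algebra.FormallyUnramified.of_isSeparable k F
  haveI : Algebra.FormallyUnramified k' (k' ⊗[k] F) := inferInstance
  haveI : Module.Finite k' (k' ⊗[k] F) := inferInstance
  haveI : Algebra.EssFiniteType k' (k' ⊗[k] F) := inferInstance
  exact Algebra.FormallyUnramified.isReduced_of_field k' (k' ⊗[k] F)

end Red

section NS

variable {k k' K K' : Type*} [Field k] [Field k'] [Field K] [Field K']
    [Algebra k k'] [Algebra k K] [Algebra K K'] [Algebra k' K'] [Algebra k K']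
    [IsScalarTower k k' K'] [IsScalarTower k K K']

/-- the inclusion `O_P → K` as a `k`-algebra map -/
def valO (P : FunFld.Place k K) : P.O →ₐ[k] K :=
  { P.O.subtype with commutes' := fun _ => rfl }

@[simp] theorem valO_apply (P : FunFld.Place k K) (a : P.O) : valO P a = a.1 := rfl

/-- the natural map `k' ⊗ O_P → K'` -/
noncomputable def PhiO (P : FunFld.Place k K) : k' ⊗[k] P.O →ₐ[k] K' :=
  Algebra.TensorProduct.productMap (IsScalarTower.toAlgHom k k' K')
    ((IsScalarTower.toAlgHom k K K').comp (valO P))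

theorem PhiO_tmul (P : FunFld.Place k K) (c : k') (a : P.O) :
    PhiO (K' := K') P (c ⊗ₜ a) = algebraMap k' K' c * algebraMap K K' a.1 := by
  simp [PhiO]

theorem PhiO_injective
    (h : Function.Bijective (Algebra.TensorProduct.productMap
      (IsScalarTower.toAlgHom k k' K') (IsScalarTower.toAlgHom k K K')))
    (P : FunFld.Place k K) : Function.Injective (PhiO (k' := k') (K' := K') P) := by
  have h1 : (PhiO (k' := k') (K' := K') P : k' ⊗[k] P.O → K') =
      (Algebra.TensorProduct.productMap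
        (IsScalarTower.toAlgHom k k' K') (IsScalarTower.toAlgHom k K K')) ∘
      (LinearMap.lTensor k' (valO P).toLinearMap) := by
    funext x
    induction x using TensorProduct.induction_on with
    | zero => simp
    | tmul c a => simp [PhiO_tmul]
    | add x y hx hy =>
      simp only [Function.comp_apply, map_add] at hx hy ⊢
      rw [hx, hy]
  rw [h1]
  refine h.1.comp ?_
  apply Module.Flat.lTensor_preserves_injective_linearMap
  exact Subtype.val_injective

theorem mem_adjoin_iff_mem_range (P : FunFld.Place k K) [Algebra P.O K'] [IsScalarTower P.O K K']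
    (z : K') : z ∈ Algebra.adjoin P.O (Set.range (algebraMap k' K')) ↔
      z ∈ (PhiO (k' := k') (K' := K') P).range := by
  constructor
  · intro hz
    induction hz using Algebra.adjoin_induction with
    | mem x hx =>
      obtain ⟨c, rfl⟩ := hx
      exact (AlgHom.mem_range _).2 ⟨c ⊗ₜ 1, by simp [PhiO_tmul]⟩
    | algebraMap a =>
      refine (AlgHom.mem_range _).2 ⟨1 ⊗ₜ a, ?_⟩
      rw [PhiO_tmul, map_one, one_mul, IsScalarTower.algebraMap_apply P.O K K']
      rfl
    | add x y _ _ hx hy => exact add_mem hx hy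
    | mul x y _ _ hx hy => exact mul_mem hx hy
  · intro hz
    obtain ⟨x, rfl⟩ := (AlgHom.mem_range _).1 hz
    clear hz
    induction x using TensorProduct.induction_on with
    | zero => simp
    | tmul c a =>
      rw [PhiO_tmul]
      refine mul_mem (Algebra.subset_adjoin ⟨c, rfl⟩) ?_
      have : algebraMap K K' a.1 = algebraMap P.O K' a := by
        rw [IsScalarTower.algebraMap_apply P.O K K']
        rfl
      rw [this]
      exact Subalgebra.algebraMap_mem _ a
    | add x y hx hy =>
      rw [map_add]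
      exact add_mem hx hy

theorem exists_eq_mul_of_lt_one (P : FunFld.Place k K) {t : K} (ht : v P t = WithZero.exp (-1 : ℤ))
    (y : K) (hy : v P y < 1) : ∃ y' : K, v P y' ≤ 1 ∧ y = t * y' := by
  have ht0 : t ≠ 0 := by
    intro h0
    rw [h0, map_zero] at ht
    exact WithZero.exp_ne_zero.symm ht
  refine ⟨y / t, ?_, by field_simp⟩
  rcases eq_or_ne y 0 with rfl | hy0
  · simp
  rw [map_div₀, ht, v_eq_exp_neg_ord P hy0, ← WithZero.exp_sub, ← WithZero.exp_zero,
    WithZero.exp_le_exp]
  rw [v_eq_exp_neg_ord P hy0, ← WithZero.exp_zero, WithZero.exp_lt_exp] at hy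
  omega

variable {F : Type*} [Field F] [Algebra k F]

/-- reduction `k' ⊗ O_P → k' ⊗ F_P` -/
noncomputable def PsiO (P : FunFld.Place k K) (ρ : P.O →ₐ[k] F) :
    k' ⊗[k] P.O →ₐ[k] k' ⊗[k] F :=
  Algebra.TensorProduct.map (AlgHom.id k k') ρ

theorem PsiO_eq_zero (P : FunFld.Place k K) (ρ : P.O →ₐ[k] F) (hρs : Function.Surjective ρ)
    (hρ0 : ∀ y : P.O, ρ y = 0 ↔ v P (y : K) < 1)
    {t : K} (ht : v P t = WithZero.exp (-1 : ℤ))
    (htO : t ∈ P.O) (x : k' ⊗[k] P.O) (hx : PsiO (k' := k') P ρ x = 0) :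
    ∃ x' : k' ⊗[k] P.O, x = (1 ⊗ₜ ⟨t, htO⟩) * x' := by
  set f : P.O →ₗ[k] P.O := LinearMap.mulLeft k ⟨t, htO⟩ with hf
  set g : P.O →ₗ[k] F := ρ.toLinearMap with hg
  have hfg : Function.Exact f g := by
    intro y
    constructor
    · intro hy
      have h1 : v P (y : K) < 1 := (hρ0 y).1 hy
      obtain ⟨y', hy', hyy'⟩ := exists_eq_mul_of_lt_one P ht _ h1
      exact ⟨⟨y', (mem_O_iff P y').2 hy'⟩, Subtype.ext hyy'.symm⟩
    · rintro ⟨y', rfl⟩
      apply (hρ0 _).2
      change v P (t * (y' : K)) < 1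
      rw [map_mul, ht]
      have h1 : v P (y' : K) ≤ 1 := (mem_O_iff P _).1 y'.2
      calc WithZero.exp (-1 : ℤ) * v P (y' : K) ≤ WithZero.exp (-1 : ℤ) * 1 :=
            mul_le_mul' le_rfl h1
        _ < 1 := by
          rw [mul_one, ← WithZero.exp_zero, WithZero.exp_lt_exp]; norm_num
  have hgs : Function.Surjective g := hρs
  have hex := lTensor_exact k' hfg hgs
  have hx' : (LinearMap.lTensor k' g) x = 0 := hx
  obtain ⟨x', rfl⟩ := (hex x).1 hx'
  refine ⟨x', ?_⟩
  clear hx hx'
  induction x' using TensorProduct.induction_on with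
  | zero => simp
  | tmul c a =>
    rw [LinearMap.lTensor_tmul, Algebra.TensorProduct.tmul_mul_tmul, one_mul]
    rfl
  | add x y hx hy => rw [map_add, hx, hy, mul_add]

/-- the key lemma: `O_P[k']/t` is reduced when the residue field is separable -/
theorem mem_smul_of_pow_mem [FiniteDimensional k F] [Algebra.IsSeparable k F]
    (h : Function.Bijective (Algebra.TensorProduct.productMap
      (IsScalarTower.toAlgHom k k' K') (IsScalarTower.toAlgHom k K K')))
    (P : FunFld.Place k K) (ρ : P.O →ₐ[k] F) (hρs : Function.Surjective ρ)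
    (hρ0 : ∀ y : P.O, ρ y = 0 ↔ v P (y : K) < 1)
    {t : K} (ht : v P t = WithZero.exp (-1 : ℤ))
    (r : K') (hr : r ∈ (PhiO (k' := k') (K' := K') P).range) (n : ℕ)
    (hrn : ∃ r' ∈ (PhiO (k' := k') (K' := K') P).range, r ^ n = algebraMap K K' t * r') :
    ∃ r' ∈ (PhiO (k' := k') (K' := K') P).range, r = algebraMap K K' t * r' := by
  haveI := isReduced_tensor_of_isSeparable k k' F
  have htO : t ∈ P.O := by
    rw [mem_O_iff, ht, ← WithZero.exp_zero, WithZero.exp_le_exp]; norm_num
  obtain ⟨ρ₀, rfl⟩ := (AlgHom.mem_range _).1 hr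
  obtain ⟨r', hr', hrn⟩ := hrn
  obtain ⟨ρ', rfl⟩ := (AlgHom.mem_range _).1 hr'
  have hΦt : PhiO (k' := k') (K' := K') P (1 ⊗ₜ ⟨t, htO⟩) = algebraMap K K' t := by
    rw [PhiO_tmul, map_one, one_mul]
  rw [← hΦt, ← map_pow, ← map_mul] at hrn
  have h1 := PhiO_injective h P hrn
  have h2 : PsiO (k' := k') P ρ ρ₀ ^ n = 0 := by
    rw [← map_pow, h1, map_mul]
    have : PsiO (k' := k') P ρ (1 ⊗ₜ ⟨t, htO⟩) = 0 := by
      change Algebra.TensorProduct.map (AlgHom.id k k') ρ (1 ⊗ₜ ⟨t, htO⟩) = 0
      rw [Algebra.TensorProduct.map_tmul]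
      have : ρ ⟨t, htO⟩ = 0 := (hρ0 _).2 (by
        change v P t < 1
        rw [ht, ← WithZero.exp_zero, WithZero.exp_lt_exp]; norm_num)
      rw [this, TensorProduct.tmul_zero]
    rw [this, zero_mul]
  have h3 : PsiO (k' := k') P ρ ρ₀ = 0 := IsReduced.eq_zero _ ⟨n, h2⟩
  obtain ⟨x', hx'⟩ := PsiO_eq_zero P ρ hρs hρ0 ht htO ρ₀ h3
  refine ⟨PhiO P x', (AlgHom.mem_range _).2 ⟨x', rfl⟩, ?_⟩
  rw [hx', map_mul, hΦt]

theorem algebraMap_mem_range_PhiO (P : FunFld.Place k K) (a : P.O) :
    algebraMap K K' a.1 ∈ (PhiO (k' := k') (K' := K') P).range :=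
  (AlgHom.mem_range _).2 ⟨1 ⊗ₜ a, by rw [PhiO_tmul, map_one, one_mul]⟩

theorem const_mem_range_PhiO (P : FunFld.Place k K) (c : k') :
    algebraMap k' K' c ∈ (PhiO (k' := k') (K' := K') P).range :=
  (AlgHom.mem_range _).2 ⟨c ⊗ₜ 1, by
    rw [PhiO_tmul]
    simp⟩

theorem exists_pow_mul_le_one (P : FunFld.Place k K) {t : K} (ht : v P t = WithZero.exp (-1 : ℤ))
    (y : K) : ∃ m : ℕ, ∀ m' : ℕ, m ≤ m' → v P (t ^ m' * y) ≤ 1 := by
  rcases eq_or_ne y 0 with rfl | hy0
  · exact ⟨0, fun m' _ => by simp⟩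
  refine ⟨(-P.ord y).toNat, fun m' hm' => ?_⟩
  rw [map_mul, map_pow, ht, v_eq_exp_neg_ord P hy0, ← WithZero.exp_nsmul, ← WithZero.exp_add,
    ← WithZero.exp_zero, WithZero.exp_le_exp]
  have := Int.self_le_toNat (-P.ord y)
  simp only [nsmul_eq_mul]
  have h2 : ((-P.ord y).toNat : ℤ) ≤ (m' : ℤ) := by exact_mod_cast hm'
  linarith

/-- `K' = O_P[k'][1/t]` -/
theorem exists_pow_mul_mem_range [FiniteDimensional k k']
    (h : Function.Bijective (Algebra.TensorProduct.productMap
      (IsScalarTower.toAlgHom k k' K') (IsScalarTower.toAlgHom k K K')))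
    (P : FunFld.Place k K) {t : K} (ht : v P t = WithZero.exp (-1 : ℤ)) (z : K') :
    ∃ m : ℕ, algebraMap K K' t ^ m * z ∈ (PhiO (k' := k') (K' := K') P).range := by
  classical
  let b := Module.finBasis k k'
  set B := cBasis (K := K) (K' := K') b h with hB
  have hex : ∀ i, ∃ m : ℕ, ∀ m' : ℕ, m ≤ m' → v P (t ^ m' * B.repr z i) ≤ 1 :=
    fun i => exists_pow_mul_le_one P ht _
  choose m hm using hex
  refine ⟨Finset.univ.sup m, ?_⟩
  set M := Finset.univ.sup m with hM
  have hz : z = ∑ i, (B.repr z i) • B i := (B.sum_repr z).symm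
  have : algebraMap K K' t ^ M * z =
      ∑ i, algebraMap K K' (t ^ M * B.repr z i) * algebraMap k' K' (b i) := by
    conv_lhs => rw [hz]
    rw [Finset.mul_sum]
    refine Finset.sum_congr rfl fun i _ => ?_
    rw [Algebra.smul_def, hB, cBasis_apply, map_mul, map_pow]
    ring
  rw [this]
  refine Subalgebra.sum_mem _ fun i _ => ?_
  refine mul_mem ?_ (const_mem_range_PhiO P _)
  have hle := hm i M (Finset.le_sup (Finset.mem_univ i))
  exact algebraMap_mem_range_PhiO P ⟨_, (mem_O_iff P _).2 hle⟩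

/-- if `t w` lies in `O_P[k']` with `w` integral then `(t w)^n ∈ t O_P[k']` for some `n` -/
theorem pow_mem_smul_of_isIntegral (P : FunFld.Place k K) [Algebra P.O K'] [IsScalarTower P.O K K']
    {t : K} (htO : t ∈ P.O) (w : K') (hw : IsIntegral P.O w)
    (hr : algebraMap K K' t * w ∈ (PhiO (k' := k') (K' := K') P).range) :
    ∃ n : ℕ, ∃ r' ∈ (PhiO (k' := k') (K' := K') P).range,
      (algebraMap K K' t * w) ^ n = algebraMap K K' t * r' := by
  classical
  obtain ⟨p, hpm, hp⟩ := hw
  set r := algebraMap K K' t * w with hr_def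
  set tO : P.O := ⟨t, htO⟩ with htO_def
  have hta : algebraMap P.O K' tO = algebraMap K K' t := by
    rw [IsScalarTower.algebraMap_apply P.O K K']; rfl
  have hq : eval₂ (algebraMap P.O K') r (scaleRoots p tO) = 0 := by
    rw [hr_def, ← hta]
    exact scaleRoots_eval₂_eq_zero _ hp
  set n := p.natDegree with hn
  refine ⟨n, ?_⟩
  rw [eval₂_eq_sum_range, natDegree_scaleRoots, ← hn, Finset.sum_range_succ] at hq
  have hlead : (scaleRoots p tO).coeff n = 1 := by
    rw [coeff_scaleRoots, ← hn, Nat.sub_self, pow_zero, mul_one, hn]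
    exact hpm.coeff_natDegree
  rw [hlead, map_one, one_mul] at hq
  have hrn : r ^ n = -∑ i ∈ Finset.range n,
      algebraMap P.O K' ((scaleRoots p tO).coeff i) * r ^ i := by
    rw [eq_neg_iff_add_eq_zero, add_comm]; exact hq
  refine ⟨-∑ i ∈ Finset.range n, algebraMap P.O K' (p.coeff i * tO ^ (n - i - 1)) * r ^ i,
    ?_, ?_⟩
  · refine neg_mem (Subalgebra.sum_mem _ fun i _ => ?_)
    refine mul_mem ?_ (pow_mem hr i)
    have : algebraMap P.O K' (p.coeff i * tO ^ (n - i - 1)) =
        algebraMap K K' ((p.coeff i * tO ^ (n - i - 1) : P.O) : K) := by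
      rw [IsScalarTower.algebraMap_apply P.O K K']; rfl
    rw [this]
    exact algebraMap_mem_range_PhiO P _
  · rw [hrn, mul_neg, Finset.mul_sum]
    congr 1
    refine Finset.sum_congr rfl fun i hi => ?_
    have hi' : i < n := Finset.mem_range.1 hi
    rw [coeff_scaleRoots, ← hn]
    have : tO ^ (n - i) = tO * tO ^ (n - i - 1) := by
      rw [← pow_succ']; congr 1; omega
    rw [this, map_mul, map_mul, map_mul, hta]
    ring

/-- S11018: places with separable residue field are nonsingular -/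
theorem integralClosure_le_range_PhiO [FiniteDimensional k k']
    [FiniteDimensional k F] [Algebra.IsSeparable k F]
    (h : Function.Bijective (Algebra.TensorProduct.productMap
      (IsScalarTower.toAlgHom k k' K') (IsScalarTower.toAlgHom k K K')))
    (P : FunFld.Place k K) (ρ : P.O →ₐ[k] F) (hρs : Function.Surjective ρ)
    (hρ0 : ∀ y : P.O, ρ y = 0 ↔ v P (y : K) < 1)
    [Algebra P.O K'] [IsScalarTower P.O K K'] (z : K') (hz : IsIntegral P.O z) :
    z ∈ (PhiO (k' := k') (K' := K') P).range := by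
  obtain ⟨t, ht⟩ := exists_uniformizer P
  have htO : t ∈ P.O := by
    rw [mem_O_iff, ht, ← WithZero.exp_zero, WithZero.exp_le_exp]; norm_num
  have ht0 : algebraMap K K' t ≠ 0 := by
    intro h0
    have : t = 0 := by simpa using h0
    rw [this, map_zero] at ht
    exact WithZero.exp_ne_zero.symm ht
  have htint : IsIntegral P.O (algebraMap K K' t) := by
    have : algebraMap K K' t = algebraMap P.O K' ⟨t, htO⟩ := by
      rw [IsScalarTower.algebraMap_apply P.O K K']; rfl
    rw [this]
    exact isIntegral_algebraMap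
  obtain ⟨m, hm⟩ := exists_pow_mul_mem_range h P ht z
  induction m generalizing z with
  | zero => simpa using hm
  | succ m ih =>
    set w := algebraMap K K' t ^ m * z with hw
    have hwint : IsIntegral P.O w := (htint.pow m).mul hz
    have hr : algebraMap K K' t * w ∈ (PhiO (k' := k') (K' := K') P).range := by
      rw [hw, ← mul_assoc, ← pow_succ']; exact hm
    obtain ⟨n, hrn⟩ := pow_mem_smul_of_isIntegral P htO w hwint hr
    obtain ⟨r', hr', hrr'⟩ := mem_smul_of_pow_mem h P ρ hρs hρ0 ht _ hr n hrn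
    have : w = r' := mul_left_cancel₀ ht0 hrr'
    rw [← this] at hr'
    exact ih z hz hr'

end NS

end Groth.Agent.Lib.Helper2.FF
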