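import Mathlib
import Groth.Agent.Lib.Helper2.FunFld.NonSing
import Groth.Agent.Lib.Helper2.FunFld.CF2
import Groth.Agent.Lib.Helper2.FunFld.IntCl2

set_option autoImplicit false
open scoped WithZero IntermediateField TensorProduct
open FunFld Polynomial

namespace Groth.Agent.Lib.Helper2.FF

section Transfer

/-- integrality over the image subring of a ring hom -/
theorem isIntegral_map_subring_iff {R S : Type*} [CommRing R] [CommRing S] (f : R →+* S)
    (A : Subring S) (hA : A = f.range) (z : S) :
    IsIntegral A z ↔ f.IsIntegralElem z := by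
  subst hA
  constructor
  · rintro ⟨q, hq, hz⟩
    have hsurj : Function.Surjective f.rangeRestrict := f.rangeRestrict_surjective
    have hlift : q ∈ Polynomial.lifts f.rangeRestrict := by
      rw [Polynomial.mem_lifts]
      exact Polynomial.map_surjective _ hsurj q
    obtain ⟨p, hp, -, hpm⟩ := Polynomial.lifts_and_natDegree_eq_and_monic hlift hq
    refine ⟨p, hpm, ?_⟩
    rw [← hp, Polynomial.eval₂_map] at hz
    exact hz
  · rintro ⟨p, hp, hz⟩
    refine ⟨p.map f.rangeRestrict, hp.map _, ?_⟩
    rw [Polynomial.eval₂_map]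
    exact hz

end Transfer

section IC

variable {k K K' : Type*} [Field k] [Field K] [Field K'] [Algebra k K] [Algebra K K'] [Algebra k K']
  [IsScalarTower k K K']

/-- the integral closure of (the image of) `O_P` in a finite extension is the intersection of the
valuation rings above `P` -/
theorem mem_integralClosure_map_iff [FiniteDimensional K K'] (hK : IsFunctionField k K)
    (P : FunFld.Place k K) (z : K') :
    z ∈ integralClosure (P.O.toSubring.map (algebraMap K K')) K' ↔
      ∀ Q : FunFld.Place k K', IsOver Q P → v Q z ≤ 1 := by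
  letI : Algebra P.O K' := ((algebraMap K K').comp P.O.subtype).toAlgebra
  haveI : IsScalarTower P.O K K' := IsScalarTower.of_algebraMap_eq (fun _ => rfl)
  rw [mem_integralClosure_iff]
  have hA : P.O.toSubring.map (algebraMap K K') = (algebraMap P.O K').range := by
    ext y
    constructor
    · rintro ⟨a, ha, rfl⟩
      exact ⟨⟨a, ha⟩, rfl⟩
    · rintro ⟨a, rfl⟩
      exact ⟨a.1, a.2, rfl⟩
  rw [isIntegral_map_subring_iff (algebraMap P.O K') _ hA]
  change IsIntegral P.O z ↔ _
  rw [← mem_integralClosure_iff, integralClosure_eq_BP P hK, mem_BP]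
  exact ⟨fun h Q hQ => h ⟨Q, hQ⟩, fun h i => h i.1 i.2⟩

end IC

section ConstBasis

variable {k K K' : Type*} [Field k] [Field K] [Field K'] [Algebra k K] [Algebra K K'] [Algebra k K']
  [IsScalarTower k K K']

/-- a `K`-basis of `K'` consisting of constants, with constant structure coefficients -/
structure IsConstBasis (k' : Type*) [Field k'] [Algebra k' K'] {ι : Type*}
    (B : Module.Basis ι K K') : Prop where
  mem : ∀ i, B i ∈ Set.range (algebraMap k' K')
  repr_const : ∀ (c : k') (i : ι), B.repr (algebraMap k' K' c) i ∈ Set.range (algebraMap k K)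

variable {k' : Type*} [Field k'] [Algebra k' K'] {ι : Type*} [Fintype ι]
  {B : Module.Basis ι K K'}

omit [IsScalarTower k K K'] in
theorem IsConstBasis.v_repr_const (hB : IsConstBasis (k := k) k' B) (P : FunFld.Place k K)
    (c : k') (i : ι) : v P (B.repr (algebraMap k' K' c) i) ≤ 1 := by
  obtain ⟨a, ha⟩ := hB.repr_const c i
  rw [← ha]
  exact P.2.1 a

omit [IsScalarTower k K K'] in
theorem IsConstBasis.v_repr_mul (hB : IsConstBasis (k := k) k' B) (P : FunFld.Place k K)
    {x y : K'} (hx : ∀ i, v P (B.repr x i) ≤ 1) (hy : ∀ i, v P (B.repr y i) ≤ 1) (l : ι) :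
    v P (B.repr (x * y) l) ≤ 1 := by
  have hxy : x * y = ∑ i, ∑ j, (B.repr x i * B.repr y j) • (B i * B j) := by
    conv_lhs => rw [← B.sum_repr x, ← B.sum_repr y]
    rw [Finset.sum_mul_sum]
    refine Finset.sum_congr rfl fun i _ => Finset.sum_congr rfl fun j _ => ?_
    rw [smul_mul_smul_comm]
  rw [hxy]
  simp only [map_sum, map_smul, Finsupp.coe_finsetSum, Finset.sum_apply, Finsupp.coe_smul,
    Pi.smul_apply, smul_eq_mul]
  refine Valuation.map_sum_le _ fun i _ => Valuation.map_sum_le _ fun j _ => ?_
  obtain ⟨ci, hci⟩ := hB.mem i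
  obtain ⟨cj, hcj⟩ := hB.mem j
  rw [← hci, ← hcj, ← map_mul, map_mul (v P), map_mul (v P)]
  exact mul_le_one' (mul_le_one' (hx i) (hy j)) (hB.v_repr_const P _ l)

theorem mem_adjoin_iff_repr (hB : IsConstBasis (k := k) k' B) (P : FunFld.Place k K) (z : K') :
    z ∈ Algebra.adjoin (P.O.toSubring.map (algebraMap K K')) (Set.range (algebraMap k' K')) ↔
      ∀ i, v P (B.repr z i) ≤ 1 := by
  constructor
  · intro hz
    induction hz using Algebra.adjoin_induction with
    | mem x hx =>
      obtain ⟨c, rfl⟩ := hx
      exact fun i => hB.v_repr_const P c i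
    | algebraMap a =>
      obtain ⟨a0, ha0, ha⟩ := a.2
      intro i
      have h1 : algebraMap (P.O.toSubring.map (algebraMap K K')) K' a = a0 • (1 : K') := by
        rw [Algebra.smul_def, mul_one]
        exact ha.symm
      rw [h1, map_smul, Finsupp.smul_apply, smul_eq_mul, map_mul]
      have h2 : v P (B.repr (1 : K') i) ≤ 1 := by
        have := hB.v_repr_const P 1 i
        rwa [map_one] at this
      exact mul_le_one' ((mem_O_iff P _).1 ha0) h2
    | add x y _ _ hx hy =>
      intro i
      rw [map_add, Finsupp.add_apply]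
      exact (Valuation.map_add _ _ _).trans (max_le (hx i) (hy i))
    | mul x y _ _ hx hy => exact fun l => hB.v_repr_mul P hx hy l
  · intro h
    rw [← B.sum_repr z]
    refine Subalgebra.sum_mem _ fun i _ => ?_
    rw [Algebra.smul_def]
    refine mul_mem ?_ (Algebra.subset_adjoin (hB.mem i))
    have : algebraMap K K' (B.repr z i) =
        algebraMap (P.O.toSubring.map (algebraMap K K')) K'
          ⟨algebraMap K K' (B.repr z i), ⟨B.repr z i, (mem_O_iff P _).2 (h i), rfl⟩⟩ := rfl
    rw [this]
    exact Subalgebra.algebraMap_mem _ _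

end ConstBasis

section ConstBasis2

variable {k k' K K' : Type*} [Field k] [Field k'] [Field K] [Field K']
    [Algebra k k'] [Algebra k K] [Algebra K K'] [Algebra k' K'] [Algebra k K']
    [IsScalarTower k k' K'] [IsScalarTower k K K']

theorem cBasis_repr_const {ι : Type*} [Fintype ι] (b : Module.Basis ι k k')
    (h : Function.Bijective (Algebra.TensorProduct.productMap
      (IsScalarTower.toAlgHom k k' K') (IsScalarTower.toAlgHom k K K'))) (c : k') (i : ι) :
    (cBasis (K := K) (K' := K') b h).repr (algebraMap k' K' c) i = algebraMap k K (b.repr c i) := by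
  have h2 : algebraMap k' K' c =
      ∑ i, (algebraMap k K (b.repr c i)) • cBasis (K := K) (K' := K') b h i := by
    conv_lhs => rw [← b.sum_repr c, map_sum]
    refine Finset.sum_congr rfl fun i _ => ?_
    rw [cBasis_apply, Algebra.smul_def, Algebra.smul_def, map_mul,
      ← IsScalarTower.algebraMap_apply k k' K', ← IsScalarTower.algebraMap_apply k K K']
  conv_lhs => rw [h2]
  rw [Module.Basis.repr_sum_self]

theorem isConstBasis_cBasis {ι : Type*} [Fintype ι] (b : Module.Basis ι k k')
    (h : Function.Bijective (Algebra.TensorProduct.productMap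
      (IsScalarTower.toAlgHom k k' K') (IsScalarTower.toAlgHom k K K'))) :
    IsConstBasis (k := k) k' (cBasis (K := K) (K' := K') b h) where
  mem i := ⟨b i, (cBasis_apply b h i).symm⟩
  repr_const c i := ⟨b.repr c i, (cBasis_repr_const b h c i).symm⟩

variable {k'' K'' : Type*} [Field k''] [Field K''] [Algebra k' k''] [Algebra K' K''] [Algebra k'' K'']
  [Algebra k' K''] [Algebra K K''] [Algebra k K''] [IsScalarTower k' k'' K'']
  [IsScalarTower k' K' K''] [IsScalarTower K K' K''] [IsScalarTower k K K'']

theorem IsConstBasis.smulTower {ι κ : Type*} {B' : Module.Basis ι K K'}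
    {B'' : Module.Basis κ K' K''} (hB' : IsConstBasis (k := k) k' B')
    (hB'' : IsConstBasis (k := k') k'' B'') :
    IsConstBasis (k := k) k'' (B'.smulTower B'') where
  mem := by
    rintro ⟨i, j⟩
    obtain ⟨ci, hci⟩ := hB'.mem i
    obtain ⟨dj, hdj⟩ := hB''.mem j
    refine ⟨algebraMap k' k'' ci * dj, ?_⟩
    rw [Module.Basis.smulTower_apply, Algebra.smul_def, ← hci, ← hdj, map_mul,
      ← IsScalarTower.algebraMap_apply k' k'' K'', ← IsScalarTower.algebraMap_apply k' K' K'']
  repr_const := by
    rintro c ⟨i, j⟩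
    rw [Module.Basis.smulTower_repr]
    obtain ⟨c', hc'⟩ := hB''.repr_const c j
    simp only
    rw [← hc']
    exact hB'.repr_const c' i

end ConstBasis2

section NSv

variable {k k' K K' : Type*} [Field k] [Field k'] [Field K] [Field K']
    [Algebra k k'] [Algebra k K] [Algebra K K'] [Algebra k' K'] [Algebra k K']
    [IsScalarTower k k' K'] [IsScalarTower k K K']

/-- coordinates in `O_P` imply integrality at all places above `P` -/
theorem v_le_one_of_repr [Algebra.IsAlgebraic k k'] {ι : Type*} [Fintype ι]
    {B : Module.Basis ι K K'} (hB : IsConstBasis (k := k) k' B) (P : FunFld.Place k K)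
    {z : K'} (hz : ∀ i, v P (B.repr z i) ≤ 1) (Q : FunFld.Place k K') (hQ : IsOver Q P) :
    v Q z ≤ 1 := by
  rw [← B.sum_repr z]
  refine Valuation.map_sum_le _ fun i _ => ?_
  rw [Algebra.smul_def, map_mul]
  obtain ⟨e, he⟩ := hQ
  obtain ⟨c, hc⟩ := hB.mem i
  refine mul_le_one' ?_ ?_
  · change Q.1 _ ≤ 1
    rw [he]
    exact pow_le_one' (hz i) e
  · rw [← hc]
    exact v_algebraMap_const_le Q c

/-- nonsingularity with respect to `k'` in terms of coordinates -/
theorem ns_iff [Algebra.IsAlgebraic k k'] [FiniteDimensional K K'] (hK : IsFunctionField k K)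
    {ι : Type*} [Fintype ι] {B : Module.Basis ι K K'} (hB : IsConstBasis (k := k) k' B)
    (P : FunFld.Place k K) :
    integralClosure (P.O.toSubring.map (algebraMap K K')) K' =
        Algebra.adjoin (P.O.toSubring.map (algebraMap K K')) (Set.range (algebraMap k' K')) ↔
      ∀ z : K', (∀ Q : FunFld.Place k K', IsOver Q P → v Q z ≤ 1) → ∀ i, v P (B.repr z i) ≤ 1 := by
  constructor
  · intro h z hz
    rw [← mem_adjoin_iff_repr hB P z, ← h, mem_integralClosure_map_iff hK]
    exact hz
  · intro h
    ext z
    rw [mem_integralClosure_map_iff hK, mem_adjoin_iff_repr hB P z]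
    exact ⟨h z, fun hz Q hQ => v_le_one_of_repr hB P hz Q hQ⟩

end NSv

end Groth.Agent.Lib.Helper2.FF
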