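import Mathlib
import Groth.Agent.Lib.Helper2.FunFld.NS2
import Groth.Agent.Lib.Helper2.FunFld.WeakApprox
import Groth.Agent.S11006

set_option autoImplicit false
open scoped WithZero IntermediateField TensorProduct
open FunFld Polynomial

namespace Groth.Agent.Lib.Helper2.FF

section Mid

variable {k k' K K' K'' : Type*} [Field k] [Field k'] [Field K] [Field K'] [Field K'']
    [Algebra k K] [Algebra K K'] [Algebra k' K'] [Algebra k K']
    [IsScalarTower k K K']
    [Algebra K' K''] [Algebra k' K''] [Algebra k K''] [Algebra K K'']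
    [IsScalarTower k' K' K''] [IsScalarTower K K' K''] [IsScalarTower k K K'']

/-- a place of `K''` above `P` lies above a place of `K'` above `P` -/
theorem exists_isOver_mid [FiniteDimensional K K'] [FiniteDimensional K' K'']
    (hK : IsFunctionField k K) (hK' : IsFunctionField k' K')
    (hk' : ∀ (R : FunFld.Place k K'') (c : k'), R.1 (algebraMap k' K'' c) ≤ 1)
    (P : FunFld.Place k K) (R : FunFld.Place k K'') (hR : IsOver R P) :
    ∃ (Q : FunFld.Place k K') (e₂ : ℕ), IsOver Q P ∧ 1 ≤ e₂ ∧
      ∀ x : K', R.1 (algebraMap K' K'' x) = Q.1 x ^ e₂ := by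
  obtain ⟨e, he⟩ := hR
  let R' : FunFld.Place k' K'' := ⟨R.1, hk' R, R.2.2⟩
  obtain ⟨Q', e₂, he₂⟩ := exists_isOverWith (k := k') (K := K') (K' := K'') hK' R'
  have hQk : ∀ c : k, Q'.1 (algebraMap k K' c) ≤ 1 := by
    intro c
    have h1 := he₂ (algebraMap k K' c)
    have h2 : R'.1 (algebraMap K' K'' (algebraMap k K' c)) ≤ 1 := by
      have : algebraMap K' K'' (algebraMap k K' c) = algebraMap k K'' c := by
        rw [IsScalarTower.algebraMap_apply k K K', ← IsScalarTower.algebraMap_apply K K' K'',
          ← IsScalarTower.algebraMap_apply k K K'']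
      rw [this]
      exact R.2.1 c
    rw [h1] at h2
    by_contra hcon
    push Not at hcon
    have h3 : 1 ≤ e₂ := isOverWith_one_le he₂
    have : 1 < Q'.1 (algebraMap k K' c) ^ e₂ := one_lt_pow' hcon (by omega)
    exact absurd h2 (not_le.2 this)
  let Q : FunFld.Place k K' := ⟨Q'.1, hQk, Q'.2.2⟩
  obtain ⟨P₀, e₀, he₀⟩ := exists_isOverWith hK Q
  have hRP₀ : IsOverWith R P₀ (e₀ * e₂) := by
    intro x
    rw [IsScalarTower.algebraMap_apply K K' K'']
    have h1 := he₂ (algebraMap K K' x)
    have h2 := he₀ x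
    change R.1 _ = _
    change R.1 _ = Q'.1 _ ^ e₂ at h1
    change Q'.1 _ = _ at h2
    rw [h1, h2, pow_mul]
  have hPP : P₀ = P := isOverWith_unique hRP₀ he
  subst hPP
  exact ⟨Q, e₂, ⟨e₀, he₀⟩, isOverWith_one_le he₂, he₂⟩

end Mid

section Repr'

variable {k k' K K' : Type*} [Field k] [Field k'] [Field K] [Field K']
    [Algebra k K] [Algebra K K'] [Algebra k' K'] [Algebra k K']

/-- coordinates in `O_P` imply integrality at all places above `P` -/
theorem v_le_one_of_repr' {ι : Type*} [Fintype ι]
    {B : Module.Basis ι K K'} (hB : IsConstBasis (k := k) k' B)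
    (hk'Q : ∀ (Q : FunFld.Place k K') (c : k'), Q.1 (algebraMap k' K' c) ≤ 1)
    (P : FunFld.Place k K)
    {z : K'} (hz : ∀ i, v P (B.repr z i) ≤ 1) (Q : FunFld.Place k K') (hQ : IsOver Q P) :
    v Q z ≤ 1 := by
  rw [← B.sum_repr z]
  refine Valuation.map_sum_le _ fun i _ => ?_
  rw [Algebra.smul_def, map_mul]
  obtain ⟨e, he⟩ := hQ
  obtain ⟨c, hc⟩ := hB.mem i
  refine mul_le_one' ?_ ?_
  · change Q.1 _ ≤ 1
    rw [he]
    exact pow_le_one' (hz i) e
  · rw [← hc]
    exact hk'Q Q c

end Repr'

section Tower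

variable {k k' k'' K K' K'' : Type*} [Field k] [Field k'] [Field k''] [Field K] [Field K']
    [Field K'']
    [Algebra k K] [Algebra K K'] [Algebra k' K'] [Algebra k K']
    [IsScalarTower k K K']
    [Algebra K' K''] [Algebra k'' K''] [Algebra k' K''] [Algebra k K''] [Algebra K K'']
    [IsScalarTower k' K' K''] [IsScalarTower K K' K''] [IsScalarTower k K K'']

/-- `R` lies over `Q` (places over the same base field `k`, for the extension `K''/K'`) -/
def OverK (R : FunFld.Place k K'') (Q : FunFld.Place k K') : Prop :=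
  ∃ e : ℕ, ∀ x : K', R.1 (algebraMap K' K'' x) = Q.1 x ^ e

omit [Algebra k' K'] [Algebra k' K''] [IsScalarTower k' K' K''] [IsScalarTower k K K'] in
theorem isOver_of_overK {R : FunFld.Place k K''} {Q : FunFld.Place k K'} {P : FunFld.Place k K}
    (h : OverK R Q) (hQ : IsOver Q P) : IsOver R P := by
  obtain ⟨e₂, he₂⟩ := h
  obtain ⟨e₁, he₁⟩ := hQ
  refine ⟨e₁ * e₂, fun x => ?_⟩
  rw [IsScalarTower.algebraMap_apply K K' K'', he₂, he₁ x, pow_mul]

set_option maxHeartbeats 1000000 in
/-- **nonsingularity in towers of constant field extensions**, valuation form -/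
theorem ns_tower_val [FiniteDimensional K K'] [FiniteDimensional K' K''] [FiniteDimensional K K'']
    (hK : IsFunctionField k K) (hK' : IsFunctionField k' K')
    (hk'R : ∀ (R : FunFld.Place k K'') (c : k'), R.1 (algebraMap k' K'' c) ≤ 1)
    (hk'Q : ∀ (Q : FunFld.Place k K') (c : k'), Q.1 (algebraMap k' K' c) ≤ 1)
    {ι κ : Type*} [Fintype ι] [Fintype κ] {B' : Module.Basis ι K K'}
    {B'' : Module.Basis κ K' K''} (hB' : IsConstBasis (k := k) k' B')
    (hB'' : IsConstBasis (k := k') k'' B'') (P : FunFld.Place k K) :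
    (∀ z : K'', (∀ R : FunFld.Place k K'', IsOver R P → v R z ≤ 1) →
        ∀ ij, v P ((B'.smulTower B'').repr z ij) ≤ 1) ↔
      ((∀ z : K', (∀ Q : FunFld.Place k K', IsOver Q P → v Q z ≤ 1) →
          ∀ i, v P (B'.repr z i) ≤ 1) ∧
        ∀ Q : FunFld.Place k K', IsOver Q P →
          ∀ z : K'', (∀ R : FunFld.Place k K'', OverK R Q → v R z ≤ 1) →
            ∀ j, v Q (B''.repr z j) ≤ 1) := by
  classical
  constructor
  · intro N1
    constructor
    · -- N2
      intro z hz
      have hz'' : ∀ R : FunFld.Place k K'', IsOver R P → v R (algebraMap K' K'' z) ≤ 1 := by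
        intro R hR
        obtain ⟨Q, e₂, hQP, -, he₂⟩ := exists_isOver_mid hK hK' hk'R P R hR
        change R.1 _ ≤ 1
        rw [he₂]
        exact pow_le_one' (hz Q hQP) e₂
      have h1 := N1 _ hz''
      -- coordinates of `z • 1`
      obtain ⟨j, hj⟩ : ∃ j, B''.repr (1 : K'') j ≠ 0 := by
        by_contra hcon
        push Not at hcon
        have : (1 : K'') = 0 := by
          rw [← B''.sum_repr 1]
          exact Finset.sum_eq_zero fun j _ => by rw [hcon j, zero_smul]
        exact one_ne_zero this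
      obtain ⟨c, hc⟩ : ∃ c : k', algebraMap k' K' c = B''.repr (1 : K'') j := by
        have := hB''.repr_const 1 j
        rw [map_one] at this
        exact this
      have hc0 : c ≠ 0 := by
        intro h0
        rw [h0, map_zero] at hc
        exact hj hc.symm
      have hw : ∀ i, v P (B'.repr (z * algebraMap k' K' c) i) ≤ 1 := by
        intro i
        have := h1 (i, j)
        rw [Module.Basis.smulTower_repr] at this
        have e : algebraMap K' K'' z = z • (1 : K'') := by rw [Algebra.smul_def, mul_one]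
        rw [e, map_smul, Finsupp.smul_apply, smul_eq_mul, ← hc] at this
        exact this
      rw [← mem_adjoin_iff_repr hB' P] at hw ⊢
      have h2 : z = (z * algebraMap k' K' c) * algebraMap k' K' c⁻¹ := by
        rw [mul_assoc, ← map_mul, mul_inv_cancel₀ hc0, map_one, mul_one]
      rw [h2]
      exact mul_mem hw (Algebra.subset_adjoin ⟨_, rfl⟩)
    · -- N3
      intro Q hQP z hz j
      have hfin' : {Q₁ : FunFld.Place k K' | IsOver Q₁ P}.Finite := finite_isOver hK P
      have hfin'' : {R : FunFld.Place k K'' | IsOver R P}.Finite := finite_isOver hK P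
      -- a bound for `z` at the places over `P`
      obtain ⟨N, hN⟩ : ∃ N : ℕ, ∀ R : FunFld.Place k K'', IsOver R P →
          v R z ≤ WithZero.exp (N : ℤ) := by
        refine ⟨∑ R ∈ hfin''.toFinset, (WithZero.log (v R z)).toNat, fun R hR => ?_⟩
        rcases eq_or_ne (v R z) 0 with h0 | h0
        · rw [h0]; exact zero_le
        rw [← WithZero.exp_log h0, WithZero.exp_le_exp]
        have h1 : (WithZero.log (v R z)).toNat ≤
            ∑ R ∈ hfin''.toFinset, (WithZero.log (v R z)).toNat :=
          Finset.single_le_sum (f := fun R : FunFld.Place k K'' => (WithZero.log (v R z)).toNat)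
            (fun _ _ => Nat.zero_le _) (hfin''.mem_toFinset.2 hR)
        have h2 := Int.self_le_toNat (WithZero.log (v R z))
        have h3 : ((WithZero.log (v R z)).toNat : ℤ) ≤
            ((∑ R ∈ hfin''.toFinset, (WithZero.log (v R z)).toNat : ℕ) : ℤ) := by
          exact_mod_cast h1
        exact h2.trans h3
      haveI : Finite {Q₁ : FunFld.Place k K' | IsOver Q₁ P} := hfin'.to_subtype
      obtain ⟨s, hs⟩ := weak_approx
        (fun i : {Q₁ : FunFld.Place k K' | IsOver Q₁ P} => (i : FunFld.Place k K'))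
        Subtype.val_injective (fun i => if (i : FunFld.Place k K') = Q then 1 else 0)
        (fun i => if (i : FunFld.Place k K') = Q then 0 else -(N : ℤ))
      have hsQ : v Q s = 1 := by
        have := hs ⟨Q, hQP⟩
        simp only [if_true, WithZero.exp_zero] at this
        have e : s = (s - 1) + 1 := by ring
        rw [e, Valuation.map_add_eq_of_lt_right, map_one]
        rw [map_one]; exact this
      have hsQ₁ : ∀ Q₁ : FunFld.Place k K', IsOver Q₁ P → Q₁ ≠ Q →
          v Q₁ s ≤ WithZero.exp (-(N : ℤ)) := by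
        intro Q₁ hQ₁ hne
        have := hs ⟨Q₁, hQ₁⟩
        simp only [if_neg hne, sub_zero] at this
        exact this.le
      -- `s z` is integral over `P`
      have hsz : ∀ R : FunFld.Place k K'', IsOver R P → v R (s • z) ≤ 1 := by
        intro R hR
        obtain ⟨Q₁, e₂, hQ₁P, he₂1, he₂⟩ := exists_isOver_mid hK hK' hk'R P R hR
        rw [Algebra.smul_def, map_mul]
        change R.1 _ * _ ≤ 1
        rw [he₂]
        by_cases hQQ : Q₁ = Q
        · subst hQQ
          have h1 : Q₁.1 s = 1 := hsQ
          rw [h1, one_pow, one_mul]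
          exact hz R ⟨e₂, he₂⟩
        · have h1 : Q₁.1 s ≤ WithZero.exp (-(N : ℤ)) := hsQ₁ Q₁ hQ₁P hQQ
          have h2 : Q₁.1 s ^ e₂ ≤ WithZero.exp (-(N : ℤ)) := by
            calc Q₁.1 s ^ e₂ ≤ WithZero.exp (-(N : ℤ)) ^ e₂ := pow_le_pow_left' h1 e₂
              _ ≤ WithZero.exp (-(N : ℤ)) ^ 1 := by
                  apply pow_le_pow_right_of_le_one' _ he₂1
                  rw [← WithZero.exp_zero, WithZero.exp_le_exp]; omega
              _ = _ := pow_one _
          calc Q₁.1 s ^ e₂ * v R z ≤ WithZero.exp (-(N : ℤ)) * WithZero.exp (N : ℤ) :=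
                mul_le_mul' h2 (hN R hR)
            _ = 1 := by rw [← WithZero.exp_add]; simp
      have h1 := N1 _ hsz
      have h2 : ∀ i, v P (B'.repr (s * B''.repr z j) i) ≤ 1 := by
        intro i
        have := h1 (i, j)
        rw [Module.Basis.smulTower_repr, map_smul, Finsupp.smul_apply, smul_eq_mul] at this
        exact this
      have h3 : v Q (s * B''.repr z j) ≤ 1 := v_le_one_of_repr' hB' hk'Q P h2 Q hQP
      rw [map_mul, hsQ, one_mul] at h3
      exact h3
  · rintro ⟨N2, N3⟩ z hz ⟨i, j⟩
    rw [Module.Basis.smulTower_repr]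
    apply N2
    intro Q hQP
    apply N3 Q hQP z
    intro R hRQ
    exact hz R (isOver_of_overK hRQ hQP)

end Tower

end Groth.Agent.Lib.Helper2.FF
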