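import Mathlib
import Groth.Agent.Lib.Helper2.FunFld.NS3
import Groth.Agent.Lib.Helper2.Tate.TD1

set_option autoImplicit false
open scoped WithZero IntermediateField TensorProduct
open FunFld Polynomial
open Groth.Agent.Lib.Helper2.RelDim

namespace Groth.Agent.Lib.Helper2.FF

section Gen

variable {k K K' : Type*} [Field k] [Field K] [Field K'] [Algebra k K] [Algebra K K'] [Algebra k K']
variable {k' : Type*} [Field k'] [Algebra k' K'] {ι : Type*} [Fintype ι]
  {B : Module.Basis ι K K'}

/-- membership in `A₀[k']` in coordinates, for any ring `A₀` with image `O_P` -/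
theorem mem_adjoin_gen_iff_repr {A₀ : Type*} [CommRing A₀] [Algebra A₀ K']
    (hB : IsConstBasis (k := k) k' B) (P : FunFld.Place k K)
    (hA : ∀ a₀ : A₀, ∃ a : K, v P a ≤ 1 ∧ algebraMap K K' a = algebraMap A₀ K' a₀)
    (hA' : ∀ a : K, v P a ≤ 1 → ∃ a₀ : A₀, algebraMap A₀ K' a₀ = algebraMap K K' a) (z : K') :
    z ∈ Algebra.adjoin A₀ (Set.range (algebraMap k' K')) ↔ ∀ i, v P (B.repr z i) ≤ 1 := by
  constructor
  · intro hz
    induction hz using Algebra.adjoin_induction with
    | mem x hx =>
      obtain ⟨c, rfl⟩ := hx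
      exact fun i => hB.v_repr_const P c i
    | algebraMap a =>
      obtain ⟨a0, ha0, ha⟩ := hA a
      intro i
      have h1 : algebraMap A₀ K' a = a0 • (1 : K') := by
        rw [Algebra.smul_def, mul_one]
        exact ha.symm
      rw [h1, map_smul, Finsupp.smul_apply, smul_eq_mul, map_mul]
      have h2 : v P (B.repr (1 : K') i) ≤ 1 := by
        have := hB.v_repr_const P 1 i
        rwa [map_one] at this
      exact mul_le_one' ha0 h2
    | add x y _ _ hx hy =>
      intro i
      rw [map_add, Finsupp.add_apply]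
      exact (Valuation.map_add _ _ _).trans (max_le (hx i) (hy i))
    | mul x y _ _ hx hy => exact fun l => hB.v_repr_mul P hx hy l
  · intro h
    rw [← B.sum_repr z]
    refine Subalgebra.sum_mem _ fun i _ => ?_
    rw [Algebra.smul_def]
    refine mul_mem ?_ (Algebra.subset_adjoin (hB.mem i))
    obtain ⟨a₀, ha₀⟩ := hA' (B.repr z i) (h i)
    rw [← ha₀]
    exact Subalgebra.algebraMap_mem _ _

end Gen

section Cond

variable {k k' K K' : Type*} [Field k] [Field k'] [Field K] [Field K']
    [Algebra k k'] [Algebra k K] [Algebra K K'] [Algebra k' K'] [Algebra k K']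
    [IsScalarTower k k' K'] [IsScalarTower k K K']

open Groth.Agent.Lib.Helper2.Tate in
set_option maxHeartbeats 1000000 in
/-- S12526: `R / O_P[k']` is finite-dimensional and `O_P[k']` contains a nonzero ideal of `R` -/
theorem conductor_cExt [FiniteDimensional k k']
    (h : Function.Bijective (Algebra.TensorProduct.productMap
      (IsScalarTower.toAlgHom k k' K') (IsScalarTower.toAlgHom k K K')))
    (hK : IsFunctionField k K)
    (P : FunFld.Place k K) [Algebra P.O K'] [IsScalarTower P.O K K'] :
    (∃ V : Submodule k K', FiniteDimensional k V ∧ ∀ r ∈ integralClosure P.O K',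
        ∃ s ∈ Algebra.adjoin P.O (Set.range (algebraMap k' K')), r - s ∈ V) ∧
    (∃ c ∈ integralClosure P.O K', c ≠ 0 ∧ ∀ r ∈ integralClosure P.O K',
        c * r ∈ Algebra.adjoin P.O (Set.range (algebraMap k' K'))) := by
  classical
  haveI : FiniteDimensional K K' := finiteDimensional_cExt (k := k) (k' := k') h
  let b := Module.finBasis k k'
  set B := cBasis (K := K) (K' := K') b h with hBdef
  have hB : IsConstBasis (k := k) k' B := isConstBasis_cBasis b h
  have hmem : ∀ z : K', z ∈ Algebra.adjoin P.O (Set.range (algebraMap k' K')) ↔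
      ∀ i, v P (B.repr z i) ≤ 1 := by
    intro z
    apply mem_adjoin_gen_iff_repr hB P
    · intro a₀
      exact ⟨a₀.1, (mem_O_iff P _).1 a₀.2, (algebraMap_O_apply P a₀).symm⟩
    · intro a ha
      exact ⟨⟨a, (mem_O_iff P _).2 ha⟩, algebraMap_O_apply P _⟩
  obtain ⟨t, ht⟩ := exists_uniformizer P
  have ht0 : t ≠ 0 := by
    intro h0
    rw [h0, map_zero] at ht
    exact WithZero.exp_ne_zero.symm ht
  -- generators of the integral closure
  haveI hfin : Module.Finite P.O (integralClosure P.O K') := finite_integralClosure P hK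
  obtain ⟨n, g, hg⟩ := Module.Finite.exists_fin (R := P.O) (M := integralClosure P.O K')
  have hex : ∀ (l : Fin n) (i : Fin (Module.finrank k k')), ∃ m : ℕ, ∀ m' : ℕ, m ≤ m' →
      v P (t ^ m' * B.repr (g l : K') i) ≤ 1 := fun l i => exists_pow_mul_le_one P ht _
  choose m hm using hex
  set N := Finset.univ.sup (fun l => Finset.univ.sup (fun i => m l i)) with hN
  have hmN : ∀ l i, m l i ≤ N := fun l i =>
    (Finset.le_sup (f := fun i => m l i) (Finset.mem_univ i)).trans
      (Finset.le_sup (f := fun l => Finset.univ.sup (fun i => m l i)) (Finset.mem_univ l))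
  set c : K' := algebraMap K K' (t ^ N) with hc
  have hcO : t ^ N ∈ P.O := by
    rw [mem_O_iff, map_pow, ht]
    apply pow_le_one'
    rw [← WithZero.exp_zero, WithZero.exp_le_exp]; norm_num
  have hcint : c ∈ integralClosure P.O K' := by
    have : c = algebraMap P.O K' ⟨t ^ N, hcO⟩ := (algebraMap_O_apply (K' := K') P ⟨t ^ N, hcO⟩).symm
    rw [this]
    exact Subalgebra.algebraMap_mem _ _
  have hc0 : c ≠ 0 := by
    rw [hc]
    simpa using pow_ne_zero N ht0
  have hrepr_c : ∀ (z : K') i, B.repr (c * z) i = t ^ N * B.repr z i := by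
    intro z i
    have : c * z = (t ^ N) • z := by rw [Algebra.smul_def]
    rw [this, map_smul, Finsupp.smul_apply, smul_eq_mul]
  have hcond : ∀ r ∈ integralClosure P.O K',
      c * r ∈ Algebra.adjoin P.O (Set.range (algebraMap k' K')) := by
    intro r hr
    have hr' : (⟨r, hr⟩ : integralClosure P.O K') ∈ Submodule.span P.O (Set.range g) := by
      rw [hg]; trivial
    obtain ⟨a, ha⟩ := (Submodule.mem_span_range_iff_exists_fun P.O).1 hr'
    have hr2 : r = ∑ l, a l • (g l : K') := by
      have := congrArg (Subtype.val) ha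
      simp only [AddSubmonoidClass.coe_finsetSum, SetLike.val_smul] at this
      exact this.symm
    rw [hr2, Finset.mul_sum]
    refine Subalgebra.sum_mem _ fun l _ => ?_
    rw [mul_smul_comm]
    refine Subalgebra.smul_mem _ ?_ _
    rw [hmem]
    intro i
    rw [hrepr_c]
    exact hm l i N (hmN l i)
  refine ⟨?_, c, hcint, hc0, hcond⟩
  -- the finite-dimensional complement
  haveI := finiteDimensional_residueField P hK
  obtain ⟨W, hWfd, hW⟩ := almostLE_of_finIdx
    (finIdx_ball P (show (-(N : ℤ)) ≤ 0 by omega))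
  haveI := hWfd
  let ψ : Fin (Module.finrank k k') → K →ₗ[k] K' := fun i =>
    { toFun := fun w => ((t ^ N)⁻¹ * w) • B i
      map_add' := fun x y => by rw [mul_add, add_smul]
      map_smul' := fun a x => by
        simp only [RingHom.id_apply]
        rw [mul_smul_comm, smul_assoc] }
  refine ⟨⨆ i, W.map (ψ i), inferInstance, fun r hr => ?_⟩
  have h1 := (hmem _).1 (hcond r hr)
  have h2 : ∀ i, ∃ p ∈ ball P (-(N : ℤ)), ∃ w ∈ W, p + w = B.repr (c * r) i := by
    intro i
    have : B.repr (c * r) i ∈ ball P 0 := by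
      rw [mem_ball, WithZero.exp_zero]; exact h1 i
    exact Submodule.mem_sup.1 (hW this)
  choose p hp w hw hpw using h2
  refine ⟨∑ i, ((t ^ N)⁻¹ * p i) • B i, ?_, ?_⟩
  · rw [hmem]
    intro i
    rw [Module.Basis.repr_sum_self, map_mul, map_inv₀, map_pow, ht]
    have := hp i
    rw [mem_ball] at this
    rw [← WithZero.exp_nsmul, ← WithZero.exp_neg]
    calc WithZero.exp (-(N • (-1 : ℤ))) * v P (p i)
        ≤ WithZero.exp (-(N • (-1 : ℤ))) * WithZero.exp (-(N : ℤ)) := mul_le_mul' le_rfl this
      _ = 1 := by rw [← WithZero.exp_add]; simp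
  · have hr3 : r = ∑ i, ((t ^ N)⁻¹ * B.repr (c * r) i) • B i := by
      have e1 : c * r = ∑ i, B.repr (c * r) i • B i := (B.sum_repr _).symm
      have e2 : r = (t ^ N)⁻¹ • (c * r) := by
        rw [Algebra.smul_def, hc, ← mul_assoc, ← map_mul, inv_mul_cancel₀ (pow_ne_zero N ht0),
          map_one, one_mul]
      conv_lhs => rw [e2, e1, Finset.smul_sum]
      refine Finset.sum_congr rfl fun i _ => ?_
      rw [smul_smul]
    have hdiff : r - ∑ i, ((t ^ N)⁻¹ * p i) • B i = ∑ i, ψ i (w i) := by
      conv_lhs => rw [hr3]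
      rw [← Finset.sum_sub_distrib]
      refine Finset.sum_congr rfl fun i _ => ?_
      rw [← sub_smul, ← mul_sub, ← hpw i, add_sub_cancel_left]
      rfl
    rw [hdiff]
    refine Submodule.sum_mem _ fun i _ => ?_
    exact Submodule.mem_iSup_of_mem i ⟨w i, hw i, rfl⟩

end Cond

end Groth.Agent.Lib.Helper2.FF
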