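import Mathlib
import Groth.Prelude.Def_W4bk4goldsch23FF
import Groth.Prelude.Def_W4bk4goldsch23Ext
import Groth.Agent.Lib.Helper2.FunFld.Exists
import Groth.Agent.Lib.Helper2.FunFld.IntCl3
import Groth.Agent.Lib.Helper2.FunFld.Conorm
import Groth.Agent.Lib.Helper2.FunFld.DegOne
import Groth.Agent.Lib.Helper9.FunFld
import Groth.Agent.Lib.Helper9.FunFldSep
import Groth.Agent.Lib.Helper26.PlaneModel2

set_option autoImplicit false
open Polynomial FunFld IntermediateField
open scoped IntermediateField.algebraAdjoinAdjoin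

namespace Groth.Agent.Lib.Helper2.FF

section SetupA

variable {k : Type*} {K : Type*} [Field k] [Field K] [Algebra k K]

/-- a separating variable `t`, an integral primitive element `y`, and `w ∈ k[t,y]`,
`0 ≠ D ∈ k[t]` with `w · g'(y) = D(t)` where `g` is the minimal polynomial of `y` over `k[t]`. -/
theorem exists_sep_setup {k : Type*} {K : Type*} [Field k] [Field K] [Algebra k K]
    {t : K} (ht : Transcendental k t) [FiniteDimensional k⟮t⟯ K]
    [Algebra.IsSeparable k⟮t⟯ K] :
    ∃ (y : K) (Dt : k[X]) (w : K),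
      Algebra.adjoin k⟮t⟯ ({y} : Set K) = ⊤ ∧ IsIntegral (Algebra.adjoin k ({t} : Set K)) y ∧
      minpoly k⟮t⟯ y = (minpoly (Algebra.adjoin k ({t} : Set K)) y).map
        (algebraMap (Algebra.adjoin k ({t} : Set K)) k⟮t⟯) ∧
      Dt ≠ 0 ∧ w ∈ Algebra.adjoin k ({t, y} : Set K) ∧
      w * aeval y (derivative (minpoly k⟮t⟯ y)) = aeval t Dt := by
  classical
  haveI : IsIntegrallyClosed (Algebra.adjoin k ({t} : Set K)) :=
    IsIntegrallyClosed.of_equiv (Polynomial.algEquivOfTranscendental k t ht).toRingEquiv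
  obtain ⟨y₀, hy₀⟩ := Field.exists_primitive_element k⟮t⟯ K
  have halg : IsAlgebraic (Algebra.adjoin k ({t} : Set K)) y₀ :=
    IntermediateField.isAlgebraic_adjoin_iff.1 (Algebra.IsAlgebraic.isAlgebraic y₀)
  obtain ⟨d, hd0, hdint⟩ := halg.exists_integral_multiple
  obtain ⟨y, hydef⟩ : ∃ y : K, y = d • y₀ := ⟨_, rfl⟩
  rw [← hydef] at hdint
  have hdK : (d : K) ≠ 0 := fun h => hd0 (Subtype.ext h)
  have hyy₀ : y = (d : K) * y₀ := by rw [hydef]; rfl
  -- `y` is still primitive
  have hytop : k⟮t⟯⟮y⟯ = ⊤ := by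
    rw [eq_top_iff, ← hy₀, IntermediateField.adjoin_simple_le_iff]
    have h1 : y ∈ k⟮t⟯⟮y⟯ := IntermediateField.mem_adjoin_simple_self _ y
    have h2 : (d : K) ∈ k⟮t⟯⟮y⟯ := by
      have : (d : K) = algebraMap k⟮t⟯ K (algebraMap (Algebra.adjoin k ({t} : Set K)) k⟮t⟯ d) := rfl
      rw [this]
      exact IntermediateField.algebraMap_mem _ _
    have : y₀ = (d : K)⁻¹ * y := by rw [hyy₀]; field_simp
    rw [this]
    exact mul_mem (inv_mem h2) h1
  have hyL : IsIntegral k⟮t⟯ y := hdint.tower_top
  have hyadj : Algebra.adjoin k⟮t⟯ ({y} : Set K) = ⊤ := by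
    rw [← IntermediateField.adjoin_simple_toSubalgebra_of_isAlgebraic hyL.isAlgebraic, hytop]
    rfl
  have hgauss : minpoly k⟮t⟯ y = (minpoly (Algebra.adjoin k ({t} : Set K)) y).map
      (algebraMap (Algebra.adjoin k ({t} : Set K)) k⟮t⟯) :=
    minpoly.isIntegrallyClosed_eq_field_fractions' k⟮t⟯ hdint
  -- the derivative is invertible
  have hder : aeval y (derivative (minpoly k⟮t⟯ y)) ≠ 0 :=
    (Algebra.IsSeparable.isSeparable k⟮t⟯ y).aeval_derivative_ne_zero (minpoly.aeval _ _)
  have hmem : (aeval y (derivative (minpoly k⟮t⟯ y)))⁻¹ ∈ Algebra.adjoin k⟮t⟯ ({y} : Set K) := by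
    rw [hyadj]; trivial
  rw [Algebra.adjoin_singleton_eq_range_aeval] at hmem
  obtain ⟨q, hq⟩ := hmem
  replace hq : aeval y q = (aeval y (derivative (minpoly k⟮t⟯ y)))⁻¹ := hq
  obtain ⟨b, hb⟩ := IsLocalization.exist_integer_multiples_of_finset
    (nonZeroDivisors (Algebra.adjoin k ({t} : Set K))) ((Finset.range (q.natDegree + 1)).image q.coeff)
  have hb0 : (b : Algebra.adjoin k ({t} : Set K)) ≠ 0 := nonZeroDivisors.coe_ne_zero b
  have hbK : ((b : Algebra.adjoin k ({t} : Set K)) : K) ≠ 0 := fun h => hb0 (Subtype.ext h)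
  obtain ⟨Dt, hDt⟩ := Algebra.adjoin_mem_exists_aeval _ _ (b : Algebra.adjoin k ({t} : Set K)).2
  have hDt0 : Dt ≠ 0 := by
    rintro rfl
    rw [map_zero] at hDt
    exact hbK hDt.symm
  have hsub : Algebra.adjoin k ({t} : Set K) ≤ Algebra.adjoin k ({t, y} : Set K) :=
    Algebra.adjoin_mono (by simp)
  refine ⟨y, Dt, ((b : Algebra.adjoin k ({t} : Set K)) : K) * aeval y q, hyadj, hdint, hgauss, hDt0,
    ?_, ?_⟩
  · rw [Polynomial.aeval_eq_sum_range, Finset.mul_sum]
    refine Subalgebra.sum_mem _ ?_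
    intro i hi
    have hmemi : q.coeff i ∈ (Finset.range (q.natDegree + 1)).image q.coeff :=
      Finset.mem_image_of_mem _ hi
    obtain ⟨c, hc⟩ := hb _ hmemi
    have hcK : (c : K) = ((b : Algebra.adjoin k ({t} : Set K)) : K) * ((q.coeff i : k⟮t⟯) : K) := by
      have := congrArg (algebraMap k⟮t⟯ K) hc
      rw [Algebra.smul_def, map_mul] at this
      exact this
    rw [Algebra.smul_def, ← mul_assoc]
    change ((b : Algebra.adjoin k ({t} : Set K)) : K) * ((q.coeff i : k⟮t⟯) : K) * y ^ i ∈ _
    rw [← hcK]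
    exact Subalgebra.mul_mem _ (hsub c.2) (Subalgebra.pow_mem _ (Algebra.subset_adjoin (by simp)) i)
  · rw [hq, mul_assoc, inv_mul_cancel₀ hder, mul_one, ← hDt]

end SetupA

section SetupB

variable {k : Type*} {K : Type*} [Field k] [Field K] [Algebra k K]

theorem v_aeval_sub_eval_lt (P : Place k K) {t : K} {a : k}
    (h : P.1 (t - algebraMap k K a) < 1) (p : k[X]) :
    P.1 (aeval t p - algebraMap k K (p.eval a)) < 1 := by
  have hk := P.2.1
  have hPt : P.1 t ≤ 1 := by
    have e : t = (t - algebraMap k K a) + algebraMap k K a := by ring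
    rw [e]
    exact le_trans (P.1.map_add _ _) (max_le h.le (hk a))
  have hdv : (X - C a) ∣ p - C (p.eval a) := by
    rw [Polynomial.dvd_iff_isRoot, IsRoot, eval_sub, eval_C, sub_self]
  obtain ⟨w, hw⟩ := hdv
  have e : aeval t p - algebraMap k K (p.eval a) = (t - algebraMap k K a) * aeval t w := by
    have := congrArg (aeval t) hw
    rw [map_sub, map_mul, map_sub, aeval_X, aeval_C, aeval_C] at this
    exact this
  rw [e, map_mul]
  calc P.1 (t - algebraMap k K a) * P.1 (aeval t w)
      ≤ P.1 (t - algebraMap k K a) * 1 := mul_le_mul' le_rfl (w_aeval_le_one P.1 hk hPt w)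
    _ = P.1 (t - algebraMap k K a) := mul_one _
    _ < 1 := h

theorem adjoin_sub_const (t : K) (a : k) : k⟮t - algebraMap k K a⟯ = k⟮t⟯ := by
  apply le_antisymm
  · rw [IntermediateField.adjoin_simple_le_iff]
    exact sub_mem (IntermediateField.mem_adjoin_simple_self k t) (IntermediateField.algebraMap_mem _ a)
  · rw [IntermediateField.adjoin_simple_le_iff]
    have h1 : (t - algebraMap k K a) + algebraMap k K a ∈ k⟮t - algebraMap k K a⟯ :=
      add_mem (IntermediateField.mem_adjoin_simple_self k _) (IntermediateField.algebraMap_mem _ a)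
    rwa [sub_add_cancel] at h1

/-- a place of `k(t)` at which `t - a` vanishes has degree one -/
theorem deg_eq_one_of_sub_lt {L : Type*} [Field L] [Algebra k L] (hL : IsFunctionField k L) (tL : L)
    (htop : k⟮tL⟯ = ⊤) (htr : Transcendental k tL) (a : k) (P₀ : Place k L)
    (h : P₀.1 (tL - algebraMap k L a) < 1) : P₀.deg = 1 := by
  have hx0 : tL - algebraMap k L a ≠ 0 := by
    intro h0
    apply htr
    rw [sub_eq_zero.1 h0]
    exact isAlgebraic_algebraMap a
  have h1 := deg_le_finrank P₀ hL h hx0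
  rw [adjoin_sub_const, htop, IntermediateField.finrank_top] at h1
  have h2 := deg_pos P₀ hL
  omega

end SetupB

section Dual

open Pointwise

/-- if `w · f'(y)` is a unit of `A` with `w ∈ A[y]`, the integral closure of `A` is `A[y]` -/
theorem isIntegral_mem_adjoin {A L K : Type*} [CommRing A] [IsDomain A] [IsIntegrallyClosed A]
    [Field L] [Field K] [Algebra A L] [IsFractionRing A L] [Algebra L K] [Algebra A K]
    [IsScalarTower A L K] [FiniteDimensional L K] [Algebra.IsSeparable L K]
    {y : K} (hy : Algebra.adjoin L ({y} : Set K) = ⊤) (hint : IsIntegral A y)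
    {w : K} (hw : w ∈ Algebra.adjoin A ({y} : Set K)) {d : A} (hd : IsUnit d)
    (hwd : w * aeval y (derivative (minpoly L y)) = algebraMap A K d)
    {b : K} (hb : IsIntegral A b) : b ∈ Algebra.adjoin A ({y} : Set K) := by
  have hdual := traceForm_dualSubmodule_adjoin A L hy hint
  have hb' : b ∈ (Algebra.traceForm L K).dualSubmodule
      (Subalgebra.toSubmodule (Algebra.adjoin A ({y} : Set K))) := by
    rw [LinearMap.BilinForm.mem_dualSubmodule]
    intro c hc
    rw [Submodule.mem_one]
    have hcint : IsIntegral A c := _root_.adjoin_le_integralClosure hint hc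
    have := Algebra.isIntegral_trace (L := L) (hb.mul hcint)
    exact IsIntegrallyClosed.isIntegral_iff.1 this
  rw [hdual] at hb'
  obtain ⟨c, hc, rfl⟩ := (Submodule.mem_smul_pointwise_iff_exists _ _ _).1 hb'
  have hdK : algebraMap A K d ≠ 0 := by
    have := hd.map (algebraMap A K)
    exact this.ne_zero
  have hder : aeval y (derivative (minpoly L y)) ≠ 0 := by
    intro h0
    rw [h0, mul_zero] at hwd
    exact hdK hwd.symm
  have hinv : (aeval y (derivative (minpoly L y)))⁻¹ = w * algebraMap A K (↑hd.unit⁻¹ : A) := by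
    have h1 : algebraMap A K d * algebraMap A K (↑hd.unit⁻¹ : A) = 1 := by
      rw [← map_mul]
      have : d * (↑hd.unit⁻¹ : A) = 1 := by
        have := hd.unit.mul_inv
        rwa [IsUnit.unit_spec] at this
      rw [this, map_one]
    apply inv_eq_of_mul_eq_one_left
    calc w * algebraMap A K (↑hd.unit⁻¹ : A) * aeval y (derivative (minpoly L y))
        = (w * aeval y (derivative (minpoly L y))) * algebraMap A K (↑hd.unit⁻¹ : A) := by ring
      _ = 1 := by rw [hwd, h1]
  rw [smul_eq_mul, hinv]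
  exact Subalgebra.mul_mem _ (Subalgebra.mul_mem _ hw (Subalgebra.algebraMap_mem _ _)) hc

end Dual

section SetupC

variable {k : Type*} {L K : Type*} [Field k] [Field L] [Field K] [Algebra k L] [Algebra L K]
  [Algebra k K] [IsScalarTower k L K]

theorem exists_BP_approx [FiniteDimensional L K] (hL : IsFunctionField k L) (P₀ : Place k L)
    (P : Place k K) (hover : IsOver P P₀) {z : K} (hz : P.1 z ≤ 1) :
    ∃ b : K, (∀ Q : Place k K, IsOver Q P₀ → Q.1 b ≤ 1) ∧ P.1 (b - z) < 1 := by
  classical
  haveI := finite_overP (K' := K) hL P₀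
  let i₀ : OverP K P₀ := ⟨P, hover⟩
  obtain ⟨b, hb⟩ := weak_approx (fun i : OverP K P₀ => i.1) Subtype.val_injective
    (fun i => if i = i₀ then z else 0) (fun _ => 0)
  refine ⟨b, ?_, ?_⟩
  · intro Q hQ
    have h1 := hb ⟨Q, hQ⟩
    rw [WithZero.exp_zero] at h1
    by_cases hQi : (⟨Q, hQ⟩ : OverP K P₀) = i₀
    · rw [if_pos hQi] at h1
      have hQP : Q = P := congrArg Subtype.val hQi
      have e : b = (b - z) + z := by ring
      rw [e]
      refine le_trans (Q.1.map_add _ _) (max_le h1.le ?_)
      rw [hQP]; exact hz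
    · rw [if_neg hQi, sub_zero] at h1
      exact h1.le
  · have h1 := hb i₀
    rw [WithZero.exp_zero, if_pos rfl] at h1
    exact h1

end SetupC

section MainB

variable {k : Type*} {K : Type*} [Field k] [Field K] [Algebra k K]

theorem coe_eq_aeval_symm {t : K} (ht : Transcendental k t)
    (c : Algebra.adjoin k ({t} : Set K)) :
    (c : K) = aeval t ((Polynomial.algEquivOfTranscendental k t ht).symm c) := by
  have h1 : c = Polynomial.algEquivOfTranscendental k t ht
      ((Polynomial.algEquivOfTranscendental k t ht).symm c) := (AlgEquiv.apply_symm_apply _ c).symm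
  conv_lhs => rw [h1, Polynomial.algEquivOfTranscendental_apply]
  exact (Subalgebra.aeval_coe _ _ _).symm

theorem exists_poly_approx (hK : IsFunctionField k K) {t : K}
    (ht : Transcendental k t) [FiniteDimensional k⟮t⟯ K] [Algebra.IsSeparable k⟮t⟯ K]
    (y : K) (Dt : k[X]) (w : K)
    (hyadj : Algebra.adjoin k⟮t⟯ ({y} : Set K) = ⊤)
    (hyint : IsIntegral (Algebra.adjoin k ({t} : Set K)) y)
    (hw : w ∈ Algebra.adjoin k ({t, y} : Set K))
    (hwD : w * aeval y (derivative (minpoly k⟮t⟯ y)) = aeval t Dt)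
    (a : k) (ha : Dt.eval a ≠ 0) (P : Place k K) (hP : P.1 (t - algebraMap k K a) < 1)
    {z : K} (hz : P.1 z ≤ 1) : ∃ r : k[X], P.1 (z - aeval y r) < 1 := by
  classical
  have hk := P.2.1
  have hL : IsFunctionField k k⟮t⟯ :=
    Groth.Agent.Lib.Helper26.PlaneModel2.isFunctionField_adjoin hK ht
  obtain ⟨tL, htLdef⟩ : ∃ tL : k⟮t⟯, tL = IntermediateField.AdjoinSimple.gen k t := ⟨_, rfl⟩
  have htLK : algebraMap k⟮t⟯ K tL = t := by rw [htLdef]; rfl
  have htLtr : Transcendental k tL := by
    intro h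
    apply ht
    have := h.algebraMap (A := K)
    rwa [htLK] at this
  have htop : k⟮tL⟯ = ⊤ := by
    rw [htLdef]
    apply IntermediateField.map_injective (IntermediateField.val k⟮t⟯)
    rw [IntermediateField.adjoin_map, Set.image_singleton]
    simp only [IntermediateField.coe_val, IntermediateField.AdjoinSimple.coe_gen]
    rw [← AlgHom.fieldRange_eq_map, IntermediateField.fieldRange_val]
  -- restrict `P` to `k(t)`
  let w₀ : Valuation k⟮t⟯ (WithZero (Multiplicative ℤ)) := P.1.comap (algebraMap k⟮t⟯ K)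
  have hw₀ : ∀ l : k⟮t⟯, w₀ l = P.1 (algebraMap k⟮t⟯ K l) := fun l => rfl
  have hsubK : algebraMap k⟮t⟯ K (tL - algebraMap k k⟮t⟯ a) = t - algebraMap k K a := by
    rw [map_sub, htLK, ← IsScalarTower.algebraMap_apply]
  have hx0 : tL - algebraMap k k⟮t⟯ a ≠ 0 := by
    intro h0
    apply htLtr
    rw [sub_eq_zero.1 h0]
    exact isAlgebraic_algebraMap a
  obtain ⟨P₀, e, hP₀⟩ := exists_place_pow_eq hL.1 w₀
    (fun c => by rw [hw₀, ← IsScalarTower.algebraMap_apply]; exact hk c)
    ⟨tL - algebraMap k k⟮t⟯ a, hx0, by rw [hw₀, hsubK]; exact hP⟩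
  have hover : IsOverWith P P₀ e := fun l => hP₀ l
  have he : e ≠ 0 := by
    rintro rfl
    have := hover (tL - algebraMap k k⟮t⟯ a)
    rw [pow_zero, hsubK] at this
    rw [this] at hP
    exact lt_irrefl _ hP
  have hP₀t : P₀.1 (tL - algebraMap k k⟮t⟯ a) < 1 := by
    by_contra hge
    rw [not_lt] at hge
    have := hover (tL - algebraMap k k⟮t⟯ a)
    rw [hsubK] at this
    rw [this] at hP
    exact absurd (one_le_pow_of_one_le' hge e) (not_le.2 hP)
  have hdeg : P₀.deg = 1 := deg_eq_one_of_sub_lt hL tL htop htLtr a P₀ hP₀t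
  have hP₀tL : P₀.1 tL ≤ 1 := by
    have e1 : tL = (tL - algebraMap k k⟮t⟯ a) + algebraMap k k⟮t⟯ a := by ring
    rw [e1]
    exact le_trans (P₀.1.map_add _ _) (max_le hP₀t.le (P₀.2.1 a))
  letI : Algebra P₀.O K := ((algebraMap k⟮t⟯ K).comp P₀.O.subtype).toAlgebra
  haveI : IsScalarTower P₀.O k⟮t⟯ K := IsScalarTower.of_algebraMap_eq (fun _ => rfl)
  haveI := isScalarTower_k_O (K' := K) P₀
  have hIC := integralClosure_eq_BP (K' := K) P₀ hL
  -- `y` is integral over `O_{P₀}`
  have hQt : ∀ i : OverP K P₀, i.1.1 t ≤ 1 := by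
    intro i
    obtain ⟨e', he'⟩ := i.2
    have := he' tL
    rw [htLK] at this
    rw [this]
    exact pow_le_one' hP₀tL e'
  have hyBP : y ∈ BP (K' := K) P₀ := by
    intro i
    apply v_le_one_of_isIntegral i.1.1 ?_ hyint
    intro c
    change i.1.1 (c : K) ≤ 1
    rw [coe_eq_aeval_symm ht c]
    exact w_aeval_le_one i.1.1 i.1.2.1 (hQt i) _
  have hyintO : IsIntegral P₀.O y := by
    have : y ∈ integralClosure P₀.O K := by rw [hIC]; exact hyBP
    exact this
  -- `w ∈ O_{P₀}[y]`
  have hwO : w ∈ Algebra.adjoin P₀.O ({y} : Set K) := by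
    have hle : Algebra.adjoin k ({t, y} : Set K) ≤
        (Algebra.adjoin P₀.O ({y} : Set K)).restrictScalars k := by
      apply Algebra.adjoin_le
      rintro x (hx | hx)
      · have hx' : x = algebraMap P₀.O K ⟨tL, (Valuation.mem_valuationSubring_iff _ _).2 hP₀tL⟩ :=
          hx.trans htLK.symm
        rw [hx']
        exact Subalgebra.algebraMap_mem (Algebra.adjoin P₀.O ({y} : Set K)) _
      · rw [Set.mem_singleton_iff] at hx
        rw [hx]
        exact Algebra.subset_adjoin (R := P₀.O) (Set.mem_singleton y)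
    exact hle hw
  -- the unit `D(t)`
  have hdL : P₀.1 (aeval tL Dt) = 1 := by
    have h1 := v_aeval_sub_eval_lt P₀ hP₀t Dt
    have h2 : P₀.1 (algebraMap k k⟮t⟯ (Dt.eval a)) = 1 := v_algebraMap P₀ ha
    have e1 : aeval tL Dt = algebraMap k k⟮t⟯ (Dt.eval a)
        + (aeval tL Dt - algebraMap k k⟮t⟯ (Dt.eval a)) := by ring
    rw [e1, Valuation.map_add_eq_of_lt_left _ (by rw [h2]; exact h1), h2]
  have hdL0 : aeval tL Dt ≠ 0 := by
    intro h0
    rw [h0, map_zero] at hdL
    exact zero_ne_one hdL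
  let d : P₀.O := ⟨aeval tL Dt, (Valuation.mem_valuationSubring_iff _ _).2 hdL.le⟩
  let d' : P₀.O := ⟨(aeval tL Dt)⁻¹, (Valuation.mem_valuationSubring_iff _ _).2
    (by rw [map_inv₀, hdL, inv_one])⟩
  have hdunit : IsUnit d := by
    apply IsUnit.of_mul_eq_one d'
    apply Subtype.ext
    change aeval tL Dt * (aeval tL Dt)⁻¹ = 1
    exact mul_inv_cancel₀ hdL0
  have hwd : w * aeval y (derivative (minpoly k⟮t⟯ y)) = algebraMap P₀.O K d := by
    rw [hwD]
    change _ = algebraMap k⟮t⟯ K (aeval tL Dt)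
    rw [← aeval_algebraMap_apply, htLK]
  -- approximate `z` by an integral element
  obtain ⟨b, hbBP, hbz⟩ := exists_BP_approx hL P₀ P ⟨e, hover⟩ hz
  have hbint : IsIntegral P₀.O b := by
    have : b ∈ integralClosure P₀.O K := by
      rw [hIC]
      intro i
      exact hbBP i.1 i.2
    exact this
  have hbadj := isIntegral_mem_adjoin (A := P₀.O) (L := k⟮t⟯) hyadj hyintO hwO hdunit hwd hbint
  rw [Algebra.adjoin_singleton_eq_range_aeval] at hbadj
  obtain ⟨p, hp⟩ := hbadj
  replace hp : aeval y p = b := hp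
  have hc : ∀ i, ∃ c : k, P.1 (algebraMap P₀.O K (p.coeff i) - algebraMap k K c) < 1 := by
    intro i
    obtain ⟨c, hc⟩ := exists_sub_lt_one P₀ hdeg (u := ((p.coeff i : P₀.O) : k⟮t⟯))
      ((Valuation.mem_valuationSubring_iff _ _).1 (p.coeff i).2)
    refine ⟨c, ?_⟩
    have : algebraMap P₀.O K (p.coeff i) - algebraMap k K c
        = algebraMap k⟮t⟯ K (((p.coeff i : P₀.O) : k⟮t⟯) - algebraMap k k⟮t⟯ c) := by
      rw [map_sub, ← IsScalarTower.algebraMap_apply k k⟮t⟯ K]
      rfl
    rw [this, hover]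
    exact pow_lt_one₀ zero_le' hc he
  choose c hc using hc
  refine ⟨∑ i ∈ Finset.range (p.natDegree + 1), Polynomial.monomial i (c i), ?_⟩
  have e1 : z - aeval y (∑ i ∈ Finset.range (p.natDegree + 1), Polynomial.monomial i (c i))
      = -(b - z) + ∑ i ∈ Finset.range (p.natDegree + 1),
          (algebraMap P₀.O K (p.coeff i) - algebraMap k K (c i)) * y ^ i := by
    have hA : aeval y p = ∑ i ∈ Finset.range (p.natDegree + 1),
        algebraMap P₀.O K (p.coeff i) * y ^ i := by
      rw [Polynomial.aeval_eq_sum_range]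
      refine Finset.sum_congr rfl fun i _ => ?_
      rw [Algebra.smul_def]
    have hB : aeval y (∑ i ∈ Finset.range (p.natDegree + 1), Polynomial.monomial i (c i))
        = ∑ i ∈ Finset.range (p.natDegree + 1), algebraMap k K (c i) * y ^ i := by
      rw [map_sum]
      refine Finset.sum_congr rfl fun i _ => ?_
      rw [Polynomial.aeval_monomial]
    rw [← hp, hA, hB]
    simp only [sub_mul, Finset.sum_sub_distrib]
    ring
  rw [e1]
  refine lt_of_le_of_lt (P.1.map_add _ _) (max_lt (by rw [Valuation.map_neg]; exact hbz) ?_)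
  refine Valuation.map_sum_lt _ one_ne_zero ?_
  intro i _
  rw [map_mul, map_pow]
  have hPy : P.1 y ≤ 1 := hyBP ⟨P, ⟨e, hover⟩⟩
  calc P.1 (algebraMap P₀.O K (p.coeff i) - algebraMap k K (c i)) * P.1 y ^ i
      ≤ P.1 (algebraMap P₀.O K (p.coeff i) - algebraMap k K (c i)) * 1 :=
        mul_le_mul' le_rfl (pow_le_one' hPy i)
    _ = P.1 (algebraMap P₀.O K (p.coeff i) - algebraMap k K (c i)) := mul_one _
    _ < 1 := hc i

theorem isSeparable_residueField_of_good (hK : IsFunctionField k K) {t : K}
    (ht : Transcendental k t) [FiniteDimensional k⟮t⟯ K] [Algebra.IsSeparable k⟮t⟯ K]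
    (y : K) (Dt : k[X]) (w : K)
    (hyadj : Algebra.adjoin k⟮t⟯ ({y} : Set K) = ⊤)
    (hyint : IsIntegral (Algebra.adjoin k ({t} : Set K)) y)
    (hgauss : minpoly k⟮t⟯ y = (minpoly (Algebra.adjoin k ({t} : Set K)) y).map
        (algebraMap (Algebra.adjoin k ({t} : Set K)) k⟮t⟯))
    (hw : w ∈ Algebra.adjoin k ({t, y} : Set K))
    (hwD : w * aeval y (derivative (minpoly k⟮t⟯ y)) = aeval t Dt)
    (a : k) (ha : Dt.eval a ≠ 0) (P : Place k K) (hP : P.1 (t - algebraMap k K a) < 1) :
    Algebra.IsSeparable k (IsLocalRing.ResidueField P.O) := by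
  classical
  have hk := P.2.1
  have hPt : P.1 t ≤ 1 := by
    have e : t = (t - algebraMap k K a) + algebraMap k K a := by ring
    rw [e]
    exact le_trans (P.1.map_add _ _) (max_le hP.le (hk a))
  have hA₀P : ∀ c : Algebra.adjoin k ({t} : Set K), P.1 (c : K) ≤ 1 := by
    intro c
    rw [coe_eq_aeval_symm ht c]
    exact w_aeval_le_one P.1 hk hPt _
  have hPy : P.1 y ≤ 1 := v_le_one_of_isIntegral P.1 hA₀P hyint
  have hR₀ : ∀ z ∈ Algebra.adjoin k ({t, y} : Set K), P.1 z ≤ 1 := by
    intro z hz
    induction hz using Algebra.adjoin_induction with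
    | mem x hx =>
      rcases hx with hx | hx
      · rw [hx]; exact hPt
      · rw [Set.mem_singleton_iff] at hx
        rw [hx]; exact hPy
    | algebraMap c => exact hk c
    | add x y _ _ hx hy => exact le_trans (P.1.map_add _ _) (max_le hx hy)
    | mul x y _ _ hx hy => rw [map_mul]; exact mul_le_one' hx hy
  have hPD : P.1 (aeval t Dt) = 1 := by
    have h1 := v_aeval_sub_eval_lt P hP Dt
    have h2 : P.1 (algebraMap k K (Dt.eval a)) = 1 := v_algebraMap P ha
    have e : aeval t Dt = algebraMap k K (Dt.eval a)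
        + (aeval t Dt - algebraMap k K (Dt.eval a)) := by ring
    rw [e, Valuation.map_add_eq_of_lt_left _ (by rw [h2]; exact h1), h2]
  -- residues
  let yO : P.O := ⟨y, (Valuation.mem_valuationSubring_iff _ _).2 hPy⟩
  let wO : P.O := ⟨w, (Valuation.mem_valuationSubring_iff _ _).2 (hR₀ w hw)⟩
  let DO : P.O := ⟨aeval t Dt, (Valuation.mem_valuationSubring_iff _ _).2 hPD.le⟩
  let ρ : Algebra.adjoin k ({t} : Set K) →+* P.O :=
    (algebraMap (Algebra.adjoin k ({t} : Set K)) K).codRestrict P.O.toSubring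
      (fun c => (Valuation.mem_valuationSubring_iff _ _).2 (hA₀P c))
  let eva : Algebra.adjoin k ({t} : Set K) →+* k :=
    (Polynomial.evalRingHom a).comp
      ((Polynomial.algEquivOfTranscendental k t ht).symm :
        Algebra.adjoin k ({t} : Set K) →+* k[X])
  have hC1 : (IsLocalRing.residue P.O).comp ρ
      = (algebraMap k (IsLocalRing.ResidueField P.O)).comp eva := by
    ext c
    change IsLocalRing.residue P.O (ρ c)
      = IsLocalRing.residue P.O (algebraMap k P.O (eva c))
    rw [← sub_eq_zero, ← map_sub]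
    have := (resAlg_eq_zero_iff P (ρ c - algebraMap k P.O (eva c))).2 (by
      change P.1 ((c : K) - algebraMap k K (eva c)) < 1
      rw [coe_eq_aeval_symm ht c]
      exact v_aeval_sub_eval_lt P hP _)
    exact this
  obtain ⟨g, hgdef⟩ : ∃ g, g = minpoly (Algebra.adjoin k ({t} : Set K)) y := ⟨_, rfl⟩
  obtain ⟨ybar, hybar⟩ : ∃ ybar, ybar = IsLocalRing.residue P.O yO := ⟨_, rfl⟩
  have hsubρ : (P.O.subtype : P.O →+* K).comp ρ = algebraMap (Algebra.adjoin k ({t} : Set K)) K := by
    ext c
    rfl
  have heval : ∀ q : (Algebra.adjoin k ({t} : Set K))[X],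
      aeval ybar (q.map eva) = IsLocalRing.residue P.O (eval₂ ρ yO q) := by
    intro q
    rw [aeval_def, eval₂_map, ← hC1, hybar, ← Polynomial.hom_eval₂]
  have hcoe : ∀ q : (Algebra.adjoin k ({t} : Set K))[X],
      ((eval₂ ρ yO q : P.O) : K) = aeval y q := by
    intro q
    have := Polynomial.hom_eval₂ q ρ (P.O.subtype : P.O →+* K) yO
    rw [hsubρ] at this
    exact this
  have hF0 : aeval ybar (g.map eva) = 0 := by
    rw [heval]
    have : eval₂ ρ yO g = 0 := by
      apply Subtype.ext
      rw [hcoe, hgdef]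
      exact minpoly.aeval _ _
    rw [this, map_zero]
  have hder : aeval y (derivative (minpoly k⟮t⟯ y)) = aeval y (derivative g) := by
    rw [hgauss, ← hgdef, Polynomial.derivative_map, Polynomial.aeval_map_algebraMap]
  have hF' : IsLocalRing.residue P.O wO * aeval ybar (derivative (g.map eva))
      = IsLocalRing.residue P.O DO := by
    rw [Polynomial.derivative_map, heval, ← map_mul]
    congr 1
    apply Subtype.ext
    change w * ((eval₂ ρ yO (derivative g) : P.O) : K) = aeval t Dt
    rw [hcoe, ← hder, hwD]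
  have hD0 : IsLocalRing.residue P.O DO ≠ 0 := by
    intro h0
    have := (resAlg_eq_zero_iff P DO).1 h0
    change P.1 (aeval t Dt) < 1 at this
    rw [hPD] at this
    exact lt_irrefl _ this
  have hF'0 : aeval ybar (derivative (g.map eva)) ≠ 0 := by
    intro h0
    rw [h0, mul_zero] at hF'
    exact hD0 hF'.symm
  -- `ybar` is separable
  have hfd := finiteDimensional_residueField P hK
  haveI : @Module.Finite k (IsLocalRing.ResidueField P.O) _ _ (Algebra.toModule) := hfd
  haveI : Algebra.IsIntegral k (IsLocalRing.ResidueField P.O) := Algebra.IsIntegral.of_finite k _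
  have hyint' : IsIntegral k ybar := Algebra.IsIntegral.isIntegral ybar
  have hsep : IsSeparable k ybar := by
    obtain ⟨h, hh⟩ := minpoly.dvd k ybar hF0
    have hm' : aeval ybar (derivative (minpoly k ybar)) ≠ 0 := by
      intro h0
      apply hF'0
      rw [hh, Polynomial.derivative_mul, map_add, map_mul, map_mul, h0, minpoly.aeval, zero_mul,
        zero_mul, add_zero]
    have hirr := minpoly.irreducible hyint'
    change (minpoly k ybar).Separable
    rw [Polynomial.separable_iff_derivative_ne_zero hirr]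
    intro h0
    rw [h0, map_zero] at hm'
    exact hm' rfl
  -- the residue field is generated by `ybar`
  have hsepadj : Algebra.IsSeparable k k⟮ybar⟯ :=
    (IntermediateField.isSeparable_adjoin_simple_iff_isSeparable k _).2 hsep
  refine ⟨fun ζ => ?_⟩
  obtain ⟨zO, rfl⟩ := IsLocalRing.residue_surjective ζ
  obtain ⟨r, hr⟩ := exists_poly_approx hK ht y Dt w hyadj hyint hw hwD a ha P hP
    ((Valuation.mem_valuationSubring_iff _ _).1 zO.2)
  have hres : IsLocalRing.residue P.O zO = aeval ybar r := by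
    have h1 : resAlg P (zO - aeval yO r) = 0 := by
      rw [resAlg_eq_zero_iff]
      have : ((zO - aeval yO r : P.O) : K) = (zO : K) - aeval y r := by
        have h2 : ((aeval yO r : P.O) : K) = aeval y r := by
          have := Polynomial.aeval_algHom_apply
            ({ (P.O.subtype : P.O →+* K) with commutes' := fun _ => rfl } : P.O →ₐ[k] K) yO r
          exact this.symm
        rw [← h2]
        rfl
      rw [this]
      exact hr
    rw [map_sub, sub_eq_zero] at h1
    rw [hybar]
    change resAlg P zO = aeval (resAlg P yO) r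
    rw [h1, ← Polynomial.aeval_algHom_apply]
  rw [hres]
  have hmem : aeval ybar r ∈ k⟮ybar⟯ :=
    IntermediateField.algebra_adjoin_le_adjoin k {ybar}
      (Polynomial.aeval_mem_adjoin_singleton k ybar)
  have h5 := (Subalgebra.isSeparable_iff (S := k⟮ybar⟯.toSubalgebra)).1 hsepadj
  exact h5 _ hmem

end MainB

section Inf

variable {k : Type*} {K : Type*} [Field k] [Field K] [Algebra k K]

/-- over an infinite constant field there are infinitely many separable places -/
theorem infinite_separable_places_of_infinite [Infinite k] (hK : IsFunctionField k K) {t : K}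
    (ht : Transcendental k t) [FiniteDimensional k⟮t⟯ K] [Algebra.IsSeparable k⟮t⟯ K] :
    {P : FunFld.Place k K | Algebra.IsSeparable k (IsLocalRing.ResidueField P.O)}.Infinite := by
  classical
  obtain ⟨y, Dt, w, hyadj, hyint, hgauss, hDt0, hw, hwD⟩ := exists_sep_setup (k := k) (K := K) ht
  -- the good constants
  have hgood : {a : k | Dt.eval a ≠ 0}.Infinite := by
    have hfin : {a : k | Dt.eval a = 0}.Finite := by
      have : {a : k | Dt.eval a = 0} = (Dt.roots.toFinset : Set k) := by
        ext a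
        simp [Polynomial.mem_roots hDt0, IsRoot]
      rw [this]
      exact Finset.finite_toSet _
    have hcompl : {a : k | Dt.eval a ≠ 0} = {a : k | Dt.eval a = 0}ᶜ := by
      ext a; simp
    rw [hcompl]
    exact hfin.infinite_compl
  -- choose a place for each constant
  have hex : ∀ a : k, ∃ P : FunFld.Place k K, P.1 (t - algebraMap k K a) < 1 := by
    intro a
    have htr : Transcendental k (t - algebraMap k K a) := by
      intro halg
      apply ht
      have := halg.add (isAlgebraic_algebraMap (R := k) (A := K) a)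
      rwa [sub_add_cancel] at this
    exact exists_place_lt_one hK htr
  choose Pa hPa using hex
  have hinj : Function.Injective Pa := by
    intro a b hab
    by_contra hne
    have h1 := hPa a
    have h2 := hPa b
    rw [hab] at h1
    have h3 : (Pa b).1 (algebraMap k K (b - a)) < 1 := by
      have e : algebraMap k K (b - a) = (t - algebraMap k K a) - (t - algebraMap k K b) := by
        rw [map_sub]; ring
      rw [e]
      exact lt_of_le_of_lt (Valuation.map_sub _ _ _) (max_lt h1 h2)
    have h4 : (Pa b).1 (algebraMap k K (b - a)) = 1 :=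
      v_algebraMap (Pa b) (sub_ne_zero.2 (Ne.symm hne))
    rw [h4] at h3
    exact lt_irrefl _ h3
  have himg : (Pa '' {a : k | Dt.eval a ≠ 0}).Infinite := hgood.image hinj.injOn
  refine himg.mono ?_
  rintro _ ⟨a, ha, rfl⟩
  exact isSeparable_residueField_of_good hK ht y Dt w hyadj hyint hgauss hw hwD a ha (Pa a) (hPa a)

end Inf

end Groth.Agent.Lib.Helper2.FF
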