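import Mathlib
import Groth.Agent.Lib.Helper2.FunFld.SepPl
import Groth.Agent.Lib.Helper2.FunFld.NS4

set_option autoImplicit false
open scoped WithZero IntermediateField TensorProduct
open FunFld Polynomial

namespace Groth.Agent.Lib.Helper2.FF

section Dual2

open Pointwise

/-- if `w · f'(y) = d ∈ A` with `w ∈ A[y]`, then `d` times the integral closure of `A` is in
`A[y]` -/
theorem mul_isIntegral_mem_adjoin {A L K : Type*} [CommRing A] [IsDomain A] [IsIntegrallyClosed A]
    [Field L] [Field K] [Algebra A L] [IsFractionRing A L] [Algebra L K] [Algebra A K]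
    [IsScalarTower A L K] [FiniteDimensional L K] [Algebra.IsSeparable L K]
    {y : K} (hy : Algebra.adjoin L ({y} : Set K) = ⊤) (hint : IsIntegral A y)
    {w : K} (hw : w ∈ Algebra.adjoin A ({y} : Set K)) {d : A}
    (hwd : w * aeval y (derivative (minpoly L y)) = algebraMap A K d)
    {b : K} (hb : IsIntegral A b) : algebraMap A K d * b ∈ Algebra.adjoin A ({y} : Set K) := by
  have hdual := traceForm_dualSubmodule_adjoin A L hy hint
  have hb' : b ∈ (Algebra.traceForm L K).dualSubmodule
      (Subalgebra.toSubmodule (Algebra.adjoin A ({y} : Set K))) := by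
    rw [LinearMap.BilinForm.mem_dualSubmodule]
    intro c hc
    rw [Submodule.mem_one]
    have hcint : IsIntegral A c := _root_.adjoin_le_integralClosure hint hc
    have := Algebra.isIntegral_trace (L := L) (hb.mul hcint)
    exact IsIntegrallyClosed.isIntegral_iff.1 this
  rw [hdual] at hb'
  obtain ⟨c, hc, rfl⟩ := (Submodule.mem_smul_pointwise_iff_exists _ _ _).1 hb'
  by_cases hder : aeval y (derivative (minpoly L y)) = 0
  · rw [hder, mul_zero] at hwd
    rw [← hwd, zero_mul]
    exact Subalgebra.zero_mem _
  · rw [← hwd, smul_eq_mul]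
    have : w * aeval y (derivative (minpoly L y)) * ((aeval y (derivative (minpoly L y)))⁻¹ * c) =
        w * c := by
      field_simp
    rw [this]
    exact Subalgebra.mul_mem _ hw hc

end Dual2

section Gauss

/-- the derivative of a monic relation of `y` over an integrally closed `A` is a multiple, with
cofactor in `A[y]`, of the derivative of the minimal polynomial over the fraction field -/
theorem exists_mul_derivative_minpoly {A L K : Type*} [CommRing A] [IsDomain A]
    [IsIntegrallyClosed A] [Field L] [Field K] [Algebra A L] [IsFractionRing A L] [Algebra L K]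
    [Algebra A K] [IsScalarTower A L K] (G : A[X]) (hG : G.Monic) {y : K}
    (hGy : aeval y G = 0) :
    ∃ q : A[X], aeval y (derivative G) = aeval y q * aeval y (derivative (minpoly L y)) := by
  have hGy' : aeval y (G.map (algebraMap A L)) = 0 := by rw [aeval_map_algebraMap]; exact hGy
  have hyint : IsIntegral L y := ⟨G.map (algebraMap A L), hG.map _, hGy'⟩
  have hdvd : minpoly L y ∣ G.map (algebraMap A L) := minpoly.dvd L y hGy'
  obtain ⟨m', hm'⟩ := IsIntegrallyClosed.eq_map_mul_C_of_dvd L hG hdvd
  rw [(minpoly.monic hyint).leadingCoeff, C_1, mul_one] at hm'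
  obtain ⟨q, hq⟩ := hdvd
  have hqdvd : q ∣ G.map (algebraMap A L) := ⟨minpoly L y, by rw [hq, mul_comm]⟩
  obtain ⟨q', hq'⟩ := IsIntegrallyClosed.eq_map_mul_C_of_dvd L hG hqdvd
  have hlc : q.leadingCoeff = 1 := by
    have h1 := congrArg leadingCoeff hq
    rw [(hG.map _).leadingCoeff, leadingCoeff_mul, (minpoly.monic hyint).leadingCoeff,
      one_mul] at h1
    exact h1.symm
  rw [hlc, C_1, mul_one] at hq'
  have hGfac : G = m' * q' := by
    apply Polynomial.map_injective _ (IsFractionRing.injective A L)
    rw [Polynomial.map_mul, hm', hq', hq]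
  have hm'y : aeval y m' = 0 := by
    rw [← aeval_map_algebraMap L, hm', minpoly.aeval]
  have hdm' : aeval y (derivative m') = aeval y (derivative (minpoly L y)) := by
    rw [← hm', derivative_map, aeval_map_algebraMap]
  refine ⟨q', ?_⟩
  rw [hGfac, derivative_mul, map_add, map_mul, map_mul, hm'y, zero_mul, add_zero, hdm', mul_comm]

end Gauss

section Combined

/-- **discriminant lemma**: if `y` generates `K` over `L = Frac A`, `G ∈ A[X]` is a monic
relation of `y` and `w · G'(y) = d ≠ 0` with `w ∈ A[y]`, `d ∈ A`, then `d` times any element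
integral over `A` lies in `A[y]` -/
theorem disc_mul_mem_adjoin {A L K : Type*} [CommRing A] [IsDomain A] [IsIntegrallyClosed A]
    [Field L] [Field K] [Algebra A L] [IsFractionRing A L] [Algebra L K] [Algebra A K]
    [IsScalarTower A L K] (G : A[X]) (hG : G.Monic) {y : K} (hGy : aeval y G = 0)
    (hy : Algebra.adjoin L ({y} : Set K) = ⊤)
    {w : K} (hw : w ∈ Algebra.adjoin A ({y} : Set K)) {d : A}
    (hwd : w * aeval y (derivative G) = algebraMap A K d) (hd0 : algebraMap A K d ≠ 0)
    {b : K} (hb : IsIntegral A b) : algebraMap A K d * b ∈ Algebra.adjoin A ({y} : Set K) := by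
  have hGy' : aeval y (G.map (algebraMap A L)) = 0 := by rw [aeval_map_algebraMap]; exact hGy
  have hyintL : IsIntegral L y := ⟨G.map (algebraMap A L), hG.map _, hGy'⟩
  have hyint : IsIntegral A y := ⟨G, hG, hGy⟩
  obtain ⟨q, hq⟩ := exists_mul_derivative_minpoly (L := L) G hG hGy
  have hwd' : (w * aeval y q) * aeval y (derivative (minpoly L y)) = algebraMap A K d := by
    rw [← hwd, hq]; ring
  have hder : aeval y (derivative (minpoly L y)) ≠ 0 := by
    intro h0
    rw [h0, mul_zero] at hwd'
    exact hd0 hwd'.symm
  -- finiteness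
  haveI hfin : FiniteDimensional L K := by
    have h1 : Module.Finite L (Algebra.adjoin L ({y} : Set K)) :=
      Algebra.finite_adjoin_simple_of_isIntegral hyintL
    rw [hy] at h1
    exact Module.Finite.equiv (Subalgebra.topEquiv (R := L) (A := K)).toLinearEquiv
  -- separability
  have hsepy : IsSeparable L y := by
    unfold IsSeparable
    rw [Polynomial.separable_iff_derivative_ne_zero (minpoly.irreducible hyintL)]
    intro h0
    rw [h0, map_zero] at hder
    exact hder rfl
  haveI hsep : Algebra.IsSeparable L K := by
    have h1 : L⟮y⟯ = ⊤ := by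
      apply IntermediateField.toSubalgebra_injective
      rw [IntermediateField.adjoin_simple_toSubalgebra_of_isAlgebraic hyintL.isAlgebraic, hy,
        IntermediateField.top_toSubalgebra]
    have h2 : Algebra.IsSeparable L L⟮y⟯ :=
      (IntermediateField.isSeparable_adjoin_simple_iff_isSeparable L K).2 hsepy
    rw [h1] at h2
    exact AlgEquiv.Algebra.isSeparable (IntermediateField.topEquiv (F := L) (E := K))
  have hw' : w * aeval y q ∈ Algebra.adjoin A ({y} : Set K) := by
    refine Subalgebra.mul_mem _ hw ?_
    rw [Algebra.adjoin_singleton_eq_range_aeval]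
    exact ⟨q, rfl⟩
  exact mul_isIntegral_mem_adjoin (L := L) hy hyint hw' hwd' hb

end Combined

end Groth.Agent.Lib.Helper2.FF
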