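import Mathlib
import Groth.Agent.Lib.Helper2.FunFld.GP1

set_option autoImplicit false
open scoped WithZero IntermediateField TensorProduct
open FunFld Polynomial IntermediateField
open scoped IntermediateField.algebraAdjoinAdjoin

namespace Groth.Agent.Lib.Helper2.FF

section Setup

variable {k k' K K' : Type*} [Field k] [Field k'] [Field K] [Field K']
    [Algebra k k'] [Algebra k K] [Algebra K K'] [Algebra k' K'] [Algebra k K']
    [IsScalarTower k k' K'] [IsScalarTower k K K']

theorem transcendental_cExt [Algebra.IsAlgebraic k k'] {t : K} (ht : Transcendental k t) :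
    Transcendental k' (algebraMap K K' t) := by
  intro halg
  apply ht
  have h1 : IsAlgebraic k (algebraMap K K' t) := halg.restrictScalars k
  exact (isAlgebraic_algebraMap_iff (algebraMap K K').injective).1 h1

theorem map_mem_adjoin {t : K} {t' : K'} (htt : algebraMap K K' t = t') {x : K}
    (hx : x ∈ Algebra.adjoin k ({t} : Set K)) :
    algebraMap K K' x ∈ Algebra.adjoin k' ({t'} : Set K') := by
  induction hx using Algebra.adjoin_induction with
  | mem x hx =>
    rw [Set.mem_singleton_iff] at hx
    rw [hx, htt]
    exact Algebra.subset_adjoin (Set.mem_singleton _)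
  | algebraMap c =>
    rw [← IsScalarTower.algebraMap_apply k K K', IsScalarTower.algebraMap_apply k k' K']
    exact Subalgebra.algebraMap_mem _ _
  | add x y _ _ hx hy => rw [map_add]; exact add_mem hx hy
  | mul x y _ _ hx hy => rw [map_mul]; exact mul_mem hx hy

theorem map_mem_adjoin_field {t : K} {t' : K'} (htt : algebraMap K K' t = t') {x : K}
    (hx : x ∈ k⟮t⟯) : algebraMap K K' x ∈ k'⟮t'⟯ := by
  obtain ⟨r, s, rfl⟩ := (IntermediateField.mem_adjoin_simple_iff k x).1 hx
  rw [map_div₀]
  refine div_mem ?_ ?_
  · have h1 : aeval t r ∈ Algebra.adjoin k ({t} : Set K) := by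
      rw [Algebra.adjoin_singleton_eq_range_aeval]; exact ⟨r, rfl⟩
    exact IntermediateField.algebra_adjoin_le_adjoin _ _ (map_mem_adjoin (k' := k') htt h1)
  · have h1 : aeval t s ∈ Algebra.adjoin k ({t} : Set K) := by
      rw [Algebra.adjoin_singleton_eq_range_aeval]; exact ⟨s, rfl⟩
    exact IntermediateField.algebra_adjoin_le_adjoin _ _ (map_mem_adjoin (k' := k') htt h1)

/-- the ring hom `k[t] → k'[t']` -/
noncomputable def rho0 {t : K} {t' : K'} (htt : algebraMap K K' t = t') :
    Algebra.adjoin k ({t} : Set K) →+* Algebra.adjoin k' ({t'} : Set K') where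
  toFun x := ⟨algebraMap K K' x.1, map_mem_adjoin (k := k) (k' := k') htt x.2⟩
  map_one' := by ext; simp
  map_mul' x y := by ext; simp
  map_zero' := by ext; simp
  map_add' x y := by ext; simp

theorem aeval_map_rho0 {t : K} {t' : K'} (htt : algebraMap K K' t = t') (y : K)
    (p : (Algebra.adjoin k ({t} : Set K))[X]) :
    aeval (algebraMap K K' y) (p.map (rho0 (k := k) (k' := k') htt)) =
      algebraMap K K' (aeval y p) := by
  rw [aeval_def, eval₂_map, aeval_def, hom_eval₂]
  congr 1

set_option maxHeartbeats 1000000 in
/-- **the discriminant lemma in a constant field extension** -/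
theorem good_mul_mem [Algebra.IsAlgebraic k k']
    (hsurj : Function.Surjective (Algebra.TensorProduct.productMap
      (IsScalarTower.toAlgHom k k' K') (IsScalarTower.toAlgHom k K K')))
    {t : K} (ht : Transcendental k t) (y : K) (Dt : k[X]) (w : K)
    (hyadj : Algebra.adjoin k⟮t⟯ ({y} : Set K) = ⊤)
    (hyint : IsIntegral (Algebra.adjoin k ({t} : Set K)) y)
    (hgauss : minpoly k⟮t⟯ y = (minpoly (Algebra.adjoin k ({t} : Set K)) y).map
        (algebraMap (Algebra.adjoin k ({t} : Set K)) k⟮t⟯))
    (hw : w ∈ Algebra.adjoin k ({t, y} : Set K))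
    (hwD : w * aeval y (derivative (minpoly k⟮t⟯ y)) = aeval t Dt)
    (hD0 : aeval t Dt ≠ 0)
    {t' y' : K'} (htt : algebraMap K K' t = t') (hyy : algebraMap K K' y = y')
    {b : K'} (hb : IsIntegral (Algebra.adjoin k' ({t'} : Set K')) b) :
    algebraMap K K' (aeval t Dt) * b ∈
      Algebra.adjoin (Algebra.adjoin k' ({t'} : Set K')) ({y'} : Set K') := by
  classical
  have ht' : Transcendental k' t' := by rw [← htt]; exact transcendental_cExt ht
  haveI : IsIntegrallyClosed (Algebra.adjoin k' ({t'} : Set K')) :=
    IsIntegrallyClosed.of_equiv (Polynomial.algEquivOfTranscendental k' t' ht').toRingEquiv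
  -- `w`
  have hw' : ∀ x ∈ Algebra.adjoin k ({t, y} : Set K), algebraMap K K' x ∈
      Algebra.adjoin (Algebra.adjoin k' ({t'} : Set K')) ({y'} : Set K') := by
    intro x hx
    induction hx using Algebra.adjoin_induction with
    | mem x hx =>
      rcases hx with rfl | hx
      · have : algebraMap K K' x = algebraMap (Algebra.adjoin k' ({t'} : Set K')) K'
            ⟨t', Algebra.subset_adjoin (Set.mem_singleton _)⟩ := htt
        rw [this]
        exact Subalgebra.algebraMap_mem _ _
      · rw [Set.mem_singleton_iff] at hx
        rw [hx, hyy]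
        exact Algebra.subset_adjoin (Set.mem_singleton _)
    | algebraMap c =>
      have : algebraMap K K' (algebraMap k K c) =
          algebraMap (Algebra.adjoin k' ({t'} : Set K')) K'
            (algebraMap k' (Algebra.adjoin k' ({t'} : Set K')) (algebraMap k k' c)) := by
        rw [← IsScalarTower.algebraMap_apply k K K', IsScalarTower.algebraMap_apply k k' K']
        rfl
      rw [this]
      exact Subalgebra.algebraMap_mem _ _
    | add x y _ _ hx hy => rw [map_add]; exact add_mem hx hy
    | mul x y _ _ hx hy => rw [map_mul]; exact mul_mem hx hy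
  set G₀ := minpoly (Algebra.adjoin k ({t} : Set K)) y with hG₀
  set G := G₀.map (rho0 (k := k) (k' := k') htt) with hGdef
  have hG : G.Monic := (minpoly.monic hyint).map _
  have hGy : aeval y' G = 0 := by
    rw [hGdef, ← hyy, aeval_map_rho0, hG₀, minpoly.aeval, map_zero]
  -- the unit
  have hdmem : algebraMap K K' (aeval t Dt) ∈ Algebra.adjoin k' ({t'} : Set K') := by
    apply map_mem_adjoin (k := k) (k' := k') htt
    rw [Algebra.adjoin_singleton_eq_range_aeval]
    exact ⟨Dt, rfl⟩
  set d : Algebra.adjoin k' ({t'} : Set K') := ⟨algebraMap K K' (aeval t Dt), hdmem⟩ with hd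
  have hwd : algebraMap K K' w * aeval y' (derivative G) =
      algebraMap (Algebra.adjoin k' ({t'} : Set K')) K' d := by
    have h1 : aeval y (derivative (minpoly k⟮t⟯ y)) = aeval y (derivative G₀) := by
      rw [hgauss, derivative_map, aeval_map_algebraMap]
    rw [hGdef, derivative_map, ← hyy, aeval_map_rho0, ← map_mul, ← h1, hwD]
    rfl
  have hd0 : algebraMap (Algebra.adjoin k' ({t'} : Set K')) K' d ≠ 0 := by
    change algebraMap K K' (aeval t Dt) ≠ 0
    simpa using hD0
  -- generation
  have hy' : Algebra.adjoin k'⟮t'⟯ ({y'} : Set K') = ⊤ := by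
    rw [Algebra.eq_top_iff]
    intro z
    obtain ⟨x, rfl⟩ := hsurj z
    induction x using TensorProduct.induction_on with
    | zero => rw [map_zero]; exact Subalgebra.zero_mem _
    | tmul c x =>
      rw [Algebra.TensorProduct.productMap_apply_tmul]
      refine Subalgebra.mul_mem _ ?_ ?_
      · have : (IsScalarTower.toAlgHom k k' K') c =
            algebraMap k'⟮t'⟯ K' (algebraMap k' k'⟮t'⟯ c) := rfl
        rw [this]
        exact Subalgebra.algebraMap_mem _ _
      · change algebraMap K K' x ∈ _
        have hx : x ∈ Algebra.adjoin k⟮t⟯ ({y} : Set K) := by rw [hyadj]; trivial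
        induction hx using Algebra.adjoin_induction with
        | mem x hx =>
          rw [Set.mem_singleton_iff] at hx
          rw [hx, hyy]
          exact Algebra.subset_adjoin (Set.mem_singleton _)
        | algebraMap l =>
          have hl := map_mem_adjoin_field (k := k) (k' := k') (K' := K') htt l.2
          have : algebraMap K K' (algebraMap k⟮t⟯ K l) =
              algebraMap k'⟮t'⟯ K' ⟨algebraMap K K' l.1, hl⟩ := rfl
          rw [this]
          exact Subalgebra.algebraMap_mem _ _
        | add x y _ _ hx hy => rw [map_add]; exact add_mem hx hy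
        | mul x y _ _ hx hy => rw [map_mul]; exact mul_mem hx hy
    | add x y hx hy => rw [map_add]; exact add_mem hx hy
  exact disc_mul_mem_adjoin (L := k'⟮t'⟯) G hG hGy hy' (hw' w hw) hwd hd0 hb

end Setup

end Groth.Agent.Lib.Helper2.FF
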