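import Mathlib
import Groth.Agent.Lib.Helper2.FunFld.GP2

set_option autoImplicit false
open scoped WithZero IntermediateField TensorProduct
open FunFld Polynomial IntermediateField

namespace Groth.Agent.Lib.Helper2.FF

section StepC

variable {k F K K' : Type*} [Field k] [Field F] [Field K] [Field K']
    [Algebra k F] [Algebra F K] [Algebra k K] [IsScalarTower k F K]
    [Algebra K K'] [Algebra k K'] [Algebra F K']
    [IsScalarTower k K K'] [IsScalarTower F K K'] [IsScalarTower k F K']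

/-- an element of `K'` integral above `P` becomes integral above `P₀ = P ∩ F` after
multiplication by a suitable unit at `P` -/
theorem exists_unit_mul_integral [FiniteDimensional F K] [FiniteDimensional K K']
    [FiniteDimensional F K']
    (hF : IsFunctionField k F) (hK : IsFunctionField k K) (P₀ : FunFld.Place k F)
    (P : FunFld.Place k K) (hP : IsOver P P₀) (z : K')
    (hz : ∀ Q : FunFld.Place k K', OverK Q P → v Q z ≤ 1) :
    ∃ s : K, v P s = 1 ∧ ∀ Q : FunFld.Place k K', IsOver Q P₀ → v Q (s • z) ≤ 1 := by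
  classical
  have hfin' : {P₁ : FunFld.Place k K | IsOver P₁ P₀}.Finite := finite_isOver hF P₀
  have hfin'' : {R : FunFld.Place k K' | IsOver R P₀}.Finite := finite_isOver hF P₀
  obtain ⟨N, hN⟩ : ∃ N : ℕ, ∀ R : FunFld.Place k K', IsOver R P₀ →
      v R z ≤ WithZero.exp (N : ℤ) := by
    refine ⟨∑ R ∈ hfin''.toFinset, (WithZero.log (v R z)).toNat, fun R hR => ?_⟩
    rcases eq_or_ne (v R z) 0 with h0 | h0
    · rw [h0]; exact zero_le
    rw [← WithZero.exp_log h0, WithZero.exp_le_exp]
    have h1 : (WithZero.log (v R z)).toNat ≤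
        ∑ R ∈ hfin''.toFinset, (WithZero.log (v R z)).toNat :=
      Finset.single_le_sum (f := fun R : FunFld.Place k K' => (WithZero.log (v R z)).toNat)
        (fun _ _ => Nat.zero_le _) (hfin''.mem_toFinset.2 hR)
    have h2 := Int.self_le_toNat (WithZero.log (v R z))
    have h3 : ((WithZero.log (v R z)).toNat : ℤ) ≤
        ((∑ R ∈ hfin''.toFinset, (WithZero.log (v R z)).toNat : ℕ) : ℤ) := by
      exact_mod_cast h1
    exact h2.trans h3
  haveI : Finite {P₁ : FunFld.Place k K | IsOver P₁ P₀} := hfin'.to_subtype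
  obtain ⟨s, hs⟩ := weak_approx
    (fun i : {P₁ : FunFld.Place k K | IsOver P₁ P₀} => (i : FunFld.Place k K))
    Subtype.val_injective (fun i => if (i : FunFld.Place k K) = P then 1 else 0)
    (fun i => if (i : FunFld.Place k K) = P then 0 else -(N : ℤ))
  have hsP : v P s = 1 := by
    have := hs ⟨P, hP⟩
    simp only [if_true, WithZero.exp_zero] at this
    have e : s = (s - 1) + 1 := by ring
    rw [e, Valuation.map_add_eq_of_lt_right, map_one]
    rw [map_one]; exact this
  have hsP₁ : ∀ P₁ : FunFld.Place k K, IsOver P₁ P₀ → P₁ ≠ P →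
      v P₁ s ≤ WithZero.exp (-(N : ℤ)) := by
    intro P₁ hP₁ hne
    have := hs ⟨P₁, hP₁⟩
    simp only [if_neg hne, sub_zero] at this
    exact this.le
  refine ⟨s, hsP, fun R hR => ?_⟩
  obtain ⟨P₁, e₂, hP₁, he₂1, he₂⟩ :=
    exists_isOver_mid (k := k) (k' := k) hF hK (fun R c => R.2.1 c) P₀ R hR
  rw [Algebra.smul_def, map_mul]
  change R.1 _ * _ ≤ 1
  rw [he₂]
  by_cases hPP : P₁ = P
  · subst hPP
    have h1 : P₁.1 s = 1 := hsP
    rw [h1, one_pow, one_mul]
    exact hz R ⟨e₂, he₂⟩
  · have h1 : P₁.1 s ≤ WithZero.exp (-(N : ℤ)) := hsP₁ P₁ hP₁ hPP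
    have h2 : P₁.1 s ^ e₂ ≤ WithZero.exp (-(N : ℤ)) := by
      calc P₁.1 s ^ e₂ ≤ WithZero.exp (-(N : ℤ)) ^ e₂ := pow_le_pow_left' h1 e₂
        _ ≤ WithZero.exp (-(N : ℤ)) ^ 1 := by
            apply pow_le_pow_right_of_le_one' _ he₂1
            rw [← WithZero.exp_zero, WithZero.exp_le_exp]; omega
        _ = _ := pow_one _
    calc P₁.1 s ^ e₂ * v R z ≤ WithZero.exp (-(N : ℤ)) * WithZero.exp (N : ℤ) :=
          mul_le_mul' h2 (hN R hR)
      _ = 1 := by rw [← WithZero.exp_add]; simp

end StepC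

section StepD

variable {k K : Type*} [Field k] [Field K] [Algebra k K]

/-- elements of `k(t)` integral at `P` are quotients of polynomials with denominator a unit at
`P` -/
theorem exists_num_den (P : FunFld.Place k K) {t : K} (htP : v P t ≤ 1) {a : K}
    (ha : a ∈ k⟮t⟯) (haP : v P a ≤ 1) :
    ∃ n d : k[X], v P (aeval t d) = 1 ∧ a * aeval t d = aeval t n := by
  classical
  obtain ⟨p, q, rfl⟩ := (IntermediateField.mem_adjoin_simple_iff k a).1 ha
  by_cases hq : aeval t q = 0
  · refine ⟨0, 1, by simp, ?_⟩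
    rw [hq, div_zero, zero_mul, map_zero]
  have hq0 : q ≠ 0 := by
    rintro rfl
    simp at hq
  obtain ⟨p', hp'⟩ := EuclideanDomain.gcd_dvd_left p q
  obtain ⟨q', hq'⟩ := EuclideanDomain.gcd_dvd_right p q
  obtain ⟨d, hd⟩ : ∃ d, d = EuclideanDomain.gcd p q := ⟨_, rfl⟩
  rw [← hd] at hp' hq'
  have hd0 : d ≠ 0 := by
    intro h0
    rw [h0, zero_mul] at hq'
    exact hq0 hq'
  have hcop : IsCoprime p' q' := by
    have := EuclideanDomain.gcd_eq_gcd_ab p q
    rw [← hd] at this
    obtain ⟨A, hA⟩ : ∃ A, A = EuclideanDomain.gcdA p q := ⟨_, rfl⟩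
    obtain ⟨B, hB⟩ : ∃ B, B = EuclideanDomain.gcdB p q := ⟨_, rfl⟩
    rw [← hA, ← hB] at this
    refine ⟨A, B, ?_⟩
    apply mul_left_cancel₀ hd0
    conv_rhs => rw [mul_one, this]
    conv_rhs => rw [hp', hq']
    ring
  have hdt : aeval t d ≠ 0 := by
    intro h0
    apply hq
    rw [hq', map_mul, h0, zero_mul]
  have hq't : aeval t q' ≠ 0 := by
    intro h0
    apply hq
    rw [hq', map_mul, h0, mul_zero]
  have hl' : aeval t p / aeval t q = aeval t p' / aeval t q' := by
    rw [hp', hq', map_mul, map_mul, mul_div_mul_left _ _ hdt]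
  rw [hl'] at haP ⊢
  refine ⟨p', q', ?_, by field_simp⟩
  have hk := P.2.1
  have hle : v P (aeval t q') ≤ 1 := w_aeval_le_one P.1 hk htP q'
  by_contra hne
  have hlt : v P (aeval t q') < 1 := lt_of_le_of_ne hle hne
  have hp'lt : v P (aeval t p') < 1 := by
    have e : aeval t p' = (aeval t p' / aeval t q') * aeval t q' := by field_simp
    rw [e, map_mul]
    calc v P (aeval t p' / aeval t q') * v P (aeval t q') ≤ 1 * v P (aeval t q') :=
          mul_le_mul' haP le_rfl
      _ = _ := one_mul _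
      _ < 1 := hlt
  obtain ⟨A, B, hAB⟩ := hcop
  have h1 := congrArg (aeval t) hAB
  rw [map_add, map_mul, map_mul, map_one] at h1
  have h2 : v P (aeval t A * aeval t p' + aeval t B * aeval t q') < 1 := by
    refine lt_of_le_of_lt (Valuation.map_add _ _ _) (max_lt ?_ ?_)
    · rw [map_mul]
      calc v P (aeval t A) * v P (aeval t p') ≤ 1 * v P (aeval t p') :=
            mul_le_mul' (w_aeval_le_one P.1 hk htP A) le_rfl
        _ = _ := one_mul _
        _ < 1 := hp'lt
    · rw [map_mul]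
      calc v P (aeval t B) * v P (aeval t q') ≤ 1 * v P (aeval t q') :=
            mul_le_mul' (w_aeval_le_one P.1 hk htP B) le_rfl
        _ = _ := one_mul _
        _ < 1 := hlt
  rw [h1, map_one] at h2
  exact lt_irrefl _ h2

end StepD

section StepD2

/-- scaling an integral equation to clear denominators -/
theorem isIntegral_mul_of_coeffs {A K' : Type*} [CommRing A] [Field K'] [Algebra A K']
    (b : K') (n : ℕ) (a : Fin n → K')
    (hb : b ^ n + ∑ i : Fin n, a i * b ^ (i : ℕ) = 0) (U : K')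
    (hU : ∀ i : Fin n, ∃ c : A, algebraMap A K' c = a i * U ^ (n - (i : ℕ))) :
    IsIntegral A (U * b) := by
  choose c hc using hU
  refine ⟨X ^ n + ∑ i : Fin n, C (c i) * X ^ (i : ℕ),
    monic_X_pow_add (degree_sum_fin_lt c), ?_⟩
  rw [eval₂_add, eval₂_pow, eval₂_X, eval₂_finsetSum]
  have h1 : ∀ i : Fin n, eval₂ (algebraMap A K') (U * b) (C (c i) * X ^ (i : ℕ)) =
      U ^ n * (a i * b ^ (i : ℕ)) := by
    intro i
    rw [eval₂_mul, eval₂_C, eval₂_pow, eval₂_X, hc i, mul_pow]
    have : U ^ n = U ^ (n - (i : ℕ)) * U ^ (i : ℕ) := by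
      rw [← pow_add]; congr 1; have := i.2; omega
    rw [this]; ring
  rw [Finset.sum_congr rfl (fun i _ => h1 i), ← Finset.mul_sum, mul_pow, ← mul_add, hb, mul_zero]

end StepD2

end Groth.Agent.Lib.Helper2.FF
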