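import Mathlib
import Groth.Agent.Lib.Helper2.FunFld.AD4
import Groth.Agent.Lib.Helper2.FunFld.AD2
import Groth.Agent.Lib.Helper2.FunFld.GP3

set_option autoImplicit false
open scoped IntermediateField
open FunFld Polynomial
open Groth.Agent.Lib.Helper2.FF

namespace Groth.Agent.Lib.Helper2.AD

universe u v

section Denoms

variable {k : Type u} {K : Type v} [Field k] [Field K] [Algebra k K] {x : K}

theorem aeval_mem_adjoin_pair (y : K) (p : k[X]) :
    Polynomial.aeval x p ∈ Algebra.adjoin k ({x, y} : Set K) := by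
  have h1 : Polynomial.aeval x p ∈ Algebra.adjoin k ({x} : Set K) := by
    rw [Algebra.adjoin_singleton_eq_range_aeval]; exact ⟨p, rfl⟩
  exact Algebra.adjoin_mono (by intro a ha; rw [Set.mem_singleton_iff] at ha; rw [ha]; simp) h1

/-- elements with `P₀`-integral coordinates in the power basis are quotients of polynomials in
`x, y` with denominator a unit at `Q` -/
theorem exists_frac_of_coords [FiniteDimensional k⟮x⟯ K] (pb : PowerBasis k⟮x⟯ K)
    (P₀ : FunFld.Place k k⟮x⟯) (Q : FunFld.Place k K) (e : ℕ) (he : IsOverWith Q P₀ e)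
    (hQx : v Q x ≤ 1) (z : K) (hz : ∀ i, P₀.1 (pb.basis.repr z i) ≤ 1) :
    ∃ u ∈ Algebra.adjoin k ({x, pb.gen} : Set K), ∃ w ∈ Algebra.adjoin k ({x, pb.gen} : Set K),
      v Q w = 1 ∧ z * w = u := by
  classical
  have hc : ∀ i : Fin pb.dim, ∃ nu de : k[X], v Q (Polynomial.aeval x de) = 1 ∧
      ((pb.basis.repr z i : k⟮x⟯) : K) * Polynomial.aeval x de = Polynomial.aeval x nu := by
    intro i
    apply exists_num_den Q hQx (SetLike.coe_mem _)
    have := he (pb.basis.repr z i)
    change Q.1 (algebraMap k⟮x⟯ K (pb.basis.repr z i)) ≤ 1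
    rw [this]
    exact pow_le_one' (hz i) e
  choose nu de hde hnude using hc
  refine ⟨∑ i, Polynomial.aeval x (nu i) * (∏ l ∈ Finset.univ.erase i, Polynomial.aeval x (de l)) *
      pb.gen ^ (i : ℕ), ?_, ∏ i, Polynomial.aeval x (de i), ?_, ?_, ?_⟩
  · refine Subalgebra.sum_mem _ fun i _ => ?_
    refine mul_mem (mul_mem (aeval_mem_adjoin_pair _ _) (Subalgebra.prod_mem _ fun l _ =>
      aeval_mem_adjoin_pair _ _)) (pow_mem (Algebra.subset_adjoin (by simp)) _)
  · exact Subalgebra.prod_mem _ fun l _ => aeval_mem_adjoin_pair _ _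
  · rw [map_prod]
    exact Finset.prod_eq_one fun i _ => hde i
  · conv_lhs => rw [← pb.basis.sum_repr z]
    rw [Finset.sum_mul]
    refine Finset.sum_congr rfl fun i _ => ?_
    rw [pb.basis_eq_pow, Algebra.smul_def, ← Finset.mul_prod_erase _ _ (Finset.mem_univ i),
      ← hnude i]
    change ((pb.basis.repr z i : k⟮x⟯) : K) * _ * _ = _
    ring

end Denoms

end Groth.Agent.Lib.Helper2.AD
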