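import Mathlib
import Groth.Agent.Lib.Helper2.FunFld.AD5
import Groth.Agent.Lib.Helper2.FunFld.Trans
import Groth.Agent.Lib.Helper26.WGlobal7
import Groth.Agent.Lib.Helper26.HasseExists
import Groth.Agent.Lib.Helper26.FunFldLocal
import Groth.Agent.Lib.Helper9.FunFldInsep

set_option autoImplicit false
open scoped IntermediateField
open LaurentSeries HahnSeries KaehlerDifferential
open FunFld Polynomial
open Groth.Agent.Lib.Helper2.FF Groth.Agent.Lib.Helper2.Tate

namespace Groth.Agent.Lib.Helper2.AD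

universe u v

section Key

variable {k : Type u} {K : Type v} [Field k] [IsAlgClosed k] [Field K] [Algebra k K]

theorem adjoin_adjoin_eq_top {x y : K} (hxy : IntermediateField.adjoin k ({x, y} : Set K) = ⊤) :
    (k⟮x⟯)⟮y⟯ = ⊤ := by
  apply IntermediateField.restrictScalars_injective k
  rw [IntermediateField.adjoin_adjoin_left, IntermediateField.restrictScalars_top]
  rw [← hxy]
  congr 1

set_option maxHeartbeats 1000000 in
/-- **key inclusion**: at a finite place, elements of order at least the adjoint exponent at all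
places on the same vertical line are fractions of polynomials in `x, y` with unit denominator -/
theorem key_incl (hK : IsFunctionField k K) (x y : K)
    (hxy : IntermediateField.adjoin k ({x, y} : Set K) = ⊤)
    (f : MvPolynomial (Fin 2) k)
    (hker : RingHom.ker (MvPolynomial.aeval ![x, y] : MvPolynomial (Fin 2) k →ₐ[k] K) =
      Ideal.span {f})
    (Q : FunFld.Place k K) (hQx : v Q x ≤ 1)
    (ΦQ : K →ₐ[k] LaurentSeries k) (hΦQ : LocRes.IsExpansionAt Q.1 ΦQ)
    (hfy : MvPolynomial.aeval ![x, y] (MvPolynomial.pderiv 1 f) ≠ 0)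
    (hdx : LocRes.D k (ΦQ x) ≠ 0) :
    ∃ (htr : Transcendental k x) (P₀ : FunFld.Place k k⟮x⟯) (Bd : FunFld.Place k K → ℤ),
      IsOver Q P₀ ∧
      Bd Q = LocRes.ordDiff ΦQ (MvPolynomial.aeval ![x, y] (MvPolynomial.pderiv 1 f))⁻¹ x ∧
      ∀ z : K, (∀ Q' : FunFld.Place k K, IsOver Q' P₀ → Q'.1 z ≤ WithZero.exp (Bd Q')) →
        ∃ u ∈ Algebra.adjoin k ({x, y} : Set K), ∃ w ∈ Algebra.adjoin k ({x, y} : Set K),
          v Q w = 1 ∧ z * w = u := by
  classical
  -- `x` is transcendental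
  have htr : Transcendental k x := by
    apply transcendental_of_not_mem_range hK
    rintro ⟨c, rfl⟩
    apply hdx
    rw [LocRes.map_algebraMap, LocRes.D_apply, LocRes.derivative_C]
  refine ⟨htr, ?_⟩
  have hL : IsFunctionField k k⟮x⟯ :=
    Groth.Agent.Lib.Helper26.PlaneModel2.isFunctionField_adjoin hK htr
  haveI : FiniteDimensional k⟮x⟯ K := finiteDimensional_adjoin_simple hK htr
  have hy : IsIntegral k⟮x⟯ y := Algebra.IsIntegral.isIntegral y
  obtain ⟨a₀, ha₀0, hev⟩ := evX_eq_C_mul_minpoly hker hy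
  -- separability
  have hfy' : algebraMap k⟮x⟯ K a₀ * Polynomial.aeval y (derivative (minpoly k⟮x⟯ y)) =
      MvPolynomial.aeval ![x, y] (MvPolynomial.pderiv 1 f) := by
    rw [← aeval_derivative_evX, hev, derivative_mul, derivative_C, zero_mul, zero_add, map_mul,
      Polynomial.aeval_C]
  have hμ' : Polynomial.aeval y (derivative (minpoly k⟮x⟯ y)) ≠ 0 := by
    intro h0
    rw [h0, mul_zero] at hfy'
    exact hfy hfy'.symm
  have hsepy : IsSeparable k⟮x⟯ y := by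
    change (minpoly k⟮x⟯ y).Separable
    rw [Polynomial.separable_iff_derivative_ne_zero (minpoly.irreducible hy)]
    intro h0
    rw [h0, map_zero] at hμ'
    exact hμ' rfl
  have htop : (k⟮x⟯)⟮y⟯ = ⊤ := adjoin_adjoin_eq_top hxy
  haveI hsep : Algebra.IsSeparable k⟮x⟯ K := by
    haveI : Algebra.IsSeparable k⟮x⟯ (k⟮x⟯)⟮y⟯ :=
      (IntermediateField.isSeparable_adjoin_simple_iff_isSeparable k⟮x⟯ K).2 hsepy
    have e : (k⟮x⟯)⟮y⟯ ≃ₐ[k⟮x⟯] K :=
      (IntermediateField.equivOfEq htop).trans IntermediateField.topEquiv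
    exact AlgEquiv.Algebra.isSeparable e
  have hadj : Algebra.adjoin k⟮x⟯ ({y} : Set K) = ⊤ := by
    rw [← IntermediateField.adjoin_simple_toSubalgebra_of_isAlgebraic hy.isAlgebraic, htop,
      IntermediateField.top_toSubalgebra]
  obtain ⟨pb, hpb⟩ : ∃ pb : PowerBasis k⟮x⟯ K, pb.gen = y :=
    ⟨PowerBasis.ofAdjoinEqTop hy hadj, PowerBasis.ofAdjoinEqTop_gen hy hadj⟩
  -- the place below
  obtain ⟨P₀, e, he⟩ := exists_isOverWith hL Q
  have he1 : 1 ≤ e := isOverWith_one_le he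
  have hP₀x : P₀.1 (IntermediateField.AdjoinSimple.gen k x) ≤ 1 := by
    by_contra hcon
    push Not at hcon
    have h1 := he (IntermediateField.AdjoinSimple.gen k x)
    rw [IntermediateField.AdjoinSimple.algebraMap_gen] at h1
    have h2 : 1 < P₀.1 (IntermediateField.AdjoinSimple.gen k x) ^ e := one_lt_pow' hcon (by omega)
    rw [← h1] at h2
    exact absurd hQx (not_le.2 h2)
  obtain ⟨a, ha⟩ := Groth.Agent.Lib.Helper26.FunFldLocal.exists_const_sub_lt hL P₀ hP₀x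
  obtain ⟨t, htdef⟩ : ∃ t : k⟮x⟯, t = IntermediateField.AdjoinSimple.gen k x - algebraMap k k⟮x⟯ a :=
    ⟨_, rfl⟩
  have ht : P₀.1 t = WithZero.exp (-1) := by
    rw [htdef]
    exact v_eq_exp_neg_one_of_adjoin_eq_top hL (adjoin_gen_sub_eq_top x a) P₀ ha
  have htK : algebraMap k⟮x⟯ K t = x - algebraMap k K a := by
    rw [htdef, map_sub, IntermediateField.AdjoinSimple.algebraMap_gen,
      ← IsScalarTower.algebraMap_apply]
  -- expansions
  obtain ⟨s₀, Hs₀, hHs₀⟩ :=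
    Groth.Agent.Lib.Helper26.HasseExists.exists_isHasseFamily_of_isFunctionField hL
  obtain ⟨Φ₀, hΦ₀⟩ := Groth.Agent.Lib.Helper26.WGlobal7.exists_expansions hL s₀ Hs₀ hHs₀
  obtain ⟨s₁, Hs₁, hHs₁⟩ :=
    Groth.Agent.Lib.Helper26.HasseExists.exists_isHasseFamily_of_isFunctionField hK
  obtain ⟨Ψ₀, hΨ₀⟩ := Groth.Agent.Lib.Helper26.WGlobal7.exists_expansions hK s₁ Hs₁ hHs₁
  obtain ⟨Ψ, hΨdef⟩ : ∃ Ψ : FunFld.Place k K → (K →ₐ[k] LaurentSeries k),
      Ψ = Function.update Ψ₀ Q ΦQ := ⟨_, rfl⟩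
  have hΨQ : Ψ Q = ΦQ := by rw [hΨdef, Function.update_self]
  have hΨ : ∀ Q' : FunFld.Place k K, LocRes.IsExpansionAt Q'.1 (Ψ Q') := by
    intro Q'
    by_cases hQQ : Q' = Q
    · subst hQQ; rw [hΨQ]; exact hΦQ
    · rw [hΨdef, Function.update_of_ne hQQ]; exact hΨ₀ Q'
  have hgeoL : FunFld.IsGeometric k k⟮x⟯ :=
    Groth.Agent.Lib.Helper9.FunFld.isGeometric_of_isAlgClosed
  have hgeoK : FunFld.IsGeometric k K :=
    Groth.Agent.Lib.Helper9.FunFld.isGeometric_of_isAlgClosed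
  have hfr : Module.finrank k⟮x⟯ (Ω[k⟮x⟯⁄k]) = 1 := finrank_kaehler_eq_one hL hgeoL
  have hfr' : Module.finrank K (Ω[K⁄k]) = 1 := finrank_kaehler_eq_one hK hgeoK
  have hDx : D k K x ≠ 0 := D_ne_zero_of_D_phi_ne_zero ΦQ hdx
  have ht' : D k K (algebraMap k⟮x⟯ K t) ≠ 0 := by
    rw [htK, map_sub, Derivation.map_algebraMap, sub_zero]
    exact hDx
  -- the bounds
  obtain ⟨fy, hfydef⟩ : ∃ fy : K, fy = MvPolynomial.aeval ![x, y] (MvPolynomial.pderiv 1 f) :=
    ⟨_, rfl⟩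
  rw [← hfydef] at hfy hfy' ⊢
  obtain ⟨Bd, hBd⟩ : ∃ Bd : FunFld.Place k K → ℤ, Bd = fun Q' =>
      WithZero.log (Q'.1 fy) + LocRes.ordDiff (Ψ Q') 1 (algebraMap k⟮x⟯ K t) := ⟨_, rfl⟩
  have hBdexp : ∀ Q' : FunFld.Place k K, WithZero.exp (Bd Q') =
      Q'.1 fy * WithZero.exp (LocRes.ordDiff (Ψ Q') 1 (algebraMap k⟮x⟯ K t)) := by
    intro Q'
    rw [hBd, WithZero.exp_add, WithZero.exp_log ((Valuation.ne_zero_iff _).2 hfy)]
  refine ⟨P₀, Bd, ⟨e, he⟩, ?_, ?_⟩
  · rw [hBd]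
    simp only
    rw [hΨQ, ordDiff_eq_add hΦQ (inv_ne_zero hfy) hdx, map_inv₀, WithZero.log_inv, neg_neg]
    congr 1
    have hDC : LocRes.D k (HahnSeries.C (algebraMap k k a) : LaurentSeries k) = 0 := by
      rw [LocRes.D_apply, LocRes.derivative_C]
    rw [ordDiff_one_eq, ordDiff_one_eq, htK, map_sub, LocRes.map_algebraMap, map_sub, hDC,
      sub_zero]
  · intro z hz
    have hcoord : ∀ i, P₀.1 (pb.basis.repr z i) ≤ 1 := by
      intro i
      refine coords_le_one hL (hΦ₀ P₀) Ψ (fun Q' _ => hΨ Q') hfr hfr' ht ht' pb a₀ ha₀0 ?_ z ?_ i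
      · intro j
        rw [hpb]
        have h1 : a₀ * (minpoly k⟮x⟯ y).coeff j = (evX x f).coeff j := by
          rw [hev, Polynomial.coeff_C_mul]
        obtain ⟨r, hr⟩ := coeff_evX x f j
        rw [h1, hr]
        exact w_aeval_le_one P₀.1 P₀.2.1 hP₀x r
      · intro Q' hQ'
        rw [hpb, hfy', ← hBdexp]
        exact hz Q' hQ'
    have := exists_frac_of_coords pb P₀ Q e he hQx z hcoord
    rw [hpb] at this
    exact this

end Key

end Groth.Agent.Lib.Helper2.AD
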