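import Mathlib
import Groth.Agent.Lib.Helper2.FunFld.Jac1
import Groth.Agent.Lib.Helper2.FunFld.Residue
import Groth.Agent.Lib.Helper2.FunFld.NonSing
import Groth.Agent.Lib.Helper26.FunFldLocal
import Groth.Agent.Lib.Helper26.LocRing2

set_option autoImplicit false
open scoped WithZero
open MvPolynomial FunFld
open Groth.Agent.Lib.Helper2.FF

namespace Groth.Agent.Lib.Helper2.Jac

theorem aeval_mul_of_isHomogeneous {k K σ : Type*} [Field k] [Field K] [Algebra k K]
    {g : MvPolynomial σ k} {m : ℕ} (hg : g.IsHomogeneous m) (a : K) (x : σ → K) :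
    MvPolynomial.aeval (fun i => a * x i) g = a ^ m * MvPolynomial.aeval x g := by
  classical
  rw [MvPolynomial.aeval_def, MvPolynomial.aeval_def, MvPolynomial.eval₂_eq,
    MvPolynomial.eval₂_eq, Finset.mul_sum]
  refine Finset.sum_congr rfl fun d hd => ?_
  have hdeg := hg.degree_eq_sum_deg_support hd
  simp only [mul_pow, Finset.prod_mul_distrib, Finset.prod_pow_eq_pow_sum]
  rw [← hdeg]; ring

variable {k K : Type*} [Field k] [Field K] [Algebra k K]

/-- the ideal of elements of order at least `n` -/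
def idealLE (P : FunFld.Place k K) (n : ℕ) : Ideal P.O where
  carrier := {a | v P (a : K) ≤ WithZero.exp (-(n : ℤ))}
  add_mem' := by
    intro a b ha hb
    have ha' : v P (a : K) ≤ WithZero.exp (-(n : ℤ)) := ha
    have hb' : v P (b : K) ≤ WithZero.exp (-(n : ℤ)) := hb
    change v P ((a + b : P.O) : K) ≤ _
    push_cast
    exact (Valuation.map_add _ _ _).trans (max_le ha' hb')
  zero_mem' := by
    change v P ((0 : P.O) : K) ≤ _
    simp
  smul_mem' := by
    intro c a ha
    change v P ((c * a : P.O) : K) ≤ _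
    have ha' : v P (a : K) ≤ WithZero.exp (-(n : ℤ)) := ha
    have hc : v P (c : K) ≤ 1 := (mem_O_iff P _).1 c.2
    push_cast
    rw [map_mul]
    calc v P (c : K) * v P (a : K) ≤ 1 * WithZero.exp (-(n : ℤ)) := mul_le_mul' hc ha'
      _ = _ := one_mul _

theorem mem_idealLE (P : FunFld.Place k K) (n : ℕ) (a : P.O) :
    a ∈ idealLE P n ↔ v P (a : K) ≤ WithZero.exp (-(n : ℤ)) := Iff.rfl

theorem idealLE_mul_le (P : FunFld.Place k K) (m n : ℕ) :
    idealLE P m * idealLE P n ≤ idealLE P (m + n) := by
  rw [Ideal.mul_le]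
  intro r hr s hs
  rw [mem_idealLE] at hr hs ⊢
  push_cast
  rw [map_mul, neg_add, WithZero.exp_add]
  exact mul_le_mul' hr hs

theorem aeval_algebraMap_eq {σ S : Type*} [CommRing S] [Algebra k S] (b : σ → k)
    (G : MvPolynomial σ k) :
    aeval (fun l => algebraMap k S (b l)) G = algebraMap k S (eval b G) := by
  have h := MvPolynomial.comp_aeval_apply (Algebra.ofId k S) (f := b) G
  rw [Algebra.ofId_apply] at h
  rw [← MvPolynomial.aeval_eq_eval, h]
  rfl

theorem lt_one_iff_le_exp (x : ℤᵐ⁰) : x < 1 ↔ x ≤ WithZero.exp (-1 : ℤ) := by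
  by_cases hx : x = 0
  · subst hx; simp
  · obtain ⟨m, rfl⟩ : ∃ m : ℤ, x = WithZero.exp m := ⟨WithZero.log x, (WithZero.exp_log hx).symm⟩
    rw [← WithZero.exp_zero, WithZero.exp_lt_exp, WithZero.exp_le_exp]
    omega

section T

variable {σ : Type*} [Fintype σ] [DecidableEq σ] (P : FunFld.Place k K) (ψ : σ → K) (b : σ → k)
  (hb : ∀ l, v P (ψ l - algebraMap k K (b l)) < 1)

include hb

theorem v_le_one_of_hb (l : σ) : v P (ψ l) ≤ 1 := by
  have e : ψ l = (ψ l - algebraMap k K (b l)) + algebraMap k K (b l) := by ring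
  rw [e]
  exact (Valuation.map_add _ _ _).trans (max_le (hb l).le (v_algebraMap_le P _))

/-- zeroth order expansion, valuative form -/
theorem v_taylor0 (G : MvPolynomial σ k) :
    v P (aeval ψ G - algebraMap k K (eval b G)) ≤ WithZero.exp (-1 : ℤ) := by
  let a : σ → P.O := fun l => ⟨ψ l, (mem_O_iff P _).2 (v_le_one_of_hb P ψ b hb l)⟩
  let q : σ → P.O := fun l => algebraMap k P.O (b l)
  have h := aeval_sub_aeval_mem a q G
  have hJ : Ideal.span (Set.range fun l => a l - q l) ≤ idealLE P 1 := by
    rw [Ideal.span_le]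
    rintro _ ⟨l, rfl⟩
    rw [SetLike.mem_coe, mem_idealLE]
    have := (lt_one_iff_le_exp _).1 (hb l)
    have e : ((a l - q l : P.O) : K) = ψ l - algebraMap k K (b l) := rfl
    rw [e]
    simpa using this
  have h2 := hJ h
  rw [mem_idealLE] at h2
  have e1 : ((aeval a G : P.O) : K) = aeval ψ G := by
    have := MvPolynomial.comp_aeval_apply (valO P) (f := a) G
    rw [valO_apply] at this
    rw [this]; rfl
  have e2 : ((aeval q G : P.O) : K) = algebraMap k K (eval b G) := by
    have h3 : aeval q G = algebraMap k P.O (eval b G) := aeval_algebraMap_eq b G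
    rw [h3]; rfl
  push_cast at h2
  rw [e1, e2] at h2
  simpa using h2

/-- first order expansion, valuative form -/
theorem v_taylor1 (G : MvPolynomial σ k) :
    v P (aeval ψ G - algebraMap k K (eval b G) -
      ∑ l, algebraMap k K (eval b (pderiv l G)) * (ψ l - algebraMap k K (b l))) ≤
      WithZero.exp (-2 : ℤ) := by
  let a : σ → P.O := fun l => ⟨ψ l, (mem_O_iff P _).2 (v_le_one_of_hb P ψ b hb l)⟩
  let q : σ → P.O := fun l => algebraMap k P.O (b l)
  have h := taylor1 a q G
  have hJ : Ideal.span (Set.range fun l => a l - q l) ≤ idealLE P 1 := by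
    rw [Ideal.span_le]
    rintro _ ⟨l, rfl⟩
    rw [SetLike.mem_coe, mem_idealLE]
    have := (lt_one_iff_le_exp _).1 (hb l)
    have e : ((a l - q l : P.O) : K) = ψ l - algebraMap k K (b l) := rfl
    rw [e]
    simpa using this
  have hJ2 : (Ideal.span (Set.range fun l => a l - q l)) ^ 2 ≤ idealLE P 2 := by
    rw [pow_two]
    exact (Ideal.mul_mono hJ hJ).trans (idealLE_mul_le P 1 1)
  have h2 := hJ2 h
  rw [mem_idealLE] at h2
  have e1 : ((aeval a G : P.O) : K) = aeval ψ G := by
    have := MvPolynomial.comp_aeval_apply (valO P) (f := a) G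
    rw [valO_apply] at this
    rw [this]; rfl
  have e2 : ∀ H : MvPolynomial σ k, ((aeval q H : P.O) : K) = algebraMap k K (eval b H) := by
    intro H
    have h3 : aeval q H = algebraMap k P.O (eval b H) := aeval_algebraMap_eq b H
    rw [h3]; rfl
  have e3 : ((aeval a G - aeval q G - ∑ l, aeval q (pderiv l G) * (a l - q l) : P.O) : K) =
      aeval ψ G - algebraMap k K (eval b G) -
      ∑ l, algebraMap k K (eval b (pderiv l G)) * (ψ l - algebraMap k K (b l)) := by
    push_cast
    rw [e1, e2]
    congr 1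
    refine Finset.sum_congr rfl (fun l _ => ?_)
    rw [e2]; rfl
  rw [e3] at h2
  simpa using h2

/-- a polynomial whose value has positive order vanishes at the residues -/
theorem eval_eq_zero_of_v_lt (G : MvPolynomial σ k) (h : v P (aeval ψ G) < 1) : eval b G = 0 := by
  by_contra hne
  have h0 := v_taylor0 P ψ b hb G
  have h1 : v P (algebraMap k K (eval b G)) = 1 := v_algebraMap P hne
  have e : algebraMap k K (eval b G) = aeval ψ G - (aeval ψ G - algebraMap k K (eval b G)) := by
    ring
  have h2 : v P (algebraMap k K (eval b G)) < 1 := by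
    rw [e]
    exact (Valuation.map_sub _ _ _).trans_lt (max_lt h ((lt_one_iff_le_exp _).2 h0))
  rw [h1] at h2
  exact lt_irrefl _ h2

end T

end Groth.Agent.Lib.Helper2.Jac
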