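import Mathlib
import Groth.Agent.Lib.Helper2.FunFld.Jac2

set_option autoImplicit false
open scoped WithZero
open MvPolynomial FunFld
open Groth.Agent.Lib.Helper2.FF

namespace Groth.Agent.Lib.Helper2.Jac

variable {k K : Type*} [Field k] [Field K] [Algebra k K]
variable {σ : Type*} [Fintype σ] [DecidableEq σ]

/-- directional derivative at `b` along `d` -/
noncomputable def dd (b d : σ → k) (G : MvPolynomial σ k) : k :=
  ∑ l, d l * eval b (pderiv l G)

theorem dd_add (b d : σ → k) (G H : MvPolynomial σ k) :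
    dd b d (G + H) = dd b d G + dd b d H := by
  unfold dd
  rw [← Finset.sum_add_distrib]
  refine Finset.sum_congr rfl (fun l _ => ?_)
  rw [map_add, map_add]; ring

theorem dd_sub (b d : σ → k) (G H : MvPolynomial σ k) :
    dd b d (G - H) = dd b d G - dd b d H := by
  unfold dd
  rw [← Finset.sum_sub_distrib]
  refine Finset.sum_congr rfl (fun l _ => ?_)
  rw [map_sub, map_sub]; ring

theorem dd_mul (b d : σ → k) (G H : MvPolynomial σ k) :
    dd b d (G * H) = eval b G * dd b d H + eval b H * dd b d G := by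
  unfold dd
  rw [Finset.mul_sum, Finset.mul_sum, ← Finset.sum_add_distrib]
  refine Finset.sum_congr rfl (fun l _ => ?_)
  rw [Derivation.leibniz]
  simp only [smul_eq_mul, map_add, map_mul]
  ring

theorem dd_C (b d : σ → k) (c : k) : dd b d (C c) = 0 := by
  unfold dd
  simp

theorem dd_X (b d : σ → k) (l : σ) : dd b d (X l) = d l := by
  unfold dd
  simp only [pderiv_X]
  rw [Finset.sum_eq_single l]
  · simp
  · intro l' _ hl'
    rw [Pi.single_eq_of_ne' hl']
    simp
  · intro h; exact absurd (Finset.mem_univ l) h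

theorem dd_sum {ι : Type*} (s : Finset ι) (b d : σ → k) (G : ι → MvPolynomial σ k) :
    dd b d (∑ i ∈ s, G i) = ∑ i ∈ s, dd b d (G i) := by
  classical
  induction s using Finset.induction_on with
  | empty => simp [dd]
  | insert a s ha ih => rw [Finset.sum_insert ha, Finset.sum_insert ha, dd_add, ih]

theorem dd_smul_dir (b d : σ → k) (c : k) (G : MvPolynomial σ k) :
    dd b (c • d) G = c * dd b d G := by
  unfold dd
  rw [Finset.mul_sum]
  refine Finset.sum_congr rfl (fun l _ => ?_)
  simp only [Pi.smul_apply, smul_eq_mul]; ring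

theorem dd_sub_dir (b d d' : σ → k) (G : MvPolynomial σ k) :
    dd b (d - d') G = dd b d G - dd b d' G := by
  unfold dd
  rw [← Finset.sum_sub_distrib]
  refine Finset.sum_congr rfl (fun l _ => ?_)
  simp only [Pi.sub_apply]; ring

/-- the derivative of an element of an ideal at a common zero of the generators -/
theorem dd_eq_zero_of_mem_span {ι : Type*} [Fintype ι] (b d : σ → k)
    (g : ι → MvPolynomial σ k) (hgb : ∀ i, eval b (g i) = 0) (hd : ∀ i, dd b d (g i) = 0)
    {G : MvPolynomial σ k} (hG : G ∈ Ideal.span (Set.range g)) : dd b d G = 0 := by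
  obtain ⟨h, rfl⟩ := (Ideal.mem_span_range_iff_exists_fun).1 hG
  rw [dd_sum]
  refine Finset.sum_eq_zero (fun i _ => ?_)
  rw [dd_mul, hd i, hgb i, mul_zero, zero_mul, add_zero]

section Fwd

variable (P : FunFld.Place k K) (ψ : σ → K) (b : σ → k)
  (hb : ∀ l, v P (ψ l - algebraMap k K (b l)) < 1)

include hb

/-- first order expansion in terms of a local parameter -/
theorem v_taylor_param (t : K) (s : σ → k)
    (hs : ∀ l, v P (ψ l - algebraMap k K (b l) - algebraMap k K (s l) * t) ≤ WithZero.exp (-2 : ℤ))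
    (G : MvPolynomial σ k) :
    v P (aeval ψ G - algebraMap k K (eval b G) - algebraMap k K (dd b s G) * t) ≤
      WithZero.exp (-2 : ℤ) := by
  have h1 := v_taylor1 P ψ b hb G
  have e : aeval ψ G - algebraMap k K (eval b G) - algebraMap k K (dd b s G) * t =
      (aeval ψ G - algebraMap k K (eval b G) -
        ∑ l, algebraMap k K (eval b (pderiv l G)) * (ψ l - algebraMap k K (b l))) +
      ∑ l, algebraMap k K (eval b (pderiv l G)) *
        (ψ l - algebraMap k K (b l) - algebraMap k K (s l) * t) := by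
    unfold dd
    rw [map_sum, Finset.sum_mul]
    simp only [mul_sub, Finset.sum_sub_distrib, map_mul]
    have : ∑ x, algebraMap k K (s x) * algebraMap k K (eval b (pderiv x G)) * t =
        ∑ x, algebraMap k K (eval b (pderiv x G)) * (algebraMap k K (s x) * t) :=
      Finset.sum_congr rfl (fun x _ => by ring)
    rw [this]; ring
  rw [e]
  refine (Valuation.map_add _ _ _).trans (max_le h1 ?_)
  refine Valuation.map_sum_le _ (fun l _ => ?_)
  rw [map_mul]
  calc v P (algebraMap k K (eval b (pderiv l G))) * v P _ ≤ 1 * WithZero.exp (-2 : ℤ) :=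
        mul_le_mul' (v_algebraMap_le P _) (hs l)
    _ = _ := one_mul _

omit [Fintype σ] [DecidableEq σ] hb in
theorem mem_adjoin_iff_aeval {z : K} :
    z ∈ Algebra.adjoin k (Set.range ψ) ↔ ∃ G : MvPolynomial σ k, aeval ψ G = z := by
  rw [← MvPolynomial.aeval_range]
  rfl

omit hb in
theorem exp_neg_two_lt : WithZero.exp (-2 : ℤ) < (WithZero.exp (-1 : ℤ) : ℤᵐ⁰) := by
  rw [WithZero.exp_lt_exp]; norm_num

omit hb in
theorem exp_neg_one_lt_one : (WithZero.exp (-1 : ℤ) : ℤᵐ⁰) < 1 := by
  rw [← WithZero.exp_zero, WithZero.exp_lt_exp]; norm_num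

/-- a unit of the local ring has nonzero residue -/
theorem eval_ne_zero_of_v_eq_one (G : MvPolynomial σ k) (h : v P (aeval ψ G) = 1) :
    eval b G ≠ 0 := by
  intro h0
  have h1 := v_taylor0 P ψ b hb G
  rw [h0, map_zero, sub_zero, h] at h1
  exact absurd h1 (not_le.2 exp_neg_one_lt_one)

set_option maxHeartbeats 1000000 in
/-- **Jacobian criterion, forward direction**: at a nonsingular point the kernel of the
Jacobian matrix is a line -/
theorem jac_forward [IsAlgClosed k] (hK : IsFunctionField k K) {ι : Type*} [Fintype ι]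
    (g : ι → MvPolynomial σ k)
    (hg : Ideal.span (Set.range g) = RingHom.ker (aeval ψ : MvPolynomial σ k →ₐ[k] K))
    (hns : ∀ z, v P z ≤ 1 → ∃ u ∈ Algebra.adjoin k (Set.range ψ),
      ∃ w ∈ Algebra.adjoin k (Set.range ψ), v P w = 1 ∧ z * w = u) :
    ∃ s : σ → k, s ≠ 0 ∧ (∀ i, dd b s (g i) = 0) ∧
      ∀ d : σ → k, (∀ i, dd b d (g i) = 0) → ∃ c : k, d = c • s := by
  classical
  obtain ⟨t, ht⟩ := exists_uniformizer P
  have ht0 : t ≠ 0 := by
    intro h; rw [h, map_zero] at ht; exact WithZero.exp_ne_zero ht.symm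
  have hexp : (WithZero.exp (-1 : ℤ) : ℤᵐ⁰) * WithZero.exp (-1 : ℤ) = WithZero.exp (-2 : ℤ) := by
    rw [← WithZero.exp_add]; norm_num
  -- the linear coefficients of the coordinates
  have hy : ∀ l, v P ((ψ l - algebraMap k K (b l)) / t) ≤ 1 := by
    intro l
    rw [map_div₀, ht]
    have := (lt_one_iff_le_exp _).1 (hb l)
    exact (div_le_one₀ WithZero.exp_pos).2 this
  choose s hs0 using fun l =>
    Groth.Agent.Lib.Helper26.FunFldLocal.exists_const_sub_lt hK P (hy l)
  have hs : ∀ l, v P (ψ l - algebraMap k K (b l) - algebraMap k K (s l) * t) ≤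
      WithZero.exp (-2 : ℤ) := by
    intro l
    have e : ψ l - algebraMap k K (b l) - algebraMap k K (s l) * t =
        t * ((ψ l - algebraMap k K (b l)) / t - algebraMap k K (s l)) := by
      field_simp
    rw [e, map_mul, ht, ← hexp]
    exact mul_le_mul' le_rfl ((lt_one_iff_le_exp _).1 (hs0 l))
  have hA := v_taylor_param P ψ b hb t s hs
  have hgker : ∀ i, aeval ψ (g i) = 0 := by
    intro i
    have : g i ∈ RingHom.ker (aeval ψ : MvPolynomial σ k →ₐ[k] K) := by
      rw [← hg]; exact Ideal.subset_span ⟨i, rfl⟩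
    exact this
  have hgb : ∀ i, eval b (g i) = 0 := by
    intro i
    apply eval_eq_zero_of_v_lt P ψ b hb
    rw [hgker i, map_zero]; exact zero_lt_one
  -- a constant multiple of `t` of order two vanishes
  have hct : ∀ c : k, v P (algebraMap k K c * t) ≤ WithZero.exp (-2 : ℤ) → c = 0 := by
    intro c hc
    by_contra hne
    rw [map_mul, v_algebraMap P hne, one_mul, ht] at hc
    exact absurd hc (not_le.2 exp_neg_two_lt)
  have hker : ∀ i, dd b s (g i) = 0 := by
    intro i
    apply hct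
    have := hA (g i)
    rw [hgker i, hgb i, map_zero, sub_zero, zero_sub, Valuation.map_neg] at this
    exact this
  -- the local parameter in the local ring
  obtain ⟨ut, hut, wt, hwt, hwt1, htw⟩ := hns t (by rw [ht]; exact exp_neg_one_lt_one.le)
  obtain ⟨Ut, rfl⟩ := (mem_adjoin_iff_aeval ψ).1 hut
  obtain ⟨Wt, rfl⟩ := (mem_adjoin_iff_aeval ψ).1 hwt
  have hvut : v P (aeval ψ Ut) = WithZero.exp (-1 : ℤ) := by
    rw [← htw, map_mul, hwt1, mul_one, ht]
  have hUtb : eval b Ut = 0 := by
    apply eval_eq_zero_of_v_lt P ψ b hb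
    rw [hvut]; exact exp_neg_one_lt_one
  have hWtb : eval b Wt ≠ 0 := eval_ne_zero_of_v_eq_one P ψ b hb Wt hwt1
  have hs_ne : s ≠ 0 := by
    intro h0
    have := hA Ut
    have hdd : dd b s Ut = 0 := by
      unfold dd; rw [h0]; simp
    rw [hUtb, hdd, map_zero, sub_zero, zero_mul, sub_zero, hvut] at this
    exact absurd this (not_le.2 exp_neg_two_lt)
  refine ⟨s, hs_ne, hker, ?_⟩
  intro d hd
  obtain ⟨j₁, hj₁⟩ : ∃ j₁, s j₁ ≠ 0 := by
    by_contra hcon
    push Not at hcon
    exact hs_ne (funext hcon)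
  refine ⟨d j₁ / s j₁, ?_⟩
  set d' : σ → k := d - (d j₁ / s j₁) • s with hd'
  have hd'ker : ∀ i, dd b d' (g i) = 0 := by
    intro i
    rw [hd', dd_sub_dir, dd_smul_dir, hd i, hker i, mul_zero, sub_zero]
  have hd'j : d' j₁ = 0 := by
    rw [hd']
    simp only [Pi.sub_apply, Pi.smul_apply, smul_eq_mul]
    field_simp
    ring
  suffices h : d' = 0 by
    rw [hd', sub_eq_zero] at h
    exact h
  funext l
  -- the element `ℓ` of order at least two
  set r : k := s l / s j₁ with hr
  set ℓ : K := (ψ l - algebraMap k K (b l)) - algebraMap k K r * (ψ j₁ - algebraMap k K (b j₁))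
    with hℓ
  have hvℓ : v P ℓ ≤ WithZero.exp (-2 : ℤ) := by
    have e : ℓ = (ψ l - algebraMap k K (b l) - algebraMap k K (s l) * t) -
        algebraMap k K r * (ψ j₁ - algebraMap k K (b j₁) - algebraMap k K (s j₁) * t) := by
      rw [hℓ, hr, map_div₀]
      have : algebraMap k K (s j₁) ≠ 0 := by simpa using hj₁
      field_simp
      ring
    rw [e]
    refine (Valuation.map_sub _ _ _).trans (max_le (hs l) ?_)
    rw [map_mul]
    calc v P (algebraMap k K r) * v P _ ≤ 1 * WithZero.exp (-2 : ℤ) :=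
          mul_le_mul' (v_algebraMap_le P _) (hs j₁)
      _ = _ := one_mul _
  have hvz : v P (ℓ / t ^ 2) ≤ 1 := by
    rw [map_div₀, map_pow, ht, pow_two, hexp]
    exact (div_le_one₀ WithZero.exp_pos).2 hvℓ
  obtain ⟨uz, huz, wz, hwz, hwz1, hzw⟩ := hns _ hvz
  obtain ⟨Uz, rfl⟩ := (mem_adjoin_iff_aeval ψ).1 huz
  obtain ⟨Wz, rfl⟩ := (mem_adjoin_iff_aeval ψ).1 hwz
  have hWzb : eval b Wz ≠ 0 := eval_ne_zero_of_v_eq_one P ψ b hb Wz hwz1
  set Lp : MvPolynomial σ k := (X l - C (b l)) - C r * (X j₁ - C (b j₁)) with hLp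
  have hLpψ : aeval ψ Lp = ℓ := by
    rw [hLp, hℓ]; simp
  have hLpb : eval b Lp = 0 := by
    rw [hLp]; simp
  have hLpd : dd b d' Lp = d' l := by
    rw [hLp, dd_sub, dd_sub, dd_mul, dd_sub, dd_X, dd_X, dd_C, dd_C, dd_C, hd'j]
    simp
  set G : MvPolynomial σ k := Lp * Wt ^ 2 * Wz - Ut ^ 2 * Uz with hG
  have hGker : G ∈ Ideal.span (Set.range g) := by
    rw [hg, RingHom.mem_ker, hG]
    simp only [map_sub, map_mul, map_pow, hLpψ]
    have h1 : ℓ = (ℓ / t ^ 2) * t ^ 2 := by field_simp
    rw [h1]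
    have h2 : ℓ / t ^ 2 * t ^ 2 * aeval ψ Wt ^ 2 * aeval ψ Wz =
        (t * aeval ψ Wt) ^ 2 * (ℓ / t ^ 2 * aeval ψ Wz) := by ring
    rw [h2, htw, hzw]; ring
  have hGd := dd_eq_zero_of_mem_span b d' g hgb hd'ker hGker
  rw [hG, dd_sub, dd_mul, dd_mul, dd_mul] at hGd
  have hUt2 : dd b d' (Ut ^ 2) = 0 := by
    rw [pow_two, dd_mul, hUtb]; ring
  simp only [map_mul, map_pow, hLpb, hUtb, hLpd, hUt2] at hGd
  have : eval b Wz * (eval b Wt ^ 2 * d' l) = 0 := by
    linear_combination hGd
  rcases mul_eq_zero.1 this with h | h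
  · exact absurd h hWzb
  · rcases mul_eq_zero.1 h with h | h
    · exact absurd ((pow_eq_zero_iff (two_ne_zero)).1 h) hWtb
    · exact h

end Fwd

end Groth.Agent.Lib.Helper2.Jac
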