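import Mathlib
import Groth.Agent.Lib.Helper2.FunFld.AD6
import Groth.Agent.Lib.Helper2.FunFld.Jac3
import Groth.Agent.Lib.Helper2.Tate.DM1
import Groth.Agent.Lib.Helper14.ChainRule

set_option autoImplicit false
open scoped IntermediateField
open LaurentSeries HahnSeries KaehlerDifferential
open FunFld Polynomial
open Groth.Agent.Lib.Helper2.FF Groth.Agent.Lib.Helper2.Tate

namespace Groth.Agent.Lib.Helper2.AD

universe u v

section Fin1

variable {k : Type u} {K : Type v} [Field k] [IsAlgClosed k] [Field K] [Algebra k K]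

omit [IsAlgClosed k] in
theorem v_le_one_of_mem_adjoin_pair (Q : FunFld.Place k K) {x y : K} (hQx : v Q x ≤ 1)
    (hQy : v Q y ≤ 1) {u : K} (hu : u ∈ Algebra.adjoin k ({x, y} : Set K)) : v Q u ≤ 1 := by
  induction hu using Algebra.adjoin_induction with
  | mem a ha =>
    rcases ha with rfl | ha
    · exact hQx
    · rw [Set.mem_singleton_iff] at ha; rw [ha]; exact hQy
  | algebraMap c => exact v_algebraMap_le Q c
  | add a b _ _ ha hb => exact (Valuation.map_add _ _ _).trans (max_le ha hb)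
  | mul a b _ _ ha hb => rw [map_mul]; exact mul_le_one' ha hb

omit [IsAlgClosed k] in
theorem adjoin_pair_le_adjoin_range (x y : K) :
    Algebra.adjoin k ({x, y} : Set K) ≤
      Algebra.adjoin k (Set.range fun i => ![(1 : K), x, y] i / ![(1 : K), x, y] 0) := by
  apply Algebra.adjoin_mono
  rintro a (rfl | ha)
  · exact ⟨1, by simp⟩
  · rw [Set.mem_singleton_iff] at ha
    exact ⟨2, by simp [ha]⟩

omit [IsAlgClosed k] in
theorem adjoin_range_le_adjoin_range (x y : K) :
    Algebra.adjoin k (Set.range fun i => ![(1 : K), x, y] i / ![(1 : K), x, y] 0) ≤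
      Algebra.adjoin k (Set.range ![x, y]) := by
  apply Algebra.adjoin_le
  rintro _ ⟨i, rfl⟩
  fin_cases i
  · simp
  · simp only [Matrix.cons_val_zero, div_one]
    exact Algebra.subset_adjoin ⟨0, rfl⟩
  · simp only [Matrix.cons_val_zero, div_one]
    exact Algebra.subset_adjoin ⟨1, rfl⟩

set_option maxHeartbeats 1000000 in
/-- the adjoint exponent at a finite place is nonnegative, and it vanishes at the
places where the local ring of the curve is the valuation ring -/
theorem adjoint_finite_le (hK : IsFunctionField k K) (x y : K)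
    (hxy : IntermediateField.adjoin k ({x, y} : Set K) = ⊤)
    (f : MvPolynomial (Fin 2) k)
    (hker : RingHom.ker (MvPolynomial.aeval ![x, y] : MvPolynomial (Fin 2) k →ₐ[k] K) =
      Ideal.span {f})
    (Q : FunFld.Place k K) (hQx : v Q x ≤ 1) (hQy : v Q y ≤ 1)
    (ΦQ : K →ₐ[k] LaurentSeries k) (hΦQ : LocRes.IsExpansionAt Q.1 ΦQ)
    (hfy : MvPolynomial.aeval ![x, y] (MvPolynomial.pderiv 1 f) ≠ 0)
    (hdx : LocRes.D k (ΦQ x) ≠ 0) :
    LocRes.ordDiff ΦQ (MvPolynomial.aeval ![x, y] (MvPolynomial.pderiv 1 f))⁻¹ x ≤ 0 ∧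
    (LocRes.ordDiff ΦQ (MvPolynomial.aeval ![x, y] (MvPolynomial.pderiv 1 f))⁻¹ x = 0 →
      IsNonsingularAt ![(1 : K), x, y] Q) := by
  classical
  obtain ⟨htr, P₀, Bd, hQP, hBdQ, hincl⟩ := key_incl hK x y hxy f hker Q hQx ΦQ hΦQ hfy hdx
  have hL : IsFunctionField k k⟮x⟯ :=
    Groth.Agent.Lib.Helper26.PlaneModel2.isFunctionField_adjoin hK htr
  haveI : FiniteDimensional k⟮x⟯ K := finiteDimensional_adjoin_simple hK htr
  haveI : Finite (OverP K P₀) := finite_overP hL P₀
  rw [← hBdQ]
  constructor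
  · obtain ⟨z, hz0, hzv⟩ := exists_ord_eq (fun i : OverP K P₀ => i.1) Subtype.val_injective
      (fun i => Bd i.1)
    obtain ⟨u, hu, w, hw, hw1, hzw⟩ := hincl z (fun Q' hQ' => (hzv ⟨Q', hQ'⟩).le)
    have h1 : v Q z = v Q u := by rw [← hzw, map_mul, hw1, mul_one]
    have h2 : v Q u ≤ 1 := v_le_one_of_mem_adjoin_pair Q hQx hQy hu
    have h3 : v Q z = WithZero.exp (Bd Q) := hzv ⟨Q, hQP⟩
    rw [← h1, h3, ← WithZero.exp_zero, WithZero.exp_le_exp] at h2
    exact h2
  · intro hN z₀ hz₀
    by_cases hz₀0 : z₀ = 0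
    · subst hz₀0
      refine ⟨0, one_ne_zero, ?_, 0, zero_mem _, 1, one_mem _, by simp, by simp⟩
      intro i
      fin_cases i
      · exact le_rfl
      · simpa using hQx
      · simpa using hQy
    obtain ⟨h, hh⟩ := weak_approx (fun i : OverP K P₀ => i.1) Subtype.val_injective
      (fun i => if i.1 = Q then 1 else 0)
      (fun i => if i.1 = Q then 0 else Bd i.1 + min 0 (- WithZero.log (i.1.1 z₀)))
    have hhQ : v Q h = 1 := by
      have := hh ⟨Q, hQP⟩
      simp only [if_true, WithZero.exp_zero] at this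
      have e : h = (h - 1) + 1 := by ring
      rw [e, Valuation.map_add_eq_of_lt_right, map_one]
      rw [map_one]; exact this
    have hhQ' : ∀ Q' : FunFld.Place k K, IsOver Q' P₀ → Q' ≠ Q →
        Q'.1 h ≤ WithZero.exp (Bd Q') ∧ Q'.1 (z₀ * h) ≤ WithZero.exp (Bd Q') := by
      intro Q' hov hne
      have := hh ⟨Q', hov⟩
      simp only [if_neg hne, sub_zero] at this
      change Q'.1 h < _ at this
      have hQ'z0 : Q'.1 z₀ ≠ 0 := (Valuation.ne_zero_iff _).2 hz₀0
      constructor
      · exact this.le.trans (WithZero.exp_le_exp.2 (by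
          have := min_le_left 0 (- WithZero.log (Q'.1 z₀)); omega))
      · rw [map_mul]
        calc Q'.1 z₀ * Q'.1 h ≤ Q'.1 z₀ *
              WithZero.exp (Bd Q' + - WithZero.log (Q'.1 z₀)) :=
              mul_le_mul' le_rfl (this.le.trans (WithZero.exp_le_exp.2 (by
                have := min_le_right 0 (- WithZero.log (Q'.1 z₀)); omega)))
          _ = WithZero.exp (Bd Q') := by
              rw [WithZero.exp_add, WithZero.exp_neg, WithZero.exp_log hQ'z0]
              field_simp
    obtain ⟨u₁, hu₁, w₁, hw₁, hw₁1, hzw₁⟩ := hincl h (by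
      intro Q' hov
      by_cases hne : Q' = Q
      · subst hne
        change v Q' h ≤ _
        rw [hhQ, hN, WithZero.exp_zero]
      · exact (hhQ' Q' hov hne).1)
    obtain ⟨u₂, hu₂, w₂, hw₂, hw₂1, hzw₂⟩ := hincl (z₀ * h) (by
      intro Q' hov
      by_cases hne : Q' = Q
      · subst hne
        change v Q' (z₀ * h) ≤ _
        rw [map_mul, hhQ, mul_one, hN, WithZero.exp_zero]
        exact hz₀
      · exact (hhQ' Q' hov hne).2)
    refine ⟨0, one_ne_zero, ?_, u₂ * w₁, ?_, u₁ * w₂, ?_, ?_, ?_⟩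
    · intro i
      fin_cases i
      · exact le_rfl
      · simpa using hQx
      · simpa using hQy
    · exact adjoin_pair_le_adjoin_range x y (mul_mem hu₂ hw₁)
    · exact adjoin_pair_le_adjoin_range x y (mul_mem hu₁ hw₂)
    · change v Q (u₁ * w₂) = 1
      rw [map_mul, hw₂1, mul_one, ← hzw₁, map_mul, hhQ, hw₁1, mul_one]
    · rw [← hzw₁, ← hzw₂]; ring

end Fin1

end Groth.Agent.Lib.Helper2.AD
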