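import Mathlib
import Groth.Agent.Lib.Helper2.FunFld.AD7

set_option autoImplicit false
open scoped IntermediateField
open LaurentSeries HahnSeries KaehlerDifferential
open FunFld Polynomial
open Groth.Agent.Lib.Helper2.FF Groth.Agent.Lib.Helper2.Tate Groth.Agent.Lib.Helper2.Jac

namespace Groth.Agent.Lib.Helper2.AD

universe u v

section Fin2

variable {k : Type u} {K : Type v} [Field k] [IsAlgClosed k] [Field K] [Algebra k K]

omit [IsAlgClosed k] in
/-- value at the point: `v(G(x,y)) = 1` when `G(a,b) ≠ 0`, `< 1` otherwise -/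
theorem v_aeval_of_eval (Q : FunFld.Place k K) (ψ : Fin 2 → K) (b : Fin 2 → k)
    (hb : ∀ l, v Q (ψ l - algebraMap k K (b l)) < 1) (G : MvPolynomial (Fin 2) k) :
    (MvPolynomial.eval b G ≠ 0 → v Q (MvPolynomial.aeval ψ G) = 1) ∧
    (MvPolynomial.eval b G = 0 → v Q (MvPolynomial.aeval ψ G) < 1) ∧
    v Q (MvPolynomial.aeval ψ G) ≤ 1 := by
  have h0 := v_taylor0 Q ψ b hb G
  have hlt : (WithZero.exp (-1 : ℤ) : WithZero (Multiplicative ℤ)) < 1 := exp_neg_one_lt_one
  refine ⟨fun hne => ?_, fun h0' => ?_, ?_⟩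
  · have h1 : v Q (algebraMap k K (MvPolynomial.eval b G)) = 1 := v_algebraMap Q hne
    have e : MvPolynomial.aeval ψ G = algebraMap k K (MvPolynomial.eval b G) +
        (MvPolynomial.aeval ψ G - algebraMap k K (MvPolynomial.eval b G)) := by ring
    rw [e, Valuation.map_add_eq_of_lt_left, h1]
    rw [h1]; exact lt_of_le_of_lt h0 hlt
  · rw [h0', map_zero, sub_zero] at h0
    exact lt_of_le_of_lt h0 hlt
  · have e : MvPolynomial.aeval ψ G = algebraMap k K (MvPolynomial.eval b G) +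
        (MvPolynomial.aeval ψ G - algebraMap k K (MvPolynomial.eval b G)) := by ring
    rw [e]
    exact (Valuation.map_add _ _ _).trans (max_le (v_algebraMap_le Q _) (h0.trans hlt.le))

set_option maxHeartbeats 1000000 in
/-- at a nonsingular finite place the adjoint exponent vanishes -/
theorem adjoint_finite_ns (hK : IsFunctionField k K) (x y : K)
    (f : MvPolynomial (Fin 2) k)
    (hker : RingHom.ker (MvPolynomial.aeval ![x, y] : MvPolynomial (Fin 2) k →ₐ[k] K) =
      Ideal.span {f})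
    (Q : FunFld.Place k K) (hQx : v Q x ≤ 1) (hQy : v Q y ≤ 1)
    (ΦQ : K →ₐ[k] LaurentSeries k) (hΦQ : LocRes.IsExpansionAt Q.1 ΦQ)
    (hfy : MvPolynomial.aeval ![x, y] (MvPolynomial.pderiv 1 f) ≠ 0)
    (hdx : LocRes.D k (ΦQ x) ≠ 0)
    (hns : IsNonsingularAt ![(1 : K), x, y] Q) :
    LocRes.ordDiff ΦQ (MvPolynomial.aeval ![x, y] (MvPolynomial.pderiv 1 f))⁻¹ x = 0 := by
  classical
  obtain ⟨a, ha⟩ := Groth.Agent.Lib.Helper26.FunFldLocal.exists_const_sub_lt hK Q hQx
  obtain ⟨b, hb⟩ := Groth.Agent.Lib.Helper26.FunFldLocal.exists_const_sub_lt hK Q hQy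
  have hbb : ∀ l, v Q (![x, y] l - algebraMap k K (![a, b] l)) < 1 := by
    intro l; fin_cases l
    · exact ha
    · exact hb
  have hφ0 : ∀ i, v Q (![(1 : K), x, y] i) ≤ v Q (![(1 : K), x, y] 0) := by
    intro i
    fin_cases i
    · exact le_rfl
    · simpa using hQx
    · simpa using hQy
  -- the local ring in affine form
  have hns' : ∀ z, v Q z ≤ 1 → ∃ u ∈ Algebra.adjoin k (Set.range ![x, y]),
      ∃ w ∈ Algebra.adjoin k (Set.range ![x, y]), v Q w = 1 ∧ z * w = u := by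
    intro z hz
    obtain ⟨u, hu, w, hw, hw1, hzw⟩ :=
      (Groth.Agent.Lib.Helper26.LocRing2.inLocRing_iff ![(1 : K), x, y] Q 0 one_ne_zero hφ0 z).1
        (hns z hz)
    exact ⟨u, adjoin_range_le_adjoin_range x y hu, w, adjoin_range_le_adjoin_range x y hw,
      hw1, hzw⟩
  -- Jacobian criterion
  have hg : Ideal.span (Set.range fun _ : Unit => f) =
      RingHom.ker (MvPolynomial.aeval ![x, y] : MvPolynomial (Fin 2) k →ₐ[k] K) := by
    rw [hker]; congr 1; ext g; simp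
  obtain ⟨s, hs0, hsf, huniq⟩ := jac_forward Q ![x, y] ![a, b] hbb hK (fun _ : Unit => f) hg hns'
  obtain ⟨A, hA⟩ : ∃ A : k, A = MvPolynomial.eval ![a, b] (MvPolynomial.pderiv 0 f) := ⟨_, rfl⟩
  obtain ⟨B, hB⟩ : ∃ B : k, B = MvPolynomial.eval ![a, b] (MvPolynomial.pderiv 1 f) := ⟨_, rfl⟩
  have hdd : ∀ d : Fin 2 → k, dd ![a, b] d f = d 0 * A + d 1 * B := by
    intro d
    unfold dd
    rw [Fin.sum_univ_two, hA, hB]
  have hAB : A ≠ 0 ∨ B ≠ 0 := by
    by_contra hcon
    push Not at hcon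
    obtain ⟨hA0, hB0⟩ := hcon
    obtain ⟨c₀, hc₀⟩ := huniq ![1, 0] (fun _ => by rw [hdd, hA0, hB0]; simp)
    obtain ⟨c₁, hc₁⟩ := huniq ![0, 1] (fun _ => by rw [hdd, hA0, hB0]; simp)
    have h00 := congrFun hc₀ 0
    have h01 := congrFun hc₀ 1
    have h10 := congrFun hc₁ 0
    have h11 := congrFun hc₁ 1
    simp only [Matrix.cons_val_zero, Matrix.cons_val_one, Pi.smul_apply, smul_eq_mul] at h00 h01 h10 h11
    have hc₀0 : c₀ ≠ 0 := by rintro rfl; simp at h00
    have hs1 : s 1 = 0 := by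
      rcases mul_eq_zero.1 h01.symm with h | h
      · exact absurd h hc₀0
      · exact h
    rw [hs1, mul_zero] at h11
    exact one_ne_zero h11
  -- the two partial derivatives
  obtain ⟨fx, hfx⟩ : ∃ fx : K, fx = MvPolynomial.aeval ![x, y] (MvPolynomial.pderiv 0 f) := ⟨_, rfl⟩
  obtain ⟨fy, hfydef⟩ : ∃ fy : K, fy = MvPolynomial.aeval ![x, y] (MvPolynomial.pderiv 1 f) :=
    ⟨_, rfl⟩
  rw [← hfydef] at hfy ⊢
  have hvx := v_aeval_of_eval Q ![x, y] ![a, b] hbb (MvPolynomial.pderiv 0 f)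
  have hvy := v_aeval_of_eval Q ![x, y] ![a, b] hbb (MvPolynomial.pderiv 1 f)
  rw [← hfx, ← hA] at hvx
  rw [← hfydef, ← hB] at hvy
  -- the relation between `dx` and `dy`
  have hfk : MvPolynomial.aeval ![x, y] f = 0 := by
    have : f ∈ RingHom.ker (MvPolynomial.aeval ![x, y] : MvPolynomial (Fin 2) k →ₐ[k] K) := by
      rw [hker]; exact Ideal.mem_span_singleton_self f
    exact this
  have hrel : fx • D k K x + fy • D k K y = 0 := by
    have := Groth.Agent.Lib.Helper14.derivation_aeval (D k K) ![x, y] f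
    rw [hfk, map_zero, Fin.sum_univ_two] at this
    rw [hfx, hfydef]
    exact this.symm
  obtain ⟨dX, hdX⟩ : ∃ dX : LaurentSeries k, dX = LocRes.D k (ΦQ x) := ⟨_, rfl⟩
  obtain ⟨dY, hdY⟩ : ∃ dY : LaurentSeries k, dY = LocRes.D k (ΦQ y) := ⟨_, rfl⟩
  have hrelΦ : ΦQ fx * dX + ΦQ fy * dY = 0 := by
    have h1 : D k K y = (-fx / fy) • D k K x := by
      have : fy • D k K y = -(fx • D k K x) := eq_neg_of_add_eq_zero_right hrel
      rw [div_eq_inv_mul, mul_smul, neg_smul, ← this, smul_smul, inv_mul_cancel₀ hfy, one_smul]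
    have h2 := D_phi_eq_mul ΦQ h1
    rw [hdX, hdY, h2, map_div₀, map_neg]
    have : ΦQ fy ≠ 0 := by simpa using hfy
    field_simp
    ring
  have hvdX : Valued.v dX ≤ 1 := by
    have h1 : ΦQ x ∈ Fil k (F := k) 0 := by
      rw [mem_Fil_iff_val, hΦQ.1, neg_zero, WithZero.exp_zero]; exact hQx
    have := (mem_Fil_iff_val (k := k)).1 (D_mem_Fil_zero (k := k) h1)
    rwa [neg_zero, WithZero.exp_zero, ← hdX] at this
  have hvdY : Valued.v dY ≤ 1 := by
    have h1 : ΦQ y ∈ Fil k (F := k) 0 := by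
      rw [mem_Fil_iff_val, hΦQ.1, neg_zero, WithZero.exp_zero]; exact hQy
    have := (mem_Fil_iff_val (k := k)).1 (D_mem_Fil_zero (k := k) h1)
    rwa [neg_zero, WithZero.exp_zero, ← hdY] at this
  -- a uniformizer in the span of `1, x, y`
  obtain ⟨t, ht⟩ := exists_uniformizer Q
  have htin : InLocRing ![(1 : K), x, y] Q t := hns t (by
    change v Q t ≤ 1
    rw [ht, ← WithZero.exp_zero, WithZero.exp_le_exp]; norm_num)
  obtain ⟨w, hw, hvw⟩ := Groth.Agent.Lib.Helper26.LocRing2.exists_span_of_uniformizer Q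
    (Groth.Agent.Lib.Helper26.FunFldAlgClosed.deg_eq_one hK Q) ![(1 : K), x, y] 0 one_ne_zero hφ0
    htin ht
  simp only [Matrix.cons_val_zero, map_one, mul_one] at hvw
  obtain ⟨c, hc⟩ := (Submodule.mem_span_range_iff_exists_fun k).1 hw
  rw [Fin.sum_univ_three] at hc
  simp only [Matrix.cons_val_zero, Matrix.cons_val_one, Matrix.cons_val_two, Matrix.head_cons,
    Matrix.tail_cons] at hc
  obtain ⟨hDw0, hordw⟩ := ordDiff_uniformizer hΦQ hvw
  have hvDw : Valued.v (LocRes.D k (ΦQ w)) = 1 := val_eq_one_of_ordDiff_zero ΦQ hDw0 hordw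
  have hDw : LocRes.D k (ΦQ w) = HahnSeries.C (c 1) * dX + HahnSeries.C (c 2) * dY := by
    rw [← hc, map_add, map_add, map_add, map_add]
    have hsm : ∀ (c' : k) (g : K), LocRes.D k (ΦQ (c' • g)) = HahnSeries.C c' * LocRes.D k (ΦQ g) := by
      intro c' g
      have hDC : LocRes.D k (HahnSeries.C (algebraMap k k c') : LaurentSeries k) = 0 := by
        rw [LocRes.D_apply, LocRes.derivative_C]
      rw [Algebra.smul_def, map_mul, LocRes.map_algebraMap, Derivation.leibniz, smul_eq_mul,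
        smul_eq_mul, hDC, mul_zero, add_zero]
      rfl
    rw [hsm, hsm, hsm, map_one, hdX, hdY]
    have : LocRes.D k (1 : LaurentSeries k) = 0 := by
      rw [← map_one (HahnSeries.C (Γ := ℤ) (R := k)), LocRes.D_apply, LocRes.derivative_C]
    rw [this, mul_zero, zero_add]
  have hvC : ∀ c' : k, Valued.v (HahnSeries.C c' : LaurentSeries k) ≤ 1 := by
    intro c'
    have := hΦQ.1 (algebraMap k K c')
    rw [LocRes.map_algebraMap] at this
    change Valued.v (HahnSeries.C c' : LaurentSeries k) = _ at this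
    rw [this]
    exact Q.2.1 c'
  have hmax : 1 ≤ max (Valued.v dX) (Valued.v dY) := by
    rw [← hvDw, hDw]
    refine (Valuation.map_add _ _ _).trans (max_le_max ?_ ?_)
    · rw [map_mul]; exact (mul_le_mul' (hvC _) le_rfl).trans_eq (one_mul _)
    · rw [map_mul]; exact (mul_le_mul' (hvC _) le_rfl).trans_eq (one_mul _)
  have hdX0 : dX ≠ 0 := by rw [hdX]; exact hdx
  -- order of `dx / f_y`
  rw [ordDiff_eq_add hΦQ (inv_ne_zero hfy) hdx, map_inv₀, WithZero.log_inv, neg_neg, ordDiff_one_eq,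
    ← hdX]
  have hvfy0 : Q.1 fy ≠ 0 := (Valuation.ne_zero_iff _).2 hfy
  have hvdX0 : Valued.v dX ≠ 0 := (Valuation.ne_zero_iff _).2 hdX0
  have hval : Valued.v (ΦQ fx) * Valued.v dX = Valued.v (ΦQ fy) * Valued.v dY := by
    have h1 : ΦQ fx * dX = -(ΦQ fy * dY) := eq_neg_of_add_eq_zero_left hrelΦ
    rw [← map_mul, ← map_mul, h1, Valuation.map_neg]
  rw [hΦQ.1, hΦQ.1] at hval
  suffices hkey : Q.1 fy = Valued.v dX by
    rw [hkey]; ring
  by_cases hB0 : B = 0
  · -- `f_y` vanishes at the point, `f_x` does not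
    have hA0 : A ≠ 0 := hAB.resolve_right (not_not.2 hB0)
    have h1 : Q.1 fx = 1 := hvx.1 hA0
    have h2 : Q.1 fy < 1 := hvy.2.1 hB0
    rw [h1, one_mul] at hval
    have h3 : Valued.v dX ≤ Valued.v dY := by
      rw [hval]
      calc Q.1 fy * Valued.v dY ≤ 1 * Valued.v dY := mul_le_mul' h2.le le_rfl
        _ = _ := one_mul _
    have h4 : Valued.v dY = 1 := le_antisymm hvdY (by rwa [max_eq_right h3] at hmax)
    rw [hval, h4, mul_one]
  · have h1 : Q.1 fy = 1 := hvy.1 hB0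
    rw [h1, one_mul] at hval
    have h3 : Valued.v dY ≤ Valued.v dX := by
      rw [← hval]
      calc Q.1 fx * Valued.v dX ≤ 1 * Valued.v dX := mul_le_mul' hvx.2.2 le_rfl
        _ = _ := one_mul _
    have h4 : Valued.v dX = 1 := le_antisymm hvdX (by rwa [max_eq_left h3] at hmax)
    rw [h1, h4]

end Fin2

end Groth.Agent.Lib.Helper2.AD
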