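import Mathlib
import Groth.Agent.Lib.Helper14.ChainRule

set_option autoImplicit false
open MvPolynomial

namespace Groth.Agent.Lib.Helper2.AD

universe u v

section Homog

variable {k : Type u} [Field k]

/-- homogenization in degree `e` -/
noncomputable def homog (e : ℕ) (f : MvPolynomial (Fin 2) k) : MvPolynomial (Fin 3) k :=
  ∑ m ∈ f.support, C (f.coeff m) * X 0 ^ (e - (m 0 + m 1)) * X 1 ^ (m 0) * X 2 ^ (m 1)

/-- dehomogenization `X₀ ↦ 1` -/
noncomputable def dehom : MvPolynomial (Fin 3) k →ₐ[k] MvPolynomial (Fin 2) k :=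
  aeval ![1, X 0, X 1]

theorem homog_isHomogeneous {e : ℕ} {f : MvPolynomial (Fin 2) k} (he : f.totalDegree ≤ e) :
    (homog e f).IsHomogeneous e := by
  unfold homog
  refine IsHomogeneous.sum _ _ _ fun m hm => ?_
  have hdeg : m 0 + m 1 ≤ e := by
    have h1 := le_totalDegree hm
    have h2 : (m.sum fun _ n => n) = m 0 + m 1 := by
      rw [Finsupp.sum_fintype _ _ (fun _ => rfl), Fin.sum_univ_two]
    omega
  have : e = 0 + (e - (m 0 + m 1)) + m 0 + m 1 := by omega
  conv_rhs => rw [this]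
  exact (((isHomogeneous_C _ _).mul (isHomogeneous_X_pow _ _)).mul (isHomogeneous_X_pow _ _)).mul
    (isHomogeneous_X_pow _ _)

theorem dehom_homog (e : ℕ) (f : MvPolynomial (Fin 2) k) : dehom (homog e f) = f := by
  unfold homog dehom
  rw [map_sum]
  conv_rhs => rw [f.as_sum]
  refine Finset.sum_congr rfl fun m _ => ?_
  simp only [map_mul, map_pow, aeval_C, aeval_X, Matrix.cons_val_zero, Matrix.cons_val_one,
    Matrix.cons_val_two, Matrix.head_cons, Matrix.tail_cons, one_pow, mul_one]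
  rw [monomial_eq, Finsupp.prod_fintype _ _ (fun _ => pow_zero _), Fin.prod_univ_two]
  simp only [algebraMap_eq]
  ring

theorem aeval_dehom {K : Type v} [CommRing K] [Algebra k K] (x y : K)
    (G : MvPolynomial (Fin 3) k) : aeval ![x, y] (dehom G) = aeval ![(1 : K), x, y] G := by
  have h : (aeval ![x, y] : MvPolynomial (Fin 2) k →ₐ[k] K).comp dehom = aeval ![(1 : K), x, y] := by
    apply MvPolynomial.algHom_ext
    intro i
    fin_cases i <;> simp [dehom]
  exact congrArg (fun φ : MvPolynomial (Fin 3) k →ₐ[k] K => φ G) h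

theorem pderiv_one_dehom (G : MvPolynomial (Fin 3) k) :
    pderiv 1 (dehom G) = dehom (pderiv 2 G) := by
  unfold dehom
  rw [Groth.Agent.Lib.Helper14.pderiv_aeval, Fin.sum_univ_three]
  simp [pderiv_X]

theorem pderiv_zero_dehom (G : MvPolynomial (Fin 3) k) :
    pderiv 0 (dehom G) = dehom (pderiv 1 G) := by
  unfold dehom
  rw [Groth.Agent.Lib.Helper14.pderiv_aeval, Fin.sum_univ_three]
  simp [pderiv_X]

theorem totalDegree_dehom_le (G : MvPolynomial (Fin 3) k) :
    (dehom G).totalDegree ≤ G.totalDegree := by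
  classical
  conv_lhs => rw [G.as_sum]
  rw [map_sum]
  refine (totalDegree_finsetSum _ _).trans ?_
  rw [Finset.sup_le_iff]
  intro m hm
  have h1 := le_totalDegree hm
  have h2 : (m.sum fun _ n => n) = m 0 + m 1 + m 2 := by
    rw [Finsupp.sum_fintype _ _ (fun _ => rfl), Fin.sum_univ_three]
  have h3 : dehom (monomial m (G.coeff m)) = C (G.coeff m) * X 0 ^ (m 1) * X 1 ^ (m 2) := by
    unfold dehom
    rw [monomial_eq, Finsupp.prod_fintype _ _ (fun _ => pow_zero _), Fin.prod_univ_three]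
    simp
    ring
  rw [h3]
  refine (totalDegree_mul _ _).trans ?_
  have h4 := totalDegree_mul (C (G.coeff m)) (X 0 ^ (m 1) : MvPolynomial (Fin 2) k)
  have h5 : (X 0 ^ (m 1) : MvPolynomial (Fin 2) k).totalDegree ≤ m 1 :=
    (totalDegree_pow _ _).trans (by rw [totalDegree_X, mul_one])
  have h6 : (X 1 ^ (m 2) : MvPolynomial (Fin 2) k).totalDegree ≤ m 2 :=
    (totalDegree_pow _ _).trans (by rw [totalDegree_X, mul_one])
  rw [totalDegree_C] at h4
  omega

end Homog

section Coord

variable {k : Type u} [Field k]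

/-- the matrix of the coordinate change `(X₀, X₁, X₂) = (X₁', X₀' - c X₂', X₂')` -/
def Ac (c : k) : Matrix (Fin 3) (Fin 3) k := !![0, 1, 0; 1, 0, -c; 0, 0, 1]

theorem det_Ac (c : k) : (Ac c).det = -1 := by
  simp [Ac, Matrix.det_fin_three]

/-- the substitution of the coordinate change -/
noncomputable def Lc (c : k) : Fin 3 → MvPolynomial (Fin 3) k :=
  fun i => ∑ j, C (Ac c i j) * X j

theorem Lc_zero (c : k) : Lc c 0 = X 1 := by
  simp [Lc, Ac, Fin.sum_univ_three]

theorem Lc_one (c : k) : Lc c 1 = X 0 - C c * X 2 := by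
  simp [Lc, Ac, Fin.sum_univ_three]; ring

theorem Lc_two (c : k) : Lc c 2 = X 2 := by
  simp [Lc, Ac, Fin.sum_univ_three]

theorem pderiv_two_aeval_Lc (c : k) (F : MvPolynomial (Fin 3) k) :
    pderiv 2 (aeval (Lc c) F) =
      aeval (Lc c) (pderiv 2 F) - C c * aeval (Lc c) (pderiv 1 F) := by
  rw [Groth.Agent.Lib.Helper14.pderiv_aeval, Fin.sum_univ_three, Lc_zero, Lc_one, Lc_two]
  simp [pderiv_X]
  ring

variable {K : Type v} [Field K] [Algebra k K]

theorem aeval_aeval_Lc (c : k) (x y : K) (hu0 : x + algebraMap k K c * y ≠ 0)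
    {G : MvPolynomial (Fin 3) k} {d : ℕ} (hG : G.IsHomogeneous d) :
    aeval ![(1 : K), 1 / (x + algebraMap k K c * y), y / (x + algebraMap k K c * y)]
        (aeval (Lc c) G) =
      ((x + algebraMap k K c * y)⁻¹) ^ d * aeval ![(1 : K), x, y] G := by
  rw [← Groth.Agent.Lib.Helper14.aeval_smul_of_isHomogeneous hG, comp_aeval_apply]
  congr 1
  congr 1
  ext i
  fin_cases i
  · simp [Lc_zero]
  · simp [Lc_one]
    field_simp
    ring
  · simp [Lc_two]
    field_simp

theorem aeval_pderiv_two_coord (c : k) (x y : K) (hu0 : x + algebraMap k K c * y ≠ 0)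
    {F : MvPolynomial (Fin 3) k} {e : ℕ} (hF : F.IsHomogeneous e) :
    aeval ![(1 : K), 1 / (x + algebraMap k K c * y), y / (x + algebraMap k K c * y)]
        (pderiv 2 (aeval (Lc c) F)) =
      ((x + algebraMap k K c * y)⁻¹) ^ (e - 1) * (aeval ![(1 : K), x, y] (pderiv 2 F) -
        algebraMap k K c * aeval ![(1 : K), x, y] (pderiv 1 F)) := by
  rw [pderiv_two_aeval_Lc, map_sub, map_mul, aeval_C, aeval_aeval_Lc c x y hu0 hF.pderiv,
    aeval_aeval_Lc c x y hu0 hF.pderiv]
  ring

end Coord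

end Groth.Agent.Lib.Helper2.AD
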