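import Mathlib
import Groth.Agent.Lib.Helper2.FunFld.AD8
import Groth.Agent.Lib.Helper2.FunFld.AD9
import Groth.Agent.Lib.Helper2.FunFld.AD10
import Groth.Agent.Lib.Helper26.AdjCoord
import Groth.Agent.Lib.Helper26.PlaneModel4
import Groth.Agent.S12612

set_option autoImplicit false
open scoped IntermediateField
open LaurentSeries HahnSeries KaehlerDifferential
open FunFld
open Groth.Agent.Lib.Helper2.FF Groth.Agent.Lib.Helper2.Tate

namespace Groth.Agent.Lib.Helper2.AD

universe u v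

section Choose

variable {k : Type u} {K : Type v} [Field k] [Field K] [Algebra k K]

theorem exists_good_c [Infinite k] (Q : FunFld.Place k K) (x y : K) (M : WithZero (Multiplicative ℤ))
    (hx : v Q x ≤ M) (hy : v Q y ≤ M) (hM : v Q x = M ∨ v Q y = M) (a b : K) (hb : b ≠ 0) :
    ∃ c : k, v Q (x + algebraMap k K c * y) = M ∧ b - algebraMap k K c * a ≠ 0 := by
  classical
  have hle : ∀ c : k, v Q (x + algebraMap k K c * y) ≤ M := by
    intro c
    refine (Valuation.map_add _ _ _).trans (max_le hx ?_)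
    rw [map_mul]
    exact (mul_le_mul' (v_algebraMap_le Q c) hy).trans_eq (one_mul _)
  have hS₁ : {c : k | v Q (x + algebraMap k K c * y) ≠ M}.Subsingleton := by
    intro c₁ h₁ c₂ h₂
    by_contra hne
    have h₁' : v Q (x + algebraMap k K c₁ * y) < M := lt_of_le_of_ne (hle c₁) h₁
    have h₂' : v Q (x + algebraMap k K c₂ * y) < M := lt_of_le_of_ne (hle c₂) h₂
    have hyM : v Q y < M := by
      have e : algebraMap k K (c₁ - c₂) * y =
          (x + algebraMap k K c₁ * y) - (x + algebraMap k K c₂ * y) := by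
        rw [map_sub]; ring
      have h3 : v Q (algebraMap k K (c₁ - c₂) * y) < M := by
        rw [e]
        exact lt_of_le_of_lt (Valuation.map_sub _ _ _) (max_lt h₁' h₂')
      rwa [map_mul, v_algebraMap Q (sub_ne_zero.2 hne), one_mul] at h3
    have hxM : v Q x < M := by
      have e : x = (x + algebraMap k K c₁ * y) - algebraMap k K c₁ * y := by ring
      rw [e]
      refine lt_of_le_of_lt (Valuation.map_sub _ _ _) (max_lt h₁' ?_)
      rw [map_mul]
      exact lt_of_le_of_lt ((mul_le_mul' (v_algebraMap_le Q c₁) le_rfl).trans_eq (one_mul _)) hyM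
    rcases hM with h | h
    · exact absurd h hxM.ne
    · exact absurd h hyM.ne
  have hS₂ : {c : k | b - algebraMap k K c * a = 0}.Subsingleton := by
    intro c₁ h₁ c₂ h₂
    by_contra hne
    have h₁' : b - algebraMap k K c₁ * a = 0 := h₁
    have h₂' : b - algebraMap k K c₂ * a = 0 := h₂
    have e : algebraMap k K (c₁ - c₂) * a = 0 := by
      rw [map_sub, sub_mul]
      linear_combination h₂' - h₁'
    have hcne : algebraMap k K (c₁ - c₂) ≠ 0 :=
      (map_ne_zero (algebraMap k K)).2 (sub_ne_zero.2 hne)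
    have ha0 : a = 0 := (mul_eq_zero.1 e).resolve_left hcne
    rw [ha0, mul_zero, sub_zero] at h₁'
    exact hb h₁'
  have hfin : ({c : k | v Q (x + algebraMap k K c * y) ≠ M} ∪
      {c : k | b - algebraMap k K c * a = 0}).Finite := hS₁.finite.union hS₂.finite
  obtain ⟨c, hc⟩ := hfin.infinite_compl.nonempty
  rw [Set.mem_compl_iff, Set.mem_union, not_or] at hc
  exact ⟨c, not_not.1 hc.1, hc.2⟩

end Choose

section Inf

variable {k : Type u} {K : Type v} [Field k] [IsAlgClosed k] [Field K] [Algebra k K]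

omit [IsAlgClosed k] in
theorem Lc_isHomogeneous (c : k) (i : Fin 3) : (Lc c i).IsHomogeneous 1 := by
  unfold Lc
  exact MvPolynomial.IsHomogeneous.sum _ _ _ fun j _ => MvPolynomial.isHomogeneous_C_mul_X _ _

set_option maxHeartbeats 2000000 in
/-- the adjoint exponent at an infinite place, by a change of coordinates -/
theorem adjoint_infinite (hK : IsFunctionField k K) (x y : K)
    (hxy : IntermediateField.adjoin k ({x, y} : Set K) = ⊤)
    (f : MvPolynomial (Fin 2) k)
    (hker : RingHom.ker (MvPolynomial.aeval ![x, y] : MvPolynomial (Fin 2) k →ₐ[k] K) =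
      Ideal.span {f})
    (e : ℕ) (hfe : f.totalDegree ≤ e) (hdeg : (mapDiv k ![(1 : K), x, y]).deg = (e : ℤ))
    (Q : FunFld.Place k K) (hpos : 0 < mapDiv k ![(1 : K), x, y] Q)
    (ΦQ : K →ₐ[k] LaurentSeries k) (hΦQ : LocRes.IsExpansionAt Q.1 ΦQ)
    (hfy : MvPolynomial.aeval ![x, y] (MvPolynomial.pderiv 1 f) ≠ 0)
    (hdx : LocRes.D k (ΦQ x) ≠ 0) :
    0 ≤ ((e : ℤ) - 3) * mapDiv k ![(1 : K), x, y] Q -
        LocRes.ordDiff ΦQ (MvPolynomial.aeval ![x, y] (MvPolynomial.pderiv 1 f))⁻¹ x ∧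
    (((e : ℤ) - 3) * mapDiv k ![(1 : K), x, y] Q -
        LocRes.ordDiff ΦQ (MvPolynomial.aeval ![x, y] (MvPolynomial.pderiv 1 f))⁻¹ x = 0 ↔
      IsNonsingularAt ![(1 : K), x, y] Q) := by
  classical
  haveI : Infinite k := IsAlgClosed.instInfinite
  -- homogenization
  obtain ⟨F, hFdef⟩ : ∃ F : MvPolynomial (Fin 3) k, F = homog e f := ⟨_, rfl⟩
  have hF : F.IsHomogeneous e := by rw [hFdef]; exact homog_isHomogeneous hfe
  have hdF : dehom F = f := by rw [hFdef]; exact dehom_homog e f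
  have hfk : MvPolynomial.aeval ![x, y] f = 0 := by
    have : f ∈ RingHom.ker (MvPolynomial.aeval ![x, y] : MvPolynomial (Fin 2) k →ₐ[k] K) := by
      rw [hker]; exact Ideal.mem_span_singleton_self f
    exact this
  have hFxy : MvPolynomial.aeval ![(1 : K), x, y] F = 0 := by
    rw [← aeval_dehom, hdF, hfk]
  have hF2 : MvPolynomial.aeval ![(1 : K), x, y] (MvPolynomial.pderiv 2 F) =
      MvPolynomial.aeval ![x, y] (MvPolynomial.pderiv 1 f) := by
    rw [← aeval_dehom, ← pderiv_one_dehom, hdF]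
  obtain ⟨fy, hfydef⟩ : ∃ fy : K, fy = MvPolynomial.aeval ![x, y] (MvPolynomial.pderiv 1 f) :=
    ⟨_, rfl⟩
  rw [← hfydef] at hfy hF2 ⊢
  -- the choice of `c`
  obtain ⟨hvx, hvy, -⟩ := Groth.Agent.Lib.Helper26.PlaneModel.v_le_exp_mapDiv hK x y Q
  have hvM := Groth.Agent.Lib.Helper26.PlaneModel.v_eq_exp_mapDiv hK x y Q hpos
  obtain ⟨m, hm⟩ : ∃ m : ℤ, m = mapDiv k ![(1 : K), x, y] Q := ⟨_, rfl⟩
  rw [← hm] at hvx hvy hvM hpos ⊢
  obtain ⟨c, hcM, hcF⟩ := exists_good_c Q x y (WithZero.exp m) hvx hvy hvM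
    (MvPolynomial.aeval ![(1 : K), x, y] (MvPolynomial.pderiv 1 F)) fy hfy
  obtain ⟨u0, hu0def⟩ : ∃ u0 : K, u0 = x + algebraMap k K c * y := ⟨_, rfl⟩
  rw [← hu0def] at hcM
  have hu0 : u0 ≠ 0 := by
    intro h0
    rw [h0, map_zero] at hcM
    exact WithZero.exp_ne_zero hcM.symm
  -- new coordinates
  obtain ⟨x', hx'⟩ : ∃ x' : K, x' = 1 / u0 := ⟨_, rfl⟩
  obtain ⟨y', hy'⟩ : ∃ y' : K, y' = y / u0 := ⟨_, rfl⟩
  obtain ⟨u, hudef⟩ : ∃ u : Fin 3 → K, u = ![u0, 1, y] := ⟨_, rfl⟩
  have hu : ∀ i, ∑ j, algebraMap k K (Ac c i j) * u j = ![(1 : K), x, y] i := by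
    intro i
    rw [hudef, Fin.sum_univ_three]
    fin_cases i
    · simp [Ac]
    · simp [Ac, hu0def]
    · simp [Ac]
  have hA : (Ac c).det ≠ 0 := by rw [det_Ac]; simp
  have hu0' : u 0 = u0 := by rw [hudef]; rfl
  have hu00 : u 0 ≠ 0 := by rw [hu0']; exact hu0
  have hux : u 1 / u 0 = x' := by rw [hudef, hx']; rfl
  have huy : u 2 / u 0 = y' := by rw [hudef, hy']; rfl
  obtain ⟨F', hF'def⟩ : ∃ F' : MvPolynomial (Fin 3) k, F' = MvPolynomial.aeval
      (fun i : Fin 3 => ∑ j, MvPolynomial.C (Ac c i j) * MvPolynomial.X j) F := ⟨_, rfl⟩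
  have hF'L : F' = MvPolynomial.aeval (Lc c) F := hF'def
  have hfy'val : MvPolynomial.aeval ![(1 : K), x', y'] (MvPolynomial.pderiv 2 F') =
      u0⁻¹ ^ (e - 1) * (fy - algebraMap k K c *
        MvPolynomial.aeval ![(1 : K), x, y] (MvPolynomial.pderiv 1 F)) := by
    rw [hF'L, hx', hy', hu0def, aeval_pderiv_two_coord c x y (hu0def ▸ hu0) hF, hF2]
  have hfy' : MvPolynomial.aeval ![(1 : K), x', y'] (MvPolynomial.pderiv 2 F') ≠ 0 := by
    rw [hfy'val]; exact mul_ne_zero (pow_ne_zero _ (inv_ne_zero hu0)) hcF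
  obtain ⟨fy', hfy'def⟩ : ∃ fy' : K, fy' = MvPolynomial.aeval ![(1 : K), x', y']
      (MvPolynomial.pderiv 2 F') := ⟨_, rfl⟩
  rw [← hfy'def] at hfy'
  have hR := Groth.Agent.S12612.result k K F e hF x y hFxy (Ac c) hA u hu hu00
    (by rw [hF2]; exact hfy) (by rw [hux, huy, ← hF'def, ← hfy'def]; exact hfy')
  rw [hux, huy, ← hF'def, ← hfy'def, hF2, det_Ac, hu0'] at hR
  -- the new coordinates generate
  have hx'0 : x' ≠ 0 := by rw [hx']; exact one_div_ne_zero hu0
  have hyx' : y = y' / x' := by rw [hx', hy']; field_simp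
  have hxx' : x = (1 - algebraMap k K c * y') / x' := by
    rw [hx', hy']; field_simp; rw [hu0def]; ring
  have hxy' : IntermediateField.adjoin k ({x', y'} : Set K) = ⊤ := by
    rw [eq_top_iff, ← hxy, IntermediateField.adjoin_le_iff]
    have h1 : x' ∈ IntermediateField.adjoin k ({x', y'} : Set K) :=
      IntermediateField.subset_adjoin _ _ (by simp)
    have h2 : y' ∈ IntermediateField.adjoin k ({x', y'} : Set K) :=
      IntermediateField.subset_adjoin _ _ (by simp)
    rintro a (rfl | ha)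
    · rw [hxx']
      exact div_mem (sub_mem (one_mem _) (mul_mem (IntermediateField.algebraMap_mem _ _) h2)) h1
    · rw [Set.mem_singleton_iff] at ha
      rw [ha, hyx']
      exact div_mem h2 h1
  -- the place is finite for the new coordinates
  have hQx' : v Q x' ≤ 1 := by
    rw [hx', map_div₀, map_one, hcM]
    rw [div_le_iff₀ WithZero.exp_pos, one_mul, ← WithZero.exp_zero, WithZero.exp_le_exp]
    exact hpos.le
  have hQy' : v Q y' ≤ 1 := by
    rw [hy', map_div₀, hcM]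
    rw [div_le_iff₀ WithZero.exp_pos, one_mul]
    exact hvy
  -- degree of the new map
  have hmd : ∀ P : FunFld.Place k K, mapDiv k ![(1 : K), x', y'] P =
      mapDiv k ![(1 : K), x, y] P + P.ord u0 := by
    intro P
    have := Groth.Agent.Lib.Helper26.Adj.mapDiv_coord_change hK x y (Ac c) hA u hu hu00 P
    rwa [hux, huy, hu0'] at this
  have hdeg' : (mapDiv k ![(1 : K), x', y']).deg = (e : ℤ) := by
    have hmd' : mapDiv k ![(1 : K), x', y'] = mapDiv k ![(1 : K), x, y] + FunFld.div k u0 := by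
      ext P; rw [Finsupp.add_apply, div_apply hK]; exact hmd P
    rw [hmd', deg_add, deg_div hK, add_zero, hdeg]
  -- the kernel for the new coordinates
  obtain ⟨G', hG'0, hker', hG'deg⟩ :=
    Groth.Agent.Lib.Helper26.PlaneModel4.exists_ker_eq_span hK x' y' hxy'
  obtain ⟨f', hf'def⟩ : ∃ f' : MvPolynomial (Fin 2) k, f' = dehom F' := ⟨_, rfl⟩
  have hF'hom : F'.IsHomogeneous e := by
    rw [hF'L]
    have := hF.aeval (Lc c) (Lc_isHomogeneous c)
    simpa using this
  have hf'xy : MvPolynomial.aeval ![x', y'] f' = 0 := by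
    rw [hf'def, aeval_dehom, hF'L, hx', hy', hu0def,
      aeval_aeval_Lc c x y (hu0def ▸ hu0) hF, hFxy, mul_zero]
  have hf'y : MvPolynomial.aeval ![x', y'] (MvPolynomial.pderiv 1 f') = fy' := by
    rw [hf'def, pderiv_one_dehom, aeval_dehom, hfy'def]
  have hf'0 : f' ≠ 0 := by
    intro h0
    rw [h0, map_zero, map_zero] at hf'y
    exact hfy' hf'y.symm
  have hf'deg : f'.totalDegree ≤ e := by
    rw [hf'def]; exact (totalDegree_dehom_le F').trans hF'hom.totalDegree_le
  have hf'mem : f' ∈ Ideal.span {G'} := by rw [← hker']; exact hf'xy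
  obtain ⟨H, hH⟩ := Ideal.mem_span_singleton.1 hf'mem
  have hH0 : H ≠ 0 := by
    rintro rfl
    rw [mul_zero] at hH
    exact hf'0 hH
  have hHdeg : H.totalDegree = 0 := by
    have := MvPolynomial.totalDegree_mul_of_isDomain hG'0 hH0
    rw [← hH] at this
    have h2 : (G'.totalDegree : ℤ) = e := by rw [hG'deg, hdeg']
    omega
  have hHC := MvPolynomial.totalDegree_eq_zero_iff_eq_C.1 hHdeg
  have hker'' : RingHom.ker (MvPolynomial.aeval ![x', y'] : MvPolynomial (Fin 2) k →ₐ[k] K) =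
      Ideal.span {f'} := by
    rw [hker', hH, hHC]
    refine (Ideal.span_singleton_mul_right_unit ?_ G').symm
    have hc0 : MvPolynomial.coeff 0 H ≠ 0 := by
      intro h0
      rw [h0, map_zero] at hHC
      exact hH0 hHC
    exact (isUnit_iff_ne_zero.2 hc0).map MvPolynomial.C
  -- differentials
  have hgeoK : FunFld.IsGeometric k K :=
    Groth.Agent.Lib.Helper9.FunFld.isGeometric_of_isAlgClosed
  have hfr : Module.finrank K (Ω[K⁄k]) = 1 := finrank_kaehler_eq_one hK hgeoK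
  have hDx : D k K x ≠ 0 := D_ne_zero_of_D_phi_ne_zero ΦQ hdx
  obtain ⟨α, hα⟩ : ∃ α : K, α = algebraMap k K (-1) * u0⁻¹ ^ ((e : ℤ) - 3) := ⟨_, rfl⟩
  rw [← hα] at hR
  have hDx' : D k K x' ≠ 0 := by
    intro h0
    rw [h0, smul_zero] at hR
    exact hDx ((smul_eq_zero.1 hR).resolve_left (inv_ne_zero hfy))
  have hdx' : LocRes.D k (ΦQ x') ≠ 0 := D_phi_ne_zero hfr hΦQ hDx'
  -- the finite case
  have hfin1 := adjoint_finite_le hK x' y' hxy' f' hker'' Q hQx' hQy' ΦQ hΦQ
    (by rw [hf'y]; exact hfy') hdx'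
  have hfin2 := adjoint_finite_ns hK x' y' f' hker'' Q hQx' hQy' ΦQ hΦQ
    (by rw [hf'y]; exact hfy') hdx'
  rw [hf'y] at hfin1 hfin2
  -- comparison of the two exponents
  have hDrel : D k K x = (fy * (α * fy'⁻¹)) • D k K x' := by
    rw [mul_smul, ← hR, smul_smul, mul_inv_cancel₀ hfy, one_smul]
  have hDΦ := D_phi_eq_mul ΦQ hDrel
  have hvα : Q.1 α = WithZero.exp (-(((e : ℤ) - 3) * m)) := by
    rw [hα, map_mul, map_zpow₀, map_inv₀]
    have h1 : Q.1 (algebraMap k K (-1)) = 1 := v_algebraMap Q (by simp)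
    have h2 : Q.1 u0 = WithZero.exp m := hcM
    rw [h1, one_mul, h2, ← WithZero.exp_neg, ← WithZero.exp_zsmul, smul_eq_mul]
    congr 1
    ring
  have hcmp : LocRes.ordDiff ΦQ fy⁻¹ x = ((e : ℤ) - 3) * m + LocRes.ordDiff ΦQ fy'⁻¹ x' := by
    have hα0 : α ≠ 0 := by
      intro h0
      rw [h0, map_zero] at hvα
      exact WithZero.exp_ne_zero hvα.symm
    have h1 : ΦQ fy⁻¹ * LocRes.D k (ΦQ x) = ΦQ α * (ΦQ fy'⁻¹ * LocRes.D k (ΦQ x')) := by
      rw [hDΦ]
      have h2 : ΦQ (fy * (α * fy'⁻¹)) = ΦQ fy * (ΦQ α * ΦQ fy'⁻¹) := by rw [map_mul, map_mul]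
      rw [h2, map_inv₀]
      have hΦfy : ΦQ fy ≠ 0 := by simpa using hfy
      field_simp
    unfold LocRes.ordDiff LocRes.vDiff
    rw [h1, map_mul, hΦQ.1, hvα, WithZero.log_mul WithZero.exp_ne_zero, WithZero.log_exp]
    · ring
    · rw [Ne, Valuation.zero_iff]
      exact mul_ne_zero (by simpa using inv_ne_zero hfy') hdx'
  -- nonsingularity is unchanged
  have hφ1 : ∀ i, v Q (![(1 : K), x, y] i) ≤ WithZero.exp m := by
    intro i
    fin_cases i
    · change v Q (1 : K) ≤ _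
      rw [map_one, ← WithZero.exp_zero, WithZero.exp_le_exp]; exact hpos.le
    · exact hvx
    · exact hvy
  have hψ1 : ∀ i, v Q (![(1 : K), x', y'] i) ≤ v Q (![(1 : K), x', y'] 0) := by
    intro i
    fin_cases i
    · exact le_rfl
    · simpa using hQx'
    · simpa using hQy'
  obtain ⟨j, hj⟩ : ∃ j : Fin 3, v Q (![(1 : K), x, y] j) = WithZero.exp m := by
    rcases hvM with h | h
    · exact ⟨1, h⟩
    · exact ⟨2, h⟩
  have hj0 : ![(1 : K), x, y] j ≠ 0 := by
    intro h0
    rw [h0, map_zero] at hj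
    exact WithZero.exp_ne_zero hj.symm
  have hψφ : ∀ i, ![(1 : K), x', y'] i = u0⁻¹ * ∑ l, algebraMap k K ((!![0, 1, c; 1, 0, 0; 0, 0, 1] :
      Matrix (Fin 3) (Fin 3) k) i l) * ![(1 : K), x, y] l := by
    intro i
    rw [Fin.sum_univ_three]
    fin_cases i
    · simp [← hu0def, inv_mul_cancel₀ hu0]
    · simp [hx']
    · simp [hy']; ring
  have hφψ : ∀ i, ![(1 : K), x, y] i = u0 * ∑ l, algebraMap k K (Ac c i l) *
      ![(1 : K), x', y'] l := by
    intro i
    rw [Fin.sum_univ_three]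
    fin_cases i
    · simp [Ac, hx', hu0]
    · simp [Ac, hx', hy']
      field_simp
      rw [hu0def]; ring
    · simp [Ac, hy']
      field_simp
  have hNS : IsNonsingularAt ![(1 : K), x, y] Q ↔ IsNonsingularAt ![(1 : K), x', y'] Q := by
    constructor
    · intro h z hz
      refine inLocRing_of_linear ![(1 : K), x', y'] ![(1 : K), x, y] Q (Ac c) u0 hu0 hφψ 0 j
        one_ne_zero hψ1 hj0 (fun i => (hφ1 i).trans_eq hj.symm) ?_ (h z hz)
      rw [hj]
      change _ = v Q u0 * v Q (1 : K)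
      rw [map_one, mul_one, hcM]
    · intro h z hz
      refine inLocRing_of_linear ![(1 : K), x, y] ![(1 : K), x', y'] Q _ u0⁻¹ (inv_ne_zero hu0)
        hψφ j 0 hj0 (fun i => (hφ1 i).trans_eq hj.symm) one_ne_zero hψ1 ?_ (h z hz)
      rw [hj]
      change v Q (1 : K) = _
      rw [map_one, map_inv₀, hcM, inv_mul_cancel₀ WithZero.exp_ne_zero]
  rw [hcmp, hNS]
  constructor
  · have := hfin1.1; omega
  · constructor
    · intro h
      exact hfin1.2 (by omega)
    · intro h
      have := hfin2 h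
      omega

end Inf

end Groth.Agent.Lib.Helper2.AD
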