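import Mathlib
import Groth.Agent.S12517
import Groth.Agent.Lib.Helper2.FunFld.Aut

set_option autoImplicit false
open scoped WithZero IntermediateField
open FunFld Polynomial

/-! Artin–Schreier extensions `y² + y = f` of `k(x)`: decomposition `z = a + b y` and the
conjugation `y ↦ y + 1`. -/

namespace Groth.Agent.Lib.Helper2.ASG

open Groth.Agent.Lib.Helper2.FF

variable {F K : Type*} [Field F] [Field K] [Algebra F K]

theorem decomp_unique {y : K} (hy : y ∉ Set.range (algebraMap F K)) {a b : F}
    (h : algebraMap F K a + algebraMap F K b * y = 0) : a = 0 ∧ b = 0 := by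
  by_cases hb : b = 0
  · subst hb
    simp only [map_zero, zero_mul, add_zero] at h
    exact ⟨(map_eq_zero _).1 h, rfl⟩
  · exfalso
    apply hy
    refine ⟨-a / b, ?_⟩
    have hbK : algebraMap F K b ≠ 0 := (_root_.map_ne_zero _).2 hb
    rw [map_div₀, map_neg]
    field_simp
    linear_combination -h

theorem exists_decomp (hdeg : Module.finrank F K = 2) {y : K}
    (hy : y ∉ Set.range (algebraMap F K)) (z : K) :
    ∃ a b : F, z = algebraMap F K a + algebraMap F K b * y := by
  have hli : LinearIndependent F ![(1 : K), y] := by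
    rw [LinearIndependent.pair_iff]
    intro s t hst
    have h1 : algebraMap F K s + algebraMap F K t * y = 0 := by
      rw [Algebra.smul_def, mul_one, Algebra.smul_def] at hst
      exact hst
    exact decomp_unique hy h1
  haveI : FiniteDimensional F K := Module.finite_of_finrank_pos (by omega)
  have hsp : ⊤ ≤ Submodule.span F (Set.range ![(1 : K), y]) := by
    rw [hli.span_eq_top_of_card_eq_finrank' (by simp [hdeg])]
  have hz : z ∈ Submodule.span F (Set.range ![(1 : K), y]) := hsp Submodule.mem_top
  have hr : Set.range ![(1 : K), y] = {1, y} := by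
    ext w
    simp only [Matrix.range_cons, Matrix.range_empty, Set.union_empty, Set.mem_union,
      Set.mem_singleton_iff, Set.mem_insert_iff]
  rw [hr, Submodule.mem_span_pair] at hz
  obtain ⟨a, b, hab⟩ := hz
  refine ⟨a, b, ?_⟩
  rw [← hab, Algebra.smul_def, mul_one, Algebra.smul_def]

/-- the conjugation `y ↦ y + 1` -/
theorem exists_conj [CharP F 2] (hdeg : Module.finrank F K = 2) {y : K}
    (hy : y ∉ Set.range (algebraMap F K)) {f : F} (heq : y ^ 2 + y = algebraMap F K f) :
    ∃ σ : K ≃ₐ[F] K, σ y = y + 1 := by
  haveI : FiniteDimensional F K := Module.finite_of_finrank_pos (by omega)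
  haveI : CharP K 2 := charP_of_injective_algebraMap (algebraMap F K).injective 2
  have hFy := (Groth.Agent.S12517.quad_facts F K hdeg).1 y hy
  have hyint : IsIntegral F y := IsIntegral.of_finite F y
  let e : AdjoinRoot (minpoly F y) ≃ₐ[F] K :=
    (IntermediateField.adjoinRootEquivAdjoin F hyint).trans
      ((IntermediateField.equivOfEq hFy).trans IntermediateField.topEquiv)
  have he : e (AdjoinRoot.root (minpoly F y)) = y := by
    simp [e, IntermediateField.adjoinRootEquivAdjoin_apply_root]
  let q : F[X] := X ^ 2 + X - C f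
  have hqy : aeval y q = 0 := by
    simp only [q, map_sub, map_add, map_pow, aeval_X, aeval_C]
    rw [heq]; exact sub_self _
  have hqy1 : aeval (y + 1) q = 0 := by
    simp only [q, map_sub, map_add, map_pow, aeval_X, aeval_C]
    rw [← heq, CharTwo.add_sq]
    have : (1 : K) + 1 = 0 := CharTwo.add_self_eq_zero 1
    linear_combination this
  obtain ⟨r, hr⟩ := minpoly.dvd F y hqy
  have hneg : aeval (y + 1) (minpoly F y) = 0 := by
    -- minpoly = q since both monic of degree 2
    have hqm : q.Monic := by
      have : q = X ^ 2 + (X - C f) := by simp only [q]; ring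
      rw [this]
      apply Polynomial.monic_X_pow_add
      rw [Polynomial.degree_X_sub_C]
      norm_num
    have hqdeg : q.natDegree = 2 := by
      have : q = X ^ 2 + (X - C f) := by simp only [q]; ring
      rw [this, Polynomial.natDegree_add_eq_left_of_degree_lt]
      · simp
      · rw [Polynomial.degree_X_sub_C, Polynomial.degree_X_pow]; norm_num
    have h2le : 2 ≤ (minpoly F y).natDegree := by
      rw [minpoly.two_le_natDegree_iff hyint]
      exact hy
    have hmin : q = minpoly F y :=
      Polynomial.eq_of_monic_of_dvd_of_natDegree_le (minpoly.monic hyint) hqm ⟨r, hr⟩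
        (hqdeg ▸ h2le)
    rw [← hmin]; exact hqy1
  let τ : AdjoinRoot (minpoly F y) →ₐ[F] K := AdjoinRoot.liftAlgHom (minpoly F y)
    (Algebra.ofId F K) (y + 1) (by rw [← hneg]; rfl)
  let σ₀ : K →ₐ[F] K := τ.comp (e.symm : K →ₐ[F] AdjoinRoot (minpoly F y))
  have hσy : σ₀ y = y + 1 := by
    change τ (e.symm y) = y + 1
    have h1 : e.symm y = AdjoinRoot.root (minpoly F y) := by
      rw [AlgEquiv.symm_apply_eq, he]
    rw [h1]
    simp [τ]
  exact ⟨AlgEquiv.ofBijective σ₀ (AlgHom.bijective σ₀), hσy⟩

end Groth.Agent.Lib.Helper2.ASG
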