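import Mathlib
import Groth.Prelude.Def_W4bk4goldsch23FF
import Groth.Agent.Lib.Helper2.FunFld.Exists
import Groth.Agent.Lib.Helper2.FunFld.Residue

set_option autoImplicit false
open Polynomial FunFld IntermediateField

namespace Groth.Agent.Lib.Helper2.FF

section InfPl

variable {k : Type*} {K : Type*} [Field k] [Field K] [Algebra k K]

/-- at a pole of `x`, a nonzero polynomial in `x` has valuation at least one -/
theorem one_le_v_aeval_of_one_lt (P : Place k K) {x : K} (hx : 1 < P.1 x) {p : k[X]} (hp : p ≠ 0) :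
    1 ≤ P.1 (aeval x p) := by
  have hk := P.2.1
  have hx0 : x ≠ 0 := by
    rintro rfl
    rw [map_zero] at hx
    exact absurd hx (not_lt.2 zero_le')
  letI : Invertible x := invertibleOfNonzero hx0
  have h1 := Polynomial.eval₂_reverse_mul_pow (algebraMap k K) x p
  rw [invOf_eq_inv] at h1
  have hxinv : P.1 x⁻¹ < 1 := by
    rw [map_inv₀]
    exact inv_lt_one_of_one_lt₀ hx
  have hc0 : p.reverse.coeff 0 ≠ 0 := by
    rw [Polynomial.coeff_zero_reverse]
    exact Polynomial.leadingCoeff_ne_zero.2 hp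
  have h2 : P.1 (aeval x⁻¹ p.reverse) = 1 := by
    have h3 := w_aeval_sub_coeff_le P.1 hk hxinv.le p.reverse
    have h4 : P.1 (algebraMap k K (p.reverse.coeff 0)) = 1 := v_algebraMap P hc0
    have e : aeval x⁻¹ p.reverse = algebraMap k K (p.reverse.coeff 0)
        + (aeval x⁻¹ p.reverse - algebraMap k K (p.reverse.coeff 0)) := by ring
    rw [e, Valuation.map_add_eq_of_lt_left _ (by rw [h4]; exact lt_of_le_of_lt h3 hxinv), h4]
  have h5 : aeval x p = aeval x⁻¹ p.reverse * x ^ p.natDegree := h1.symm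
  rw [h5, map_mul, h2, one_mul, map_pow]
  exact one_le_pow_of_one_le' hx.le _

/-- **Euclid**: a function field has infinitely many places. -/
theorem infinite_places (hK : IsFunctionField k K) : Infinite (Place k K) := by
  classical
  by_contra hfin
  rw [not_infinite_iff_finite] at hfin
  haveI := Fintype.ofFinite (Place k K)
  obtain ⟨⟨x, hx, -⟩, -⟩ := id hK
  have hm : ∀ P : Place k K, P.1 x ≤ 1 → ∃ m : k[X], m.Monic ∧ P.1 (aeval x m) < 1 := by
    intro P hP
    haveI hfd := finiteDimensional_residueField P hK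
    haveI : @Module.Finite k (IsLocalRing.ResidueField P.O) _ _ (Algebra.toModule) := hfd
    haveI : Algebra.IsIntegral k (IsLocalRing.ResidueField P.O) := Algebra.IsIntegral.of_finite k _
    let xO : P.O := ⟨x, (Valuation.mem_valuationSubring_iff _ _).2 hP⟩
    have hint : IsIntegral k (resAlg P xO) := Algebra.IsIntegral.isIntegral _
    refine ⟨minpoly k (resAlg P xO), minpoly.monic hint, ?_⟩
    have h1 : resAlg P (aeval xO (minpoly k (resAlg P xO))) = 0 := by
      rw [← Polynomial.aeval_algHom_apply, minpoly.aeval]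
    rw [resAlg_eq_zero_iff] at h1
    have h2 : ((aeval xO (minpoly k (resAlg P xO)) : P.O) : K)
        = aeval x (minpoly k (resAlg P xO)) := by
      have := Polynomial.aeval_algHom_apply
        ({ (P.O.subtype : P.O →+* K) with commutes' := fun _ => rfl } : P.O →ₐ[k] K) xO
        (minpoly k (resAlg P xO))
      exact this.symm
    rw [h2] at h1
    exact h1
  let m : Place k K → k[X] := fun P => if h : P.1 x ≤ 1 then (hm P h).choose else 1
  have hmm : ∀ P, (m P).Monic := by
    intro P
    by_cases h : P.1 x ≤ 1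
    · simp only [m, dif_pos h]; exact (hm P h).choose_spec.1
    · simp only [m, dif_neg h]; exact monic_one
  have hmv : ∀ P : Place k K, P.1 x ≤ 1 → P.1 (aeval x (m P)) < 1 := by
    intro P h
    simp only [m, dif_pos h]
    exact (hm P h).choose_spec.2
  obtain ⟨G, hG⟩ : ∃ G : k[X], G = ∏ P : Place k K, m P := ⟨_, rfl⟩
  have hGm : G.Monic := by rw [hG]; exact Polynomial.monic_prod_of_monic _ _ (fun P _ => hmm P)
  obtain ⟨F, hF⟩ : ∃ F : k[X], F = X * G + 1 := ⟨_, rfl⟩
  have hXG : (X * G).Monic := monic_X.mul hGm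
  have hdegXG : (X * G).natDegree = G.natDegree + 1 := by
    rw [Polynomial.natDegree_mul X_ne_zero hGm.ne_zero, natDegree_X, add_comm]
  have hFdeg : F.natDegree = G.natDegree + 1 := by
    rw [hF, Polynomial.natDegree_add_eq_left_of_natDegree_lt, hdegXG]
    rw [natDegree_one, hdegXG]; omega
  have hF0 : F ≠ 0 := by
    intro h0
    rw [h0, natDegree_zero] at hFdeg
    omega
  have hFtr : Transcendental k (aeval x F) :=
    hx.aeval F (by rw [hFdeg]; omega)
      (mem_nonZeroDivisors_of_ne_zero (Polynomial.leadingCoeff_ne_zero.2 hF0))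
  obtain ⟨Q, hQ⟩ := exists_place_lt_one hK hFtr
  have hQx : Q.1 x ≤ 1 := by
    by_contra h
    rw [not_le] at h
    exact absurd hQ (not_lt.2 (one_le_v_aeval_of_one_lt Q h hF0))
  have hQG : Q.1 (aeval x G) < 1 := by
    rw [hG, ← Finset.mul_prod_erase Finset.univ m (Finset.mem_univ Q), map_mul, map_mul]
    calc Q.1 (aeval x (m Q)) * Q.1 (aeval x (∏ P ∈ Finset.univ.erase Q, m P))
        ≤ Q.1 (aeval x (m Q)) * 1 := mul_le_mul' le_rfl (w_aeval_le_one Q.1 Q.2.1 hQx _)
      _ = Q.1 (aeval x (m Q)) := mul_one _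
      _ < 1 := hmv Q hQx
  have h1 : (1 : K) = aeval x F - x * aeval x G := by
    rw [hF, map_add, map_mul, aeval_X, map_one]; ring
  have h2 : Q.1 (1 : K) < 1 := by
    rw [h1]
    refine lt_of_le_of_lt (Valuation.map_sub _ _ _) (max_lt hQ ?_)
    rw [map_mul]
    calc Q.1 x * Q.1 (aeval x G) ≤ 1 * Q.1 (aeval x G) := mul_le_mul' hQx le_rfl
      _ = Q.1 (aeval x G) := one_mul _
      _ < 1 := hQG
  rw [map_one] at h2
  exact lt_irrefl _ h2

end InfPl

end Groth.Agent.Lib.Helper2.FF
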