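import Mathlib
import Groth.Agent.Lib.Helper2.FunFld.NS2
import Groth.Agent.Lib.Helper2.FunFld.CF2
import Groth.Agent.Lib.Helper2.FunFld.Conorm
import Groth.Agent.Lib.Helper2.FunFld.Riemann
import Groth.Agent.Lib.Helper2.FunFld.MapDiv
import Groth.Agent.Lib.Helper2.FunFld.InfPl
import Groth.Agent.Lib.Helper2.Tate.RH2

set_option autoImplicit false
open scoped WithZero IntermediateField
open FunFld Polynomial

/-! Genus under constant field extensions: monotonicity, and equality implies nonsingularity. -/

namespace Groth.Agent.Lib.Helper2.GM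

open Groth.Agent.Lib.Helper2.FF

section Up

variable {k k' K' : Type*} [Field k] [Field k'] [Field K']
  [Algebra k k'] [Algebra k' K'] [Algebra k K'] [IsScalarTower k k' K']

/-- a divisor of `K'/k` as a divisor of `K'/k'` -/
noncomputable def upDiv [Algebra.IsAlgebraic k k'] (A : Divisor k K') : Divisor k' K' :=
  Finsupp.equivMapDomain (placeEquiv (k := k) (k' := k') (K' := K')) A

theorem upDiv_apply [Algebra.IsAlgebraic k k'] (A : Divisor k K') (Q : FunFld.Place k' K') :
    upDiv A Q = A (downPlace Q) := rfl

theorem deg_upDiv [FiniteDimensional k k'] (A : Divisor k K') :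
    A.deg = Module.finrank k k' * (upDiv (k' := k') A).deg := by
  rw [Tate.deg_eq_finsum_down (k' := k') A, Tate.deg_eq_finsum (upDiv A)]
  rfl

theorem mem_L_upDiv [Algebra.IsAlgebraic k k'] (A : Divisor k K') (x : K') :
    x ∈ L (upDiv (k' := k') A) ↔ x ∈ L A := by
  rw [mem_L, mem_L]
  constructor
  · intro h Q; exact h (upPlace Q)
  · intro h Q; exact h (downPlace Q)

theorem L_eq_restrictScalars [Algebra.IsAlgebraic k k'] (A : Divisor k K') :
    L A = (L (upDiv (k' := k') A)).restrictScalars k := by
  ext x; exact (mem_L_upDiv A x).symm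

theorem ell_upDiv [FiniteDimensional k k'] (A : Divisor k K') :
    ell A = Module.finrank k k' * ell (upDiv (k' := k') A) := by
  rw [ell_def, ell_def, L_eq_restrictScalars (k' := k') A]
  have e := ((L (upDiv (k' := k') A)).restrictScalarsEquiv k).restrictScalars k
  rw [e.finrank_eq]
  exact (Module.finrank_mul_finrank k k' (L (upDiv (k' := k') A))).symm

theorem finiteDimensional_L_down [FiniteDimensional k k'] (hK' : IsFunctionField k' K')
    (A : Divisor k K') : FiniteDimensional k (L A) := by
  rw [L_eq_restrictScalars (k' := k') A]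
  haveI := finiteDimensional_L hK' (upDiv (k' := k') A)
  haveI : Module.Finite k (L (upDiv (k' := k') A)) :=
    Module.Finite.trans k' (L (upDiv (k' := k') A))
  exact Module.Finite.equiv
    (((L (upDiv (k' := k') A)).restrictScalarsEquiv k).restrictScalars k).symm

end Up

end Groth.Agent.Lib.Helper2.GM
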