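import Mathlib
import Groth.Agent.Lib.Helper2.FunFld.GM1

set_option autoImplicit false
open scoped WithZero IntermediateField
open FunFld Polynomial

namespace Groth.Agent.Lib.Helper2.GM

open Groth.Agent.Lib.Helper2.FF

section Main

variable {k k' K K' : Type*} [Field k] [Field k'] [Field K] [Field K']
    [Algebra k k'] [Algebra k K] [Algebra K K'] [Algebra k' K'] [Algebra k K']
    [IsScalarTower k k' K'] [IsScalarTower k K K']

omit [Field k'] [Algebra k k'] [Algebra k' K'] [IsScalarTower k k' K'] in
theorem conorm_apply' [FiniteDimensional K K'] (hK : IsFunctionField k K) (D : Divisor k K)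
    {Q : FunFld.Place k K'} {P : FunFld.Place k K} {e : ℕ} (he : IsOverWith Q P e) :
    conorm K' D Q = e * D P := by
  rw [conorm_apply (fun P' => finite_isOver hK P') D ⟨e, he⟩, ramIdx_eq he]

omit [Field k'] [Algebra k k'] [Algebra k' K'] [IsScalarTower k k' K'] in
theorem algebraMap_mem_L_conorm [FiniteDimensional K K'] (hK : IsFunctionField k K)
    {D : Divisor k K} {x : K} (hx : x ∈ L D) : algebraMap K K' x ∈ L (conorm K' D) := by
  rw [mem_L] at hx ⊢
  intro Q
  obtain ⟨P, e, he⟩ := exists_isOverWith hK Q
  rw [conorm_apply' hK D he]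
  change Q.1 _ ≤ _
  rw [he x]
  calc P.1 x ^ e ≤ (WithZero.exp (D P)) ^ e := pow_le_pow_left' (hx P) e
    _ = WithZero.exp ((e : ℤ) * D P) := by rw [← WithZero.exp_nsmul]; simp

omit [Field k'] [Algebra k k'] [Algebra k' K'] [IsScalarTower k k' K'] in
/-- elements of `K'` with all coordinates in `L(D)` -/
def W {ι : Type*} (B : Module.Basis ι K K') (D : Divisor k K) : Submodule k K' where
  carrier := {z | ∀ i, B.repr z i ∈ L D}
  add_mem' := by
    intro a b ha hb i
    rw [map_add, Finsupp.add_apply]
    exact (L D).add_mem (ha i) (hb i)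
  zero_mem' := by
    intro i
    rw [map_zero, Finsupp.zero_apply]
    exact (L D).zero_mem
  smul_mem' := by
    intro c z hz i
    rw [← algebraMap_smul K c z, map_smul, Finsupp.smul_apply, smul_eq_mul, ← Algebra.smul_def]
    exact (L D).smul_mem c (hz i)

omit [Field k'] [Algebra k k'] [Algebra k' K'] [IsScalarTower k k' K'] in
theorem mem_W {ι : Type*} {B : Module.Basis ι K K'} {D : Divisor k K} {z : K'} :
    z ∈ W B D ↔ ∀ i, B.repr z i ∈ L D := Iff.rfl

theorem W_le [Algebra.IsAlgebraic k k'] [FiniteDimensional K K'] (hK : IsFunctionField k K)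
    {ι : Type*} [Fintype ι] {B : Module.Basis ι K K'} (hB : IsConstBasis (k := k) k' B)
    (D : Divisor k K) : W B D ≤ L (conorm K' D) := by
  intro z hz
  rw [← B.sum_repr z]
  refine Submodule.sum_mem _ fun i _ => ?_
  have h1 := algebraMap_mem_L_conorm (K' := K') hK (hz i)
  rw [mem_L] at h1 ⊢
  intro Q
  rw [Algebra.smul_def, map_mul]
  obtain ⟨c, hc⟩ := hB.mem i
  calc v Q (algebraMap K K' (B.repr z i)) * v Q (B i)
      ≤ WithZero.exp (conorm K' D Q) * 1 := by
        refine mul_le_mul' (h1 Q) ?_
        rw [← hc]; exact v_algebraMap_const_le Q c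
    _ = _ := mul_one _

omit [Field k'] [Algebra k k'] [Algebra k' K'] [IsScalarTower k k' K'] in
theorem finrank_W (hK : IsFunctionField k K) {ι : Type*} [Fintype ι] (B : Module.Basis ι K K')
    (D : Divisor k K) : Module.finrank k (W B D) = Fintype.card ι * ell D := by
  classical
  haveI := finiteDimensional_L hK D
  let Ψ : W B D →ₗ[k] (ι → L D) :=
    { toFun := fun z i => ⟨B.repr z.1 i, z.2 i⟩
      map_add' := fun a b => by
        funext i; apply Subtype.ext
        simp
      map_smul' := fun c a => by
        funext i; apply Subtype.ext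
        simp only [Submodule.coe_smul_of_tower, RingHom.id_apply, Pi.smul_apply]
        rw [← algebraMap_smul K c (a : K'), map_smul, Finsupp.smul_apply, smul_eq_mul,
          ← Algebra.smul_def] }
  have hinj : Function.Injective Ψ := by
    intro a b hab
    apply Subtype.ext
    apply B.repr.injective
    ext i
    exact congrArg Subtype.val (congrFun hab i)
  have hsurj : Function.Surjective Ψ := by
    intro x
    have hz : ∀ i, B.repr (∑ j, (x j : K) • B j) i = (x i : K) := by
      intro i
      rw [B.repr_sum_self]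
    refine ⟨⟨∑ j, (x j : K) • B j, fun i => by rw [hz i]; exact (x i).2⟩, ?_⟩
    funext i
    apply Subtype.ext
    exact hz i
  rw [(LinearEquiv.ofBijective Ψ ⟨hinj, hsurj⟩).finrank_eq, Module.finrank_pi_fintype,
    Finset.sum_const, Finset.card_univ, smul_eq_mul, ell_def]

theorem mul_ell_le [FiniteDimensional k k']
    (h : Function.Bijective (Algebra.TensorProduct.productMap
      (IsScalarTower.toAlgHom k k' K') (IsScalarTower.toAlgHom k K K')))
    (hK : IsFunctionField k K) (hK' : IsFunctionField k' K') (D : Divisor k K) :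
    Module.finrank k k' * ell D ≤ ell (conorm K' D) := by
  haveI := finiteDimensional_cExt (K := K) (K' := K') h
  haveI := finiteDimensional_L_down (k := k) hK' (conorm K' D)
  have h1 := Submodule.finrank_mono
    (W_le hK (isConstBasis_cBasis (K := K) (K' := K') (Module.finBasis k k') h) D)
  rw [finrank_W hK, Fintype.card_fin] at h1
  exact h1

theorem W_eq_of_ell_eq [FiniteDimensional k k']
    (h : Function.Bijective (Algebra.TensorProduct.productMap
      (IsScalarTower.toAlgHom k k' K') (IsScalarTower.toAlgHom k K K')))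
    (hK : IsFunctionField k K) (hK' : IsFunctionField k' K') (D : Divisor k K)
    (heq : ell (conorm K' D) = Module.finrank k k' * ell D) :
    W (cBasis (K := K) (K' := K') (Module.finBasis k k') h) D = L (conorm K' D) := by
  haveI := finiteDimensional_cExt (K := K) (K' := K') h
  haveI := finiteDimensional_L_down (k := k) hK' (conorm K' D)
  refine Submodule.eq_of_le_of_finrank_eq
    (W_le hK (isConstBasis_cBasis (K := K) (K' := K') (Module.finBasis k k') h) D) ?_
  rw [finrank_W hK, Fintype.card_fin, ← ell_def, heq]

/-- degree and dimension of the conorm, over `k'` -/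
theorem deg_upDiv_conorm [FiniteDimensional k k']
    (h : Function.Bijective (Algebra.TensorProduct.productMap
      (IsScalarTower.toAlgHom k k' K') (IsScalarTower.toAlgHom k K K')))
    (hK : IsFunctionField k K) (D : Divisor k K) :
    (upDiv (k' := k') (conorm K' D)).deg = D.deg := by
  haveI := finiteDimensional_cExt (K := K) (K' := K') h
  have h1 := deg_conorm (K' := K') hK D
  rw [finrank_cExt h, deg_upDiv (k' := k')] at h1
  have hn : (Module.finrank k k' : ℤ) ≠ 0 := by
    have : 0 < Module.finrank k k' := Module.finrank_pos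
    exact_mod_cast this.ne'
  exact mul_left_cancel₀ hn h1

theorem exists_deg_ge (hK : IsFunctionField k K) (N : ℤ) :
    ∃ D : Divisor k K, N ≤ D.deg := by
  haveI := infinite_places hK
  obtain ⟨P₀⟩ : Nonempty (FunFld.Place k K) := inferInstance
  refine ⟨Finsupp.single P₀ (N.toNat : ℤ), ?_⟩
  rw [deg_single]
  have h1 : (1 : ℤ) ≤ P₀.deg := by exact_mod_cast deg_pos P₀ hK
  have h2 : (0 : ℤ) ≤ (N.toNat : ℤ) := by positivity
  nlinarith [Int.self_le_toNat N]

/-- (a): the genus does not increase under constant field extension -/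
theorem genus_le [FiniteDimensional k k']
    (h : Function.Bijective (Algebra.TensorProduct.productMap
      (IsScalarTower.toAlgHom k k' K') (IsScalarTower.toAlgHom k K K')))
    (hK : IsFunctionField k K) (hK' : IsFunctionField k' K') :
    genus k' K' ≤ genus k K := by
  obtain ⟨-, N, hN⟩ := riemann hK
  obtain ⟨-, N', hN'⟩ := riemann hK'
  obtain ⟨D, hD⟩ := exists_deg_ge hK (max N N')
  have h1 := hN D ((le_max_left _ _).trans hD)
  have h2 := hN' (upDiv (k' := k') (conorm K' D))
    (by rw [deg_upDiv_conorm h hK]; exact (le_max_right _ _).trans hD)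
  rw [deg_upDiv_conorm h hK] at h2
  have h3 := mul_ell_le h hK hK' D
  rw [ell_upDiv (k' := k') (conorm K' D)] at h3
  have hn : 0 < Module.finrank k k' := Module.finrank_pos
  have h4 : ell D ≤ ell (upDiv (k' := k') (conorm K' D)) := Nat.le_of_mul_le_mul_left h3 hn
  have h5 : (ell D : ℤ) ≤ ell (upDiv (k' := k') (conorm K' D)) := by exact_mod_cast h4
  have : (genus k' K' : ℤ) ≤ genus k K := by linarith
  exact_mod_cast this

theorem ell_conorm_of_genus_eq [FiniteDimensional k k']
    (h : Function.Bijective (Algebra.TensorProduct.productMap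
      (IsScalarTower.toAlgHom k k' K') (IsScalarTower.toAlgHom k K K')))
    (hK : IsFunctionField k K) (hK' : IsFunctionField k' K')
    (heq : genus k' K' = genus k K) :
    ∃ N₀ : ℤ, ∀ D : Divisor k K, N₀ ≤ D.deg →
      ell (conorm K' D) = Module.finrank k k' * ell D := by
  obtain ⟨-, N, hN⟩ := riemann hK
  obtain ⟨-, N', hN'⟩ := riemann hK'
  refine ⟨max N N', fun D hD => ?_⟩
  have h1 := hN D ((le_max_left _ _).trans hD)
  have h2 := hN' (upDiv (k' := k') (conorm K' D))
    (by rw [deg_upDiv_conorm h hK]; exact (le_max_right _ _).trans hD)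
  rw [deg_upDiv_conorm h hK, heq] at h2
  have h3 : (ell (upDiv (k' := k') (conorm K' D)) : ℤ) = ell D := by linarith
  rw [ell_upDiv (k' := k') (conorm K' D)]
  congr 1
  exact_mod_cast h3

end Main

end Groth.Agent.Lib.Helper2.GM
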