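import Mathlib
import Groth.Agent.Lib.Helper2.FunFld.GM1b
import Groth.Agent.Lib.Helper2.FunFld.Aut
import Groth.Agent.Lib.Helper2.FunFld.RR

set_option autoImplicit false
open scoped WithZero IntermediateField
open FunFld Polynomial

/-! `L`-spaces of a quadratic extension `K = K₀(y)` with a conjugation `y ↦ y + 1`,
ramified exactly along a divisor `E`: `L(conorm A) = L(A) ⊕ L(A - E) y`. -/

namespace Groth.Agent.Lib.Helper2.ASG

open Groth.Agent.Lib.Helper2.FF Groth.Agent.Lib.Helper2.GM

variable {k K₀ K : Type*} [Field k] [Field K₀] [Field K] [Algebra k K₀] [Algebra K₀ K]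
  [Algebra k K] [IsScalarTower k K₀ K]

theorem exists_isOverWith_above [FiniteDimensional K₀ K] (hK₀ : IsFunctionField k K₀)
    (p : FunFld.Place k K₀) : ∃ (P : FunFld.Place k K) (e : ℕ), IsOverWith P p e := by
  classical
  obtain ⟨hfin, hsum⟩ := sum_ramIdx_mul_deg (K' := K) hK₀ p
  have h1 := hsum hfin.toFinset (fun Q => hfin.mem_toFinset)
  have hpos : 0 < Module.finrank K₀ K * p.deg :=
    Nat.mul_pos Module.finrank_pos (deg_pos p hK₀)
  rw [← h1] at hpos
  obtain ⟨Q, hQ, -⟩ := Finset.exists_ne_zero_of_sum_ne_zero hpos.ne'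
  exact ⟨Q, hfin.mem_toFinset.1 hQ⟩

theorem isOverWith_comapPlace (σ : K ≃ₐ[K₀] K) {P : FunFld.Place k K} {p : FunFld.Place k K₀}
    {e : ℕ} (he : IsOverWith P p e) : IsOverWith (comapPlace (σ.restrictScalars k) P) p e := by
  intro r
  change P.1 (σ (algebraMap K₀ K r)) = _
  rw [σ.commutes]
  exact he r

theorem pow_le_exp_mul {a : ℤᵐ⁰} {e : ℕ} (he : 1 ≤ e) {n : ℤ}
    (h : a ^ e ≤ WithZero.exp ((e : ℤ) * n)) : a ≤ WithZero.exp n := by
  by_contra hcon
  have hlt : WithZero.exp n < a := not_le.1 hcon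
  have h1 : (WithZero.exp n) ^ e < a ^ e := pow_lt_pow_left₀ hlt zero_le (by omega)
  rw [← WithZero.exp_nsmul] at h1
  have h2 : (e : ℤ) * n = e • n := by simp
  rw [h2] at h
  exact absurd h (not_le.2 h1)

section Main

variable [FiniteDimensional K₀ K] (hK₀ : IsFunctionField k K₀) {y : K} {E : Divisor k K₀}
  (hnp : ∀ (P : FunFld.Place k K) (p : FunFld.Place k K₀) (e : ℕ), IsOverWith P p e → E p = 0 →
    P.1 y ≤ 1)
  (hpole : ∀ (P : FunFld.Place k K) (p : FunFld.Place k K₀) (e : ℕ), IsOverWith P p e → E p ≠ 0 →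
    e = 2 ∧ P.1 y = WithZero.exp (2 * E p - 1))

include hK₀ hnp hpole in
theorem mul_y_mem_L (A : Divisor k K₀) {b : K₀} (hb : b ∈ L (A - E)) :
    algebraMap K₀ K b * y ∈ L (conorm K A) := by
  rw [mem_L] at hb ⊢
  intro P
  obtain ⟨p, e, he⟩ := exists_isOverWith hK₀ P
  rw [conorm_apply' hK₀ A he]
  change P.1 _ ≤ _
  rw [map_mul, he b]
  have hbp : p.1 b ≤ WithZero.exp (A p - E p) := hb p
  by_cases hE : E p = 0
  · rw [hE, sub_zero] at hbp
    calc p.1 b ^ e * P.1 y ≤ (WithZero.exp (A p)) ^ e * 1 :=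
          mul_le_mul' (pow_le_pow_left' hbp e) (hnp P p e he hE)
      _ = WithZero.exp ((e : ℤ) * A p) := by rw [mul_one, ← WithZero.exp_nsmul]; simp
  · obtain ⟨rfl, hy⟩ := hpole P p e he hE
    rw [hy]
    calc p.1 b ^ 2 * WithZero.exp (2 * E p - 1)
        ≤ (WithZero.exp (A p - E p)) ^ 2 * WithZero.exp (2 * E p - 1) :=
          mul_le_mul' (pow_le_pow_left' hbp 2) le_rfl
      _ = WithZero.exp (2 * A p - 1) := by
          rw [← WithZero.exp_nsmul, ← WithZero.exp_add]
          congr 1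
          simp only [nsmul_eq_mul, Nat.cast_ofNat]
          ring
      _ ≤ WithZero.exp (((2 : ℕ) : ℤ) * A p) := by
          rw [WithZero.exp_le_exp]
          push_cast
          omega

include hK₀ hnp hpole in
/-- the local analysis: if `a + b y ∈ L(conorm A)` and `b ∈ L(conorm A)` then `a ∈ L(A)` and
`b ∈ L(A - E)` -/
theorem mem_of_add_mem (A : Divisor k K₀) {a b : K₀}
    (hz : algebraMap K₀ K a + algebraMap K₀ K b * y ∈ L (conorm K A))
    (hb : algebraMap K₀ K b ∈ L (conorm K A)) : a ∈ L A ∧ b ∈ L (A - E) := by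
  rw [mem_L] at hz hb
  have key : ∀ p : FunFld.Place k K₀, p.1 a ≤ WithZero.exp (A p) ∧
      p.1 b ≤ WithZero.exp (A p - E p) := by
    intro p
    obtain ⟨P, e, he⟩ := exists_isOverWith_above (K := K) hK₀ p
    have he1 := isOverWith_one_le he
    have hzP : P.1 (algebraMap K₀ K a + algebraMap K₀ K b * y) ≤ WithZero.exp ((e : ℤ) * A p) := by
      have := hz P
      rwa [conorm_apply' hK₀ A he] at this
    have hbP : p.1 b ^ e ≤ WithZero.exp ((e : ℤ) * A p) := by
      have := hb P
      rw [conorm_apply' hK₀ A he] at this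
      change P.1 _ ≤ _ at this
      rwa [he b] at this
    have hb1 : p.1 b ≤ WithZero.exp (A p) := pow_le_exp_mul he1 hbP
    by_cases hE : E p = 0
    · refine ⟨?_, by rw [hE, sub_zero]; exact hb1⟩
      apply pow_le_exp_mul he1
      rw [← he a]
      have h1 : algebraMap K₀ K a =
          (algebraMap K₀ K a + algebraMap K₀ K b * y) - algebraMap K₀ K b * y := by ring
      rw [h1]
      refine (Valuation.map_sub _ _ _).trans (max_le hzP ?_)
      rw [map_mul, he b]
      calc p.1 b ^ e * P.1 y ≤ WithZero.exp ((e : ℤ) * A p) * 1 :=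
            mul_le_mul' hbP (hnp P p e he hE)
        _ = _ := mul_one _
    · obtain ⟨rfl, hy⟩ := hpole P p e he hE
      have hva : P.1 (algebraMap K₀ K a) = p.1 a ^ 2 := he a
      have hvb : P.1 (algebraMap K₀ K b * y) = p.1 b ^ 2 * WithZero.exp (2 * E p - 1) := by
        rw [map_mul, he b, hy]
      -- the two values are distinct unless both vanish
      have hmax : P.1 (algebraMap K₀ K a) ≤ WithZero.exp (((2 : ℕ) : ℤ) * A p) ∧
          P.1 (algebraMap K₀ K b * y) ≤ WithZero.exp (((2 : ℕ) : ℤ) * A p) := by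
        by_cases ha0 : a = 0
        · subst ha0
          rw [map_zero, zero_add] at hzP
          exact ⟨by rw [map_zero, map_zero]; exact zero_le, hzP⟩
        by_cases hb0 : b = 0
        · subst hb0
          rw [map_zero, zero_mul, add_zero] at hzP
          exact ⟨hzP, by rw [map_zero, zero_mul, map_zero]; exact zero_le⟩
        have hne : P.1 (algebraMap K₀ K a) ≠ P.1 (algebraMap K₀ K b * y) := by
          rw [hva, hvb]
          have hpa : p.1 a ≠ 0 := (Valuation.ne_zero_iff _).2 ha0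
          have hpb : p.1 b ≠ 0 := (Valuation.ne_zero_iff _).2 hb0
          rw [← WithZero.exp_log hpa, ← WithZero.exp_log hpb, ← WithZero.exp_nsmul,
            ← WithZero.exp_nsmul, ← WithZero.exp_add, Ne, WithZero.exp_inj]
          simp only [nsmul_eq_mul, Nat.cast_ofNat]
          omega
        rcases lt_or_gt_of_ne hne with hlt | hgt
        · rw [Valuation.map_add_eq_of_lt_right _ hlt] at hzP
          exact ⟨hlt.le.trans hzP, hzP⟩
        · rw [Valuation.map_add_eq_of_lt_left _ hgt] at hzP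
          exact ⟨hzP, hgt.le.trans hzP⟩
      refine ⟨pow_le_exp_mul he1 (hva ▸ hmax.1), ?_⟩
      have h2 := hmax.2
      rw [hvb] at h2
      by_cases hb0 : b = 0
      · rw [hb0, map_zero]; exact zero_le
      have hpb : p.1 b ≠ 0 := (Valuation.ne_zero_iff _).2 hb0
      rw [← WithZero.exp_log hpb, ← WithZero.exp_nsmul, ← WithZero.exp_add,
        WithZero.exp_le_exp] at h2
      rw [← WithZero.exp_log hpb, WithZero.exp_le_exp]
      simp only [nsmul_eq_mul, Nat.cast_ofNat] at h2
      omega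
  exact ⟨fun p => (key p).1, fun p => (key p).2⟩

include hK₀ in
theorem conj_mem_L (A : Divisor k K₀) (σ : K ≃ₐ[K₀] K) {z : K} (hz : z ∈ L (conorm K A)) :
    σ z ∈ L (conorm K A) := by
  rw [mem_L] at hz ⊢
  intro P
  obtain ⟨p, e, he⟩ := exists_isOverWith hK₀ P
  have he' := isOverWith_comapPlace σ he
  have h1 := hz (comapPlace (σ.restrictScalars k) P)
  rw [conorm_apply' hK₀ A he'] at h1
  rw [conorm_apply' hK₀ A he]
  exact h1

end Main

end Groth.Agent.Lib.Helper2.ASG
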