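import Mathlib
import Groth.Agent.Lib.Helper2.FunFld.ASG1
import Groth.Agent.Lib.Helper2.FunFld.ASG2

set_option autoImplicit false
open scoped WithZero IntermediateField
open FunFld Polynomial

namespace Groth.Agent.Lib.Helper2.ASG

open Groth.Agent.Lib.Helper2.FF Groth.Agent.Lib.Helper2.GM

variable {k K₀ K : Type*} [Field k] [Field K₀] [Field K] [Algebra k K₀] [Algebra K₀ K]
  [Algebra k K] [IsScalarTower k K₀ K]

section Main

variable [FiniteDimensional K₀ K] (hK₀ : IsFunctionField k K₀) {y : K} {E : Divisor k K₀}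
  (hnp : ∀ (P : FunFld.Place k K) (p : FunFld.Place k K₀) (e : ℕ), IsOverWith P p e → E p = 0 →
    P.1 y ≤ 1)
  (hpole : ∀ (P : FunFld.Place k K) (p : FunFld.Place k K₀) (e : ℕ), IsOverWith P p e → E p ≠ 0 →
    e = 2 ∧ P.1 y = WithZero.exp (2 * E p - 1))
  (hdeg : Module.finrank K₀ K = 2) (hy : y ∉ Set.range (algebraMap K₀ K))
  (σ : K ≃ₐ[K₀] K) (hσ : σ y = y + 1)

/-- the map `(a, b) ↦ a + b y` -/
noncomputable def decompMap (y : K) : K₀ × K₀ →ₗ[k] K where
  toFun ab := algebraMap K₀ K ab.1 + algebraMap K₀ K ab.2 * y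
  map_add' ab cd := by
    simp only [Prod.fst_add, Prod.snd_add, map_add]
    ring
  map_smul' c ab := by
    simp only [Prod.smul_fst, Prod.smul_snd, RingHom.id_apply]
    rw [Algebra.smul_def, Algebra.smul_def, map_mul, map_mul, ← IsScalarTower.algebraMap_apply,
      Algebra.smul_def]
    ring

include hK₀ hnp hpole hdeg hy hσ in
theorem ell_conorm_eq (A : Divisor k K₀) :
    ell (conorm K A) = ell A + ell (A - E) := by
  have hmem : ∀ ab : L A × L (A - E),
      decompMap (k := k) y ((ab.1 : K₀), (ab.2 : K₀)) ∈ L (conorm K A) := by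
    intro ab
    exact (L _).add_mem (algebraMap_mem_L_conorm hK₀ ab.1.2)
      (mul_y_mem_L hK₀ hnp hpole A ab.2.2)
  let Φ : (L A × L (A - E)) →ₗ[k] L (conorm K A) :=
    LinearMap.codRestrict (L (conorm K A))
      ((decompMap (k := k) y).comp (LinearMap.prodMap (L A).subtype (L (A - E)).subtype))
      (fun ab => hmem ab)
  have hΦ : ∀ ab : L A × L (A - E), (Φ ab : K) =
      algebraMap K₀ K (ab.1 : K₀) + algebraMap K₀ K (ab.2 : K₀) * y := fun ab => rfl
  have hinj : Function.Injective Φ := by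
    rw [← LinearMap.ker_eq_bot, LinearMap.ker_eq_bot']
    intro ab hab
    have h1 : (Φ ab : K) = 0 := congrArg Subtype.val hab
    rw [hΦ] at h1
    obtain ⟨h2, h3⟩ := decomp_unique hy h1
    exact Prod.ext (Subtype.ext h2) (Subtype.ext h3)
  have hsurj : Function.Surjective Φ := by
    rintro ⟨z, hz⟩
    obtain ⟨a, b, hab⟩ := exists_decomp hdeg hy z
    have hσz : σ z = z + algebraMap K₀ K b := by
      rw [hab, map_add, map_mul, σ.commutes, σ.commutes, hσ]
      ring
    have hb : algebraMap K₀ K b ∈ L (conorm K A) := by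
      have h1 : algebraMap K₀ K b = σ z - z := by rw [hσz]; ring
      rw [h1]
      exact (L (conorm K A)).sub_mem (conj_mem_L hK₀ A σ hz) hz
    obtain ⟨ha', hb'⟩ := mem_of_add_mem hK₀ hnp hpole A (hab ▸ hz) hb
    refine ⟨(⟨a, ha'⟩, ⟨b, hb'⟩), Subtype.ext ?_⟩
    rw [hΦ]
    exact hab.symm
  haveI : FiniteDimensional k (L A) := finiteDimensional_L hK₀ A
  haveI : FiniteDimensional k (L (A - E)) := finiteDimensional_L hK₀ (A - E)
  have e := LinearEquiv.ofBijective Φ ⟨hinj, hsurj⟩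
  unfold ell
  rw [← e.finrank_eq, Module.finrank_prod]

include hK₀ hnp hpole hdeg hy hσ in
theorem genus_eq (hK : IsFunctionField k K) (hg0 : genus k K₀ = 0) :
    (genus k K : ℤ) = E.deg - 1 := by
  classical
  obtain ⟨p₁⟩ := nonempty_place hK₀
  have hp₁ : (1 : ℤ) ≤ p₁.deg := by exact_mod_cast deg_pos p₁ hK₀
  set n : ℕ := genus k K + E.deg.toNat + 1 with hn
  set A : Divisor k K₀ := n • (Finsupp.single p₁ 1 : Divisor k K₀) with hA
  have hAdeg : A.deg = n * p₁.deg := by
    rw [hA, deg_nsmul, deg_single, one_mul]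
  have hAn : (n : ℤ) ≤ A.deg := by
    rw [hAdeg]
    nlinarith
  have hEn : E.deg ≤ n := by
    rw [hn]; push_cast
    have := Int.self_le_toNat E.deg
    omega
  have hgn : (genus k K : ℤ) ≤ n := by rw [hn]; push_cast; omega
  have h1 := ell_conorm_eq hK₀ hnp hpole hdeg hy σ hσ A
  have hdc : (conorm K A).deg = 2 * A.deg := by rw [deg_conorm hK₀, hdeg]; norm_num
  have h2 := ell_eq_of_deg_ge hK (conorm K A) (by rw [hdc]; omega)
  have h3 := ell_eq_of_deg_ge hK₀ A (by rw [hg0]; push_cast; omega)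
  have h4 := ell_eq_of_deg_ge hK₀ (A - E) (by rw [hg0, deg_sub]; push_cast; omega)
  rw [hg0] at h3 h4
  rw [deg_sub] at h4
  rw [h1, hdc] at h2
  push_cast at h2 h3 h4
  omega

end Main

end Groth.Agent.Lib.Helper2.ASG
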