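import Mathlib
import Groth.Agent.Lib.Helper2.FunFld.ASG3
import Groth.Agent.Lib.Helper2.FunFld.Rational
import Groth.Agent.S12519

set_option autoImplicit false
open scoped WithZero IntermediateField
open FunFld Polynomial

/-! Genus of `y² + y = f(x)` in characteristic two. -/

namespace Groth.Agent.Lib.Helper2.ASG

open Groth.Agent.Lib.Helper2.FF Groth.Agent.Lib.Helper2.GM
  Groth.Agent.Lib.Helper26.FunFldRatPlace

section Local

variable {k K : Type*} [Field k] [Field K] [Algebra k K]

theorem v_y_le_one (P : FunFld.Place k K) {y g : K} (heq : y ^ 2 + y = g) (h : P.1 g ≤ 1) :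
    P.1 y ≤ 1 := by
  by_contra hcon
  have h1 : 1 < P.1 y := not_le.1 hcon
  have h2 : P.1 y < P.1 (y ^ 2) := by
    rw [map_pow, pow_two]
    calc P.1 y = P.1 y * 1 := (mul_one _).symm
      _ < P.1 y * P.1 y := by
          apply mul_lt_mul_of_pos_left h1
          exact lt_trans zero_lt_one h1
  have h3 : P.1 (y ^ 2 + y) = P.1 (y ^ 2) := Valuation.map_add_eq_of_lt_left _ h2
  rw [heq] at h3
  rw [h3] at h
  exact absurd (h1.trans h2) (not_lt.2 h)

theorem v_y_sq_eq (P : FunFld.Place k K) {y g : K} (heq : y ^ 2 + y = g) (h : 1 < P.1 g) :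
    P.1 y ^ 2 = P.1 g := by
  have h1 : 1 < P.1 y := by
    by_contra hcon
    have hle : P.1 y ≤ 1 := not_lt.1 hcon
    have : P.1 (y ^ 2 + y) ≤ 1 :=
      (Valuation.map_add _ _ _).trans (max_le (by rw [map_pow]; exact pow_le_one' hle 2) hle)
    rw [heq] at this
    exact absurd h (not_lt.2 this)
  have h2 : P.1 y < P.1 (y ^ 2) := by
    rw [map_pow, pow_two]
    calc P.1 y = P.1 y * 1 := (mul_one _).symm
      _ < P.1 y * P.1 y := by
          apply mul_lt_mul_of_pos_left h1
          exact lt_trans zero_lt_one h1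
  have h3 : P.1 (y ^ 2 + y) = P.1 (y ^ 2) := Valuation.map_add_eq_of_lt_left _ h2
  rw [heq, map_pow] at h3
  exact h3.symm

end Local

section Main

variable {k K : Type*} [Field k] [Field K] [Algebra k K] [Algebra (RatFunc k) K]
  [IsScalarTower k (RatFunc k) K]

open Classical in
/-- the divisor `∑ d_p p` over the poles of `f` (of order `2 d_p - 1`) -/
noncomputable def ramDiv (f : RatFunc k) : Divisor k (RatFunc k) :=
  ∑ p ∈ (FunFld.div k f).support with FunFld.div k f p < 0,
    Finsupp.single p ((1 - FunFld.div k f p) / 2)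

open Classical in
theorem ramDiv_apply (f : RatFunc k) (p : FunFld.Place k (RatFunc k)) :
    ramDiv f p = if FunFld.div k f p < 0 then (1 - FunFld.div k f p) / 2 else 0 := by
  unfold ramDiv
  rw [Finsupp.finsetSum_apply]
  simp only [Finsupp.single_apply]
  rw [Finset.sum_ite_eq']
  by_cases h : FunFld.div k f p < 0
  · have hm : p ∈ (FunFld.div k f).support := by
      rw [Finsupp.mem_support_iff]; omega
    rw [if_pos (by simp [hm, h]), if_pos h]
  · rw [if_neg (by simp [h]), if_neg h]

open Classical in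
theorem deg_ramDiv (f : RatFunc k) :
    (ramDiv f).deg = ∑ p ∈ (FunFld.div k f).support with FunFld.div k f p < 0,
      (1 - FunFld.div k f p) / 2 * (p.deg : ℤ) := by
  unfold ramDiv
  rw [← degAddHom_apply, map_sum]
  refine Finset.sum_congr rfl fun p _ => ?_
  rw [degAddHom_apply, deg_single]

theorem isSeparable_of_artinSchreier {F E : Type*} [Field F] [Field E] [Algebra F E] [CharP F 2]
    (hdeg : Module.finrank F E = 2) {y : E} (hy : y ∉ Set.range (algebraMap F E)) {f : F}
    (heq : y ^ 2 + y = algebraMap F E f) : Algebra.IsSeparable F E := by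
  have hysep : IsSeparable F y := by
    let q : F[X] := X ^ 2 + X - C f
    have hqy : aeval y q = 0 := by
      simp only [q, map_sub, map_add, map_pow, aeval_X, aeval_C]
      rw [heq]; exact sub_self _
    have hqsep : q.Separable := by
      refine ⟨0, 1, ?_⟩
      simp only [q, derivative_sub, derivative_add, derivative_X_pow, derivative_X, derivative_C]
      have h2 : (2 : F[X]) = 0 := by
        have : ((2 : ℕ) : F[X]) = 0 := CharP.cast_eq_zero F[X] 2
        exact_mod_cast this
      have h2' : (2 : F) = 0 := CharTwo.two_eq_zero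
      simp [h2, h2']
    exact hqsep.of_dvd (minpoly.dvd F y hqy)
  refine ⟨fun z => ?_⟩
  obtain ⟨a, b, rfl⟩ := exists_decomp hdeg hy z
  exact Field.isSeparable_add (isSeparable_algebraMap a)
    (Field.isSeparable_mul (isSeparable_algebraMap b) hysep)

variable [PerfectField k] (h2 : ringChar k = 2) (hK : IsFunctionField k K)
  (hdeg : Module.finrank (RatFunc k) K = 2) {y : K} (hy : y ∉ Set.range (algebraMap (RatFunc k) K))
  {f : RatFunc k} (heq : y ^ 2 + y = algebraMap (RatFunc k) K f)
  (hodd : ∀ p : FunFld.Place k (RatFunc k), p.ord f < 0 → Odd (p.ord f))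

omit [Algebra k K] [IsScalarTower k (RatFunc k) K] [PerfectField k] in
include hy heq in
theorem f_ne_zero : f ≠ 0 := by
  rintro rfl
  rw [map_zero] at heq
  have h1 : y * (y + 1) = 0 := by rw [← heq]; ring
  rcases mul_eq_zero.1 h1 with h | h
  · exact hy ⟨0, by rw [h, map_zero]⟩
  · exact hy ⟨-1, by rw [map_neg, map_one]; linear_combination -h⟩

include h2 hK hdeg hy heq hodd in
theorem genus_artinSchreier : (genus k K : ℤ) = (ramDiv f).deg - 1 := by
  classical
  haveI : FiniteDimensional (RatFunc k) K := Module.finite_of_finrank_pos (by omega)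
  have hK0 : IsFunctionField k (RatFunc k) := isFunctionField_ratFunc
  haveI : CharP k 2 := ringChar.of_eq h2
  haveI : CharP (RatFunc k) 2 :=
    charP_of_injective_algebraMap (algebraMap k (RatFunc k)).injective 2
  haveI : Algebra.IsSeparable (RatFunc k) K := isSeparable_of_artinSchreier hdeg hy heq
  have hf0 : f ≠ 0 := f_ne_zero hy heq
  have hfK0 : algebraMap (RatFunc k) K f ≠ 0 := (_root_.map_ne_zero _).2 hf0
  have hg0 : genus k (RatFunc k) = 0 :=
    ((genus_zero_iff hK0).2 ⟨RatFunc.X, RatFunc.adjoin_X⟩).1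
  obtain ⟨σ, hσ⟩ := exists_conj hdeg hy heq
  have hE : ∀ p : FunFld.Place k (RatFunc k),
      ramDiv f p = if p.ord f < 0 then (1 - p.ord f) / 2 else 0 := by
    intro p
    rw [ramDiv_apply, div_apply hK0]
  apply genus_eq hK0 _ _ hdeg hy σ hσ hK hg0
  · intro P p e he hEp
    have hnn : 0 ≤ p.ord f := by
      by_contra hcon
      have hneg : p.ord f < 0 := not_le.1 hcon
      rw [hE p, if_pos hneg] at hEp
      obtain ⟨m, hm⟩ := hodd p hneg
      omega
    apply v_y_le_one P heq
    rw [he f]
    exact pow_le_one' ((v_le_one_iff p hf0).2 hnn) e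
  · intro P p e he hEp
    have hneg : p.ord f < 0 := by
      by_contra hcon
      rw [hE p, if_neg hcon] at hEp
      exact hEp rfl
    have hoddp := hodd p hneg
    have h3 := ((Groth.Agent.S12519.result k K h2 hdeg y hy f heq p).1 ⟨hneg, hoddp⟩).2 P ⟨e, he⟩
    have he2 : e = 2 := isOverWith_e_unique he h3.1
    subst he2
    refine ⟨rfl, ?_⟩
    have hpf : 1 < p.1 f := (one_lt_v_iff p hf0).2 hneg
    have h4 : 1 < P.1 (algebraMap (RatFunc k) K f) := by
      rw [he f]; exact one_lt_pow₀ hpf (by norm_num)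
    have h5 := v_y_sq_eq P heq h4
    rw [he f] at h5
    have h6 : P.1 y = p.1 f := by
      rcases lt_trichotomy (P.1 y) (p.1 f) with h | h | h
      · exact absurd h5 (ne_of_lt (pow_lt_pow_left₀ h zero_le (by norm_num)))
      · exact h
      · exact absurd h5.symm (ne_of_lt (pow_lt_pow_left₀ h zero_le (by norm_num)))
    rw [h6, v_eq_exp_neg_ord p hf0, hE p, if_pos hneg]
    congr 1
    obtain ⟨m, hm⟩ := hoddp
    omega

end Main

end Groth.Agent.Lib.Helper2.ASG
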