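import Mathlib
import Groth.Prelude.Def_LocRes
import Groth.Agent.Lib.Helper2.Tate.DM1

set_option autoImplicit false
open LaurentSeries HahnSeries

/-! Coefficientwise extension of an additive derivation-like map of the coefficient field to
Laurent series. -/

namespace Groth.Agent.Lib.Helper2.HF

open Groth.Agent.Lib.Helper2.Tate

variable {k : Type*} {F : Type*} [Field k] [Field F] [Algebra k F]

/-- the coefficientwise map -/
noncomputable def cD (d : F →+ F) (x : F⸨X⸩) : F⸨X⸩ := x.map d

theorem cD_coeff (d : F →+ F) (x : F⸨X⸩) (n : ℤ) : (cD d x).coeff n = d (x.coeff n) := rfl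

theorem cD_add (d : F →+ F) (x y : F⸨X⸩) : cD d (x + y) = cD d x + cD d y := by
  ext n
  rw [HahnSeries.coeff_add, cD_coeff, cD_coeff, cD_coeff, HahnSeries.coeff_add, map_add]

theorem cD_zero (d : F →+ F) : cD d (0 : F⸨X⸩) = 0 := by
  ext n
  rw [cD_coeff, HahnSeries.coeff_zero, map_zero]

/-- as an additive map -/
noncomputable def cDHom (d : F →+ F) : F⸨X⸩ →+ F⸨X⸩ where
  toFun := cD d
  map_zero' := cD_zero d
  map_add' := cD_add d

theorem cDHom_apply (d : F →+ F) (x : F⸨X⸩) : cDHom d x = cD d x := rfl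

theorem support_cD_subset (d : F →+ F) (x : F⸨X⸩) : (cD d x).support ⊆ x.support := by
  intro n hn
  rw [HahnSeries.mem_support] at hn ⊢
  intro h0
  apply hn
  rw [cD_coeff, h0, map_zero]

theorem cD_mul (d : F →+ F) (hd : ∀ a b, d (a * b) = a * d b + b * d a) (x y : F⸨X⸩) :
    cD d (x * y) = x * cD d y + y * cD d x := by
  ext n
  rw [HahnSeries.coeff_add, cD_coeff, HahnSeries.coeff_mul, map_sum,
    HahnSeries.coeff_mul_right' y.isPWO_support (support_cD_subset d y), mul_comm y,
    HahnSeries.coeff_mul_left' x.isPWO_support (support_cD_subset d x), ← Finset.sum_add_distrib]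
  apply Finset.sum_congr rfl
  intro ij _
  rw [hd, cD_coeff, cD_coeff]
  ring

theorem cD_C (d : F →+ F) (a : F) : cD d (HahnSeries.C a : F⸨X⸩) = HahnSeries.C (d a) := by
  ext n
  change d ((HahnSeries.single 0 a).coeff n) = (HahnSeries.single 0 (d a)).coeff n
  rw [HahnSeries.coeff_single, HahnSeries.coeff_single]
  split_ifs
  · rfl
  · exact map_zero d

theorem cD_mem_Fil (d : F →+ F) {x : F⸨X⸩} {N : ℤ} (hx : x ∈ Fil k N) : cD d x ∈ Fil k N := by
  intro n hn
  rw [cD_coeff, hx n hn, map_zero]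

end Groth.Agent.Lib.Helper2.HF
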