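import Mathlib
import Groth.Prelude.Def_LocRes
import Groth.Agent.Lib.Helper2.FunFld.HF1
import Groth.Agent.Lib.Helper2.Tate.DM3

set_option autoImplicit false
open LaurentSeries HahnSeries KaehlerDifferential FunFld Polynomial

/-! A place with a Laurent expansion over `k`, in a field with one-dimensional differentials, has
separable coefficient field and residue field. -/

namespace Groth.Agent.Lib.Helper2.HF

open Groth.Agent.Lib.Helper2.Tate Groth.Agent.Lib.Helper2.FF

universe u v w

variable {k : Type u} {K : Type v} {F : Type w} [Field k] [Field K] [Field F] [Algebra k K]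
  [Algebra k F]
variable {P : Place k K} {φ : K →ₐ[k] F⸨X⸩}

theorem der_eq_zero (hφ : LocRes.IsExpansionAt P.1 φ) (hfr : Module.finrank K (Ω[K⁄k]) = 1)
    (d : Derivation k F F) (a : F) : d a = 0 := by
  obtain ⟨s, hs⟩ := hφ.2.2
  obtain ⟨hDs, hords⟩ := ordDiff_uniformizer hφ hs
  have hvs : Valued.v (LocRes.D F (φ s)) = 1 := val_eq_one_of_ordDiff_zero φ hDs hords
  have hDs' : D k K s ≠ 0 := D_ne_zero_of_D_phi_ne_zero φ hDs
  obtain ⟨y, hy, hya⟩ := hφ.2.1 a
  obtain ⟨c, hc⟩ := (finrank_eq_one_iff_of_nonzero' (D k K s) hDs').mp hfr (D k K y)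
  have h1 : LocRes.D F (φ y) = φ c * LocRes.D F (φ s) := D_phi_eq_mul φ hc.symm
  have hymem : φ y ∈ Fil k (F := F) 0 := by
    rw [mem_Fil_iff_val, hφ.1, neg_zero, WithZero.exp_zero]; exact hy
  have hc1 : φ c ∈ Fil k (F := F) 0 := by
    have h4 := val_le_of_mem_Fil (D_mem_Fil_zero hymem)
    rw [h1, map_mul, hvs, mul_one] at h4
    exact mem_Fil_iff_val.2 h4
  set dd : F →+ F := (d : F →ₗ[k] F).toAddMonoidHom with hdd
  have hddl : ∀ a b, dd (a * b) = a * dd b + b * dd a := fun a b => d.leibniz a b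
  let dm : K →+ F⸨X⸩ := (cDHom dd).comp φ.toRingHom.toAddMonoidHom
  have hdm : ∀ z, dm z = cD dd (φ z) := fun z => rfl
  have h2 : dm y = φ.toRingHom c * dm s := by
    apply apply_eq_mul_of_D_eq hc.symm φ.toRingHom dm
    · intro a b
      rw [hdm, hdm, hdm, map_mul, cD_mul dd hddl]
      rfl
    · intro c
      rw [hdm, LocRes.map_algebraMap, cD_C]
      have : dd (algebraMap k F c) = 0 := d.map_algebraMap c
      rw [this, map_zero]
  have hsmem : φ s ∈ Fil k (F := F) 1 := by
    rw [mem_Fil_iff_val, hφ.1, hs]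
  have h3 : dm y ∈ Fil k (F := F) (0 + 1) := by
    rw [h2]
    exact mul_mem_Fil hc1 (cD_mem_Fil dd hsmem)
  have h4 := h3 0 (by norm_num)
  rw [hdm, cD_coeff, hya] at h4
  exact h4

theorem isSeparable_coeffField (hφ : LocRes.IsExpansionAt P.1 φ)
    (hfr : Module.finrank K (Ω[K⁄k]) = 1) [FiniteDimensional k F] : Algebra.IsSeparable k F := by
  have hsub : Subsingleton (Ω[F⁄k]) := by
    refine ⟨fun ω₁ ω₂ => ?_⟩
    have key : ∀ ω : Ω[F⁄k], ω = 0 := by
      intro ω
      rw [← Module.forall_dual_apply_eq_zero_iff F]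
      intro f
      have hf : f = 0 := by
        apply Derivation.liftKaehlerDifferential_unique
        ext a
        change f (D k F a) = (0 : Ω[F⁄k] →ₗ[F] F) (D k F a)
        rw [LinearMap.zero_apply]
        exact der_eq_zero hφ hfr (f.compDer (D k F)) a
      rw [hf, LinearMap.zero_apply]
    rw [key ω₁, key ω₂]
  haveI : Algebra.FormallyUnramified k F := ⟨hsub⟩
  exact Algebra.FormallyUnramified.isSeparable k F

/-- the constant coefficient of the expansion, as an algebra map on the valuation ring -/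
noncomputable def c0A (P : Place k K) (φ : K →ₐ[k] F⸨X⸩) (hφ : LocRes.IsExpansionAt P.1 φ) :
    P.O →ₐ[k] F where
  toFun x := (φ (x : K)).coeff 0
  map_one' := by
    change (φ ((1 : P.O) : K)).coeff 0 = 1
    rw [OneMemClass.coe_one, map_one, HahnSeries.coeff_one, if_pos rfl]
  map_mul' x y := by
    change (φ ((x * y : P.O) : K)).coeff 0 = (φ (x : K)).coeff 0 * (φ (y : K)).coeff 0
    have hx : φ (x : K) ∈ Fil k (F := F) 0 := by
      rw [mem_Fil_iff_val, hφ.1, neg_zero, WithZero.exp_zero]; exact (mem_O_iff P _).1 x.2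
    have hy : φ (y : K) ∈ Fil k (F := F) 0 := by
      rw [mem_Fil_iff_val, hφ.1, neg_zero, WithZero.exp_zero]; exact (mem_O_iff P _).1 y.2
    have := coeff_mul_of_mem_Fil hx hy
    rw [add_zero] at this
    rw [← this, ← map_mul]
    rfl
  map_zero' := by
    change (φ ((0 : P.O) : K)).coeff 0 = 0
    rw [ZeroMemClass.coe_zero, map_zero, HahnSeries.coeff_zero]
  map_add' x y := by
    change (φ ((x + y : P.O) : K)).coeff 0 = (φ (x : K)).coeff 0 + (φ (y : K)).coeff 0
    rw [← HahnSeries.coeff_add, ← map_add]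
    rfl
  commutes' c := by
    change (φ ((algebraMap k P.O c : P.O) : K)).coeff 0 = algebraMap k F c
    have : ((algebraMap k P.O c : P.O) : K) = algebraMap k K c := rfl
    rw [this, LocRes.map_algebraMap]
    change (HahnSeries.single 0 (algebraMap k F c)).coeff 0 = _
    rw [HahnSeries.coeff_single_same]

theorem c0A_apply (hφ : LocRes.IsExpansionAt P.1 φ) (x : P.O) :
    c0A P φ hφ x = (φ (x : K)).coeff 0 := rfl

theorem v_lt_one_of_c0A_eq_zero (hφ : LocRes.IsExpansionAt P.1 φ) (x : P.O)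
    (h : c0A P φ hφ x = 0) : P.1 (x : K) < 1 := by
  have hx : φ (x : K) ∈ Fil k (F := F) 0 := by
    rw [mem_Fil_iff_val, hφ.1, neg_zero, WithZero.exp_zero]; exact (mem_O_iff P _).1 x.2
  have hx1 : φ (x : K) ∈ Fil k (F := F) 1 := by
    intro n hn
    by_cases h0 : n = 0
    · rw [h0]; exact h
    · exact hx n (by omega)
  rw [mem_Fil_iff_val, hφ.1] at hx1
  refine lt_of_le_of_lt hx1 ?_
  rw [← WithZero.exp_zero, WithZero.exp_lt_exp]
  norm_num

theorem isSeparable_residueField (hφ : LocRes.IsExpansionAt P.1 φ)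
    (hfr : Module.finrank K (Ω[K⁄k]) = 1)
    [FiniteDimensional k (IsLocalRing.ResidueField P.O)] :
    Algebra.IsSeparable k (IsLocalRing.ResidueField P.O) := by
  haveI : FiniteDimensional k F := finiteDimensional_coeffField' hφ
  haveI : Algebra.IsSeparable k F := isSeparable_coeffField hφ hfr
  refine ⟨fun xb => ?_⟩
  obtain ⟨x, rfl⟩ := resAlg_surjective P xb
  set α := c0A P φ hφ x with hα
  have hsep : (minpoly k α).Separable := Algebra.IsSeparable.isSeparable k α
  have hroot : aeval (resAlg P x) (minpoly k α) = 0 := by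
    rw [aeval_algHom_apply, resAlg_eq_zero_iff]
    apply v_lt_one_of_c0A_eq_zero hφ
    rw [← aeval_algHom_apply, ← hα, minpoly.aeval]
  exact hsep.of_dvd (minpoly.dvd k _ hroot)

end Groth.Agent.Lib.Helper2.HF
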