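import Mathlib
import Groth.Prelude.Def_LocRes
import Groth.Agent.Lib.Helper2.FunFld.HF2

set_option autoImplicit false
open LaurentSeries HahnSeries KaehlerDifferential FunFld Polynomial

/-! Differentials of a field with an expansion: base change of the rank, the chain rule for
polynomials with constant coefficients, and the derivation `d/dt` preserving a subalgebra of
"unramified" integral elements. -/

namespace Groth.Agent.Lib.Helper2.HF

open Groth.Agent.Lib.Helper2.Tate Groth.Agent.Lib.Helper2.FF

universe u v w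

theorem finrank_kaehler_ext {k K K' : Type*} [Field k] [Field K] [Field K'] [Algebra k K]
    [Algebra K K'] [Algebra k K'] [IsScalarTower k K K'] [Algebra.IsSeparable K K']
    (hfr : Module.finrank K (Ω[K⁄k]) = 1) : Module.finrank K' (Ω[K'⁄k]) = 1 := by
  haveI : Algebra.FormallyEtale K K' := Algebra.FormallyEtale.of_isSeparable K K'
  rw [← (KaehlerDifferential.tensorKaehlerEquivOfFormallyEtale k K K').finrank_eq,
    Module.finrank_baseChange, hfr]

variable {k : Type u} {K : Type v} {F : Type w} [Field k] [Field K] [Field F] [Algebra k K]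
  [Algebra k F]
variable {P : Place k K} {φ : K →ₐ[k] F⸨X⸩}

/-- chain rule for a polynomial with constant coefficients -/
theorem D_phi_aeval_const (φ : K →ₐ[k] F⸨X⸩) (a : K) (h : k[X]) :
    LocRes.D F (φ (aeval a h)) = φ (aeval a (derivative h)) * LocRes.D F (φ a) := by
  have h1 := D_psi_aeval (K := k) φ a h
  have h2 : coeffD (K := k) φ a h = 0 := by
    unfold coeffD
    rw [Polynomial.sum_def]
    apply Finset.sum_eq_zero
    intro i _
    have : LocRes.D F (φ (algebraMap k K (h.coeff i))) = 0 := dPhi_algebraMap φ _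
    rw [this, zero_mul]
  rw [h1, h2, zero_add]

theorem D_mem_Fil_zero_of_le (hφ : LocRes.IsExpansionAt P.1 φ) {a : K} (ha : P.1 a ≤ 1) :
    Valued.v (LocRes.D F (φ a)) ≤ 1 := by
  have hmem : φ a ∈ Fil k (F := F) 0 := by
    rw [mem_Fil_iff_val, hφ.1, neg_zero, WithZero.exp_zero]; exact ha
  have := val_le_of_mem_Fil (D_mem_Fil_zero hmem)
  rwa [neg_zero, WithZero.exp_zero] at this

/-- `d/dt` preserves a subalgebra `A` of integral elements whose elements of positive order are
multiples of `t` in `A` and whose residues are separable over `k` -/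
theorem D_le_of_subalgebra (hφ : LocRes.IsExpansionAt P.1 φ) (A : Subalgebra k K) {t : K} {e : ℕ}
    (he : 1 ≤ e) (ht : P.1 t = WithZero.exp (-(e : ℤ))) (hDt : LocRes.D F (φ t) ≠ 0)
    (hA1 : ∀ a ∈ A, P.1 a ≤ 1)
    (hA2 : ∀ a ∈ A, P.1 a < 1 → ∃ u ∈ A, a = t * u)
    (hA3 : ∀ a ∈ A, ∃ h : k[X], P.1 (aeval a h) < 1 ∧ P.1 (aeval a (derivative h)) = 1) :
    ∀ a ∈ A, Valued.v (LocRes.D F (φ a)) ≤ Valued.v (LocRes.D F (φ t)) := by
  set V₀ := Valued.v (LocRes.D F (φ t)) with hV₀
  have hV₀0 : V₀ ≠ 0 := (Valuation.ne_zero_iff _).2 hDt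
  set N : ℕ := (- WithZero.log V₀).toNat with hN
  have hVN : (1 : WithZero (Multiplicative ℤ)) ≤ V₀ * WithZero.exp (N : ℤ) := by
    rw [← WithZero.exp_log hV₀0, ← WithZero.exp_add, ← WithZero.exp_zero, WithZero.exp_le_exp]
    have := Int.self_le_toNat (- WithZero.log V₀)
    omega
  have key : ∀ m : ℕ, m ≤ N → ∀ a ∈ A,
      Valued.v (LocRes.D F (φ a)) ≤ V₀ * WithZero.exp ((N : ℤ) - m) := by
    intro m
    induction m with
    | zero =>
      intro _ a ha
      rw [Nat.cast_zero, sub_zero]
      exact (D_mem_Fil_zero_of_le hφ (hA1 a ha)).trans hVN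
    | succ m ih =>
      intro hm a ha
      have ih' := ih (by omega)
      obtain ⟨h, hh1, hh2⟩ := hA3 a ha
      have hbA : aeval a h ∈ A := by
        have := Polynomial.aeval_subalgebra_coe h A ⟨a, ha⟩
        rw [← this]
        exact Subtype.mem _
      obtain ⟨u, hu, hbu⟩ := hA2 _ hbA hh1
      have h1 := D_phi_aeval_const φ a h
      have h2 : Valued.v (LocRes.D F (φ a)) = Valued.v (LocRes.D F (φ (aeval a h))) := by
        rw [h1, map_mul, hφ.1, hh2, one_mul]
      rw [h2, hbu, map_mul, Derivation.leibniz, smul_eq_mul, smul_eq_mul]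
      refine (Valuation.map_add _ _ _).trans (max_le ?_ ?_)
      · rw [map_mul, hφ.1, ht]
        calc WithZero.exp (-(e : ℤ)) * Valued.v (LocRes.D F (φ u))
            ≤ WithZero.exp (-(e : ℤ)) * (V₀ * WithZero.exp ((N : ℤ) - m)) :=
              mul_le_mul' le_rfl (ih' u hu)
          _ = V₀ * (WithZero.exp (-(e : ℤ)) * WithZero.exp ((N : ℤ) - m)) := by
              rw [mul_left_comm]
          _ ≤ V₀ * WithZero.exp ((N : ℤ) - (m + 1 : ℕ)) := by
              apply mul_le_mul' le_rfl
              rw [← WithZero.exp_add, WithZero.exp_le_exp]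
              push_cast
              omega
      · rw [map_mul, hφ.1, ← hV₀]
        calc P.1 u * V₀ ≤ 1 * V₀ := mul_le_mul' (hA1 u hu) le_rfl
          _ = V₀ * 1 := by rw [one_mul, mul_one]
          _ ≤ V₀ * WithZero.exp ((N : ℤ) - (m + 1 : ℕ)) := by
              apply mul_le_mul' le_rfl
              rw [← WithZero.exp_zero, WithZero.exp_le_exp]
              push_cast
              omega
  intro a ha
  have := key N le_rfl a ha
  rwa [sub_self, WithZero.exp_zero, mul_one] at this

end Groth.Agent.Lib.Helper2.HF
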