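import Mathlib
import Groth.Prelude.Def_LocRes
import Groth.Agent.Lib.Helper2.FunFld.HF3

set_option autoImplicit false
open LaurentSeries HahnSeries KaehlerDifferential FunFld Polynomial

/-! The valuation of `p'(s)` for an Eisenstein-type relation with coefficients in a subalgebra
preserved by `d/dt`. -/

namespace Groth.Agent.Lib.Helper2.HF

open Groth.Agent.Lib.Helper2.Tate Groth.Agent.Lib.Helper2.FF

universe u v w

variable {k : Type u} {K : Type v} {F : Type w} [Field k] [Field K] [Field F] [Algebra k K]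
  [Algebra k F]
variable {P : Place k K} {φ : K →ₐ[k] F⸨X⸩}

theorem val_aeval_derivative' (hφ : LocRes.IsExpansionAt P.1 φ) {s : K}
    (hs : P.1 s = WithZero.exp (-1)) {p : K[X]} (hp : aeval s p = 0)
    {V₀ : WithZero (Multiplicative ℤ)} (hV₀0 : V₀ ≠ 0)
    (hcoef : ∀ i, Valued.v (LocRes.D F (φ (p.coeff i))) ≤ V₀)
    (h0 : Valued.v (LocRes.D F (φ (p.coeff 0))) = V₀) :
    P.1 (aeval s (derivative p)) = V₀ := by
  classical
  have hφs : Valued.v (φ s) = WithZero.exp (-1) := by rw [hφ.1, hs]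
  have hsum : Valued.v (coeffD (K := K) φ s p) = V₀ := by
    have h0mem : 0 ∈ p.support := by
      rw [Polynomial.mem_support_iff]
      intro h00
      rw [h00, map_zero, map_zero, map_zero] at h0
      exact hV₀0 h0.symm
    unfold coeffD
    rw [Polynomial.sum_def, ← Finset.add_sum_erase _ _ h0mem, pow_zero, mul_one,
      Algebra.algebraMap_self_apply, ← h0]
    apply Valuation.map_add_eq_of_lt_left
    rw [h0]
    apply Valuation.map_sum_lt _ hV₀0
    intro i hi
    have hi0 : i ≠ 0 := (Finset.mem_erase.1 hi).1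
    rw [map_mul, map_pow, hφs, Algebra.algebraMap_self_apply]
    have h5 : (WithZero.exp (-1 : ℤ)) ^ i < 1 := by
      apply pow_lt_one' _ hi0
      rw [← WithZero.exp_zero, WithZero.exp_lt_exp]
      norm_num
    calc Valued.v (LocRes.D F (φ (p.coeff i))) * WithZero.exp (-1 : ℤ) ^ i
        ≤ V₀ * WithZero.exp (-1 : ℤ) ^ i := mul_le_mul' (hcoef i) le_rfl
      _ < V₀ * 1 := by
          apply mul_lt_mul_of_pos_left h5
          exact zero_lt_iff.2 hV₀0
      _ = V₀ := mul_one _
  obtain ⟨hDφs, hords⟩ := ordDiff_uniformizer hφ hs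
  have hvs : Valued.v (LocRes.D F (φ s)) = 1 := val_eq_one_of_ordDiff_zero φ hDφs hords
  have hmain := D_psi_aeval (K := K) φ s p
  rw [hp, map_zero, map_zero] at hmain
  have h6 : φ (aeval s (derivative p)) * LocRes.D F (φ s) = - coeffD (K := K) φ s p :=
    eq_neg_of_add_eq_zero_right hmain.symm
  have h7 := congrArg (Valued.v (R := F⸨X⸩)) h6
  rw [map_mul, hvs, mul_one, Valuation.map_neg, hsum, hφ.1] at h7
  exact h7

/-- the value of `d(tu)` for a unit `u` of the subalgebra -/
theorem val_D_mul_unit (hφ : LocRes.IsExpansionAt P.1 φ) {t u : K} {e : ℕ} (he : 1 ≤ e)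
    (ht : P.1 t = WithZero.exp (-(e : ℤ))) (hDt : LocRes.D F (φ t) ≠ 0)
    (hu : P.1 u = 1)
    (hDu : Valued.v (LocRes.D F (φ u)) ≤ Valued.v (LocRes.D F (φ t))) :
    Valued.v (LocRes.D F (φ (t * u))) = Valued.v (LocRes.D F (φ t)) := by
  have hV₀0 : Valued.v (LocRes.D F (φ t)) ≠ 0 := (Valuation.ne_zero_iff _).2 hDt
  rw [map_mul, Derivation.leibniz, smul_eq_mul, smul_eq_mul, add_comm]
  have h1 : Valued.v (φ u * LocRes.D F (φ t)) = Valued.v (LocRes.D F (φ t)) := by
    rw [map_mul, hφ.1, hu, one_mul]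
  rw [← h1]
  apply Valuation.map_add_eq_of_lt_left
  rw [h1, map_mul, hφ.1, ht]
  calc WithZero.exp (-(e : ℤ)) * Valued.v (LocRes.D F (φ u))
      ≤ WithZero.exp (-(e : ℤ)) * Valued.v (LocRes.D F (φ t)) := mul_le_mul' le_rfl hDu
    _ < 1 * Valued.v (LocRes.D F (φ t)) := by
        apply mul_lt_mul_of_pos_right _ (zero_lt_iff.2 hV₀0)
        rw [← WithZero.exp_zero, WithZero.exp_lt_exp]
        omega
    _ = _ := one_mul _

end Groth.Agent.Lib.Helper2.HF
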