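import Mathlib
import Groth.Agent.Lib.Helper2.FunFld.NS2
import Groth.Agent.Lib.Helper2.FunFld.DegOne

set_option autoImplicit false
open scoped WithZero IntermediateField
open FunFld Polynomial

/-! General valuation lemmas for polynomials with constant coefficients. -/

namespace Groth.Agent.Lib.Helper2.SP

open Groth.Agent.Lib.Helper2.FF

variable {k K : Type*} [Field k] [Field K] [Algebra k K]

theorem coe_aeval_O (Q : FunFld.Place k K) (x : Q.O) (p : k[X]) :
    ((aeval x p : Q.O) : K) = aeval (x : K) p := by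
  have := aeval_algHom_apply (IsScalarTower.toAlgHom k Q.O K) x p
  exact this.symm

/-- `p(y) - p(z)` is divisible by `y - z` in the valuation ring -/
theorem v_aeval_sub_le (Q : FunFld.Place k K) {y z : K} (hy : Q.1 y ≤ 1) (hz : Q.1 z ≤ 1)
    (p : k[X]) : Q.1 (aeval y p - aeval z p) ≤ Q.1 (y - z) := by
  set a : Q.O := ⟨y, (mem_O_iff Q y).2 hy⟩ with ha
  set b : Q.O := ⟨z, (mem_O_iff Q z).2 hz⟩ with hb
  obtain ⟨w, hw⟩ := Polynomial.sub_dvd_eval_sub a b (p.map (algebraMap k Q.O))
  rw [eval_map, eval_map, ← aeval_def, ← aeval_def] at hw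
  have h1 : ((aeval a p - aeval b p : Q.O) : K) = (((a - b) * w : Q.O) : K) := congrArg Subtype.val hw
  have h2 : ((aeval a p - aeval b p : Q.O) : K) = aeval y p - aeval z p := by
    rw [AddSubgroupClass.coe_sub, coe_aeval_O, coe_aeval_O]
  have h3 : (((a - b) * w : Q.O) : K) = (y - z) * (w : K) := by
    rw [MulMemClass.coe_mul, AddSubgroupClass.coe_sub]
  rw [h2, h3] at h1
  rw [h1, map_mul]
  calc Q.1 (y - z) * Q.1 (w : K) ≤ Q.1 (y - z) * 1 :=
        mul_le_mul' le_rfl ((mem_O_iff Q _).1 w.2)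
    _ = Q.1 (y - z) := mul_one _

/-- first order Taylor expansion in the valuation ring -/
theorem exists_taylor (Q : FunFld.Place k K) {y z : K} (hy : Q.1 y ≤ 1) (hz : Q.1 z ≤ 1)
    (p : k[X]) : ∃ w : K, Q.1 w ≤ 1 ∧
      aeval y p = aeval z p + aeval z (derivative p) * (y - z) + w * (y - z) ^ 2 := by
  set a : Q.O := ⟨y, (mem_O_iff Q y).2 hy⟩ with ha
  set b : Q.O := ⟨z, (mem_O_iff Q z).2 hz⟩ with hb
  obtain ⟨w, hw⟩ := Polynomial.binomExpansion (p.map (algebraMap k Q.O)) b (a - b)
  rw [derivative_map, eval_map, eval_map, eval_map, ← aeval_def, ← aeval_def, ← aeval_def,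
    add_sub_cancel] at hw
  refine ⟨(w : K), (mem_O_iff Q _).1 w.2, ?_⟩
  have h1 : ((aeval a p : Q.O) : K) = ((aeval b p + aeval b (derivative p) * (a - b) +
      w * (a - b) ^ 2 : Q.O) : K) := congrArg Subtype.val hw
  rw [coe_aeval_O] at h1
  rw [h1]
  push_cast
  rw [coe_aeval_O, coe_aeval_O]

theorem pow_finrank_mem_range {F E : Type*} [Field F] [Field E] [Algebra F E]
    [IsPurelyInseparable F E] [FiniteDimensional F E] (x : E) :
    x ^ Module.finrank F E ∈ (algebraMap F E).range := by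
  obtain ⟨n, y, hmin⟩ := IsPurelyInseparable.minpoly_eq_X_pow_sub_C F (ringExpChar F) x
  have h1 : x ^ (ringExpChar F ^ n) = algebraMap F E y := by
    have := minpoly.aeval F x
    rw [hmin, map_sub, map_pow, aeval_X, aeval_C, sub_eq_zero] at this
    exact this
  have h2 : (minpoly F x).natDegree = ringExpChar F ^ n := by
    rw [hmin, natDegree_sub_C, natDegree_X_pow]
  have h3 : ringExpChar F ^ n ∣ Module.finrank F E := by
    rw [← h2]
    exact minpoly.degree_dvd (Algebra.IsIntegral.isIntegral x)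
  obtain ⟨m, hm⟩ := h3
  rw [hm, pow_mul, h1, ← map_pow]
  exact ⟨_, rfl⟩

end Groth.Agent.Lib.Helper2.SP
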