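import Mathlib
import Groth.Agent.Lib.Helper2.FunFld.SP2a
import Groth.Agent.Lib.Helper2.FunFld.PInsep

set_option autoImplicit false
open scoped WithZero IntermediateField
open FunFld Polynomial

/-! Residues of elements of `O_P` at a place of `k' ⊗ K` with residue field `k'`. -/

namespace Groth.Agent.Lib.Helper2.SP

open Groth.Agent.Lib.Helper2.FF

variable {k k' K K' : Type*} [Field k] [Field k'] [Field K] [Field K']
    [Algebra k k'] [Algebra k K] [Algebra K K'] [Algebra k' K'] [Algebra k K']
    [IsScalarTower k k' K'] [IsScalarTower k K K']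

theorem lt_one_le_exp {x : ℤᵐ⁰} (h : x < 1) : x ≤ WithZero.exp (-1 : ℤ) := by
  by_cases h0 : x = 0
  · rw [h0]; exact zero_le
  · rw [← WithZero.exp_log h0, ← WithZero.exp_zero, WithZero.exp_lt_exp] at h
    rw [← WithZero.exp_log h0, WithZero.exp_le_exp]
    omega

theorem const_eq_zero_of_lt_one {Q : FunFld.Place k K'}
    (hcst : ∀ c : k', c ≠ 0 → Q.1 (algebraMap k' K' c) = 1) {c : k'}
    (h : Q.1 (algebraMap k' K' c) < 1) : c = 0 := by
  by_contra hc
  rw [hcst c hc] at h
  exact lt_irrefl _ h

theorem v_const_le_one {Q : FunFld.Place k K'}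
    (hcst : ∀ c : k', c ≠ 0 → Q.1 (algebraMap k' K' c) = 1) (c : k') :
    Q.1 (algebraMap k' K' c) ≤ 1 := by
  by_cases hc : c = 0
  · rw [hc, map_zero, map_zero]; exact zero_le
  · exact (hcst c hc).le

theorem v_map_le_one {P : FunFld.Place k K} {Q : FunFld.Place k K'} {e : ℕ}
    (he : IsOverWith Q P e) {a : K} (ha : P.1 a ≤ 1) : Q.1 (algebraMap K K' a) ≤ 1 := by
  rw [he a]; exact pow_le_one' ha e

/-- the residue of a separable element: it is a root, and the distance is computed by the
minimal polynomial -/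
theorem v_sub_eq_of_separable {P : FunFld.Place k K} {Q : FunFld.Place k K'} {e : ℕ}
    (he : IsOverWith Q P e) (hcst : ∀ c : k', c ≠ 0 → Q.1 (algebraMap k' K' c) = 1)
    {a : K} (ha : P.1 a ≤ 1) {h : k[X]} (hsep : h.Separable) (hh : P.1 (aeval a h) < 1)
    {c : k'} (hc : Q.1 (algebraMap K K' a - algebraMap k' K' c) < 1) :
    aeval c h = 0 ∧ Q.1 (algebraMap K K' a - algebraMap k' K' c) = P.1 (aeval a h) ^ e := by
  set y := algebraMap K K' a with hy
  set z := algebraMap k' K' c with hz
  have hy1 : Q.1 y ≤ 1 := v_map_le_one he ha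
  have hz1 : Q.1 z ≤ 1 := v_const_le_one hcst c
  have he1 : 1 ≤ e := isOverWith_one_le he
  have h1 : aeval y h = algebraMap K K' (aeval a h) := aeval_algebraMap_apply K' a h
  have h2 : aeval z h = algebraMap k' K' (aeval c h) := aeval_algebraMap_apply K' c h
  have h2' : aeval z (derivative h) = algebraMap k' K' (aeval c (derivative h)) :=
    aeval_algebraMap_apply K' c (derivative h)
  have h3 : Q.1 (aeval y h) = P.1 (aeval a h) ^ e := by rw [h1, he]
  have h4 : Q.1 (aeval y h) < 1 := by
    rw [h3]; exact pow_lt_one' hh (by omega)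
  have h5 : Q.1 (aeval z h) < 1 := by
    have : aeval z h = aeval y h - (aeval y h - aeval z h) := by ring
    rw [this]
    refine lt_of_le_of_lt (Valuation.map_sub _ _ _) (max_lt h4 ?_)
    exact lt_of_le_of_lt (v_aeval_sub_le Q hy1 hz1 h) hc
  have h6 : aeval c h = 0 := by
    rw [h2] at h5
    exact const_eq_zero_of_lt_one hcst h5
  refine ⟨h6, ?_⟩
  have h7 : aeval c (derivative h) ≠ 0 := hsep.aeval_derivative_ne_zero h6
  have h8 : Q.1 (aeval z (derivative h)) = 1 := by rw [h2']; exact hcst _ h7
  obtain ⟨w, hw1, hw⟩ := exists_taylor Q hy1 hz1 h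
  rw [h2, h6, map_zero, zero_add] at hw
  have h9 : aeval y h = (y - z) * (aeval z (derivative h) + w * (y - z)) := by
    rw [hw]; ring
  have h10 : Q.1 (aeval z (derivative h) + w * (y - z)) = 1 := by
    have hlt : Q.1 (w * (y - z)) < Q.1 (aeval z (derivative h)) := by
      rw [h8, map_mul]
      calc Q.1 w * Q.1 (y - z) ≤ 1 * Q.1 (y - z) := mul_le_mul' hw1 le_rfl
        _ < 1 := by rw [one_mul]; exact hc
    exact (Valuation.map_add_eq_of_lt_left _ hlt).trans h8
  rw [← h3, h9, map_mul, h10, mul_one]

/-- in a finite extension, the inseparable degree is a power of the exponential characteristic and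
the power of any element by it is separable -/
theorem exists_sep_pow {k F : Type*} [Field k] [Field F] [Algebra k F] [FiniteDimensional k F]
    (x : F) : (∃ m : ℕ, Field.finInsepDegree k F = ringExpChar k ^ m) ∧
      0 < Field.finInsepDegree k F ∧
      (minpoly k (x ^ Field.finInsepDegree k F)).Separable := by
  set Fs := separableClosure k F with hFs
  haveI : IsPurelyInseparable Fs F := separableClosure.isPurelyInseparable k F
  have hqdef : Field.finInsepDegree k F = Module.finrank Fs F := rfl
  set p := ringExpChar k with hp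
  haveI : ExpChar k p := ringExpChar.expChar k
  haveI : ExpChar Fs p := expChar_of_injective_algebraMap (algebraMap k Fs).injective p
  obtain ⟨m, hm⟩ := IsPurelyInseparable.finrank_eq_pow (F := Fs) F p
  refine ⟨⟨m, by rw [hqdef, hm]⟩, by rw [hqdef]; exact Module.finrank_pos, ?_⟩
  have hxq : x ^ Field.finInsepDegree k F ∈ Fs := by
    obtain ⟨u, hu⟩ := pow_finrank_mem_range (F := Fs) (E := F) x
    rw [hqdef, ← hu]
    exact u.2
  exact (mem_separableClosure_iff).1 hxq

theorem finite_algRes {k K : Type*} [Field k] [Field K] [Algebra k K] (hK : IsFunctionField k K)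
    (P : FunFld.Place k K) :
    @Module.Finite k (IsLocalRing.ResidueField P.O) _ _ (Place.algRes P).toModule :=
  haveI := finiteDimensional_residueField P hK
  Module.Finite.equiv (resFieldModEquiv P)

set_option maxHeartbeats 400000 in
/-- for an arbitrary element, the `q`-th power of the distance is at most `v(t)` -/
theorem v_sub_pow_le (hK : IsFunctionField k K) {P : FunFld.Place k K} {Q : FunFld.Place k K'}
    {e : ℕ} (he : IsOverWith Q P e) (hcst : ∀ c : k', c ≠ 0 → Q.1 (algebraMap k' K' c) = 1)
    {a : K} (ha : P.1 a ≤ 1) {c : k'}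
    (hc : Q.1 (algebraMap K K' a - algebraMap k' K' c) < 1) :
    Q.1 (algebraMap K K' a - algebraMap k' K' c) ^
        Field.finInsepDegree k (IsLocalRing.ResidueField P.O) ≤ WithZero.exp (-(e : ℤ)) := by
  haveI : @Module.Finite k (IsLocalRing.ResidueField P.O) _ _ (Place.algRes P).toModule :=
    finite_algRes hK P
  set q := Field.finInsepDegree k (IsLocalRing.ResidueField P.O) with hq
  set p := ringExpChar k with hp
  haveI : ExpChar k p := ringExpChar.expChar k
  haveI : ExpChar K' p := expChar_of_injective_algebraMap (algebraMap k K').injective p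
  set A : P.O := ⟨a, (mem_O_iff P a).2 ha⟩ with hA
  set x := resAlg P A with hx
  obtain ⟨⟨m, hqm⟩, hqpos, hsep⟩ := exists_sep_pow (k := k) x
  rw [← hq] at hqm hqpos hsep
  set h := minpoly k (x ^ q) with hh
  have hroot : P.1 (aeval (a ^ q) h) < 1 := by
    have h1 : resAlg P (aeval (A ^ q) h) = 0 := by
      rw [← aeval_algHom_apply, map_pow, ← hx, minpoly.aeval]
    rw [resAlg_eq_zero_iff] at h1
    have h2 : ((aeval (A ^ q) h : P.O) : K) = aeval (a ^ q) h := by
      rw [coe_aeval_O]
      rfl
    rw [h2] at h1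
    exact h1
  have hpow : (algebraMap K K' a - algebraMap k' K' c) ^ q =
      algebraMap K K' (a ^ q) - algebraMap k' K' (c ^ q) := by
    rw [hqm, sub_pow_expChar_pow, map_pow, map_pow]
  have hc' : Q.1 (algebraMap K K' (a ^ q) - algebraMap k' K' (c ^ q)) < 1 := by
    rw [← hpow, map_pow]
    exact pow_lt_one' hc (by omega)
  have haq : P.1 (a ^ q) ≤ 1 := by rw [map_pow]; exact pow_le_one' ha q
  obtain ⟨-, h3⟩ := v_sub_eq_of_separable he hcst haq hsep hroot hc'
  rw [← map_pow, hpow, h3]
  calc P.1 (aeval (a ^ q) h) ^ e ≤ (WithZero.exp (-1 : ℤ)) ^ e :=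
        pow_le_pow_left' (lt_one_le_exp hroot) e
    _ = WithZero.exp (-(e : ℤ)) := by
        rw [← WithZero.exp_nsmul]; simp

end Groth.Agent.Lib.Helper2.SP
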