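import Mathlib
import Groth.Prelude.Def_LocRes
import Groth.Agent.Lib.Helper2.FunFld.HF4
import Groth.Agent.Lib.Helper2.FunFld.SP2b
import Groth.Agent.Lib.Helper26.Hyp1

set_option autoImplicit false
open LaurentSeries HahnSeries KaehlerDifferential FunFld Polynomial

/-! Local orders of `dx` on `y² = f(x)`. -/

namespace Groth.Agent.Lib.Helper2.HY

open Groth.Agent.Lib.Helper2.Tate Groth.Agent.Lib.Helper2.FF Groth.Agent.Lib.Helper2.HF
  Groth.Agent.Lib.Helper2.SP

universe u v w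

variable {k : Type u} {K : Type v} {F : Type w} [Field k] [Field K] [Field F] [Algebra k K]
  [Algebra k F]
variable {P : Place k K} {φ : K →ₐ[k] F⸨X⸩}

theorem c0A_eq_zero_of_lt (hφ : LocRes.IsExpansionAt P.1 φ) (a : P.O) (h : P.1 (a : K) < 1) :
    c0A P φ hφ a = 0 := by
  rw [c0A_apply]
  have h1 : φ (a : K) ∈ Fil k (F := F) 1 := by
    rw [mem_Fil_iff_val, hφ.1]
    exact lt_one_le_exp h
  exact h1 0 (by norm_num)

theorem v_eq_one_of_c0A_ne_zero (hφ : LocRes.IsExpansionAt P.1 φ) (a : P.O)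
    (h : c0A P φ hφ a ≠ 0) : P.1 (a : K) = 1 := by
  refine le_antisymm ((mem_O_iff P _).1 a.2) ?_
  by_contra hlt
  exact h (c0A_eq_zero_of_lt hφ a (not_le.1 hlt))

/-- at a finite place of `y² = f(x)`, `f` squarefree: `ord (dx) ≥ ord y` -/
theorem v_D_le_of_sq_eq [FiniteDimensional k F] (hφ : LocRes.IsExpansionAt P.1 φ)
    (hfr : Module.finrank K (Ω[K⁄k]) = 1) {x y : K} {f : k[X]} (hf : Squarefree f)
    (heq : y ^ 2 = aeval x f) (hx : P.1 x ≤ 1) :
    Valued.v (LocRes.D F (φ x)) ≤ P.1 y := by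
  set xo : P.O := ⟨x, (mem_O_iff P x).2 hx⟩ with hxo
  have hfx : ∀ g : k[X], ((aeval xo g : P.O) : K) = aeval x g := fun g => coe_aeval_O P xo g
  have hfx1 : P.1 (aeval x f) ≤ 1 := by
    rw [← hfx f]; exact (mem_O_iff P _).1 (aeval xo f).2
  have hy1 : P.1 y ≤ 1 := by
    by_contra hcon
    have h1 : 1 < P.1 y := not_le.1 hcon
    have h2 : 1 < P.1 y ^ 2 := one_lt_pow₀ h1 (by norm_num)
    rw [← map_pow, heq] at h2
    exact absurd hfx1 (not_le.2 h2)
  rcases eq_or_lt_of_le hy1 with hy | hy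
  · rw [hy]
    exact D_mem_Fil_zero_of_le hφ hx
  -- ramified case
  have hflt : P.1 (aeval x f) < 1 := by
    rw [← heq, map_pow]
    exact pow_lt_one' hy (by norm_num)
  set c₀ := c0A P φ hφ xo with hc₀
  have hroot : aeval c₀ f = 0 := by
    rw [hc₀, aeval_algHom_apply]
    apply c0A_eq_zero_of_lt hφ
    rw [hfx f]; exact hflt
  haveI : Algebra.IsSeparable k F := isSeparable_coeffField hφ hfr
  have hint : IsIntegral k c₀ := Algebra.IsIntegral.isIntegral c₀
  have hsep : (minpoly k c₀).Separable := Algebra.IsSeparable.isSeparable k c₀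
  obtain ⟨h, hh⟩ := minpoly.dvd k c₀ hroot
  have hh0 : aeval c₀ h ≠ 0 := by
    intro h0
    obtain ⟨h', hh'⟩ := minpoly.dvd k c₀ h0
    have h1 : minpoly k c₀ * minpoly k c₀ ∣ f := ⟨h', by rw [hh, hh']; ring⟩
    exact minpoly.not_isUnit k c₀ (hf _ h1)
  have hder : aeval c₀ (derivative f) ≠ 0 := by
    rw [hh, derivative_mul, map_add, map_mul, map_mul, minpoly.aeval, zero_mul, add_zero]
    exact mul_ne_zero (hsep.aeval_derivative_ne_zero (minpoly.aeval k c₀)) hh0
  have hder1 : P.1 (aeval x (derivative f)) = 1 := by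
    rw [← hfx]
    apply v_eq_one_of_c0A_ne_zero hφ
    rw [← aeval_algHom_apply]
    exact hder
  have h1 : LocRes.D F (φ (y ^ 2)) = φ (aeval x (derivative f)) * LocRes.D F (φ x) := by
    rw [heq]; exact D_phi_aeval_const φ x f
  have h2 : LocRes.D F (φ (y ^ 2)) = φ y * LocRes.D F (φ y) + φ y * LocRes.D F (φ y) := by
    rw [pow_two, map_mul, Derivation.leibniz, smul_eq_mul]
  have h3 := congrArg (Valued.v (R := F⸨X⸩)) h1
  rw [map_mul, hφ.1, hder1, one_mul] at h3
  rw [← h3, h2]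
  have h4 : Valued.v (φ y * LocRes.D F (φ y)) ≤ P.1 y := by
    rw [map_mul, hφ.1]
    calc P.1 y * Valued.v (LocRes.D F (φ y)) ≤ P.1 y * 1 :=
          mul_le_mul' le_rfl (D_mem_Fil_zero_of_le hφ hy1)
      _ = P.1 y := mul_one _
  exact (Valuation.map_add _ _ _).trans (max_le h4 h4)

/-- at a pole of `x` of order `e`: `ord (dx) ≥ -e - 1` -/
theorem v_D_le_of_one_lt (hφ : LocRes.IsExpansionAt P.1 φ) {x : K} {e : ℤ}
    (hx : P.1 x = WithZero.exp e) :
    Valued.v (LocRes.D F (φ x)) ≤ WithZero.exp (e + 1) := by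
  have h1 : φ x ∈ Fil k (F := F) (-e) := by
    rw [mem_Fil_iff_val, hφ.1, hx, neg_neg]
  have h2 := val_le_of_mem_Fil (D_mem_Fil h1)
  convert h2 using 2
  ring

/-- the forms `x^i dx / y`, `i < (deg f - 1)/2`, are regular at the poles of `x` -/
theorem vDiff_le_one_of_one_lt (hφ : LocRes.IsExpansionAt P.1 φ) {x y : K} {f : k[X]}
    (hf0 : f ≠ 0) (heq : y ^ 2 = aeval x f) (hx : 1 < P.1 x) {i : ℕ}
    (hi : i < (f.natDegree - 1) / 2) :
    P.1 (x ^ i / y) * Valued.v (LocRes.D F (φ x)) ≤ 1 := by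
  have hV0 : P.1 x ≠ 0 := fun h => by rw [h] at hx; exact absurd hx (not_lt.2 zero_le)
  obtain ⟨e, he⟩ : ∃ e : ℤ, P.1 x = WithZero.exp e := ⟨_, (WithZero.exp_log hV0).symm⟩
  have he1 : 1 ≤ e := by
    rw [he, ← WithZero.exp_zero, WithZero.exp_lt_exp] at hx
    omega
  have hfx : P.1 (aeval x f) = WithZero.exp (e * f.natDegree) := by
    have := Groth.Agent.Lib.Helper26.Hyp.v_aeval_of_one_lt P hx hf0
    change P.1 (aeval x f) = P.1 x ^ f.natDegree at this
    rw [this, he, ← WithZero.exp_nsmul]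
    congr 1
    simp [mul_comm]
  have hy0 : P.1 y ≠ 0 := by
    intro h0
    have : P.1 (y ^ 2) = 0 := by rw [map_pow, h0]; simp
    rw [heq, hfx] at this
    exact WithZero.exp_ne_zero this
  obtain ⟨m, hm⟩ : ∃ m : ℤ, P.1 y = WithZero.exp m := ⟨_, (WithZero.exp_log hy0).symm⟩
  have hme : 2 * m = e * f.natDegree := by
    have h1 : P.1 (y ^ 2) = WithZero.exp (e * f.natDegree) := by rw [heq, hfx]
    rw [map_pow, hm, ← WithZero.exp_nsmul, WithZero.exp_inj] at h1
    rw [← h1]; simp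
  have hD := v_D_le_of_one_lt (k := k) hφ he
  have hxi : P.1 (x ^ i / y) = WithZero.exp (e * i - m) := by
    rw [map_div₀, map_pow, he, hm, ← WithZero.exp_nsmul, ← WithZero.exp_sub]
    congr 1
    simp [mul_comm]
  rw [hxi]
  calc WithZero.exp (e * i - m) * Valued.v (LocRes.D F (φ x))
      ≤ WithZero.exp (e * i - m) * WithZero.exp (e + 1) := mul_le_mul' le_rfl hD
    _ = WithZero.exp (e * i - m + (e + 1)) := (WithZero.exp_add _ _).symm
    _ ≤ 1 := by
      rw [← WithZero.exp_zero, WithZero.exp_le_exp]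
      have hn : 2 * (i : ℤ) + 3 ≤ f.natDegree := by
        have : 2 * i + 3 ≤ f.natDegree := by omega
        exact_mod_cast this
      rcases eq_or_lt_of_le hn with h3 | h3
      · rw [← h3] at hme
        have h4 : e = 2 * (m - e * i - e) := by linarith
        have h5 : 1 ≤ m - e * i - e := by omega
        linarith
      · have h4 : e * (f.natDegree : ℤ) ≥ e * (2 * i + 4) := by
          apply mul_le_mul_of_nonneg_left _ (by omega)
          omega
        linarith

end Groth.Agent.Lib.Helper2.HY
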