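import Mathlib
import Groth.Prelude.Def_LocRes
import Groth.Agent.Lib.Helper2.FunFld.HY2
import Groth.Agent.Lib.Helper2.FunFld.ASG4

set_option autoImplicit false
open LaurentSeries HahnSeries KaehlerDifferential FunFld Polynomial

/-! Differential exponent at a wildly ramified place of `y² + y = f` in characteristic two. -/

namespace Groth.Agent.Lib.Helper2.AR

open Groth.Agent.Lib.Helper2.Tate Groth.Agent.Lib.Helper2.FF Groth.Agent.Lib.Helper2.HF
  Groth.Agent.Lib.Helper2.SP Groth.Agent.Lib.Helper2.HY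

universe u v w

variable {k : Type u} {K : Type v} {F : Type w} [Field k] [Field K] [Field F] [Algebra k K]
  [Algebra k F]
variable {P : Place k K} {φ : K →ₐ[k] F⸨X⸩}

/-- the quotient rule through an expansion -/
theorem D_phi_div (φ : K →ₐ[k] F⸨X⸩) (x₀ : K) (a b : k[X]) (hb : aeval x₀ b ≠ 0) :
    LocRes.D F (φ (aeval x₀ a / aeval x₀ b)) =
      φ ((aeval x₀ (derivative a) * aeval x₀ b - aeval x₀ a * aeval x₀ (derivative b)) /
        (aeval x₀ b) ^ 2) * LocRes.D F (φ x₀) := by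
  set u := aeval x₀ a / aeval x₀ b with hu
  have hφb : φ (aeval x₀ b) ≠ 0 := (map_ne_zero φ).2 hb
  have h1 : aeval x₀ a = u * aeval x₀ b := by rw [hu, div_mul_cancel₀ _ hb]
  have h2 : LocRes.D F (φ (aeval x₀ a)) =
      φ u * LocRes.D F (φ (aeval x₀ b)) + φ (aeval x₀ b) * LocRes.D F (φ u) := by
    rw [h1, map_mul, Derivation.leibniz, smul_eq_mul, smul_eq_mul]
  rw [D_phi_aeval_const, D_phi_aeval_const] at h2
  have h3 : φ (aeval x₀ b) * LocRes.D F (φ u) =
      (φ (aeval x₀ (derivative a)) - φ u * φ (aeval x₀ (derivative b))) * LocRes.D F (φ x₀) := by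
    linear_combination (-1 : F⸨X⸩) * h2
  have h4 : LocRes.D F (φ u) = (φ (aeval x₀ b))⁻¹ *
      ((φ (aeval x₀ (derivative a)) - φ u * φ (aeval x₀ (derivative b))) * LocRes.D F (φ x₀)) := by
    rw [← h3, inv_mul_cancel_left₀ hφb]
  rw [h4, ← mul_assoc]
  congr 1
  rw [hu]
  simp only [map_div₀, map_sub, map_mul, map_pow]
  field_simp

/-- Key local computation: `π` of order `2`, `y² + y = u / π^(2d-1)` with `u` a unit and
`du ∈ O dπ`; then `ord (dπ) ≥ 2d`. -/
theorem v_D_le_of_artinSchreier [CharP k 2] (hφ : LocRes.IsExpansionAt P.1 φ) {π u y c : K}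
    {d : ℕ} (hd : 1 ≤ d) (hπ : P.1 π = WithZero.exp (-2 : ℤ))
    (heq : y ^ 2 + y = u / π ^ (2 * d - 1)) (hu : P.1 u = 1)
    (hc : P.1 c ≤ 1) (hDu : LocRes.D F (φ u) = φ c * LocRes.D F (φ π)) :
    Valued.v (LocRes.D F (φ π)) ≤ WithZero.exp (-(2 * d : ℤ)) := by
  haveI : CharP K 2 := charP_of_injective_algebraMap (algebraMap k K).injective 2
  haveI : CharP F 2 := charP_of_injective_algebraMap (algebraMap k F).injective 2
  have hπ0 : π ≠ 0 := by
    intro h0
    rw [h0, map_zero] at hπ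
    exact WithZero.exp_ne_zero hπ.symm
  -- the value of `y`
  have hg : P.1 (u / π ^ (2 * d - 1)) = WithZero.exp (2 * (2 * (d : ℤ) - 1)) := by
    rw [map_div₀, hu, map_pow, hπ, ← WithZero.exp_nsmul, one_div, ← WithZero.exp_neg]
    congr 1
    have : ((2 * d - 1 : ℕ) : ℤ) = 2 * (d : ℤ) - 1 := by omega
    simp only [nsmul_eq_mul, this]
    ring
  have hg1 : 1 < P.1 (u / π ^ (2 * d - 1)) := by
    rw [hg, ← WithZero.exp_zero, WithZero.exp_lt_exp]
    omega
  have hy2 := Groth.Agent.Lib.Helper2.ASG.v_y_sq_eq P heq hg1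
  have hy : P.1 y = WithZero.exp (2 * (d : ℤ) - 1) := by
    have hy0 : P.1 y ≠ 0 := by
      intro h0
      rw [h0, hg] at hy2
      exact WithZero.exp_ne_zero ((zero_pow two_ne_zero).symm.trans hy2).symm
    rw [← WithZero.exp_log hy0] at hy2 ⊢
    rw [hg, ← WithZero.exp_nsmul, WithZero.exp_inj] at hy2
    rw [WithZero.exp_inj]
    simp only [nsmul_eq_mul, Nat.cast_ofNat] at hy2
    omega
  obtain ⟨t, ht⟩ : ∃ t : K, t = π ^ d * y := ⟨_, rfl⟩
  have hvt : P.1 t = WithZero.exp (-1 : ℤ) := by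
    rw [ht, map_mul, map_pow, hπ, hy, ← WithZero.exp_nsmul, ← WithZero.exp_add]
    congr 1
    simp only [nsmul_eq_mul]
    ring
  have hrel : t ^ 2 + π ^ d * t = π * u := by
    have h1 : t ^ 2 + π ^ d * t = π ^ (2 * d) * (y ^ 2 + y) := by rw [ht]; ring
    rw [h1, heq]
    have h2 : π ^ (2 * d) = π * π ^ (2 * d - 1) := by
      rw [← pow_succ']
      congr 1
      omega
    rw [h2]
    field_simp
  -- differentiate
  have hD := congrArg (fun z => LocRes.D F (φ z)) hrel
  simp only [map_add, map_mul, map_pow] at hD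
  have h2F : (2 : F⸨X⸩) = 0 := by
    have : ((2 : ℕ) : F⸨X⸩) = 0 := by
      haveI : CharP F⸨X⸩ 2 :=
        charP_of_injective_algebraMap (algebraMap F F⸨X⸩).injective 2
      exact CharP.cast_eq_zero _ 2
    exact_mod_cast this
  have hsq : LocRes.D F (φ t ^ 2) = 0 := by
    rw [pow_two, Derivation.leibniz, smul_eq_mul, ← two_mul, h2F, zero_mul]
  have hpow : LocRes.D F (φ π ^ d) = (d : F⸨X⸩) * φ π ^ (d - 1) * LocRes.D F (φ π) := by
    rw [Derivation.leibniz_pow, smul_eq_mul, nsmul_eq_mul]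
    ring
  rw [hsq, zero_add, Derivation.leibniz, Derivation.leibniz, smul_eq_mul, smul_eq_mul, smul_eq_mul,
    smul_eq_mul, hpow, hDu] at hD
  -- hD : φ π ^ d * D (φ t) + φ t * (d * φ π ^ (d-1) * D (φ π)) = φ π * (φ c * Dφπ) + φ u * Dφπ
  set w : K := π * c + u - (d : K) * t * π ^ (d - 1) with hw
  have hmain : φ π ^ d * LocRes.D F (φ t) = φ w * LocRes.D F (φ π) := by
    have hφd : φ (d : K) = (d : F⸨X⸩) := map_natCast φ d
    rw [hw]
    simp only [map_sub, map_add, map_mul, map_pow, hφd]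
    linear_combination hD
  have hvw : P.1 w = 1 := by
    have h1 : P.1 (π * c) < 1 := by
      rw [map_mul, hπ]
      calc WithZero.exp (-2 : ℤ) * P.1 c ≤ WithZero.exp (-2 : ℤ) * 1 := mul_le_mul' le_rfl hc
        _ < 1 := by rw [mul_one, ← WithZero.exp_zero, WithZero.exp_lt_exp]; norm_num
    have hdK : P.1 (d : K) ≤ 1 := by
      have : (d : K) = algebraMap k K (d : k) := (map_natCast (algebraMap k K) d).symm
      rw [this]; exact P.2.1 _
    have h2 : P.1 ((d : K) * t * π ^ (d - 1)) < 1 := by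
      rw [map_mul, map_mul, hvt, map_pow, hπ]
      have h3 : (WithZero.exp (-2 : ℤ)) ^ (d - 1) ≤ 1 := by
        apply pow_le_one'
        rw [← WithZero.exp_zero, WithZero.exp_le_exp]; norm_num
      calc P.1 (d : K) * WithZero.exp (-1 : ℤ) * WithZero.exp (-2 : ℤ) ^ (d - 1)
          ≤ 1 * WithZero.exp (-1 : ℤ) * 1 := mul_le_mul' (mul_le_mul' hdK le_rfl) h3
        _ < 1 := by rw [one_mul, mul_one, ← WithZero.exp_zero, WithZero.exp_lt_exp]; norm_num
    have h3 : P.1 (π * c + u) = 1 :=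
      (Valuation.map_add_eq_of_lt_right _ (by rw [hu]; exact h1)).trans hu
    rw [hw]
    exact (Valuation.map_sub_eq_of_lt_left _ (by rw [h3]; exact h2)).trans h3
  have hval := congrArg (Valued.v (R := F⸨X⸩)) hmain
  rw [map_mul, map_mul, map_pow, hφ.1, hφ.1, hvw, one_mul, hπ] at hval
  rw [← hval]
  have hDt : Valued.v (LocRes.D F (φ t)) ≤ 1 :=
    D_mem_Fil_zero_of_le hφ (by rw [hvt, ← WithZero.exp_zero, WithZero.exp_le_exp]; norm_num)
  calc WithZero.exp (-2 : ℤ) ^ d * Valued.v (LocRes.D F (φ t))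
      ≤ WithZero.exp (-2 : ℤ) ^ d * 1 := mul_le_mul' le_rfl hDt
    _ = WithZero.exp (-(2 * d : ℤ)) := by
        rw [mul_one, ← WithZero.exp_nsmul]
        congr 1
        simp only [nsmul_eq_mul]
        ring

end Groth.Agent.Lib.Helper2.AR
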