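import Mathlib
import Groth.Prelude.Def_LocRes
import Groth.Prelude.Def_W4bk4goldsch23FF
import Groth.Agent.S12517

set_option autoImplicit false
open Polynomial KaehlerDifferential FunFld
open scoped IntermediateField

namespace Groth.Agent.Lib.Helper2.HY

universe u v

variable {k : Type u} {K : Type v} [Field k] [Field K] [Algebra k K] [Algebra (RatFunc k) K]
  [IsScalarTower k (RatFunc k) K]

theorem pK_eq_aeval (a : k[X]) :
    algebraMap (RatFunc k) K (algebraMap k[X] (RatFunc k) a) =
      aeval (algebraMap (RatFunc k) K RatFunc.X) a := by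
  rw [aeval_algebraMap_apply, RatFunc.aeval_X_left_eq_algebraMap]

theorem transcendental_X : Transcendental k (algebraMap (RatFunc k) K RatFunc.X) := by
  have h1 : Transcendental k (RatFunc.X : RatFunc k) := RatFunc.transcendental_X
  exact (transcendental_algebraMap_iff (algebraMap (RatFunc k) K).injective).2 h1

theorem range_algebraMap_eq :
    Set.range (algebraMap (RatFunc k) K) =
      (k⟮algebraMap (RatFunc k) K RatFunc.X⟯ : Set K) := by
  have h1 : (k⟮(RatFunc.X : RatFunc k)⟯).map (IsScalarTower.toAlgHom k (RatFunc k) K) =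
      k⟮algebraMap (RatFunc k) K RatFunc.X⟯ := by
    rw [IntermediateField.adjoin_map, Set.image_singleton]
    rfl
  rw [RatFunc.adjoin_X] at h1
  rw [← h1]
  ext z
  simp only [Set.mem_range, SetLike.mem_coe, IntermediateField.mem_map, IntermediateField.mem_top,
    true_and]
  rfl

theorem adjoin_pair_eq_top (hdeg : Module.finrank (RatFunc k) K = 2) {y : K}
    (hy : y ∉ k⟮algebraMap (RatFunc k) K RatFunc.X⟯) :
    IntermediateField.adjoin k ({algebraMap (RatFunc k) K RatFunc.X, y} : Set K) = ⊤ := by
  have hy' : y ∉ Set.range (algebraMap (RatFunc k) K) := by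
    rw [range_algebraMap_eq]; exact hy
  have h1 := (Groth.Agent.S12517.quad_facts (RatFunc k) K hdeg).1 y hy'
  set E := IntermediateField.adjoin k ({algebraMap (RatFunc k) K RatFunc.X, y} : Set K) with hE
  have hxE : k⟮algebraMap (RatFunc k) K RatFunc.X⟯ ≤ E := by
    rw [IntermediateField.adjoin_simple_le_iff]
    exact IntermediateField.subset_adjoin _ _ (by simp)
  let E' : IntermediateField (RatFunc k) K := E.toSubfield.toIntermediateField (fun c => by
    have : algebraMap (RatFunc k) K c ∈ (k⟮algebraMap (RatFunc k) K RatFunc.X⟯ : Set K) := by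
      rw [← range_algebraMap_eq]; exact ⟨c, rfl⟩
    exact hxE this)
  have h2 : IntermediateField.adjoin (RatFunc k) ({y} : Set K) ≤ E' := by
    rw [IntermediateField.adjoin_simple_le_iff]
    change y ∈ E
    exact IntermediateField.subset_adjoin _ _ (by simp)
  rw [h1] at h2
  rw [eq_top_iff]
  intro z _
  have : z ∈ E' := h2 IntermediateField.mem_top
  exact this

end Groth.Agent.Lib.Helper2.HY
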