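import Mathlib
import Groth.Prelude.Def_LocRes
import Groth.Agent.Lib.Helper2.FunFld.AR1
import Groth.Agent.Lib.Helper2.FunFld.HY3
import Groth.Agent.Lib.Helper26.FunFldRatPlace

set_option autoImplicit false
open LaurentSeries HahnSeries KaehlerDifferential FunFld Polynomial

namespace Groth.Agent.Lib.Helper2.AR

open Groth.Agent.Lib.Helper2.Tate Groth.Agent.Lib.Helper2.FF Groth.Agent.Lib.Helper2.HF
  Groth.Agent.Lib.Helper2.SP Groth.Agent.Lib.Helper2.HY Groth.Agent.Lib.Helper26.FunFldRatPlace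

universe u v w

variable {k : Type u} {K : Type v} {F : Type w} [Field k] [Field K] [Field F] [Algebra k K]
  [Algebra k F] [Algebra (RatFunc k) K] [IsScalarTower k (RatFunc k) K]
variable {P : Place k K} {φ : K →ₐ[k] F⸨X⸩}

theorem v_aeval_X_eq {p : Place k (RatFunc k)} {e : ℕ} (he : IsOverWith P p e) (r : k[X]) :
    P.1 (aeval (algebraMap (RatFunc k) K RatFunc.X) r) = (w p r) ^ e := by
  rw [← pK_eq_aeval, he, w_apply]

/-- the structure of `f` at a finite pole -/
theorem exists_pole_data {p : Place k (RatFunc k)} (hX : p.1 RatFunc.X ≤ 1) {f : RatFunc k}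
    (hf : 1 < p.1 f) :
    ∃ (pp B : k[X]) (m : ℕ), Irreducible pp ∧ w p pp < 1 ∧ f.denom = pp ^ m * B ∧ ¬ pp ∣ B ∧
      ¬ pp ∣ f.num ∧ p.1 f = WithZero.exp (m : ℤ) := by
  have hXw : w p X ≤ 1 := by rw [w_apply, RatFunc.algebraMap_X]; exact hX
  have hf0 : f ≠ 0 := by
    rintro rfl
    rw [map_zero] at hf
    exact absurd hf (not_lt.2 zero_le)
  have hnum0 : f.num ≠ 0 := RatFunc.num_ne_zero hf0
  have hden0 : f.denom ≠ 0 := RatFunc.denom_ne_zero f
  have hdiv : p.1 f = w p f.num / w p f.denom := by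
    conv_lhs => rw [← RatFunc.num_div_denom f]
    rw [map_div₀]
    rfl
  have hwd0 : w p f.denom ≠ 0 := fun h => hden0 ((w_eq_zero_iff p _).1 h)
  have hden : w p f.denom < 1 := by
    by_contra hcon
    have h1 : w p f.denom = 1 := le_antisymm (w_le_one_of_X_le p hXw _) (not_lt.1 hcon)
    rw [hdiv, h1, div_one] at hf
    exact absurd hf (not_lt.2 (w_le_one_of_X_le p hXw _))
  obtain ⟨pp, hpp, hdvd, hlt⟩ := exists_irreducible_dvd_of_w_lt_one p hXw f.denom hden0 hden
  obtain ⟨m, B, hB, hfac⟩ := WfDvdMonoid.max_power_factor hden0 hpp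
  have hnd : ¬ pp ∣ f.num := by
    intro h
    exact hpp.not_isUnit ((RatFunc.isCoprime_num_denom f).isUnit_of_dvd' h hdvd)
  refine ⟨pp, B, m, hpp, hlt, hfac, hB, hnd, ?_⟩
  rw [hdiv, w_eq_one_of_not_dvd p hpp hlt hnd, hfac, map_mul, map_pow,
    w_eq_one_of_not_dvd p hpp hlt hB, mul_one, w_p_eq p hpp hlt, one_div, ← WithZero.exp_nsmul,
    ← WithZero.exp_neg]
  congr 1
  simp

/-- `ord (dx) ≥ 2d` at a place of `K` over a finite pole of `f` of order `2d - 1` -/
theorem v_D_X_le_of_finite_pole [PerfectField k] [CharP k 2] (hφ : LocRes.IsExpansionAt P.1 φ)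
    {p : Place k (RatFunc k)} (he : IsOverWith P p 2) (hX : p.1 RatFunc.X ≤ 1) {y : K}
    {f : RatFunc k} (heq : y ^ 2 + y = algebraMap (RatFunc k) K f) {d : ℕ} (hd : 1 ≤ d)
    (hord : p.1 f = WithZero.exp (2 * (d : ℤ) - 1)) :
    Valued.v (LocRes.D F (φ (algebraMap (RatFunc k) K RatFunc.X))) ≤
      WithZero.exp (-(2 * d : ℤ)) := by
  set x : K := algebraMap (RatFunc k) K RatFunc.X with hx
  have hXw : w p X ≤ 1 := by rw [w_apply, RatFunc.algebraMap_X]; exact hX
  have hf1 : 1 < p.1 f := by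
    rw [hord, ← WithZero.exp_zero, WithZero.exp_lt_exp]; omega
  obtain ⟨pp, B, m, hpp, hlt, hfac, hB, hnd, hvf⟩ := exists_pole_data hX hf1
  have hm : m = 2 * d - 1 := by
    rw [hord, WithZero.exp_inj] at hvf
    omega
  have hv : ∀ r : k[X], P.1 (aeval x r) = (w p r) ^ 2 := fun r => v_aeval_X_eq he r
  have hv1 : ∀ r : k[X], ¬ pp ∣ r → P.1 (aeval x r) = 1 := by
    intro r hr
    rw [hv, w_eq_one_of_not_dvd p hpp hlt hr, one_pow]
  have hvle : ∀ r : k[X], P.1 (aeval x r) ≤ 1 := by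
    intro r
    rw [hv]
    exact pow_le_one' (w_le_one_of_X_le p hXw r) 2
  have hne : ∀ r : k[X], ¬ pp ∣ r → aeval x r ≠ 0 := by
    intro r hr h0
    have := hv1 r hr
    rw [h0, map_zero] at this
    exact zero_ne_one this
  set π : K := aeval x pp with hπdef
  have hπ : P.1 π = WithZero.exp (-2 : ℤ) := by
    rw [hπdef, hv, w_p_eq p hpp hlt, ← WithZero.exp_nsmul]
    rfl
  have hπ0 : π ≠ 0 := by
    intro h0
    rw [h0, map_zero] at hπ
    exact WithZero.exp_ne_zero hπ.symm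
  have hB0 : aeval x B ≠ 0 := hne B hB
  set u : K := aeval x f.num / aeval x B with hu
  have hfx : algebraMap (RatFunc k) K f = u / π ^ (2 * d - 1) := by
    conv_lhs => rw [← RatFunc.num_div_denom f]
    rw [map_div₀, pK_eq_aeval, pK_eq_aeval, ← hx, hfac, map_mul, map_pow, hm, hu, ← hπdef]
    field_simp
  have hvu : P.1 u = 1 := by
    rw [hu, map_div₀, hv1 _ hnd, hv1 _ hB, div_one]
  -- the derivative of `pp` is a unit
  have hsep : pp.Separable := PerfectField.separable_of_irreducible hpp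
  have hndp : ¬ pp ∣ derivative pp := by
    intro h
    exact hpp.not_isUnit (hsep.isUnit_of_dvd' (dvd_refl pp) h)
  have hvpp' : P.1 (aeval x (derivative pp)) = 1 := hv1 _ hndp
  have hpp'0 : aeval x (derivative pp) ≠ 0 := hne _ hndp
  set c₀ : K := (aeval x (derivative f.num) * aeval x B - aeval x f.num * aeval x (derivative B)) /
    (aeval x B) ^ 2 with hc₀
  have hvc₀ : P.1 c₀ ≤ 1 := by
    rw [hc₀, map_div₀, map_pow, hv1 _ hB, one_pow, div_one]
    refine (Valuation.map_sub _ _ _).trans (max_le ?_ ?_)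
    · rw [map_mul]; exact mul_le_one' (hvle _) (hvle _)
    · rw [map_mul]; exact mul_le_one' (hvle _) (hvle _)
  have hDu : LocRes.D F (φ u) = φ c₀ * LocRes.D F (φ x) := D_phi_div φ x f.num B hB0
  have hDπ : LocRes.D F (φ π) = φ (aeval x (derivative pp)) * LocRes.D F (φ x) :=
    D_phi_aeval_const φ x pp
  have hφpp' : φ (aeval x (derivative pp)) ≠ 0 := (map_ne_zero φ).2 hpp'0
  have hDx : LocRes.D F (φ x) = φ (aeval x (derivative pp))⁻¹ * LocRes.D F (φ π) := by
    rw [hDπ, map_inv₀, inv_mul_cancel_left₀ hφpp']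
  set c : K := c₀ * (aeval x (derivative pp))⁻¹ with hc
  have hvc : P.1 c ≤ 1 := by
    rw [hc, map_mul, map_inv₀, hvpp', inv_one, mul_one]; exact hvc₀
  have hDu' : LocRes.D F (φ u) = φ c * LocRes.D F (φ π) := by
    rw [hDu, hDx, hc, map_mul, mul_assoc]
  have hmain := v_D_le_of_artinSchreier hφ hd hπ (heq.trans hfx) hvu hvc hDu'
  have hval := congrArg (Valued.v (R := F⸨X⸩)) hDπ
  rw [map_mul, hφ.1, hvpp', one_mul] at hval
  rw [← hval]
  exact hmain

end Groth.Agent.Lib.Helper2.AR
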