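import Mathlib
import Groth.Prelude.Def_LocRes
import Groth.Agent.Lib.Helper2.FunFld.AR2
import Groth.Agent.Lib.Helper2.FunFld.Chain
import Groth.Agent.Lib.Helper26.Hyp1

set_option autoImplicit false
open LaurentSeries HahnSeries KaehlerDifferential FunFld Polynomial

namespace Groth.Agent.Lib.Helper2.AR

open Groth.Agent.Lib.Helper2.Tate Groth.Agent.Lib.Helper2.FF Groth.Agent.Lib.Helper2.HF
  Groth.Agent.Lib.Helper2.SP Groth.Agent.Lib.Helper2.HY Groth.Agent.Lib.Helper26.FunFldRatPlace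

universe u v w

variable {k : Type u} {K : Type v} {F : Type w} [Field k] [Field K] [Field F] [Algebra k K]
  [Algebra k F]
variable {P : Place k K} {φ : K →ₐ[k] F⸨X⸩}

/-- at a pole of `x`, `p(x) = p^rev(1/x) x^deg p` with `p^rev(1/x)` a unit -/
theorem aeval_reverse_inv (P : Place k K) {x : K} (hx : 1 < P.1 x) {r : k[X]} (hr : r ≠ 0) :
    aeval x r = aeval x⁻¹ r.reverse * x ^ r.natDegree ∧ P.1 (aeval x⁻¹ r.reverse) = 1 := by
  have hx0 : x ≠ 0 := by
    rintro rfl
    rw [map_zero] at hx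
    exact absurd hx (not_lt.2 zero_le)
  letI : Invertible x := invertibleOfNonzero hx0
  have h1 := Polynomial.eval₂_reverse_mul_pow (algebraMap k K) x r
  rw [invOf_eq_inv] at h1
  have h5 : aeval x r = aeval x⁻¹ r.reverse * x ^ r.natDegree := h1.symm
  refine ⟨h5, ?_⟩
  have h2 := Groth.Agent.Lib.Helper26.Hyp.v_aeval_of_one_lt P hx hr
  change P.1 (aeval x r) = P.1 x ^ r.natDegree at h2
  rw [h5, map_mul, map_pow] at h2
  have hne : P.1 x ^ r.natDegree ≠ 0 := pow_ne_zero _ ((Valuation.ne_zero_iff _).2 hx0)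
  exact mul_right_cancel₀ hne (h2.trans (one_mul _).symm)

variable [Algebra (RatFunc k) K] [IsScalarTower k (RatFunc k) K]

/-- `ord (dx) ≥ 2d - 4` at a place of `K` over the infinite place when `f` has a pole of order
`2d - 1` there -/
theorem v_D_X_le_of_infinite_pole [CharP k 2] (hφ : LocRes.IsExpansionAt P.1 φ)
    {p : Place k (RatFunc k)} (he : IsOverWith P p 2) (hX : p.ord (RatFunc.X : RatFunc k) < 0)
    {y : K} {f : RatFunc k} (heq : y ^ 2 + y = algebraMap (RatFunc k) K f) {d : ℕ} (hd : 1 ≤ d)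
    (hord : p.1 f = WithZero.exp (2 * (d : ℤ) - 1)) :
    Valued.v (LocRes.D F (φ (algebraMap (RatFunc k) K RatFunc.X))) ≤
      WithZero.exp (4 - 2 * (d : ℤ)) := by
  set x : K := algebraMap (RatFunc k) K RatFunc.X with hx
  have hX0 : (RatFunc.X : RatFunc k) ≠ 0 := RatFunc.X_ne_zero
  have hpX : p.1 (RatFunc.X : RatFunc k) = WithZero.exp (1 : ℤ) := by
    rw [v_eq_exp_neg_ord p hX0, ord_X_inf p hX]; rfl
  have hvx : P.1 x = WithZero.exp (2 : ℤ) := by
    rw [hx, he, hpX, ← WithZero.exp_nsmul]; rfl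
  have hx1 : 1 < P.1 x := by
    rw [hvx, ← WithZero.exp_zero, WithZero.exp_lt_exp]; norm_num
  have hx0 : x ≠ 0 := by
    rintro h0
    rw [h0, map_zero] at hvx
    exact WithZero.exp_ne_zero hvx.symm
  obtain ⟨s, hs⟩ : ∃ s : K, s = x⁻¹ := ⟨_, rfl⟩
  have hvs : P.1 s = WithZero.exp (-2 : ℤ) := by
    rw [hs, map_inv₀, hvx, ← WithZero.exp_neg]
  have hs1 : P.1 s ≤ 1 := by
    rw [hvs, ← WithZero.exp_zero, WithZero.exp_le_exp]; norm_num
  have hf0 : f ≠ 0 := by
    rintro rfl
    rw [map_zero] at hord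
    exact WithZero.exp_ne_zero hord.symm
  have hnum0 : f.num ≠ 0 := RatFunc.num_ne_zero hf0
  have hden0 : f.denom ≠ 0 := RatFunc.denom_ne_zero f
  obtain ⟨hA, hvA⟩ := aeval_reverse_inv P hx1 hnum0
  obtain ⟨hB, hvB⟩ := aeval_reverse_inv P hx1 hden0
  rw [← hs] at hA hB hvA hvB
  -- degrees
  have hdegs : (f.num.natDegree : ℤ) - f.denom.natDegree = 2 * d - 1 := by
    have h1 : p.1 f = WithZero.exp ((f.num.natDegree : ℤ) - f.denom.natDegree) := by
      conv_lhs => rw [← RatFunc.num_div_denom f]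
      have hn0 : algebraMap k[X] (RatFunc k) f.num ≠ 0 := by
        rw [Ne, map_eq_zero_iff _ (IsFractionRing.injective k[X] (RatFunc k))]; exact hnum0
      have hd0 : algebraMap k[X] (RatFunc k) f.denom ≠ 0 := by
        rw [Ne, map_eq_zero_iff _ (IsFractionRing.injective k[X] (RatFunc k))]; exact hden0
      rw [map_div₀, v_eq_exp_neg_ord p hn0, v_eq_exp_neg_ord p hd0, ord_poly_inf' p hX hnum0,
        ord_poly_inf' p hX hden0, ← WithZero.exp_sub]
      congr 1
      ring
    rw [hord, WithZero.exp_inj] at h1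
    omega
  have hB0 : aeval s f.denom.reverse ≠ 0 := by
    intro h0
    rw [h0, map_zero] at hvB
    exact zero_ne_one hvB
  set u : K := aeval s f.num.reverse / aeval s f.denom.reverse with hu
  have hfx : algebraMap (RatFunc k) K f = u / s ^ (2 * d - 1) := by
    conv_lhs => rw [← RatFunc.num_div_denom f]
    rw [map_div₀, pK_eq_aeval, pK_eq_aeval, ← hx, hA, hB, hu, hs, inv_pow, div_inv_eq_mul]
    have hdn : f.num.natDegree = f.denom.natDegree + (2 * d - 1) := by omega
    rw [hdn, _root_.pow_add]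
    field_simp
  have hvu : P.1 u = 1 := by
    rw [hu, map_div₀, hvA, hvB, div_one]
  have hvle : ∀ r : k[X], P.1 (aeval s r) ≤ 1 := fun r => w_aeval_le_one P.1 P.2.1 hs1 r
  set c₀ : K := (aeval s (derivative f.num.reverse) * aeval s f.denom.reverse -
    aeval s f.num.reverse * aeval s (derivative f.denom.reverse)) /
    (aeval s f.denom.reverse) ^ 2 with hc₀
  have hvc₀ : P.1 c₀ ≤ 1 := by
    rw [hc₀, map_div₀, map_pow, hvB, one_pow, div_one]
    refine (Valuation.map_sub _ _ _).trans (max_le ?_ ?_)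
    · rw [map_mul]; exact mul_le_one' (hvle _) (hvle _)
    · rw [map_mul]; exact mul_le_one' (hvle _) (hvle _)
  have hDu : LocRes.D F (φ u) = φ c₀ * LocRes.D F (φ s) :=
    D_phi_div φ s f.num.reverse f.denom.reverse hB0
  have hmain := v_D_le_of_artinSchreier hφ hd hvs (heq.trans hfx) hvu hvc₀ hDu
  -- `dx = -x² ds`
  have hxs : x * s = 1 := by rw [hs, mul_inv_cancel₀ hx0]
  have h1 := congrArg (fun z => LocRes.D F (φ z)) hxs
  simp only [map_mul, map_one, Derivation.leibniz, smul_eq_mul, Derivation.map_one_eq_zero] at h1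
  have hφs0 : φ s ≠ 0 := (map_ne_zero φ).2 (by rw [hs]; exact inv_ne_zero hx0)
  have h2 : LocRes.D F (φ x) = -(φ x * LocRes.D F (φ s)) * (φ s)⁻¹ := by
    field_simp
    linear_combination h1
  rw [h2, map_mul, Valuation.map_neg, map_mul, map_inv₀, hφ.1, hφ.1, hvx, hvs]
  calc WithZero.exp (2 : ℤ) * Valued.v (LocRes.D F (φ s)) * (WithZero.exp (-2 : ℤ))⁻¹
      ≤ WithZero.exp (2 : ℤ) * WithZero.exp (-(2 * d : ℤ)) * (WithZero.exp (-2 : ℤ))⁻¹ :=
        mul_le_mul' (mul_le_mul' le_rfl hmain) le_rfl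
    _ = WithZero.exp (4 - 2 * (d : ℤ)) := by
        rw [← WithZero.exp_neg, ← WithZero.exp_add, ← WithZero.exp_add]
        congr 1
        ring

end Groth.Agent.Lib.Helper2.AR
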