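import Mathlib
import Groth.Prelude.Def_LocRes
import Groth.Agent.Lib.Helper2.FunFld.AR3
import Groth.Agent.Lib.Helper2.FunFld.ASG4

set_option autoImplicit false
open LaurentSeries HahnSeries KaehlerDifferential FunFld Polynomial

namespace Groth.Agent.Lib.Helper2.AR

open Groth.Agent.Lib.Helper2.Tate Groth.Agent.Lib.Helper2.FF Groth.Agent.Lib.Helper2.HF
  Groth.Agent.Lib.Helper2.SP Groth.Agent.Lib.Helper2.HY Groth.Agent.Lib.Helper26.FunFldRatPlace
  Groth.Agent.Lib.Helper2.ASG

universe u v w

section Span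

variable {k : Type u} {K : Type v} [Field k] [Field K] [Algebra k K]

/-- a subspace of dimension `g` containing `x^i c`, `i < g`, consists of the `a(x) c`,
`deg a < g` -/
theorem exists_poly_of_mem {V : Submodule k K} {g : ℕ} [FiniteDimensional k V]
    (hfin : Module.finrank k V = g) {x c : K} (hx : Transcendental k x) (hc : c ≠ 0)
    (hmem : ∀ i : ℕ, i < g → x ^ i * c ∈ V) {z : K} (hz : z ∈ V) :
    ∃ a : k[X], a.degree < (g : WithBot ℕ) ∧ z = aeval x a * c := by
  have hmemψ : ∀ a ∈ Polynomial.degreeLT k g, aeval x a * c ∈ V := by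
    intro a ha
    rw [Polynomial.mem_degreeLT] at ha
    rw [Polynomial.aeval_def, Polynomial.eval₂_eq_sum, Polynomial.sum_def, Finset.sum_mul]
    apply Submodule.sum_mem
    intro i hi
    rw [← Algebra.smul_def, smul_mul_assoc]
    have hig : i < g := by
      have h1 := Polynomial.le_degree_of_mem_supp i hi
      have h2 := lt_of_le_of_lt h1 ha
      exact_mod_cast h2
    exact Submodule.smul_mem _ _ (hmem i hig)
  let ψ₀ : Polynomial.degreeLT k g →ₗ[k] K :=
    (LinearMap.mulRight k c) ∘ₗ (Polynomial.aeval x).toLinearMap ∘ₗ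
      (Polynomial.degreeLT k g).subtype
  have hψ₀ : ∀ a : Polynomial.degreeLT k g, ψ₀ a = aeval x (a : k[X]) * c := fun a => by
    simp [ψ₀]
  let ψ : Polynomial.degreeLT k g →ₗ[k] V :=
    LinearMap.codRestrict V ψ₀ (fun a => by rw [hψ₀]; exact hmemψ a.1 a.2)
  have hinj : Function.Injective ψ := by
    rw [← LinearMap.ker_eq_bot, LinearMap.ker_eq_bot']
    intro a ha
    have h1 : ψ₀ a = 0 := congrArg Subtype.val ha
    rw [hψ₀, mul_eq_zero] at h1
    rcases h1 with h1 | h1
    · have hinj : Function.Injective (aeval x : k[X] →ₐ[k] K) :=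
        transcendental_iff_injective.mp hx
      exact Subtype.ext (hinj (by rw [h1]; simp))
    · exact absurd h1 hc
  have hfin' : Module.finrank k (Polynomial.degreeLT k g) = Module.finrank k V := by
    rw [(Polynomial.degreeLTEquiv k g).finrank_eq, Module.finrank_fin_fun, hfin]
  haveI : FiniteDimensional k (Polynomial.degreeLT k g) :=
    Module.Finite.equiv (Polynomial.degreeLTEquiv k g).symm
  have hsurj : Function.Surjective ψ :=
    (LinearMap.injective_iff_surjective_of_finrank_eq_finrank hfin').1 hinj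
  obtain ⟨a, ha⟩ := hsurj ⟨z, hz⟩
  refine ⟨a.1, Polynomial.mem_degreeLT.1 a.2, ?_⟩
  have h1 : ψ₀ a = z := congrArg Subtype.val ha
  rw [← h1, hψ₀]

end Span

section Inf

variable {k : Type u} [Field k]

/-- the place at infinity of `k(x)` is unique -/
theorem inf_unique {p₁ p₂ : Place k (RatFunc k)} (h₁ : p₁.ord (RatFunc.X : RatFunc k) < 0)
    (h₂ : p₂.ord (RatFunc.X : RatFunc k) < 0) : p₁ = p₂ := by
  classical
  by_contra hne
  have hK0 : IsFunctionField k (RatFunc k) := isFunctionField_ratFunc
  have h1 := deg_pdiv hK0 (RatFunc.transcendental_X (K := k))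
  have h2 : Module.finrank (IntermediateField.adjoin k {(RatFunc.X : RatFunc k)}) (RatFunc k) = 1 := by
    rw [RatFunc.adjoin_X]; exact IntermediateField.finrank_top
  rw [h2] at h1
  have hle : (Finsupp.single p₁ 1 + Finsupp.single p₂ 1 : Divisor k (RatFunc k)) ≤
      pdiv (k := k) (RatFunc.X : RatFunc k) := by
    intro Q
    rw [pdiv_apply hK0, Finsupp.add_apply, Finsupp.single_apply, Finsupp.single_apply]
    by_cases hQ1 : p₁ = Q
    · subst hQ1
      rw [if_pos rfl, if_neg (Ne.symm hne), ord_X_inf p₁ h₁]; simp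
    · by_cases hQ2 : p₂ = Q
      · subst hQ2
        rw [if_neg hQ1, if_pos rfl, ord_X_inf p₂ h₂]; simp
      · rw [if_neg hQ1, if_neg hQ2]; simp
  have h3 := deg_mono hle
  rw [deg_add, deg_single, deg_single, h1, deg_inf p₁ h₁, deg_inf p₂ h₂] at h3
  norm_num at h3

/-- the degree of the ramification divisor through the polynomial `q` -/
theorem deg_ramDiv_eq {f : RatFunc k} {q : k[X]} (hq0 : q ≠ 0)
    (hq : ∀ p : FunFld.Place k (RatFunc k), p.1 RatFunc.X ≤ 1 →
      p.ord (algebraMap k[X] (RatFunc k) q) = ramDiv f p)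
    {pinf : Place k (RatFunc k)} (hinf : pinf.ord (RatFunc.X : RatFunc k) < 0) :
    (ramDiv f).deg = q.natDegree + ramDiv f pinf := by
  classical
  have hK0 : IsFunctionField k (RatFunc k) := isFunctionField_ratFunc
  have hX0 : (RatFunc.X : RatFunc k) ≠ 0 := RatFunc.X_ne_zero
  have hkey : ramDiv f - FunFld.div k (algebraMap k[X] (RatFunc k) q) =
      Finsupp.single pinf (ramDiv f pinf + q.natDegree) := by
    ext p
    rw [Finsupp.sub_apply, div_apply hK0, Finsupp.single_apply]
    by_cases hp : p.1 RatFunc.X ≤ 1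
    · have hne : pinf ≠ p := by
        rintro rfl
        exact absurd ((one_lt_v_iff pinf hX0).2 hinf) (not_lt.2 hp)
      rw [if_neg hne, hq p hp, sub_self]
    · have hp' : p.ord (RatFunc.X : RatFunc k) < 0 := (one_lt_v_iff p hX0).1 (not_le.1 hp)
      have : pinf = p := inf_unique hinf hp'
      subst this
      rw [if_pos rfl, ord_poly_inf' pinf hinf hq0]
      ring
  have h1 := congrArg Divisor.deg hkey
  rw [deg_sub, deg_div hK0, deg_single, deg_inf pinf hinf] at h1
  push_cast at h1
  linarith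

end Inf

end Groth.Agent.Lib.Helper2.AR
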