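import Mathlib
import Groth.Agent.Lib.Helper2.FunFld.RR
import Groth.Agent.Lib.Helper2.FunFld.Rational

set_option autoImplicit false
open scoped WithZero IntermediateField
open FunFld Polynomial
open Groth.Agent.Lib.Helper2.RelDim

/-! Approximation at one place by elements of `L(D)`, `deg D` large. -/

namespace Groth.Agent.Lib.Helper2.AS

open Groth.Agent.Lib.Helper2.FF

variable {k K : Type*} [Field k] [Field K] [Algebra k K]

set_option maxHeartbeats 800000 in
/-- for `deg (D - P) ≥ 2g - 1`, every leading term at `P` is attained in `L(D)` -/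
theorem exists_mem_L_approx (hK : IsFunctionField k K) (P : FunFld.Place k K) (D : Divisor k K)
    (hdeg : 2 * (genus k K : ℤ) - 1 ≤ (D - Finsupp.single P 1).deg) {w : K}
    (hw : v P w ≤ WithZero.exp (D P)) :
    ∃ g ∈ L D, v P (g - w) ≤ WithZero.exp (D P - 1) := by
  classical
  haveI := finiteDimensional_residueField P hK
  haveI := finiteDimensional_L hK D
  have hfin : FinIdx (ball P (D P - 1)) (ball P (D P)) := finIdx_ball P (by omega)
  haveI : FiniteDimensional k (RQ (ball P (D P - 1)) (ball P (D P))) := hfin
  have h1 := LinearMap.finrank_range_add_finrank_ker (evalL D P)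
  have hle : L (D - (Finsupp.single P 1 : Divisor k K)) ≤ L D :=
    L_mono (by
      intro Q
      simp only [Finsupp.coe_sub, Pi.sub_apply, Finsupp.single_apply]
      split_ifs <;> omega)
  have h2 : Module.finrank k (LinearMap.ker (evalL D P)) =
      ell (D - (Finsupp.single P 1 : Divisor k K)) := by
    rw [ker_evalL]
    exact (Submodule.submoduleOfEquivOfLe hle).finrank_eq
  have hdeg' : 2 * (genus k K : ℤ) - 1 ≤ D.deg := by
    rw [deg_sub, deg_single] at hdeg
    have : (0 : ℤ) ≤ P.deg := by positivity
    linarith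
  have h3 := ell_eq_of_deg_ge hK D hdeg'
  have h4 := ell_eq_of_deg_ge hK _ hdeg
  rw [deg_sub, deg_single, one_mul] at h4
  have h5 : (idx (ball P (D P - 1)) (ball P (D P)) : ℤ) = P.deg := by
    rw [idx_ball P (by omega : D P - 1 ≤ D P)]; ring
  have h6 : Module.finrank k (LinearMap.range (evalL D P)) =
      Module.finrank k (RQ (ball P (D P - 1)) (ball P (D P))) := by
    have h7 : (Module.finrank k (LinearMap.range (evalL D P)) : ℤ) = P.deg := by
      have : (Module.finrank k (LinearMap.range (evalL D P)) : ℤ) +
          Module.finrank k (LinearMap.ker (evalL D P)) = ell D := by exact_mod_cast h1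
      rw [h2] at this
      linarith
    have h8 : (Module.finrank k (RQ (ball P (D P - 1)) (ball P (D P))) : ℤ) = P.deg := h5
    exact_mod_cast h7.trans h8.symm
  have hsurj : LinearMap.range (evalL D P) = ⊤ := Submodule.eq_top_of_finrank_eq h6
  have hmem : ((ball P (D P - 1)).submoduleOf (ball P (D P))).mkQ ⟨w, hw⟩ ∈
      LinearMap.range (evalL D P) := by rw [hsurj]; trivial
  obtain ⟨g, hg⟩ := hmem
  refine ⟨g.1, g.2, ?_⟩
  simp only [evalL, LinearMap.comp_apply] at hg
  rw [← sub_eq_zero, ← map_sub, Submodule.mkQ_apply, Submodule.Quotient.mk_eq_zero] at hg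
  exact hg

end Groth.Agent.Lib.Helper2.AS
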