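import Mathlib
import Groth.Agent.Lib.Helper2.FunFld.AS1
import Groth.Agent.Lib.Helper2.FunFld.SP2b

set_option autoImplicit false
open scoped WithZero IntermediateField
open FunFld Polynomial
open Groth.Agent.Lib.Helper2.RelDim

namespace Groth.Agent.Lib.Helper2.AS

open Groth.Agent.Lib.Helper2.FF Groth.Agent.Lib.Helper2.SP

variable {k K : Type*} [Field k] [Field K] [Algebra k K]

/-- over a perfect field of characteristic two, a pole of even order has a square leading term -/
theorem exists_sq_approx [PerfectField k] [CharP k 2] (hK : IsFunctionField k K)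
    (P : FunFld.Place k K) {f : K} {m : ℕ} (hf : v P f = WithZero.exp (2 * (m : ℤ))) :
    ∃ w : K, v P w ≤ WithZero.exp (m : ℤ) ∧ v P (f + w ^ 2) ≤ WithZero.exp (2 * (m : ℤ) - 1) := by
  haveI : CharP K 2 := charP_of_injective_algebraMap (algebraMap k K).injective 2
  haveI hfin : @Module.Finite k (IsLocalRing.ResidueField P.O) _ _ (Place.algRes P).toModule :=
    finite_algRes hK P
  haveI : Algebra.IsAlgebraic k (IsLocalRing.ResidueField P.O) := Algebra.IsAlgebraic.of_finite _ _
  haveI : PerfectField (IsLocalRing.ResidueField P.O) := Algebra.IsAlgebraic.perfectField (K := k)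
  haveI : CharP (IsLocalRing.ResidueField P.O) 2 :=
    charP_of_injective_algebraMap (algebraMap k (IsLocalRing.ResidueField P.O)).injective 2
  haveI : Fact (Nat.Prime 2) := ⟨Nat.prime_two⟩
  haveI : PerfectRing (IsLocalRing.ResidueField P.O) 2 := PerfectField.toPerfectRing 2
  obtain ⟨t, ht⟩ := exists_uniformizer P
  have hu : v P (f * t ^ (2 * m)) = 1 := by
    rw [map_mul, map_pow, hf, ht, ← WithZero.exp_nsmul, ← WithZero.exp_add]
    simp
  set u : P.O := ⟨f * t ^ (2 * m), (mem_O_iff P _).2 hu.le⟩ with hudef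
  obtain ⟨b', hb'⟩ := surjective_frobenius (IsLocalRing.ResidueField P.O) 2 (resAlg P u)
  obtain ⟨b, rfl⟩ := resAlg_surjective P b'
  rw [frobenius_def, ← map_pow] at hb'
  have h1 : resAlg P (b ^ 2 - u) = 0 := by rw [map_sub, hb', sub_self]
  rw [resAlg_eq_zero_iff] at h1
  have ht0 : t ≠ 0 := by
    intro h; rw [h, map_zero] at ht; exact WithZero.exp_ne_zero ht.symm
  refine ⟨(b : K) * (t ^ m)⁻¹, ?_, ?_⟩
  · rw [map_mul, map_inv₀, map_pow, ht, ← WithZero.exp_nsmul]
    calc v P (b : K) * (WithZero.exp (m • (-1 : ℤ)))⁻¹ ≤ 1 * (WithZero.exp (m • (-1 : ℤ)))⁻¹ :=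
          mul_le_mul' ((mem_O_iff P _).1 b.2) le_rfl
      _ = WithZero.exp (m : ℤ) := by rw [one_mul, ← WithZero.exp_neg]; simp
  · have h2 : f + ((b : K) * (t ^ m)⁻¹) ^ 2 = ((b : K) ^ 2 - f * t ^ (2 * m)) * (t ^ (2 * m))⁻¹ := by
      rw [CharTwo.sub_eq_add]
      field_simp
      ring
    have h3 : (((b ^ 2 - u : P.O)) : K) = (b : K) ^ 2 - f * t ^ (2 * m) := by
      rw [hudef]; rfl
    rw [h2, ← h3, map_mul, map_inv₀, map_pow, ht, ← WithZero.exp_nsmul, ← WithZero.exp_neg]
    calc v P ((b ^ 2 - u : P.O) : K) * WithZero.exp (-((2 * m) • (-1 : ℤ)))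
        ≤ WithZero.exp (-1 : ℤ) * WithZero.exp (-((2 * m) • (-1 : ℤ))) :=
          mul_le_mul' (lt_one_le_exp h1) le_rfl
      _ = WithZero.exp (2 * (m : ℤ) - 1) := by
          rw [← WithZero.exp_add]; congr 1; simp; ring

end Groth.Agent.Lib.Helper2.AS
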