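import Mathlib
import Groth.Agent.Lib.Helper2.FunFld.AS2
import Groth.Agent.Lib.Helper2.FunFld.DegDiv

set_option autoImplicit false
open scoped WithZero IntermediateField
open FunFld Polynomial
open Groth.Agent.Lib.Helper2.RelDim

namespace Groth.Agent.Lib.Helper2.AS

open Groth.Agent.Lib.Helper2.FF Groth.Agent.Lib.Helper2.SP

variable {k K : Type*} [Field k] [Field K] [Algebra k K]

set_option maxHeartbeats 1600000 in
/-- in genus zero, over a perfect field of characteristic two, every element is congruent modulo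
`{g² + g}` to one whose poles all have odd order -/
theorem exists_odd_poles [PerfectField k] [CharP k 2] (hK : IsFunctionField k K)
    (hg0 : genus k K = 0) (f : K) :
    ∃ g : K, ∀ P : FunFld.Place k K, P.ord (f + g ^ 2 + g) < 0 → Odd (P.ord (f + g ^ 2 + g)) := by
  classical
  haveI : CharP K 2 := charP_of_injective_algebraMap (algebraMap k K).injective 2
  induction hn : (pdiv (k := k) f).deg.toNat using Nat.strong_induction_on generalizing f with
  | _ n ih =>
  by_cases hall : ∀ P : FunFld.Place k K, P.ord f < 0 → Odd (P.ord f)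
  · exact ⟨0, by simpa using hall⟩
  push Not at hall
  obtain ⟨P, hP1, hP2⟩ := hall
  have hf0 : f ≠ 0 := by
    rintro rfl
    rw [ord_zero] at hP1
    exact lt_irrefl _ hP1
  rw [Int.not_odd_iff_even] at hP2
  obtain ⟨r, hr⟩ := hP2
  obtain ⟨m, hm⟩ : ∃ m : ℕ, r = -(m : ℤ) := ⟨(-r).toNat, by omega⟩
  have hm1 : 1 ≤ m := by omega
  have hord : P.ord f = -(2 * (m : ℤ)) := by omega
  have hvf : v P f = WithZero.exp (2 * (m : ℤ)) := by
    rw [v_eq_exp_neg_ord P hf0, hord, neg_neg]
  obtain ⟨w, hw1, hw2⟩ := exists_sq_approx hK P hvf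
  set D : Divisor k K := Finsupp.single P (m : ℤ) with hD
  have hDP : D P = m := by rw [hD, Finsupp.single_eq_same]
  have hDQ : ∀ Q, Q ≠ P → D Q = 0 := fun Q hQ => by
    rw [hD, Finsupp.single_apply, if_neg (Ne.symm hQ)]
  have hdeg : 2 * (genus k K : ℤ) - 1 ≤ (D - Finsupp.single P 1).deg := by
    rw [hg0, deg_sub, hD, deg_single, deg_single]
    have : (0 : ℤ) ≤ P.deg := by positivity
    have h1 : (1 : ℤ) ≤ m := by exact_mod_cast hm1
    push_cast
    nlinarith
  obtain ⟨g₁, hg₁L, hg₁⟩ := exists_mem_L_approx hK P D hdeg (w := w) (by rw [hDP]; exact hw1)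
  rw [hDP] at hg₁
  rw [mem_L] at hg₁L
  have hg₁P : v P g₁ ≤ WithZero.exp (m : ℤ) := by have := hg₁L P; rwa [hDP] at this
  set f' := f + g₁ ^ 2 + g₁ with hf'
  -- at `P`
  have hP' : v P f' ≤ WithZero.exp (2 * (m : ℤ) - 1) := by
    have e : f' = (f + w ^ 2) + ((g₁ - w) ^ 2 + g₁) := by
      rw [hf', CharTwo.sub_eq_add, CharTwo.add_sq]
      have : w ^ 2 + w ^ 2 = 0 := CharTwo.add_self_eq_zero _
      linear_combination (-1 : K) * this
    rw [e]
    refine (Valuation.map_add _ _ _).trans (max_le hw2 ?_)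
    refine (Valuation.map_add _ _ _).trans (max_le ?_ ?_)
    · rw [map_pow]
      calc v P (g₁ - w) ^ 2 ≤ (WithZero.exp ((m : ℤ) - 1)) ^ 2 := pow_le_pow_left' hg₁ 2
        _ = WithZero.exp (2 * ((m : ℤ) - 1)) := by rw [← WithZero.exp_nsmul]; simp
        _ ≤ _ := by rw [WithZero.exp_le_exp]; omega
    · refine hg₁P.trans ?_
      rw [WithZero.exp_le_exp]; omega
  -- elsewhere
  have hQ' : ∀ Q : FunFld.Place k K, Q ≠ P → v Q f' ≤ max (v Q f) 1 := by
    intro Q hQ
    have h1 : v Q g₁ ≤ 1 := by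
      have := hg₁L Q
      rwa [hDQ Q hQ, WithZero.exp_zero] at this
    rw [hf', add_assoc]
    refine (Valuation.map_add _ _ _).trans (max_le_max le_rfl ?_)
    refine (Valuation.map_add _ _ _).trans (max_le ?_ h1)
    rw [map_pow]; exact pow_le_one' h1 2
  by_cases hf'0 : f' = 0
  · refine ⟨g₁, fun Q hQ => ?_⟩
    rw [← hf', hf'0, ord_zero] at hQ
    exact absurd hQ (lt_irrefl _)
  -- the pole divisor decreases
  have hle : pdiv (k := k) f' ≤ pdiv (k := k) f - Finsupp.single P 1 := by
    intro Q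
    rw [Finsupp.sub_apply, pdiv_apply hK, pdiv_apply hK, Finsupp.single_apply]
    by_cases hQ : Q = P
    · subst hQ
      rw [if_pos rfl, hord]
      have h1 := (v_le_exp_iff Q hf'0 _).1 hP'
      rw [max_le_iff]
      constructor
      · have : max (- -(2 * (m : ℤ))) 0 = 2 * m := by rw [neg_neg]; exact max_eq_left (by positivity)
        rw [this]; omega
      · have : max (- -(2 * (m : ℤ))) 0 = 2 * m := by rw [neg_neg]; exact max_eq_left (by positivity)
        rw [this]; omega
    · rw [if_neg (Ne.symm hQ), sub_zero]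
      have h1 := hQ' Q hQ
      rw [max_le_iff]
      refine ⟨?_, le_max_right _ _⟩
      rcases le_total (v Q f) 1 with h2 | h2
      · rw [max_eq_right h2] at h1
        have := (v_le_one_iff Q hf'0).1 h1
        exact le_max_of_le_right (by omega)
      · rw [max_eq_left h2] at h1
        rw [v_eq_exp_neg_ord Q hf'0, v_eq_exp_neg_ord Q hf0, WithZero.exp_le_exp] at h1
        exact le_max_of_le_left (by omega)
  have hdeglt : (pdiv (k := k) f').deg.toNat < n := by
    have h1 := deg_mono hle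
    rw [deg_sub, deg_single, one_mul] at h1
    have h2 : (1 : ℤ) ≤ P.deg := by exact_mod_cast deg_pos P hK
    have h3 := deg_nonneg (pdiv_nonneg (k := k) f')
    have h4 := deg_nonneg (pdiv_nonneg (k := k) f)
    omega
  obtain ⟨g₂, hg₂⟩ := ih _ hdeglt f' rfl
  refine ⟨g₁ + g₂, ?_⟩
  have e : f + (g₁ + g₂) ^ 2 + (g₁ + g₂) = f' + g₂ ^ 2 + g₂ := by
    rw [hf', CharTwo.add_sq]; ring
  rw [e]
  exact hg₂

end Groth.Agent.Lib.Helper2.AS
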