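import Mathlib
import Groth.Agent.Lib.Helper2.FunFld.CEG1

set_option autoImplicit false
open scoped WithZero IntermediateField
open FunFld Polynomial

namespace Groth.Agent.Lib.Helper2.FF

/-- the places whose degree divides `m` -/
abbrev PlDvd (k K : Type*) [Field k] [Field K] [Algebra k K] (m : ℕ) : Type _ :=
  {P : FunFld.Place k K // P.deg ∣ m}

theorem finite_PlDvd {k K : Type*} [Field k] [Field K] [Algebra k K] [Finite k]
    (hK : IsFunctionField k K) (m : ℕ) (hm : 0 < m) : Finite (PlDvd k K m) :=
  ((finite_places_deg_le hK m).subset (fun P (hP : P.deg ∣ m) => Nat.le_of_dvd hm hP)).to_subtype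

/-- `N_m = ∑_{deg P ∣ m} deg P` (the number of points of degree one over the degree `m` extension) -/
noncomputable def Ncount (k K : Type*) [Field k] [Field K] [Algebra k K] (m : ℕ) : ℕ :=
  ∑ᶠ P : PlDvd k K m, P.1.deg

theorem Ncount_eq_sum {k K : Type*} [Field k] [Field K] [Algebra k K] (m : ℕ)
    [Fintype (PlDvd k K m)] : Ncount k K m = ∑ P : PlDvd k K m, P.1.deg :=
  finsum_eq_sum_of_fintype _

section Gen

variable {k k' K K' : Type*} [Field k] [Field k'] [Field K] [Field K']
    [Algebra k k'] [Algebra k K] [Algebra K K'] [Algebra k' K'] [Algebra k K']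
    [IsScalarTower k k' K'] [IsScalarTower k K K']

theorem Ncount_cExt [Finite k] [FiniteDimensional k k']
    (h : Function.Bijective (Algebra.TensorProduct.productMap
      (IsScalarTower.toAlgHom k k' K') (IsScalarTower.toAlgHom k K K')))
    (hK : IsFunctionField k K) (m : ℕ) (hm : 0 < m) :
    Ncount k' K' m = Ncount k K (Module.finrank k k' * m) := by
  classical
  haveI := finiteDimensional_cExt (K := K) (K' := K') h
  haveI : Finite k' := Module.finite_of_finite k
  have hK' : IsFunctionField k' K' := isFunctionField_cExt h hK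
  have hnpos : 0 < Module.finrank k k' := Module.finrank_pos
  haveI := finite_PlDvd hK' m hm
  haveI := finite_PlDvd hK (Module.finrank k k' * m) (Nat.mul_pos hnpos hm)
  letI := Fintype.ofFinite (PlDvd k' K' m)
  letI := Fintype.ofFinite (PlDvd k K (Module.finrank k k' * m))
  rw [Ncount_eq_sum, Ncount_eq_sum]
  have hdown : ∀ Q' : FunFld.Place k' K',
      (downPlace (k := k) Q').deg = Module.finrank k k' * Q'.deg := fun Q' => by
    have h1 := deg_eq_mul_deg_upPlace (k' := k') (downPlace (k := k) Q')
    rwa [upPlace_downPlace] at h1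
  let π : PlDvd k' K' m → PlDvd k K (Module.finrank k k' * m) := fun Q' => ⟨below hK Q'.1, by
    obtain ⟨e, he⟩ := below_spec hK Q'.1
    refine (deg_dvd_deg_of_isOverWith he).trans ?_
    rw [hdown]
    exact Nat.mul_dvd_mul_left _ Q'.2⟩
  rw [← Fintype.sum_fiberwise π]
  apply Fintype.sum_congr
  intro P
  haveI := finite_overP (K' := K') hK P.1
  letI := Fintype.ofFinite (OverP K' P.1)
  have h1 := sum_overP (K' := K') hK P.1
  have h2 : ∀ i : OverP K' P.1, ramIdx i.1 P.1 * i.1.deg =
      Module.finrank k k' * (upPlace (k' := k') i.1).deg := fun i => by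
    rw [ramIdx_eq (isOverWith_one_cExt h hK P.1 i.2), one_mul, deg_eq_mul_deg_upPlace (k' := k')]
  simp_rw [h2] at h1
  rw [← Finset.mul_sum, finrank_cExt (K := K) (K' := K') h] at h1
  have h3 := Nat.eq_of_mul_eq_mul_left hnpos h1
  rw [← h3]
  let E : {Q' : PlDvd k' K' m // π Q' = P} ≃ OverP K' P.1 :=
    { toFun := fun Q' => ⟨downPlace (k := k) Q'.1.1, by
        have := below_spec hK Q'.1.1
        have h4 : below hK Q'.1.1 = P.1 := congrArg Subtype.val Q'.2
        rwa [h4] at this⟩
      invFun := fun Q => ⟨⟨upPlace Q.1, by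
        have h5 := deg_dvd_of_dvd_cExt h hK P.1 (Module.finrank k k' * m) P.2 (dvd_mul_right _ _) Q.2
        rw [deg_eq_mul_deg_upPlace (k' := k')] at h5
        exact Nat.dvd_of_mul_dvd_mul_left hnpos h5⟩, Subtype.ext (below_eq hK (by
          rw [downPlace_upPlace]; exact Q.2))⟩
      left_inv := fun Q' => rfl
      right_inv := fun Q => rfl }
  exact Fintype.sum_equiv E _ _ (fun Q' => rfl)

end Gen

end Groth.Agent.Lib.Helper2.FF
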