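import Mathlib
import Groth.Agent.Lib.Helper2.FunFld.Jac3

set_option autoImplicit false
open scoped WithZero
open MvPolynomial FunFld
open Groth.Agent.Lib.Helper2.FF

namespace Groth.Agent.Lib.Helper2.Jac

variable {k K : Type*} [Field k] [Field K] [Algebra k K]

/-- a subalgebra of the valuation ring whose ideal of non-units at `P` is principal (up to units)
and whose field of fractions is `K` localizes to the whole valuation ring -/
theorem mem_loc_of_principal (P : FunFld.Place k K) (A : Subalgebra k K)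
    (hA : ∀ a ∈ A, v P a ≤ 1) (π : K) (hπ : v P π < 1)
    (hprin : ∀ u ∈ A, v P u < 1 → ∃ r ∈ A, ∃ a ∈ A, v P r = 1 ∧ r * u = a * π)
    (hfrac : ∀ z : K, ∃ u ∈ A, ∃ w ∈ A, w ≠ 0 ∧ z * w = u) :
    ∀ z, v P z ≤ 1 → ∃ u ∈ A, ∃ w ∈ A, v P w = 1 ∧ z * w = u := by
  have key : ∀ n : ℕ, ∀ u ∈ A, ∀ w ∈ A, w ≠ 0 → WithZero.exp (-(n : ℤ)) ≤ v P w →
      v P u ≤ v P w → ∃ u' ∈ A, ∃ w' ∈ A, v P w' = 1 ∧ u * w' = u' * w := by
    intro n
    induction n with
    | zero =>
      intro u hu w hw hw0 hn huw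
      have : v P w = 1 := le_antisymm (hA w hw) (by simpa using hn)
      exact ⟨u, hu, w, hw, this, rfl⟩
    | succ n ih =>
      intro u hu w hw hw0 hn huw
      by_cases hw1 : v P w = 1
      · exact ⟨u, hu, w, hw, hw1, rfl⟩
      have hwlt : v P w < 1 := lt_of_le_of_ne (hA w hw) hw1
      have hult : v P u < 1 := lt_of_le_of_lt huw hwlt
      obtain ⟨r₁, hr₁, a₁, ha₁, hvr₁, h₁⟩ := hprin w hw hwlt
      obtain ⟨r₂, hr₂, a₂, ha₂, hvr₂, h₂⟩ := hprin u hu hult
      have hr₁0 : r₁ ≠ 0 := by
        intro h; rw [h, map_zero] at hvr₁; exact zero_ne_one hvr₁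
      have hπ0 : π ≠ 0 := by
        intro h
        rw [h, mul_zero] at h₁
        exact (mul_ne_zero hr₁0 hw0) h₁
      have ha₁0 : a₁ ≠ 0 := by
        intro h
        rw [h, zero_mul] at h₁
        exact (mul_ne_zero hr₁0 hw0) h₁
      have hvπ0 : 0 < v P π := by
        rw [pos_iff_ne_zero]; exact (Valuation.ne_zero_iff _).2 hπ0
      have hvw : v P w = v P a₁ * v P π := by
        rw [← map_mul, ← h₁, map_mul, hvr₁, one_mul]
      have hvu : v P u = v P a₂ * v P π := by
        rw [← map_mul, ← h₂, map_mul, hvr₂, one_mul]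
      have hπle : v P π ≤ WithZero.exp (-1 : ℤ) := (lt_one_iff_le_exp _).1 hπ
      have hn' : WithZero.exp (-(n : ℤ)) ≤ v P a₁ := by
        have h3 : WithZero.exp (-(n : ℤ)) * v P π ≤ v P a₁ * v P π := by
          rw [← hvw]
          refine le_trans ?_ hn
          have : (WithZero.exp (-((n + 1 : ℕ) : ℤ)) : ℤᵐ⁰) =
              WithZero.exp (-(n : ℤ)) * WithZero.exp (-1 : ℤ) := by
            rw [← WithZero.exp_add]; congr 1; push_cast; ring
          rw [this]
          exact mul_le_mul' le_rfl hπle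
        exact le_of_mul_le_mul_right h3 hvπ0
      have h21 : v P a₂ ≤ v P a₁ := by
        have h3 : v P a₂ * v P π ≤ v P a₁ * v P π := by rw [← hvw, ← hvu]; exact huw
        exact le_of_mul_le_mul_right h3 hvπ0
      obtain ⟨u'', hu'', w'', hw'', hvw'', h₃⟩ := ih a₂ ha₂ a₁ ha₁ ha₁0 hn' h21
      refine ⟨u'' * r₁, A.mul_mem hu'' hr₁, w'' * r₂, A.mul_mem hw'' hr₂, ?_, ?_⟩
      · rw [map_mul, hvw'', hvr₂, one_mul]
      · linear_combination w'' * h₂ - u'' * h₁ + π * h₃
  intro z hz
  obtain ⟨u, hu, w, hw, hw0, hzw⟩ := hfrac z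
  have hvw0 : v P w ≠ 0 := (Valuation.ne_zero_iff _).2 hw0
  have huw : v P u ≤ v P w := by
    rw [← hzw, map_mul]
    calc v P z * v P w ≤ 1 * v P w := mul_le_mul' hz le_rfl
      _ = v P w := one_mul _
  have hlog : v P w = WithZero.exp (WithZero.log (v P w)) := (WithZero.exp_log hvw0).symm
  have hlog0 : WithZero.log (v P w) ≤ 0 := by
    have h1 := hA w hw
    rw [hlog, ← WithZero.exp_zero, WithZero.exp_le_exp] at h1
    exact h1
  obtain ⟨n, hn⟩ : ∃ n : ℕ, (n : ℤ) = -WithZero.log (v P w) :=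
    ⟨(-WithZero.log (v P w)).toNat, Int.toNat_of_nonneg (by omega)⟩
  have hnle : WithZero.exp (-(n : ℤ)) ≤ v P w := by
    rw [hn, neg_neg, ← hlog]
  obtain ⟨u', hu', w', hw', hvw', h⟩ := key n u hu w hw hw0 hnle huw
  refine ⟨u', hu', w', hw', hvw', ?_⟩
  have : z * w' * w = u' * w := by rw [← h, ← hzw]; ring
  exact mul_right_cancel₀ hw0 this

section Bwd

variable {σ : Type*} [Fintype σ] [DecidableEq σ]
variable (P : FunFld.Place k K) (ψ : σ → K) (b : σ → k)
  (hb : ∀ l, v P (ψ l - algebraMap k K (b l)) < 1)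

include hb

theorem v_le_one_of_mem_adjoin {a : K} (ha : a ∈ Algebra.adjoin k (Set.range ψ)) : v P a ≤ 1 := by
  induction ha using Algebra.adjoin_induction with
  | mem x hx =>
    obtain ⟨l, rfl⟩ := hx
    exact v_le_one_of_hb P ψ b hb l
  | algebraMap c => exact v_algebraMap_le P c
  | add x y _ _ hx hy => exact (Valuation.map_add _ _ _).trans (max_le hx hy)
  | mul x y _ _ hx hy => rw [map_mul]; exact mul_le_one' hx hy

omit [Fintype σ] [DecidableEq σ] hb in
theorem exists_frac_of_adjoin_eq_top (hfrac : IntermediateField.adjoin k (Set.range ψ) = ⊤)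
    (z : K) : ∃ u ∈ Algebra.adjoin k (Set.range ψ), ∃ w ∈ Algebra.adjoin k (Set.range ψ),
      w ≠ 0 ∧ z * w = u := by
  have hz : z ∈ IntermediateField.adjoin k (Set.range ψ) := by rw [hfrac]; trivial
  obtain ⟨r, hr, s, hs, rfl⟩ := IntermediateField.mem_adjoin_iff_div.1 hz
  by_cases hs0 : s = 0
  · refine ⟨0, Subalgebra.zero_mem _, 1, Subalgebra.one_mem _, one_ne_zero, ?_⟩
    rw [hs0, div_zero, zero_mul]
  · exact ⟨r, hr, s, hs, hs0, by field_simp⟩

set_option maxHeartbeats 1000000 in
/-- **Jacobian criterion, backward direction**: if the kernel of the Jacobian matrix is a line,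
the local ring of the coordinate ring at `P` is the whole valuation ring -/
theorem jac_backward {ι : Type*} [Fintype ι]
    (g : ι → MvPolynomial σ k)
    (hg : Ideal.span (Set.range g) = RingHom.ker (aeval ψ : MvPolynomial σ k →ₐ[k] K))
    (hfrac : IntermediateField.adjoin k (Set.range ψ) = ⊤)
    (s : σ → k) (hs : s ≠ 0)
    (huniq : ∀ d : σ → k, (∀ i, dd b d (g i) = 0) → ∃ c : k, d = c • s) :
    ∀ z, v P z ≤ 1 → ∃ u ∈ Algebra.adjoin k (Set.range ψ),
      ∃ w ∈ Algebra.adjoin k (Set.range ψ), v P w = 1 ∧ z * w = u := by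
  classical
  obtain ⟨j₁, hj₁⟩ : ∃ j₁, s j₁ ≠ 0 := by
    by_contra hcon
    push Not at hcon
    exact hs (funext hcon)
  have hgker : ∀ i, aeval ψ (g i) = 0 := by
    intro i
    have : g i ∈ RingHom.ker (aeval ψ : MvPolynomial σ k →ₐ[k] K) := by
      rw [← hg]; exact Ideal.subset_span ⟨i, rfl⟩
    exact this
  have hgb : ∀ i, eval b (g i) = 0 := by
    intro i
    apply eval_eq_zero_of_v_lt P ψ b hb
    rw [hgker i, map_zero]; exact zero_lt_one
  -- B1: linear algebra
  let row : ι → (σ → k) := fun i l => eval b (pderiv l (g i))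
  have htop : Submodule.span k (Set.range row) ⊔ Submodule.span k {(Pi.single j₁ (1 : k) : σ → k)}
      = ⊤ := by
    by_contra hne
    obtain ⟨φ, hφ0, hφ⟩ := Submodule.exists_le_ker_of_lt_top _ (lt_top_iff_ne_top.2 hne)
    let d : σ → k := fun l => φ (Pi.single l 1)
    have hφd : ∀ x : σ → k, φ x = ∑ l, x l * d l := by
      intro x
      rw [LinearMap.pi_apply_eq_sum_univ φ x]
      refine Finset.sum_congr rfl (fun l _ => ?_)
      rw [smul_eq_mul]
      congr 2
      funext j
      by_cases h : l = j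
      · subst h; simp
      · rw [if_neg h, Pi.single_eq_of_ne' h]
    have hdker : ∀ i, dd b d (g i) = 0 := by
      intro i
      have h1 : row i ∈ LinearMap.ker φ :=
        hφ (Submodule.mem_sup_left (Submodule.subset_span ⟨i, rfl⟩))
      rw [LinearMap.mem_ker, hφd] at h1
      rw [← h1]
      exact Finset.sum_congr rfl (fun l _ => mul_comm _ _)
    obtain ⟨c, hc⟩ := huniq d hdker
    have hdj : d j₁ = 0 := by
      have h1 : (Pi.single j₁ (1 : k) : σ → k) ∈ LinearMap.ker φ :=
        hφ (Submodule.mem_sup_right (Submodule.subset_span rfl))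
      exact h1
    have hc0 : c = 0 := by
      have := congrFun hc j₁
      rw [hdj, Pi.smul_apply, smul_eq_mul] at this
      rcases mul_eq_zero.1 this.symm with h | h
      · exact h
      · exact absurd h hj₁
    apply hφ0
    apply LinearMap.ext
    intro x
    rw [hφd, hc, hc0]
    simp
  -- B2: the coordinate ring
  let A' : Subalgebra k K := Algebra.adjoin k (Set.range ψ)
  let p : σ → A' := fun l => ⟨ψ l, Algebra.subset_adjoin ⟨l, rfl⟩⟩
  let q : σ → A' := fun l => algebraMap k A' (b l)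
  let y : σ → A' := fun l => p l - q l
  let J : Ideal A' := Ideal.span (Set.range y)
  have hcoe_p : ∀ G : MvPolynomial σ k, ((aeval p G : A') : K) = aeval ψ G := by
    intro G
    have := MvPolynomial.comp_aeval_apply A'.val (f := p) G
    rw [Subalgebra.val_apply] at this
    rw [this]; rfl
  have hq : ∀ G : MvPolynomial σ k, aeval q G = algebraMap k A' (eval b G) :=
    fun G => aeval_algebraMap_eq b G
  have hrow : ∀ i, ∑ l, algebraMap k A' (row i l) * y l ∈ J ^ 2 := by
    intro i
    have hT := taylor1 p q (g i)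
    have h0 : aeval p (g i) = 0 := by
      apply Subtype.ext
      rw [hcoe_p, hgker i]; rfl
    rw [h0, hq, hgb i, map_zero, sub_zero, zero_sub] at hT
    have hT' := Ideal.neg_mem_iff _ |>.1 hT
    convert hT' using 1
    refine Finset.sum_congr rfl (fun l _ => ?_)
    rw [hq]
  have hJle : J ≤ Ideal.span {y j₁} ⊔ J ^ 2 := by
    rw [Ideal.span_le]
    rintro _ ⟨l, rfl⟩
    have hl : (Pi.single l (1 : k) : σ → k) ∈
        Submodule.span k (Set.range row) ⊔ Submodule.span k {(Pi.single j₁ (1 : k) : σ → k)} := by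
      rw [htop]; trivial
    obtain ⟨ρ, hρ, e', he', hsum⟩ := Submodule.mem_sup.1 hl
    obtain ⟨lam, rfl⟩ := (Submodule.mem_span_range_iff_exists_fun k).1 hρ
    obtain ⟨a, rfl⟩ := Submodule.mem_span_singleton.1 he'
    have hy : y l = ∑ i, algebraMap k A' (lam i) * (∑ l', algebraMap k A' (row i l') * y l') +
        algebraMap k A' a * y j₁ := by
      have h1 : y l = ∑ l', algebraMap k A' ((Pi.single l (1 : k) : σ → k) l') * y l' := by
        rw [Finset.sum_eq_single l]
        · simp
        · intro l' _ hl'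
          rw [Pi.single_eq_of_ne hl']; simp
        · intro h; exact absurd (Finset.mem_univ l) h
      rw [h1, ← hsum]
      simp only [Pi.add_apply, Finset.sum_apply, Pi.smul_apply, smul_eq_mul, map_add, map_sum,
        map_mul, add_mul, Finset.sum_add_distrib, Finset.sum_mul]
      congr 1
      · rw [Finset.sum_comm]
        refine Finset.sum_congr rfl (fun i _ => ?_)
        rw [Finset.mul_sum]
        refine Finset.sum_congr rfl (fun l' _ => ?_)
        ring
      · rw [Finset.sum_eq_single j₁]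
        · simp
        · intro l' _ hl'
          rw [Pi.single_eq_of_ne hl']; simp
        · intro h; exact absurd (Finset.mem_univ j₁) h
    rw [SetLike.mem_coe, hy]
    refine Ideal.add_mem _ (Ideal.mem_sup_right ?_) (Ideal.mem_sup_left ?_)
    · exact Ideal.sum_mem _ (fun i _ => Ideal.mul_mem_left _ _ (hrow i))
    · exact Ideal.mul_mem_left _ _ (Ideal.subset_span rfl)
  -- B3: Nakayama
  obtain ⟨r, hr1, hr2⟩ : ∃ r : A', r - 1 ∈ J ∧ ∀ u ∈ J, ∃ a' : A', r * u = a' * y j₁ := by
    set T : Submodule A' A' := Ideal.span {y j₁} with hT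
    have hN : (J : Submodule A' A') ≤ T ⊔ J • (J : Submodule A' A') := by
      have : J • (J : Submodule A' A') = J ^ 2 := by
        rw [pow_two]; rfl
      rw [this]; exact hJle
    have h1 : Submodule.map T.mkQ J ≤ J • Submodule.map T.mkQ J := by
      calc Submodule.map T.mkQ J ≤ Submodule.map T.mkQ (T ⊔ J • (J : Submodule A' A')) :=
            Submodule.map_mono hN
        _ = J • Submodule.map T.mkQ J := by
          rw [Submodule.map_sup, Submodule.mkQ_map_self, bot_sup_eq, Submodule.map_smul'']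
    have hfg : (Submodule.map T.mkQ J).FG :=
      Submodule.FG.map _ ⟨Finset.univ.image y, by simp [J, Ideal.span]⟩
    obtain ⟨r, hr1, hr2⟩ := Submodule.exists_sub_one_mem_and_smul_eq_zero_of_fg_of_le_smul J
      (Submodule.map T.mkQ J) hfg h1
    refine ⟨r, hr1, fun u hu => ?_⟩
    have h2 := hr2 (T.mkQ u) (Submodule.mem_map_of_mem hu)
    rw [← map_smul, Submodule.mkQ_apply, Submodule.Quotient.mk_eq_zero, hT,
      Ideal.mem_span_singleton'] at h2
    obtain ⟨a', ha'⟩ := h2
    exact ⟨a', by rw [ha']; rfl⟩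
  -- B4: back to `K`
  have hJlt : ∀ u ∈ J, v P ((u : A') : K) < 1 := by
    intro u hu
    induction hu using Submodule.span_induction with
    | mem x hx =>
      obtain ⟨l, rfl⟩ := hx
      exact hb l
    | zero => simp
    | add x y _ _ hx hy =>
      exact (Valuation.map_add _ _ _).trans_lt (max_lt hx hy)
    | smul a x _ hx =>
      have ha : v P ((a : A') : K) ≤ 1 := v_le_one_of_mem_adjoin P ψ b hb a.2
      change v P (((a * x : A') : A') : K) < 1
      push_cast
      rw [map_mul]
      calc v P (a : K) * v P (x : K) ≤ 1 * v P (x : K) := mul_le_mul' ha le_rfl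
        _ = v P (x : K) := one_mul _
        _ < 1 := hx
  have hvr : v P ((r : A') : K) = 1 := by
    apply Groth.Agent.Lib.Helper26.LocRing.v_eq_one_of_sub_one_lt
    have := hJlt _ hr1
    simpa using this
  have hmemJ : ∀ u : A', v P (u : K) < 1 → u ∈ J := by
    intro u hu
    obtain ⟨U, hU⟩ := (mem_adjoin_iff_aeval ψ).1 u.2
    have hUb : eval b U = 0 := by
      apply eval_eq_zero_of_v_lt P ψ b hb
      rw [hU]; exact hu
    have h1 := aeval_sub_aeval_mem p q U
    rw [hq, hUb, map_zero, sub_zero] at h1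
    have h2 : aeval p U = u := by
      apply Subtype.ext
      rw [hcoe_p, hU]
    rw [h2] at h1
    exact h1
  refine mem_loc_of_principal P A' (fun a ha => v_le_one_of_mem_adjoin P ψ b hb ha)
    (ψ j₁ - algebraMap k K (b j₁)) (hb j₁) ?_ (exists_frac_of_adjoin_eq_top ψ hfrac)
  intro u hu hult
  obtain ⟨a', ha'⟩ := hr2 ⟨u, hu⟩ (hmemJ ⟨u, hu⟩ hult)
  refine ⟨r, r.2, a', a'.2, hvr, ?_⟩
  have := congrArg (fun x : A' => (x : K)) ha'
  have e : ((y j₁ : A') : K) = ψ j₁ - algebraMap k K (b j₁) := rfl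
  rw [← e]
  simpa using this

end Bwd

end Groth.Agent.Lib.Helper2.Jac
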