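import Mathlib
import Groth.Agent.Lib.Helper26.LocRing3
import Groth.Agent.Lib.Helper2.FunFld.Jac4
import Groth.Agent.S11075
import Groth.Agent.S11078

set_option autoImplicit false
open scoped WithZero IntermediateField
open FunFld
open Groth.Agent.Lib.Helper2.FF
open Groth.Agent.Lib.Helper26.LocRing Groth.Agent.Lib.Helper26.LocRing2
  Groth.Agent.Lib.Helper26.LocRing3

namespace Groth.Agent.Lib.Helper2.Cond

variable {k K : Type*} [Field k] [Field K] [Algebra k K]

/-- a common denominator for a finite-dimensional space of functions -/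
theorem exists_common_denominator_finset (A : Subalgebra k K)
    (hfrac : ∀ z : K, ∃ u ∈ A, ∃ w ∈ A, w ≠ 0 ∧ z * w = u) (S : Finset K) :
    ∃ w ∈ A, w ≠ 0 ∧ ∀ g ∈ Submodule.span k (S : Set K), w * g ∈ A := by
  classical
  induction S using Finset.induction_on with
  | empty =>
    refine ⟨1, A.one_mem, one_ne_zero, fun g hg => ?_⟩
    simp only [Finset.coe_empty, Submodule.span_empty, Submodule.mem_bot] at hg
    rw [hg, mul_zero]; exact A.zero_mem
  | insert s S _ ih =>
    obtain ⟨w₁, hw₁, hw₁0, h₁⟩ := ih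
    obtain ⟨u, hu, w₂, hw₂, hw₂0, h₂⟩ := hfrac s
    refine ⟨w₁ * w₂, A.mul_mem hw₁ hw₂, mul_ne_zero hw₁0 hw₂0, fun g hg => ?_⟩
    rw [Finset.coe_insert, Submodule.mem_span_insert] at hg
    obtain ⟨c, g', hg', rfl⟩ := hg
    have e : w₁ * w₂ * (c • s + g') = c • (w₁ * u) + w₂ * (w₁ * g') := by
      rw [← h₂, Algebra.smul_def, Algebra.smul_def]; ring
    rw [e]
    exact A.add_mem (A.smul_mem (A.mul_mem hw₁ hu) c) (A.mul_mem hw₂ (h₁ g' hg'))

theorem exists_common_denominator (A : Subalgebra k K)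
    (hfrac : ∀ z : K, ∃ u ∈ A, ∃ w ∈ A, w ≠ 0 ∧ z * w = u) (G : Submodule k K)
    (hG : FiniteDimensional k G) :
    ∃ w ∈ A, w ≠ 0 ∧ ∀ g ∈ G, w * g ∈ A := by
  obtain ⟨S, hS⟩ : G.FG := (Submodule.fg_iff_finiteDimensional G).2 hG
  obtain ⟨w, hw, hw0, h⟩ := exists_common_denominator_finset A hfrac S
  exact ⟨w, hw, hw0, fun g hg => h g (by rw [hS]; exact hg)⟩

set_option maxHeartbeats 2000000 in
/-- **the conductor of the local ring of a projective curve is nonzero** -/
theorem exists_conductor [IsAlgClosed k] (hK : IsFunctionField k K) {n : ℕ} (hn : 1 ≤ n)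
    (φ : Fin (n + 1) → K) (hφ : LinearIndependent k φ)
    (hbir : IntermediateField.adjoin k (Set.range fun i => φ i / φ 0) = ⊤)
    (P : FunFld.Place k K) :
    ∃ N : ℕ, ∀ z : K, (∀ Q : FunFld.Place k K, SameImage φ P Q →
      v Q z ≤ WithZero.exp (-(N : ℤ))) → InLocRing φ P z := by
  classical
  have hφ0 : ∀ i, φ i ≠ 0 := fun i => hφ.ne_zero i
  set D := mapDiv k φ with hD
  have hφL : ∀ i, φ i ∈ L D := mem_L_mapDiv hK φ hφ0
  have hbpf : ∀ Q : FunFld.Place k K, ∃ w ∈ Submodule.span k (Set.range φ),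
      v Q w = WithZero.exp (D Q) := by
    intro Q
    obtain ⟨i, hi⟩ := exists_v_eq_mapDiv hK φ hφ0 Q
    exact ⟨φ i, Submodule.subset_span ⟨i, rfl⟩, hi⟩
  have hdeg : 1 ≤ D.deg := one_le_deg_mapDiv hK hn φ hφ
  obtain ⟨j, hj⟩ := exists_v_eq_mapDiv hK φ hφ0 P
  have hjle : ∀ i, v P (φ i) ≤ v P (φ j) := fun i => by rw [hj]; exact hφL i P
  set A := Algebra.adjoin k (Set.range fun i => φ i / φ j) with hA
  have hfracj : IntermediateField.adjoin k (Set.range fun i => φ i / φ j) = ⊤ := by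
    rw [eq_top_iff, ← hbir, IntermediateField.adjoin_le_iff]
    rintro _ ⟨i, rfl⟩
    have e : φ i / φ 0 = (φ i / φ j) / (φ 0 / φ j) := by
      have := hφ0 j; have := hφ0 0; field_simp
    change φ i / φ 0 ∈ _
    rw [e]
    exact div_mem (IntermediateField.subset_adjoin _ _ ⟨i, rfl⟩)
      (IntermediateField.subset_adjoin _ _ ⟨0, rfl⟩)
  have hfrac := Groth.Agent.Lib.Helper2.Jac.exists_frac_of_adjoin_eq_top
    (fun i => φ i / φ j) hfracj
  haveI : Infinite k := IsAlgClosed.instInfinite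
  set e₀ := 2 * genus k K + 1 with he₀
  -- Step 1: a common denominator
  obtain ⟨w₁, hw₁, hw₁0, hw₁G⟩ := exists_common_denominator A hfrac (L (e₀ • D))
    (finiteDimensional_L hK _)
  obtain ⟨u₀, hu₀, w₀, hw₀, hw₀0, h₀⟩ := hfrac ((φ j ^ e₀)⁻¹)
  set w := w₁ * w₀ with hw
  have hwA : w ∈ A := A.mul_mem hw₁ hw₀
  have hw0 : w ≠ 0 := mul_ne_zero hw₁0 hw₀0
  have hwgen : ∀ m, e₀ ≤ m → ∀ f ∈ L (m • D), w * (f / φ j ^ m) ∈ A := by
    intro m hm f hf
    have h1 := pencil_generation hK φ D hφL hbpf j (hφ0 j) hdeg m hm f hf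
    refine Submodule.span_induction (p := fun x _ => w * x ∈ A) ?_ ?_ ?_ ?_ h1
    · rintro _ ⟨g, hg, rfl⟩
      have e : w * (g / φ j ^ e₀) = (w₁ * g) * u₀ := by
        rw [hw, ← h₀]; field_simp
      rw [e]
      exact A.mul_mem (hw₁G g hg) hu₀
    · rw [mul_zero]; exact A.zero_mem
    · intro x y _ _ hx hy
      rw [mul_add]; exact A.add_mem hx hy
    · intro a x _ hx
      have e : w * (a • x) = (a : K) * (w * x) := by
        change w * ((a : K) * x) = _
        ring
      rw [e]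
      exact A.mul_mem a.2 hx
  -- Step 2
  have hfib : {Q : FunFld.Place k K | SameImage φ P Q}.Finite :=
    (Groth.Agent.S11075.result k K hK hn φ hφ).2 P
  have hAloc : ∀ a ∈ A, InLocRing φ P a := fun a ha =>
    (inLocRing_iff φ P j (hφ0 j) hjle a).2 ⟨a, ha, 1, A.one_mem, map_one _, mul_one _⟩
  have hAfib : ∀ Q, SameImage φ P Q → ∀ a ∈ A, v Q a ≤ 1 := by
    intro Q hQ a ha
    exact ((Groth.Agent.S11078.result k K hK hn φ hφ P Q).1 hQ a (hAloc a ha)).1
  refine ⟨hfib.toFinset.sup (fun Q => (Q.ord w).toNat), ?_⟩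
  set N := hfib.toFinset.sup (fun Q => (Q.ord w).toNat) with hN
  intro z hz
  by_cases hz0 : z = 0
  · rw [hz0]; exact hAloc 0 A.zero_mem
  set z' := z / w with hz'
  have hz'0 : z' ≠ 0 := div_ne_zero hz0 hw0
  have hz'fib : ∀ Q, SameImage φ P Q → v Q z' ≤ 1 := by
    intro Q hQ
    rw [hz', map_div₀]
    have hvw0 : 0 < v Q w := by rw [pos_iff_ne_zero]; exact (Valuation.ne_zero_iff _).2 hw0
    rw [div_le_one₀ hvw0]
    refine (hz Q hQ).trans ?_
    rw [v_eq_exp_neg_ord Q hw0, WithZero.exp_le_exp]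
    have h1 : (Q.ord w).toNat ≤ N := by
      rw [hN]
      exact Finset.le_sup (f := fun Q => (Q.ord w).toNat) (hfib.mem_toFinset.2 hQ)
    have h2 := Int.self_le_toNat (Q.ord w)
    have h3 : ((Q.ord w).toNat : ℤ) ≤ N := by exact_mod_cast h1
    omega
  -- the bad places
  set S' : Set (FunFld.Place k K) :=
    {Q | 1 < v Q z' ∧ ∀ i, v Q (φ i) ≤ v Q (φ j)} with hS'
  have hS'fin : S'.Finite := by
    refine (finite_support_ord hK z').subset ?_
    intro Q hQ
    rw [Function.mem_support]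
    have := (one_lt_v_iff Q hz'0).1 hQ.1
    omega
  have hsel : ∀ Q' ∈ S', ∃ s ∈ A, v P s = 1 ∧ v Q' s < 1 := by
    intro Q' hQ'
    have hns : ¬ SameImage φ P Q' := fun h => absurd (hz'fib Q' h) (not_le.2 hQ'.1)
    by_contra hcon
    push Not at hcon
    apply hns
    refine ⟨j, hφ0 j, hjle, hQ'.2, fun i => ?_⟩
    have hle : v Q' (φ i / φ j) ≤ 1 := by
      rw [map_div₀]
      exact div_le_one_of_le₀ (hQ'.2 i) zero_le
    obtain ⟨c, hc⟩ := Groth.Agent.Lib.Helper26.FunFldLocal.exists_const_sub_lt hK Q' hle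
    refine ⟨c, ?_, hc⟩
    have hsA : φ i / φ j - algebraMap k K c ∈ A :=
      A.sub_mem (Algebra.subset_adjoin ⟨i, rfl⟩) (A.algebraMap_mem c)
    have hle1 : v P (φ i / φ j - algebraMap k K c) ≤ 1 :=
      v_le_one_of_mem_adjoin φ j P hjle hsA
    by_contra hnot
    have heq : v P (φ i / φ j - algebraMap k K c) = 1 := le_antisymm hle1 (not_lt.1 hnot)
    exact absurd hc (not_lt.2 (hcon _ hsA heq))
  choose! sel hselA hselP hselQ using hsel
  set s := ∏ Q' ∈ hS'fin.toFinset, sel Q' ^ (-Q'.ord z').toNat with hs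
  have hsA : s ∈ A := by
    rw [hs]
    exact Subalgebra.prod_mem _ (fun Q' hQ' =>
      Subalgebra.pow_mem _ (hselA Q' (hS'fin.mem_toFinset.1 hQ')) _)
  have hsP : v P s = 1 := by
    rw [hs, map_prod]
    refine Finset.prod_eq_one (fun Q' hQ' => ?_)
    rw [map_pow, hselP Q' (hS'fin.mem_toFinset.1 hQ'), one_pow]
  -- `y = s z'` is regular at the places finite for the chart `j`
  have hy1 : ∀ Q : FunFld.Place k K, (∀ i, v Q (φ i) ≤ v Q (φ j)) → v Q (s * z') ≤ 1 := by
    intro Q hQle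
    have hselle : ∀ Q'' ∈ hS'fin.toFinset, v Q (sel Q'' ^ (-Q''.ord z').toNat) ≤ 1 := by
      intro Q'' hQ''
      rw [map_pow]
      exact pow_le_one' (v_le_one_of_mem_adjoin φ j Q hQle
        (hselA Q'' (hS'fin.mem_toFinset.1 hQ''))) _
    by_cases hpole : 1 < v Q z'
    · have hQS : Q ∈ S' := ⟨hpole, hQle⟩
      have hQS' : Q ∈ hS'fin.toFinset := hS'fin.mem_toFinset.2 hQS
      have hord : Q.ord z' < 0 := (one_lt_v_iff Q hz'0).1 hpole
      rw [hs, ← Finset.mul_prod_erase _ _ hQS', map_mul, map_mul, map_prod]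
      have h1 : ∏ x ∈ hS'fin.toFinset.erase Q, v Q (sel x ^ (-x.ord z').toNat) ≤ 1 :=
        Finset.prod_le_one' (fun x hx => hselle x (Finset.mem_of_mem_erase hx))
      have h2 : v Q (sel Q ^ (-Q.ord z').toNat) * v Q z' ≤ 1 := by
        rw [map_pow, v_eq_exp_neg_ord Q hz'0]
        have h3 : v Q (sel Q) ≤ WithZero.exp (-1 : ℤ) :=
          (Groth.Agent.Lib.Helper2.Jac.lt_one_iff_le_exp _).1 (hselQ Q hQS)
        calc v Q (sel Q) ^ (-Q.ord z').toNat * WithZero.exp (-Q.ord z')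
            ≤ WithZero.exp (-1 : ℤ) ^ (-Q.ord z').toNat * WithZero.exp (-Q.ord z') :=
              mul_le_mul' (pow_le_pow_left' h3 _) le_rfl
          _ = 1 := by
              rw [← WithZero.exp_nsmul, ← WithZero.exp_add, ← WithZero.exp_zero]
              congr 1
              have := Int.toNat_of_nonneg (show 0 ≤ -Q.ord z' by omega)
              simp only [nsmul_eq_mul]
              rw [this]; ring
      calc v Q (sel Q ^ (-Q.ord z').toNat) *
            (∏ x ∈ hS'fin.toFinset.erase Q, v Q (sel x ^ (-x.ord z').toNat)) * v Q z'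
          = (v Q (sel Q ^ (-Q.ord z').toNat) * v Q z') *
            (∏ x ∈ hS'fin.toFinset.erase Q, v Q (sel x ^ (-x.ord z').toNat)) := by
              rw [mul_right_comm]
        _ ≤ 1 * 1 := mul_le_mul' h2 h1
        _ = 1 := one_mul _
    · rw [map_mul]
      have h1 : v Q s ≤ 1 := by
        rw [hs, map_prod]
        exact Finset.prod_le_one' hselle
      exact mul_le_one' h1 (not_lt.1 hpole)
  set y := s * z' with hy
  -- a bound for the pole orders of `y`
  set M := (pdiv (k := k) y).support.sup (fun Q => (pdiv (k := k) y Q).toNat) with hM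
  have hyM : ∀ Q : FunFld.Place k K, v Q y ≤ WithZero.exp ((M : ℕ) : ℤ) := by
    intro Q
    refine (mem_L_pdiv hK y Q).trans ?_
    rw [WithZero.exp_le_exp]
    by_cases hQ : Q ∈ (pdiv (k := k) y).support
    · have h1 : (pdiv (k := k) y Q).toNat ≤ M :=
        Finset.le_sup (f := fun Q => (pdiv (k := k) y Q).toNat) hQ
      have h2 := Int.self_le_toNat (pdiv (k := k) y Q)
      have h3 : ((pdiv (k := k) y Q).toNat : ℤ) ≤ M := by exact_mod_cast h1
      omega
    · rw [Finsupp.notMem_support_iff.1 hQ]; positivity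
  set m := e₀ + M with hm
  have hymem : y * φ j ^ m ∈ L (m • D) := by
    intro Q
    change v Q (y * φ j ^ m) ≤ WithZero.exp ((m • D) Q)
    have hexpm : WithZero.exp ((m • D) Q) = (WithZero.exp (D Q) : ℤᵐ⁰) ^ m := by
      rw [← WithZero.exp_nsmul]; rfl
    rw [hexpm, map_mul, map_pow]
    by_cases hQle : ∀ i, v Q (φ i) ≤ v Q (φ j)
    · calc v Q y * v Q (φ j) ^ m ≤ 1 * WithZero.exp (D Q) ^ m :=
            mul_le_mul' (hy1 Q hQle) (pow_le_pow_left' (hφL j Q) _)
        _ = _ := one_mul _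
    · push Not at hQle
      obtain ⟨i, hi⟩ := hQle
      have h1 : v Q (φ j) < WithZero.exp (D Q) := lt_of_lt_of_le hi (hφL i Q)
      have h2 : v Q (φ j) ≤ WithZero.exp (D Q - 1) :=
        (Groth.Agent.Lib.Helper26.LocRing.lt_exp_iff_le _ _).1 h1
      have h3 : v Q y ≤ WithZero.exp ((m : ℕ) : ℤ) := by
        refine (hyM Q).trans ?_
        rw [WithZero.exp_le_exp, hm]; push_cast; omega
      calc v Q y * v Q (φ j) ^ m
          ≤ WithZero.exp ((m : ℕ) : ℤ) * WithZero.exp (D Q - 1) ^ m :=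
            mul_le_mul' h3 (pow_le_pow_left' h2 _)
        _ = WithZero.exp (D Q) ^ m := by
            rw [← WithZero.exp_nsmul, ← WithZero.exp_nsmul, ← WithZero.exp_add]
            congr 1
            simp only [nsmul_eq_mul]; ring
  have hfinal := hwgen m (by rw [hm]; omega) _ hymem
  have e1 : y * φ j ^ m / φ j ^ m = y := by
    have := hφ0 j; field_simp
  rw [e1] at hfinal
  refine (inLocRing_iff φ P j (hφ0 j) hjle z).2 ⟨w * y, hfinal, s, hsA, hsP, ?_⟩
  rw [hy, hz']; field_simp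

end Groth.Agent.Lib.Helper2.Cond
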