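import Mathlib
import Groth.Agent.Lib.Helper2.FunFld.CEG3
import Groth.Agent.Lib.Helper2.FunFld.DegOne

set_option autoImplicit false
open scoped WithZero IntermediateField TensorProduct
open FunFld Polynomial

namespace Groth.Agent.Lib.Helper2.FF

section Frob

variable {k kb K Kb : Type*} [Field k] [Field kb] [Field K] [Field Kb]
    [Algebra k kb] [Algebra k K] [Algebra K Kb] [Algebra kb Kb] [Algebra k Kb]
    [IsScalarTower k kb Kb] [IsScalarTower k K Kb]

theorem range_productMap_eq_top
    (hgen : Algebra.adjoin K (Set.range (algebraMap kb Kb)) = ⊤) :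
    (Algebra.TensorProduct.productMap
      (IsScalarTower.toAlgHom k kb Kb) (IsScalarTower.toAlgHom k K Kb)).range = ⊤ := by
  rw [Algebra.TensorProduct.productMap_range]
  have h1 := congrArg (Subalgebra.restrictScalars k) hgen
  rw [Algebra.Subalgebra.restrictScalars_adjoin, Subalgebra.restrictScalars_top] at h1
  have h2 : Algebra.adjoin k (Set.range (algebraMap kb Kb)) =
      (IsScalarTower.toAlgHom k kb Kb).range := by
    have : Set.range (algebraMap kb Kb) = ((IsScalarTower.toAlgHom k kb Kb).range : Set Kb) := by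
      ext x; simp
    rw [this, Algebra.adjoin_eq]
  rw [h2] at h1
  rw [sup_comm]
  exact h1

/-- every element of `Kb = K[kb]` is a `K`-combination of `k`-independent constants -/
theorem exists_repr_basis (hgen : Algebra.adjoin K (Set.range (algebraMap kb Kb)) = ⊤)
    {ι : Type*} (B : Module.Basis ι k kb) (z : Kb) :
    ∃ (s : Finset ι) (y : ι → K), z = ∑ i ∈ s, algebraMap kb Kb (B i) * algebraMap K Kb (y i) := by
  have hz : z ∈ (Algebra.TensorProduct.productMap
      (IsScalarTower.toAlgHom k kb Kb) (IsScalarTower.toAlgHom k K Kb)).range := by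
    rw [range_productMap_eq_top hgen]; trivial
  obtain ⟨t, rfl⟩ := hz
  obtain ⟨c, rfl⟩ := TensorProduct.eq_repr_basis_left B t
  refine ⟨c.support, fun i => c i, ?_⟩
  rw [Finsupp.sum, map_sum]
  refine Finset.sum_congr rfl fun i _ => ?_
  simp

theorem lt_one_iff_of_le_one_iff {P : FunFld.Place k K} {Q : FunFld.Place kb Kb}
    (hP : ∀ x : K, Q.1 (algebraMap K Kb x) ≤ 1 ↔ P.1 x ≤ 1) (x : K) :
    Q.1 (algebraMap K Kb x) < 1 ↔ P.1 x < 1 := by
  rcases eq_or_ne x 0 with rfl | hx
  · simp
  · have h1 := hP x⁻¹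
    rw [map_inv₀, map_inv₀, map_inv₀] at h1
    have hQ0 : 0 < Q.1 (algebraMap K Kb x) := by
      rw [zero_lt_iff, Valuation.ne_zero_iff]
      simpa using hx
    have hP0 : 0 < P.1 x := by
      rw [zero_lt_iff, Valuation.ne_zero_iff]; exact hx
    rw [inv_le_one₀ hQ0, inv_le_one₀ hP0] at h1
    rw [← not_le, ← not_le, h1]

/-- Gauss-type formula at a rational place: the valuation of `∑ bᵢ yᵢ` for `k`-independent
constants `bᵢ` is the maximum of the valuations of the `yᵢ`. -/
theorem val_sum_basis_eq_sup {P : FunFld.Place k K} {Q : FunFld.Place kb Kb}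
    (hP : ∀ x : K, Q.1 (algebraMap K Kb x) ≤ 1 ↔ P.1 x ≤ 1) (hdeg : P.deg = 1)
    {ι : Type*} (B : Module.Basis ι k kb) (s : Finset ι) (y : ι → K) :
    Q.1 (∑ i ∈ s, algebraMap kb Kb (B i) * algebraMap K Kb (y i)) =
      s.sup (fun i => Q.1 (algebraMap K Kb (y i))) := by
  classical
  have hP' := lt_one_iff_of_le_one_iff hP
  rcases s.eq_empty_or_nonempty with rfl | hs
  · simp
  obtain ⟨i₀, hi₀, hM⟩ := Finset.exists_mem_eq_sup s hs (fun i => Q.1 (algebraMap K Kb (y i)))
  rw [hM]
  by_cases hu0 : y i₀ = 0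
  · -- all terms vanish
    have hall : ∀ i ∈ s, y i = 0 := by
      intro i hi
      have h1 : Q.1 (algebraMap K Kb (y i)) ≤ Q.1 (algebraMap K Kb (y i₀)) := by
        rw [← hM]; exact Finset.le_sup (f := fun i => Q.1 (algebraMap K Kb (y i))) hi
      rw [hu0, map_zero, map_zero, le_zero_iff, Valuation.zero_iff] at h1
      simpa using h1
    rw [hu0, map_zero, map_zero]
    rw [Finset.sum_eq_zero (fun i hi => by rw [hall i hi, map_zero, mul_zero]), map_zero]
  set u := y i₀ with hu
  have hle : ∀ i ∈ s, Q.1 (algebraMap K Kb (y i / u)) ≤ 1 := by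
    intro i hi
    have h1 : Q.1 (algebraMap K Kb (y i)) ≤ Q.1 (algebraMap K Kb u) := by
      rw [← hM]; exact Finset.le_sup (f := fun i => Q.1 (algebraMap K Kb (y i))) hi
    rw [map_div₀, map_div₀]
    have hQu : 0 < Q.1 (algebraMap K Kb u) := by
      rw [zero_lt_iff, Valuation.ne_zero_iff]; simpa using hu0
    exact (div_le_one₀ hQu).2 h1
  have hex : ∀ i, ∃ a : k, i ∈ s → P.1 (y i / u - algebraMap k K a) < 1 := by
    intro i
    by_cases hi : i ∈ s
    · obtain ⟨a, ha⟩ := exists_sub_lt_one P hdeg ((hP _).1 (hle i hi))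
      exact ⟨a, fun _ => ha⟩
    · exact ⟨0, fun h => absurd h hi⟩
  choose a ha using hex
  have ha0 : a i₀ ≠ 0 := by
    intro h0
    have := ha i₀ hi₀
    rw [h0, map_zero, sub_zero, div_self hu0, map_one] at this
    exact lt_irrefl _ this
  set c : kb := ∑ i ∈ s, a i • B i with hc
  have hc0 : c ≠ 0 := by
    intro h0
    have := (linearIndependent_iff'.1 B.linearIndependent) s a h0 i₀ hi₀
    exact ha0 this
  have hQc : Q.1 (algebraMap kb Kb c) = 1 := v_algebraMap Q hc0
  have hsum : ∑ i ∈ s, algebraMap kb Kb (B i) * algebraMap K Kb (y i) =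
      algebraMap K Kb u * (algebraMap kb Kb c +
        ∑ i ∈ s, algebraMap kb Kb (B i) * algebraMap K Kb (y i / u - algebraMap k K (a i))) := by
    have hu0' : algebraMap K Kb u ≠ 0 := by simpa using hu0
    rw [hc, map_sum, ← Finset.sum_add_distrib, Finset.mul_sum]
    refine Finset.sum_congr rfl fun i _ => ?_
    rw [Algebra.smul_def, map_mul, map_sub, map_div₀, ← IsScalarTower.algebraMap_apply k K Kb,
      ← IsScalarTower.algebraMap_apply k kb Kb]
    field_simp
    ring
  have hsmall : Q.1 (∑ i ∈ s, algebraMap kb Kb (B i) *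
      algebraMap K Kb (y i / u - algebraMap k K (a i))) < 1 := by
    apply Valuation.map_sum_lt _ one_ne_zero
    intro i hi
    rw [map_mul]
    have h1 : Q.1 (algebraMap kb Kb (B i)) ≤ 1 := Q.2.1 _
    have h2 := (hP' _).2 (ha i hi)
    calc Q.1 (algebraMap kb Kb (B i)) * Q.1 (algebraMap K Kb (y i / u - algebraMap k K (a i)))
        ≤ 1 * Q.1 (algebraMap K Kb (y i / u - algebraMap k K (a i))) :=
          mul_le_mul' h1 le_rfl
      _ < 1 := by rw [one_mul]; exact h2
  rw [hsum, map_mul, Valuation.map_add_eq_of_lt_left _ (by rw [hQc]; exact hsmall), hQc, mul_one]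

theorem frob_fixes_of_deg_one [Finite k]
    (hgen : Algebra.adjoin K (Set.range (algebraMap kb Kb)) = ⊤)
    (F : Kb →+* Kb) (hF1 : ∀ c : kb, F (algebraMap kb Kb c) = algebraMap kb Kb c)
    (hF2 : ∀ x : K, F (algebraMap K Kb x) = algebraMap K Kb x ^ Nat.card k)
    {P : FunFld.Place k K} {Q : FunFld.Place kb Kb}
    (hP : ∀ x : K, Q.1 (algebraMap K Kb x) ≤ 1 ↔ P.1 x ≤ 1) (hdeg : P.deg = 1) (z : Kb) :
    Q.1 (F z) < 1 ↔ Q.1 z < 1 := by
  classical
  have hq : Nat.card k ≠ 0 := Nat.card_pos.ne'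
  let B := Module.Basis.ofVectorSpace k kb
  obtain ⟨s, y, rfl⟩ := exists_repr_basis hgen B z
  have hFz : F (∑ i ∈ s, algebraMap kb Kb (B i) * algebraMap K Kb (y i)) =
      ∑ i ∈ s, algebraMap kb Kb (B i) * algebraMap K Kb (y i ^ Nat.card k) := by
    rw [map_sum]
    refine Finset.sum_congr rfl fun i _ => ?_
    rw [map_mul, hF1, hF2, map_pow]
  rw [hFz, val_sum_basis_eq_sup hP hdeg B s y, val_sum_basis_eq_sup hP hdeg B s _]
  have hbot : (⊥ : ℤᵐ⁰) < 1 := by
    rw [bot_eq_zero]; exact zero_lt_one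
  rw [Finset.sup_lt_iff hbot, Finset.sup_lt_iff hbot]
  refine forall₂_congr fun i _ => ?_
  rw [map_pow, map_pow, pow_lt_one_iff hq]

theorem exists_const_sub_lt_one [IsAlgClosed kb] (Q : FunFld.Place kb Kb) (x : Kb) (N : ℕ)
    (hN : 1 < N) (hx : Q.1 (x ^ N - x) < 1) : ∃ c : kb, Q.1 (x - algebraMap kb Kb c) < 1 := by
  classical
  set p : kb[X] := X ^ N - X with hp
  have hmonic : p.Monic := monic_X_pow_sub (by rw [degree_X]; exact_mod_cast hN)
  have hsplit := IsAlgClosed.splits p
  have h1 : Polynomial.aeval x p = ((p.roots.map (fun r => x - algebraMap kb Kb r))).prod := by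
    conv_lhs => rw [hsplit.eq_prod_roots_of_monic hmonic]
    rw [map_multiset_prod, Multiset.map_map]
    congr 1
    apply Multiset.map_congr rfl
    intro r _
    simp
  have h2 : Polynomial.aeval x p = x ^ N - x := by simp [hp]
  rw [← h2, h1] at hx
  clear h1 h2
  generalize p.roots = m at hx
  induction m using Multiset.induction_on with
  | empty => simp at hx
  | cons r m ih =>
    rw [Multiset.map_cons, Multiset.prod_cons, map_mul] at hx
    by_cases hr : Q.1 (x - algebraMap kb Kb r) < 1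
    · exact ⟨r, hr⟩
    · apply ih
      by_contra hcon
      push Not at hr hcon
      have := mul_le_mul' hr hcon
      rw [one_mul] at this
      exact absurd hx (not_lt.2 this)

theorem isAlgebraic_of_adjoin_eq_top [Algebra.IsAlgebraic k kb]
    (hgen : Algebra.adjoin K (Set.range (algebraMap kb Kb)) = ⊤) : Algebra.IsAlgebraic K Kb := by
  have h1 : Algebra.adjoin K (Set.range (algebraMap kb Kb)) ≤ integralClosure K Kb := by
    apply Algebra.adjoin_le
    rintro _ ⟨c, rfl⟩
    have hc : IsIntegral k c := (Algebra.IsAlgebraic.isAlgebraic (R := k) c).isIntegral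
    have h2 : IsIntegral k (algebraMap kb Kb c) := hc.map (IsScalarTower.toAlgHom k kb Kb)
    exact h2.tower_top
  rw [hgen] at h1
  constructor
  intro z
  exact (h1 (Algebra.mem_top (x := z))).isAlgebraic

theorem deg_one_of_frob [Finite k] [IsAlgClosed kb] [Algebra.IsAlgebraic k kb]
    (hK : IsFunctionField k K)
    (hgen : Algebra.adjoin K (Set.range (algebraMap kb Kb)) = ⊤)
    (F : Kb →+* Kb) (hF1 : ∀ c : kb, F (algebraMap kb Kb c) = algebraMap kb Kb c)
    (hF2 : ∀ x : K, F (algebraMap K Kb x) = algebraMap K Kb x ^ Nat.card k)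
    (Q : FunFld.Place kb Kb) (hQF : ∀ z : Kb, Q.1 z < 1 → Q.1 (F z) < 1) :
    ∃ P : FunFld.Place k K, (∀ x : K, Q.1 (algebraMap K Kb x) ≤ 1 ↔ P.1 x ≤ 1) ∧ P.deg = 1 := by
  classical
  letI := Fintype.ofFinite k
  haveI := isAlgebraic_of_adjoin_eq_top (k := k) hgen
  obtain ⟨P, e, he⟩ := exists_isOverWith' (K := K) hK.1 (downPlace (k := k) Q)
  have he1 := isOverWith_one_le he
  have he' : ∀ x : K, Q.1 (algebraMap K Kb x) = P.1 x ^ e := he
  have hle : ∀ x : K, Q.1 (algebraMap K Kb x) ≤ 1 ↔ P.1 x ≤ 1 := by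
    intro x
    rw [he' x, pow_le_one_iff (by omega)]
  have hlt : ∀ x : K, Q.1 (algebraMap K Kb x) < 1 ↔ P.1 x < 1 := by
    intro x
    rw [he' x, pow_lt_one_iff (by omega)]
  refine ⟨P, hle, ?_⟩
  haveI := finiteDimensional_residueField P hK
  haveI : Finite (IsLocalRing.ResidueField P.O) := Module.finite_of_finite k
  letI := Fintype.ofFinite (IsLocalRing.ResidueField P.O)
  have hcard : 1 < Fintype.card (IsLocalRing.ResidueField P.O) := Fintype.one_lt_card
  have hdvd : Module.finrank k (IsLocalRing.ResidueField P.O) ∣ 1 := by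
    apply finrank_dvd_of_forall_pow_eq k (IsLocalRing.ResidueField P.O) 1
    intro y
    obtain ⟨x, rfl⟩ := IsLocalRing.residue_surjective y
    rw [pow_one, ← map_pow, ← sub_eq_zero, ← map_sub, IsLocalRing.residue_eq_zero_iff]
    -- x ^ q - x ∈ m_P
    have h1 : P.1 ((x : K) ^ Fintype.card (IsLocalRing.ResidueField P.O) - x) < 1 := by
      have h2 : (IsLocalRing.residue P.O x) ^ Fintype.card (IsLocalRing.ResidueField P.O) =
          IsLocalRing.residue P.O x := FiniteField.pow_card _
      rw [← map_pow, ← sub_eq_zero, ← map_sub, IsLocalRing.residue_eq_zero_iff] at h2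
      exact (Valuation.mem_maximalIdeal_iff _ _).1 h2
    have h3 : Q.1 ((algebraMap K Kb x) ^ Fintype.card (IsLocalRing.ResidueField P.O) -
        algebraMap K Kb x) < 1 := by
      rw [← map_pow, ← map_sub]
      exact (hlt _).2 h1
    obtain ⟨c, hc⟩ := exists_const_sub_lt_one Q _ _ hcard h3
    have h4 := hQF _ hc
    rw [map_sub, hF1, hF2] at h4
    have h5 : Q.1 (algebraMap K Kb ((x : K) ^ Nat.card k - x)) < 1 := by
      have : algebraMap K Kb ((x : K) ^ Nat.card k - x) =
          (algebraMap K Kb x ^ Nat.card k - algebraMap kb Kb c) -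
            (algebraMap K Kb x - algebraMap kb Kb c) := by
        rw [map_sub, map_pow]; ring
      rw [this]
      exact lt_of_le_of_lt (Valuation.map_sub _ _ _) (max_lt h4 hc)
    have h6 := (hlt _).1 h5
    rw [Nat.card_eq_fintype_card] at h6
    exact (Valuation.mem_maximalIdeal_iff _ _).2 h6
  exact Nat.dvd_one.1 hdvd

end Frob

end Groth.Agent.Lib.Helper2.FF
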