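import Mathlib

set_option autoImplicit false
open TensorProduct Polynomial

namespace Groth.Agent.Lib.Helper2.Geo

theorem isReduced_tensor_of_isSeparable (A L K : Type*) [Field A] [Field L] [Field K] [Algebra A L]
    [Algebra A K] [Module.Finite A K] [Algebra.IsSeparable A K] : IsReduced (L ⊗[A] K) := by
  haveI : Algebra.FormallyUnramified A K := Algebra.FormallyUnramified.of_isSeparable A K
  exact Algebra.FormallyUnramified.isReduced_of_field L (L ⊗[A] K)

/-- `k[X] ⊗ k''` is a domain -/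
theorem isDomain_poly_tensor (k k'' : Type*) [Field k] [Field k''] [Algebra k k''] :
    IsDomain (k[X] ⊗[k] k'') := by
  let e : k[X] ⊗[k] k'' ≃ₐ[k] k''[X] :=
    (Algebra.TensorProduct.comm k k[X] k'').trans (polyEquivTensor k k'').symm
  exact MulEquiv.isDomain k''[X] e.toMulEquiv

/-- `k(X) ⊗ k''` is a domain -/
theorem isDomain_ratFunc_tensor (k k'' : Type*) [Field k] [Field k''] [Algebra k k''] :
    IsDomain (RatFunc k ⊗[k] k'') := by
  haveI := isDomain_poly_tensor k k''
  letI : Algebra (k[X] ⊗[k] k'') (RatFunc k ⊗[k] k'') :=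
    (Algebra.TensorProduct.map (IsScalarTower.toAlgHom k k[X] (RatFunc k))
      (AlgHom.id k k'')).toRingHom.toAlgebra
  haveI : IsScalarTower k[X] (k[X] ⊗[k] k'') (RatFunc k ⊗[k] k'') := by
    refine IsScalarTower.of_algebraMap_eq (R := k[X]) (S := k[X] ⊗[k] k'')
      (A := RatFunc k ⊗[k] k'') (fun p => ?_)
    rw [RingHom.algebraMap_toAlgebra (R := k[X] ⊗[k] k'') (S := RatFunc k ⊗[k] k'')]
    simp [Algebra.TensorProduct.algebraMap_apply]
  have H : (algebraMap (k[X] ⊗[k] k'') (RatFunc k ⊗[k] k'')).comp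
      (Algebra.TensorProduct.includeRight : k'' →ₐ[k] k[X] ⊗[k] k'').toRingHom =
      (Algebra.TensorProduct.includeRight : k'' →ₐ[k] RatFunc k ⊗[k] k'').toRingHom := by
    ext c
    rw [RingHom.algebraMap_toAlgebra (R := k[X] ⊗[k] k'') (S := RatFunc k ⊗[k] k'')]
    simp
  haveI := IsLocalization.tensorProduct_tensorProduct k k'' (nonZeroDivisors k[X]) (RatFunc k) H
  apply IsLocalization.isDomain_of_le_nonZeroDivisors (R := k[X] ⊗[k] k'')
    (M := Algebra.algebraMapSubmonoid (k[X] ⊗[k] k'') (nonZeroDivisors k[X])) (RatFunc k ⊗[k] k'')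
  rintro _ ⟨p, hp, rfl⟩
  rw [mem_nonZeroDivisors_iff_ne_zero]
  have hp0 : p ≠ 0 := nonZeroDivisors.ne_zero hp
  rw [Algebra.TensorProduct.algebraMap_apply]
  intro h0
  apply hp0
  have hinj : Function.Injective (Algebra.TensorProduct.includeLeft : k[X] →ₐ[k] k[X] ⊗[k] k'') :=
    Algebra.TensorProduct.includeLeft_injective (algebraMap k k'').injective
  apply hinj
  rw [map_zero]
  simpa using h0


/-- a field finite separable over `k(X)` stays reduced after any extension of constants -/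
theorem isReduced_tensor_of_ratFunc (k k'' K : Type*) [Field k] [Field k''] [Field K]
    [Algebra k k''] [Algebra k K]
    [Algebra (RatFunc k) K] [IsScalarTower k (RatFunc k) K] [Module.Finite (RatFunc k) K]
    [Algebra.IsSeparable (RatFunc k) K] : IsReduced (k'' ⊗[k] K) := by
  haveI := isDomain_ratFunc_tensor k k''
  haveI : IsReduced (FractionRing (RatFunc k ⊗[k] k'') ⊗[RatFunc k] K) :=
    isReduced_tensor_of_isSeparable (RatFunc k) (FractionRing (RatFunc k ⊗[k] k'')) K
  let e1 : k'' ⊗[k] K ≃ₐ[k] K ⊗[k] k'' := Algebra.TensorProduct.comm k k'' K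
  let e2 : K ⊗[RatFunc k] (RatFunc k ⊗[k] k'') ≃ₐ[RatFunc k] K ⊗[k] k'' :=
    Algebra.TensorProduct.cancelBaseChange k (RatFunc k) (RatFunc k) K k''
  let f3 : K ⊗[RatFunc k] (RatFunc k ⊗[k] k'') →ₐ[RatFunc k]
      K ⊗[RatFunc k] FractionRing (RatFunc k ⊗[k] k'') :=
    Algebra.TensorProduct.map (AlgHom.id (RatFunc k) K)
      (IsScalarTower.toAlgHom (RatFunc k) (RatFunc k ⊗[k] k'')
        (FractionRing (RatFunc k ⊗[k] k'')))
  let e4 : K ⊗[RatFunc k] FractionRing (RatFunc k ⊗[k] k'') ≃ₐ[RatFunc k]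
      FractionRing (RatFunc k ⊗[k] k'') ⊗[RatFunc k] K := Algebra.TensorProduct.comm _ _ _
  have hinj3 : Function.Injective f3 := by
    have h1 : Function.Injective (IsScalarTower.toAlgHom (RatFunc k) (RatFunc k ⊗[k] k'')
        (FractionRing (RatFunc k ⊗[k] k''))) := IsFractionRing.injective _ _
    exact Module.Flat.lTensor_preserves_injective_linearMap (M := K)
      (IsScalarTower.toAlgHom (RatFunc k) (RatFunc k ⊗[k] k'')
        (FractionRing (RatFunc k ⊗[k] k''))).toLinearMap h1
  let g : k'' ⊗[k] K →+* FractionRing (RatFunc k ⊗[k] k'') ⊗[RatFunc k] K :=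
    (e4.toRingEquiv.toRingHom.comp f3.toRingHom).comp
      (e2.symm.toRingEquiv.toRingHom.comp e1.toRingEquiv.toRingHom)
  have hg : Function.Injective g := by
    intro a b hab
    have h2 : f3 (e2.symm (e1 a)) = f3 (e2.symm (e1 b)) := e4.injective hab
    exact e1.injective (e2.symm.injective (hinj3 h2))
  exact isReduced_of_injective g hg

end Groth.Agent.Lib.Helper2.Geo
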