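import Mathlib
import Groth.Agent.Lib.Helper2.FunFld.GEO1
import Groth.Agent.S11000

set_option autoImplicit false
open TensorProduct Polynomial

namespace Groth.Agent.Lib.Helper2.Geo

universe u v

/-- constants extension by a finite separable extension is a field when `k` is algebraically
closed in `K` -/
theorem isField_tensor_of_isSeparable (k : Type u) (k' : Type*) (K : Type v) [Field k] [Field k']
    [Field K] [Algebra k k'] [Algebra k K] [FiniteDimensional k k'] [Algebra.IsSeparable k k']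
    (hcl : ∀ y : K, IsAlgebraic k y → y ∈ Set.range (algebraMap k K)) :
    IsField (k' ⊗[k] K) := by
  obtain ⟨α, hα⟩ := Field.exists_primitive_element k k'
  have hint : IsIntegral k α := Algebra.IsIntegral.isIntegral α
  set f := minpoly k α with hf
  have hfm : f.Monic := minpoly.monic hint
  have hfi : Irreducible f := minpoly.irreducible hint
  have hg : Irreducible (f.map (algebraMap k K)) :=
    Groth.Agent.S11000.irreducible_map_of_algClosedIn hcl hfm hfi
  haveI : Fact (Irreducible (f.map (algebraMap k K))) := ⟨hg⟩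
  let e0 : AdjoinRoot f ≃ₐ[k] k' :=
    (IntermediateField.adjoinRootEquivAdjoin k hint).trans
      ((IntermediateField.equivOfEq hα).trans IntermediateField.topEquiv)
  let e1 : k' ⊗[k] K ≃+* K ⊗[k] k' := (Algebra.TensorProduct.comm k k' K).toRingEquiv
  let e2 : K ⊗[k] k' ≃+* K ⊗[k] AdjoinRoot f :=
    (Algebra.TensorProduct.congr (AlgEquiv.refl : K ≃ₐ[k] K) e0.symm).toRingEquiv
  let q : (K ⊗[k] k)[X] := f.map (Algebra.TensorProduct.includeRight : k →ₐ[k] K ⊗[k] k).toRingHom
  let e3 : K ⊗[k] AdjoinRoot f ≃+* AdjoinRoot q := (AdjoinRoot.tensorAlgEquiv f q rfl).toRingEquiv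
  let r : K ⊗[k] k ≃+* K := (Algebra.TensorProduct.rid k K K).toRingEquiv
  have hq : q.map (r : K ⊗[k] k →+* K) = f.map (algebraMap k K) := by
    rw [Polynomial.map_map]
    congr 1
    ext c
    simp [r, Algebra.algebraMap_eq_smul_one]
  let e4 : AdjoinRoot q ≃+* AdjoinRoot (f.map (algebraMap k K)) :=
    AdjoinRoot.mapRingEquiv r q _ (by rw [hq])
  exact MulEquiv.isField (Field.toIsField (AdjoinRoot (f.map (algebraMap k K))))
    (((e1.trans e2).trans e3).trans e4).toMulEquiv

/-- if `k` is algebraically closed in `K` and `k'' ⊗ K` is reduced then it is a field -/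
theorem isField_tensor_of_isReduced (k : Type u) (k'' : Type*) (K : Type v) [Field k] [Field k'']
    [Field K] [Algebra k k''] [Algebra k K] [FiniteDimensional k k'']
    (hcl : ∀ y : K, IsAlgebraic k y → y ∈ Set.range (algebraMap k K))
    (hred : IsReduced (k'' ⊗[k] K)) : IsField (k'' ⊗[k] K) := by
  set q := ringExpChar k with hq
  haveI : ExpChar k q := ringExpChar.expChar k
  let ks : IntermediateField k k'' := separableClosure k k''
  haveI : IsPurelyInseparable ks k'' := separableClosure.isPurelyInseparable k k''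
  have hRs : IsField (ks ⊗[k] K) := isField_tensor_of_isSeparable k ks K hcl
  let ι : ks ⊗[k] K →+* k'' ⊗[k] K :=
    (Algebra.TensorProduct.map ks.val (AlgHom.id k K)).toRingHom
  haveI : Nontrivial (k'' ⊗[k] K) :=
    (Algebra.TensorProduct.includeRight_injective (R := k) (A := k'') (B := K)
      (algebraMap k k'').injective).nontrivial
  haveI : ExpChar (k'' ⊗[k] K) q :=
    expChar_of_injective_algebraMap (algebraMap k (k'' ⊗[k] K)).injective q
  haveI : ExpChar ks q := expChar_of_injective_algebraMap (algebraMap k ks).injective q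
  have hpow : ∀ r : k'' ⊗[k] K, ∃ n : ℕ, r ^ q ^ n ∈ Set.range ι := by
    intro r
    induction r using TensorProduct.induction_on with
    | zero => exact ⟨0, 0, by simp⟩
    | tmul a b =>
      obtain ⟨n, a₀, ha₀⟩ := IsPurelyInseparable.pow_mem ks q a
      refine ⟨n, a₀ ⊗ₜ (b ^ q ^ n), ?_⟩
      change Algebra.TensorProduct.map ks.val (AlgHom.id k K) (a₀ ⊗ₜ (b ^ q ^ n)) = _
      rw [Algebra.TensorProduct.map_tmul, Algebra.TensorProduct.tmul_pow, ← ha₀]
      rfl
    | add r₁ r₂ h₁ h₂ =>
      obtain ⟨n₁, c₁, hc₁⟩ := h₁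
      obtain ⟨n₂, c₂, hc₂⟩ := h₂
      refine ⟨n₁ + n₂, c₁ ^ q ^ n₂ + c₂ ^ q ^ n₁, ?_⟩
      rw [add_pow_expChar_pow, map_add, map_pow, map_pow, hc₁, hc₂, ← pow_mul, ← pow_mul,
        pow_add, mul_comm (q ^ n₂)]
  refine ⟨exists_pair_ne _, mul_comm, fun {r} hr => ?_⟩
  obtain ⟨n, c, hc⟩ := hpow r
  have hc0 : c ≠ 0 := by
    rintro rfl
    rw [map_zero] at hc
    exact hr (IsReduced.eq_zero _ ⟨_, hc.symm⟩)
  obtain ⟨c', hc'⟩ := hRs.mul_inv_cancel hc0
  have hqn : 0 < q ^ n := pow_pos (expChar_pos k q) n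
  refine ⟨r ^ (q ^ n - 1) * ι c', ?_⟩
  rw [← mul_assoc, ← pow_succ', Nat.sub_add_cancel hqn, ← hc, ← map_mul, hc', map_one]

end Groth.Agent.Lib.Helper2.Geo
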