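import Mathlib
import Groth.Prelude.Def_W4bk4goldsch23FF
import Groth.Agent.Lib.Helper2.FunFld.GEO2

set_option autoImplicit false
open TensorProduct Polynomial IntermediateField

namespace Groth.Agent.Lib.Helper2.Geo

universe u v

/-- a separably generated function field in which `k` is algebraically closed is geometric -/
theorem isGeometric_of_separating {k : Type u} {K : Type v} [Field k] [Field K] [Algebra k K]
    (hcl : ∀ y : K, IsAlgebraic k y → y ∈ Set.range (algebraMap k K))
    {t : K} (ht : Transcendental k t) [hfd : FiniteDimensional k⟮t⟯ K]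
    [hsep : Algebra.IsSeparable k⟮t⟯ K] : FunFld.IsGeometric k K := by
  intro k'' _ _ hfin
  haveI := hfin
  let e : RatFunc k ≃ₐ[k] k⟮t⟯ := RatFunc.algEquivOfTranscendental t ht
  let φ : RatFunc k →ₐ[k] K := (IntermediateField.val _).comp e.toAlgHom
  letI : Algebra (RatFunc k) K := φ.toRingHom.toAlgebra
  haveI : IsScalarTower k (RatFunc k) K :=
    IsScalarTower.of_algebraMap_eq (fun c => (φ.commutes c).symm)
  have hcomp : (algebraMap (RatFunc k) K).comp (e.symm.toRingEquiv : k⟮t⟯ →+* RatFunc k) =
      ((RingEquiv.refl K : K ≃+* K) : K →+* K).comp (algebraMap k⟮t⟯ K) := by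
    ext y
    change φ (e.symm y) = (y : K)
    simp [φ]
  haveI : Algebra.IsSeparable (RatFunc k) K :=
    Algebra.IsSeparable.of_equiv_equiv e.symm.toRingEquiv (RingEquiv.refl K) hcomp
  haveI : Module.Finite (RatFunc k) K :=
    Module.Finite.of_equiv_equiv e.symm.toRingEquiv (RingEquiv.refl K) hcomp
  exact isField_tensor_of_isReduced k k'' K hcl (isReduced_tensor_of_ratFunc k k'' K)

end Groth.Agent.Lib.Helper2.Geo
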