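import Mathlib
import Groth.Agent.Lib.Helper2.FunFld.GM1b

set_option autoImplicit false
open scoped WithZero IntermediateField
open FunFld Polynomial

namespace Groth.Agent.Lib.Helper2.GM

open Groth.Agent.Lib.Helper2.FF

section Main

variable {k k' K K' : Type*} [Field k] [Field k'] [Field K] [Field K']
    [Algebra k k'] [Algebra k K] [Algebra K K'] [Algebra k' K'] [Algebra k K']
    [IsScalarTower k k' K'] [IsScalarTower k K K']

theorem finite_not_le_one' {k K : Type*} [Field k] [Field K] [Algebra k K] (hK : IsFFw k K)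
    (x : K) : {P : FunFld.Place k K | ¬ P.1 x ≤ 1}.Finite := by
  refine (finite_support_ord' hK x).subset fun P hP => ?_
  simp only [Set.mem_ofPred_eq, not_le] at hP
  rw [Function.mem_support]
  intro h0
  have hx0 : x ≠ 0 := by
    rintro rfl
    simp at hP
  have h1 := v_eq_exp_neg_ord P hx0
  rw [h0, neg_zero, WithZero.exp_zero] at h1
  change 1 < v P x at hP
  rw [h1] at hP
  exact lt_irrefl _ hP

set_option maxHeartbeats 800000 in
/-- (b): if the genus does not drop, every place is nonsingular -/
theorem ns_of_genus_eq [FiniteDimensional k k']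
    (h : Function.Bijective (Algebra.TensorProduct.productMap
      (IsScalarTower.toAlgHom k k' K') (IsScalarTower.toAlgHom k K K')))
    (hK : IsFunctionField k K) (hK' : IsFunctionField k' K')
    (heq : genus k' K' = genus k K) (P : FunFld.Place k K) :
    ∀ z : K', (∀ Q : FunFld.Place k K', IsOver Q P → v Q z ≤ 1) →
      ∀ i, v P ((cBasis (K := K) (K' := K') (Module.finBasis k k') h).repr z i) ≤ 1 := by
  classical
  intro z hz i
  haveI := finiteDimensional_cExt (K := K) (K' := K') h
  obtain ⟨N₀, hN₀⟩ := ell_conorm_of_genus_eq h hK hK' heq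
  have hFF : IsFFw k K' := isFFw_of_finite hK
  have hT : {Q : FunFld.Place k K' | ¬ Q.1 z ≤ 1}.Finite := finite_not_le_one' hFF z
  choose below e hbelow using fun Q : FunFld.Place k K' => exists_isOverWith hK Q
  set T' : Finset (FunFld.Place k K) := hT.toFinset.image below with hT'
  have hPT' : P ∉ T' := by
    intro hmem
    rw [hT', Finset.mem_image] at hmem
    obtain ⟨Q, hQ, hQP⟩ := hmem
    rw [Set.Finite.mem_toFinset] at hQ
    apply hQ
    have := hbelow Q
    rw [hQP] at this
    exact hz Q ⟨e Q, this⟩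
  haveI := infinite_places hK
  obtain ⟨P₁, hP₁⟩ : ∃ P₁ : FunFld.Place k K, P₁ ≠ P := exists_ne P
  set S : Finset (FunFld.Place k K) := insert P₁ T' with hS
  have hPS : P ∉ S := by
    rw [hS, Finset.mem_insert]
    rintro (h1 | h1)
    · exact hP₁ h1.symm
    · exact hPT' h1
  set M : ℕ := max N₀.toNat (hT.toFinset.sup fun Q => (WithZero.log (Q.1 z)).toNat) with hM
  set D : Divisor k K := Finsupp.onFinset S (fun P' => if P' ∈ S then (M : ℤ) else 0)
    (fun P' hP' => by
      by_contra hcon
      simp only [if_neg hcon] at hP'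
      exact hP' rfl) with hD
  have hDapp : ∀ P', D P' = if P' ∈ S then (M : ℤ) else 0 := fun P' => rfl
  have hDP : D P = 0 := by rw [hDapp, if_neg hPS]
  have hD0 : ∀ P', 0 ≤ D P' := fun P' => by
    rw [hDapp]; split_ifs
    · positivity
    · exact le_rfl
  have hdeg : N₀ ≤ D.deg := by
    have h1 : Finsupp.single P₁ (M : ℤ) ≤ D := by
      intro P'
      rw [Finsupp.single_apply]
      split_ifs with h2
      · subst h2
        rw [hDapp, if_pos (Finset.mem_insert_self _ _)]
      · exact hD0 P'
    have h2 := deg_mono h1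
    rw [deg_single] at h2
    have h3 : (1 : ℤ) ≤ P₁.deg := by exact_mod_cast deg_pos P₁ hK
    have h4 : (N₀.toNat : ℤ) ≤ M := by exact_mod_cast le_max_left _ _
    have h5 : (0 : ℤ) ≤ (M : ℤ) := by positivity
    nlinarith [Int.self_le_toNat N₀]
  have hzL : z ∈ L (conorm K' D) := by
    rw [mem_L]
    intro Q
    rw [conorm_apply' hK D (hbelow Q)]
    have he1 : 1 ≤ e Q := isOverWith_one_le (hbelow Q)
    by_cases hQ : Q.1 z ≤ 1
    · refine hQ.trans ?_
      rw [← WithZero.exp_zero, WithZero.exp_le_exp]
      exact mul_nonneg (by positivity) (hD0 _)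
    · have hQT : Q ∈ hT.toFinset := by rw [Set.Finite.mem_toFinset]; exact hQ
      have hbS : below Q ∈ S := by
        rw [hS, Finset.mem_insert]
        right
        rw [hT', Finset.mem_image]
        exact ⟨Q, hQT, rfl⟩
      rw [hDapp, if_pos hbS]
      have hz0 : Q.1 z ≠ 0 := by
        intro h0; rw [h0] at hQ; exact hQ zero_le
      change Q.1 z ≤ _
      rw [← WithZero.exp_log hz0, WithZero.exp_le_exp]
      have h1 : (WithZero.log (Q.1 z)).toNat ≤ M :=
        le_trans (Finset.le_sup (f := fun Q => (WithZero.log (Q.1 z)).toNat) hQT)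
          (le_max_right _ _)
      have h2 : WithZero.log (Q.1 z) ≤ (M : ℤ) :=
        (Int.self_le_toNat _).trans (by exact_mod_cast h1)
      have h3 : (1 : ℤ) ≤ (e Q : ℤ) := by exact_mod_cast he1
      have h5 : (0 : ℤ) ≤ (M : ℤ) := by positivity
      nlinarith
  rw [← W_eq_of_ell_eq h hK hK' D (hN₀ D hdeg)] at hzL
  have h1 := hzL i
  rw [mem_L] at h1
  have h2 := h1 P
  rw [hDP, WithZero.exp_zero] at h2
  exact h2

end Main

end Groth.Agent.Lib.Helper2.GM
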