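import Mathlib
import Groth.Agent.Lib.Helper2.FunFld.FKS3
import Groth.Agent.Lib.Helper2.FunFld.CF2

set_option autoImplicit false
open scoped TensorProduct
open FunFld

/-! Models of constant field extensions: towers, intermediate models, small models. -/

namespace Groth.Agent.Lib.Helper2.GM

open Groth.Agent.Lib.Helper2.FF

section Tower

variable {k k' k'' K K' K'' : Type*} [Field k] [Field k'] [Field k''] [Field K] [Field K']
    [Field K'']
    [Algebra k k'] [Algebra k' k''] [Algebra k k''] [IsScalarTower k k' k'']
    [Algebra k K] [Algebra K K'] [Algebra k' K'] [Algebra k K']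
    [IsScalarTower k k' K'] [IsScalarTower k K K']
    [Algebra K' K''] [Algebra k'' K''] [Algebra k' K''] [Algebra k K''] [Algebra K K'']
    [IsScalarTower k' k'' K''] [IsScalarTower k' K' K''] [IsScalarTower K K' K'']
    [IsScalarTower k K K''] [IsScalarTower k k'' K'']

/-- a model over a model is a model -/
theorem bijective_tower [FiniteDimensional k k'] [FiniteDimensional k' k'']
    (h1 : Function.Bijective (Algebra.TensorProduct.productMap
      (IsScalarTower.toAlgHom k k' K') (IsScalarTower.toAlgHom k K K')))
    (h2 : Function.Bijective (Algebra.TensorProduct.productMap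
      (IsScalarTower.toAlgHom k' k'' K'') (IsScalarTower.toAlgHom k' K' K''))) :
    Function.Bijective (Algebra.TensorProduct.productMap
      (IsScalarTower.toAlgHom k k'' K'') (IsScalarTower.toAlgHom k K K'')) := by
  haveI : FiniteDimensional K K' := finiteDimensional_cExt (k := k) (k' := k') h1
  haveI : FiniteDimensional K' K'' := finiteDimensional_cExt (k := k') (k' := k'') h2
  haveI : FiniteDimensional K K'' := Module.Finite.trans K' K''
  haveI : FiniteDimensional k k'' := Module.Finite.trans k' k''
  apply bijective_productMap_of_surjective
  · -- surjective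
    have key : ∀ y : K', algebraMap K' K'' y ∈ (Algebra.TensorProduct.productMap
        (IsScalarTower.toAlgHom k k'' K'') (IsScalarTower.toAlgHom k K K'')).range := by
      intro y
      obtain ⟨t, rfl⟩ := h1.2 y
      induction t using TensorProduct.induction_on with
      | zero => simp
      | tmul c x =>
        refine ⟨(algebraMap k' k'' c) ⊗ₜ x, ?_⟩
        change Algebra.TensorProduct.productMap
          (IsScalarTower.toAlgHom k k'' K'') (IsScalarTower.toAlgHom k K K'')
          ((algebraMap k' k'' c) ⊗ₜ x) = algebraMap K' K'' (Algebra.TensorProduct.productMap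
          (IsScalarTower.toAlgHom k k' K') (IsScalarTower.toAlgHom k K K') (c ⊗ₜ x))
        rw [Algebra.TensorProduct.productMap_apply_tmul, Algebra.TensorProduct.productMap_apply_tmul,
          IsScalarTower.coe_toAlgHom', IsScalarTower.coe_toAlgHom', IsScalarTower.coe_toAlgHom',
          IsScalarTower.coe_toAlgHom', map_mul,
          ← IsScalarTower.algebraMap_apply k' k'' K'', ← IsScalarTower.algebraMap_apply k' K' K'',
          ← IsScalarTower.algebraMap_apply K K' K'']
      | add a b ha hb =>
        rw [map_add, map_add]
        exact Subalgebra.add_mem _ ha hb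
    intro z
    obtain ⟨t, rfl⟩ := h2.2 z
    change _ ∈ (Algebra.TensorProduct.productMap
        (IsScalarTower.toAlgHom k k'' K'') (IsScalarTower.toAlgHom k K K'')).range
    induction t using TensorProduct.induction_on with
    | zero => simp
    | tmul c y =>
      rw [Algebra.TensorProduct.productMap_apply_tmul, IsScalarTower.coe_toAlgHom',
        IsScalarTower.coe_toAlgHom']
      refine Subalgebra.mul_mem _ ⟨c ⊗ₜ 1, ?_⟩ (key y)
      change Algebra.TensorProduct.productMap
          (IsScalarTower.toAlgHom k k'' K'') (IsScalarTower.toAlgHom k K K'') (c ⊗ₜ 1) = _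
      rw [Algebra.TensorProduct.productMap_apply_tmul, map_one, mul_one,
        IsScalarTower.coe_toAlgHom']
    | add a b ha hb =>
      rw [map_add]
      exact Subalgebra.add_mem _ ha hb
  · rw [← Module.finrank_mul_finrank K K' K'', finrank_cExt h1, finrank_cExt h2,
      Module.finrank_mul_finrank k k' k'']

end Tower

end Groth.Agent.Lib.Helper2.GM
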