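import Mathlib
import Groth.Agent.Lib.Helper2.FunFld.GM2

set_option autoImplicit false
open scoped TensorProduct
open FunFld

namespace Groth.Agent.Lib.Helper2.GM

open Groth.Agent.Lib.Helper2.FF

section Mid

variable {k k' k'' K K₁ K'' : Type*} [Field k] [Field k'] [Field k''] [Field K] [Field K₁]
    [Field K'']
    [Algebra k k'] [Algebra k' k''] [Algebra k k''] [IsScalarTower k k' k'']
    [Algebra k K] [Algebra K K₁] [Algebra k' K₁] [Algebra k K₁]
    [IsScalarTower k k' K₁] [IsScalarTower k K K₁]
    [Algebra k'' K''] [Algebra k' K''] [Algebra k K''] [Algebra K K'']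
    [IsScalarTower k' k'' K''] [IsScalarTower k K K''] [IsScalarTower k k'' K'']

set_option maxHeartbeats 800000 in
/-- a model of `k'' ⊗ K` is a model over any model of `k' ⊗ K`, `k ⊆ k' ⊆ k''` -/
theorem exists_mid_algebra [FiniteDimensional k k'] [FiniteDimensional k' k'']
    (h1 : Function.Bijective (Algebra.TensorProduct.productMap
      (IsScalarTower.toAlgHom k k' K₁) (IsScalarTower.toAlgHom k K K₁)))
    (h2 : Function.Bijective (Algebra.TensorProduct.productMap
      (IsScalarTower.toAlgHom k k'' K'') (IsScalarTower.toAlgHom k K K''))) :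
    ∃ (_ : Algebra K₁ K'') (_ : IsScalarTower K K₁ K'') (_ : IsScalarTower k' K₁ K''),
      Function.Bijective (Algebra.TensorProduct.productMap
        (IsScalarTower.toAlgHom k' k'' K'') (IsScalarTower.toAlgHom k' K₁ K'')) := by
  haveI : FiniteDimensional k k'' := Module.Finite.trans k' k''
  haveI : FiniteDimensional K K₁ := finiteDimensional_cExt (k := k) (k' := k') h1
  haveI : FiniteDimensional K K'' := finiteDimensional_cExt (k := k) (k' := k'') h2
  let e₁ : k' ⊗[k] K ≃ₐ[k] K₁ := AlgEquiv.ofBijective _ h1
  let ψ : K₁ →ₐ[k] K'' := (Algebra.TensorProduct.productMap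
      (IsScalarTower.toAlgHom k k'' K'') (IsScalarTower.toAlgHom k K K'')).comp
    ((Algebra.TensorProduct.map (IsScalarTower.toAlgHom k k' k'') (AlgHom.id k K)).comp
      e₁.symm.toAlgHom)
  have hψK : ∀ x : K, ψ (algebraMap K K₁ x) = algebraMap K K'' x := by
    intro x
    have h3 : e₁.symm (algebraMap K K₁ x) = 1 ⊗ₜ x := by
      rw [AlgEquiv.symm_apply_eq]
      change _ = Algebra.TensorProduct.productMap
        (IsScalarTower.toAlgHom k k' K₁) (IsScalarTower.toAlgHom k K K₁) (1 ⊗ₜ x)
      rw [Algebra.TensorProduct.productMap_apply_tmul, map_one, one_mul,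
        IsScalarTower.coe_toAlgHom']
    change Algebra.TensorProduct.productMap
      (IsScalarTower.toAlgHom k k'' K'') (IsScalarTower.toAlgHom k K K'')
      (Algebra.TensorProduct.map (IsScalarTower.toAlgHom k k' k'') (AlgHom.id k K)
        (e₁.symm (algebraMap K K₁ x))) = _
    rw [h3, Algebra.TensorProduct.map_tmul, map_one, Algebra.TensorProduct.productMap_apply_tmul,
      map_one, one_mul, AlgHom.id_apply, IsScalarTower.coe_toAlgHom']
  have hψk : ∀ c : k', ψ (algebraMap k' K₁ c) = algebraMap k' K'' c := by
    intro c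
    have h3 : e₁.symm (algebraMap k' K₁ c) = c ⊗ₜ 1 := by
      rw [AlgEquiv.symm_apply_eq]
      change _ = Algebra.TensorProduct.productMap
        (IsScalarTower.toAlgHom k k' K₁) (IsScalarTower.toAlgHom k K K₁) (c ⊗ₜ 1)
      rw [Algebra.TensorProduct.productMap_apply_tmul, map_one, mul_one,
        IsScalarTower.coe_toAlgHom']
    change Algebra.TensorProduct.productMap
      (IsScalarTower.toAlgHom k k'' K'') (IsScalarTower.toAlgHom k K K'')
      (Algebra.TensorProduct.map (IsScalarTower.toAlgHom k k' k'') (AlgHom.id k K)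
        (e₁.symm (algebraMap k' K₁ c))) = _
    rw [h3, Algebra.TensorProduct.map_tmul, map_one, Algebra.TensorProduct.productMap_apply_tmul,
      map_one, mul_one, IsScalarTower.coe_toAlgHom', IsScalarTower.coe_toAlgHom',
      ← IsScalarTower.algebraMap_apply k' k'' K'']
  letI alg : Algebra K₁ K'' := ψ.toRingHom.toAlgebra
  have t1 : IsScalarTower K K₁ K'' := IsScalarTower.of_algebraMap_eq fun x => (hψK x).symm
  have t2 : IsScalarTower k' K₁ K'' := IsScalarTower.of_algebraMap_eq fun c => (hψk c).symm
  refine ⟨alg, t1, t2, ?_⟩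
  haveI : FiniteDimensional K₁ K'' := Module.Finite.of_restrictScalars_finite K K₁ K''
  apply bijective_productMap_of_surjective
  · intro z
    obtain ⟨t, rfl⟩ := h2.2 z
    change _ ∈ (Algebra.TensorProduct.productMap
        (IsScalarTower.toAlgHom k' k'' K'') (IsScalarTower.toAlgHom k' K₁ K'')).range
    induction t using TensorProduct.induction_on with
    | zero => simp
    | tmul c x =>
      refine ⟨c ⊗ₜ (algebraMap K K₁ x), ?_⟩
      change Algebra.TensorProduct.productMap
        (IsScalarTower.toAlgHom k' k'' K'') (IsScalarTower.toAlgHom k' K₁ K'')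
        (c ⊗ₜ (algebraMap K K₁ x)) = _
      rw [Algebra.TensorProduct.productMap_apply_tmul, Algebra.TensorProduct.productMap_apply_tmul,
        IsScalarTower.coe_toAlgHom', IsScalarTower.coe_toAlgHom', IsScalarTower.coe_toAlgHom',
        IsScalarTower.coe_toAlgHom', ← IsScalarTower.algebraMap_apply K K₁ K'']
    | add a b ha hb =>
      rw [map_add]
      exact Subalgebra.add_mem _ ha hb
  · have h3 := Module.finrank_mul_finrank K K₁ K''
    rw [finrank_cExt h1, finrank_cExt h2, ← Module.finrank_mul_finrank k k' k''] at h3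
    have hn : 0 < Module.finrank k k' := Module.finrank_pos
    exact Nat.eq_of_mul_eq_mul_left hn h3

end Mid

end Groth.Agent.Lib.Helper2.GM
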