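import Mathlib
import Groth.Agent.Lib.Helper2.FunFld.GM2

set_option autoImplicit false
open scoped TensorProduct
open FunFld

namespace Groth.Agent.Lib.Helper2.GM

open Groth.Agent.Lib.Helper2.FF

universe u v

/-- a model of `k' ⊗ K` in the universe of `K` -/
theorem exists_model (k k' : Type u) (K : Type v) [Field k] [Field k'] [Field K]
    [Algebra k k'] [FiniteDimensional k k'] [Algebra k K] (hg : IsGeometric k K) :
    ∃ (K' : Type v) (_ : Field K') (_ : Algebra K K') (_ : Algebra k' K') (_ : Algebra k K')
      (_ : IsScalarTower k k' K') (_ : IsScalarTower k K K'),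
      Function.Bijective (Algebra.TensorProduct.productMap
        (IsScalarTower.toAlgHom k k' K') (IsScalarTower.toAlgHom k K K')) := by
  letI : Field (k' ⊗[k] K) := (hg k' inferInstance).toField
  letI : Algebra K (k' ⊗[k] K) := Algebra.TensorProduct.rightAlgebra
  haveI : Small.{v} (k' ⊗[k] K) := by
    let b := Module.finBasis k k'
    let f : k' ⊗[k] K → (Fin (Module.finrank k k') →₀ K) := fun t =>
      (Algebra.TensorProduct.basis K b).repr (TensorProduct.comm k k' K t)
    have hf : Function.Injective f := by
      intro a c hac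
      exact (TensorProduct.comm k k' K).injective
        ((Algebra.TensorProduct.basis K b).repr.injective hac)
    exact small_of_injective hf
  have t1 : IsScalarTower k k' (Shrink.{v} (k' ⊗[k] K)) :=
    IsScalarTower.of_algebraMap_eq fun c =>
      congrArg (equivShrink _) (IsScalarTower.algebraMap_apply k k' (k' ⊗[k] K) c)
  have t2 : IsScalarTower k K (Shrink.{v} (k' ⊗[k] K)) := by
    refine IsScalarTower.of_algebraMap_eq fun c => congrArg (equivShrink _) ?_
    rw [Algebra.algebraMap_eq_smul_one, Algebra.TensorProduct.one_def, ← TensorProduct.tmul_smul,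
      ← Algebra.algebraMap_eq_smul_one]
    rfl
  refine ⟨Shrink.{v} (k' ⊗[k] K), inferInstance, inferInstance, inferInstance, inferInstance,
    t1, t2, ?_⟩
  · let E : (k' ⊗[k] K) ≃+* Shrink.{v} (k' ⊗[k] K) := (Shrink.ringEquiv (k' ⊗[k] K)).symm
    have hE : ∀ t, Algebra.TensorProduct.productMap (IsScalarTower.toAlgHom k k' _)
        (IsScalarTower.toAlgHom k K (Shrink.{v} (k' ⊗[k] K))) t = E t := by
      intro t
      induction t using TensorProduct.induction_on with
      | zero => simp
      | tmul c x =>
        rw [Algebra.TensorProduct.productMap_apply_tmul, IsScalarTower.coe_toAlgHom',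
          IsScalarTower.coe_toAlgHom']
        have h1 : algebraMap k' (Shrink.{v} (k' ⊗[k] K)) c = E (c ⊗ₜ 1) := rfl
        have h2 : algebraMap K (Shrink.{v} (k' ⊗[k] K)) x = E (1 ⊗ₜ x) := rfl
        rw [h1, h2, ← map_mul, Algebra.TensorProduct.tmul_mul_tmul, mul_one, one_mul]
      | add a b ha hb => rw [map_add, map_add, ha, hb]
    have : (Algebra.TensorProduct.productMap (IsScalarTower.toAlgHom k k' _)
        (IsScalarTower.toAlgHom k K (Shrink.{v} (k' ⊗[k] K))) : k' ⊗[k] K → _) = E := funext hE
    rw [this]
    exact E.bijective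

end Groth.Agent.Lib.Helper2.GM
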