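import Mathlib

set_option autoImplicit false
open scoped IntermediateField

/-! Decomposition of a finite normal extension into a purely inseparable and a separable part. -/

namespace Groth.Agent.Lib.Helper2.GM

theorem fixedField_top_decomp (F M : Type*) [Field F] [Field M] [Algebra F M]
    [FiniteDimensional F M] [Normal F M] :
    IsPurelyInseparable F (IntermediateField.fixedField (⊤ : Subgroup (M ≃ₐ[F] M))) ∧
    Algebra.IsSeparable (IntermediateField.fixedField (⊤ : Subgroup (M ≃ₐ[F] M))) M := by
  set I := IntermediateField.fixedField (⊤ : Subgroup (M ≃ₐ[F] M)) with hI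
  haveI hgal : IsGalois I M := IsGalois.of_fixed_field M (⊤ : Subgroup (M ≃ₐ[F] M))
  haveI : Algebra.IsSeparable I M := hgal.to_isSeparable
  refine ⟨?_, inferInstance⟩
  have h1 := Field.finSepDegree_mul_finSepDegree_of_isAlgebraic F I M
  have h2 : Field.finSepDegree I M = Nat.card (M ≃ₐ[F] M) := by
    rw [Field.finSepDegree_eq_finrank_of_isSeparable, hI,
      IntermediateField.finrank_fixedField_eq_card]
    exact Nat.card_congr (Subgroup.topEquiv (G := M ≃ₐ[F] M)).toEquiv
  have h3 : Field.finSepDegree F M = Nat.card (M ≃ₐ[F] M) := by
    rw [Field.finSepDegree_eq_of_isAlgClosed F M (AlgebraicClosure M)]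
    exact Nat.card_congr (Normal.algHomEquivAut F (AlgebraicClosure M) M)
  rw [h2, h3] at h1
  have hpos : 0 < Nat.card (M ≃ₐ[F] M) := Nat.card_pos
  have h4 : Field.finSepDegree F I = 1 := by
    have := Nat.eq_of_mul_eq_mul_right hpos (h1.trans (one_mul _).symm)
    exact this
  exact isPurelyInseparable_of_finSepDegree_eq_one h4

universe u

/-- every finite extension embeds in a finite extension `M` with a purely inseparable
intermediate field `I` over which `M` is separable -/
theorem exists_normal_decomp (F E : Type u) [Field F] [Field E] [Algebra F E]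
    [FiniteDimensional F E] :
    ∃ (M : Type u) (_ : Field M) (_ : Algebra F M) (_ : Algebra E M) (_ : IsScalarTower F E M)
      (I : IntermediateField F M), FiniteDimensional F M ∧ IsPurelyInseparable F I ∧
        Algebra.IsSeparable I M := by
  let M := IntermediateField.normalClosure F E (AlgebraicClosure E)
  haveI : Normal F M := normalClosure.normal F E (AlgebraicClosure E)
  haveI : FiniteDimensional F M := normalClosure.is_finiteDimensional F E (AlgebraicClosure E)
  obtain ⟨h1, h2⟩ := fixedField_top_decomp F M
  exact ⟨M, inferInstance, inferInstance, inferInstance, inferInstance,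
    IntermediateField.fixedField (⊤ : Subgroup (M ≃ₐ[F] M)), inferInstance, h1, h2⟩

end Groth.Agent.Lib.Helper2.GM
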