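import Mathlib
import Groth.Agent.Lib.Helper2.FunFld.GM2m
import Groth.Agent.Lib.Helper2.FunFld.GM2s
import Groth.Agent.Lib.Helper2.FunFld.GM3
import Groth.Agent.Lib.Helper2.FunFld.NS3
import Groth.Agent.Lib.Helper2.FunFld.Ramif
import Groth.Agent.S11006
import Groth.Agent.S12534

set_option autoImplicit false
open scoped TensorProduct WithZero
open FunFld

namespace Groth.Agent.Lib.Helper2.GM

open Groth.Agent.Lib.Helper2.FF

section Sep

variable {k k' K K' : Type*} [Field k] [Field k'] [Field K] [Field K']
    [Algebra k k'] [Algebra k K] [Algebra K K'] [Algebra k' K'] [Algebra k K']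
    [IsScalarTower k k' K'] [IsScalarTower k K K']

/-- separable constant extensions: coordinate form of nonsingularity -/
theorem ns_of_separable [FiniteDimensional k k'] [Algebra.IsSeparable k k']
    (h : Function.Bijective (Algebra.TensorProduct.productMap
      (IsScalarTower.toAlgHom k k' K') (IsScalarTower.toAlgHom k K K')))
    (hK : IsFunctionField k K) (P : FunFld.Place k K) :
    ∀ z : K', (∀ Q : FunFld.Place k K', IsOver Q P → v Q z ≤ 1) →
      ∀ i, v P ((cBasis (K := K) (K' := K') (Module.finBasis k k') h).repr z i) ≤ 1 := by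
  classical
  intro z hz i
  haveI := finiteDimensional_cExt (K := K) (K' := K') h
  letI : Algebra P.O K' := ((algebraMap K K').comp (algebraMap P.O K)).toAlgebra
  haveI : IsScalarTower P.O K K' := IsScalarTower.of_algebraMap_eq fun _ => rfl
  set b := Module.finBasis k k' with hb
  set B := cBasis (K := K) (K' := K') b h with hB
  have hbB : ∀ j, ∀ i : OverP K' P, v i.1 (B j) ≤ 1 := fun j i => by
    rw [hB, cBasis_apply]
    exact v_algebraMap_const_le i.1 _
  have hd0 : Algebra.discr k b ≠ 0 := Algebra.discr_not_zero_of_basis k b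
  have hd : v P (Algebra.discr K B) = 1 := by
    rw [hB, discr_cBasis]
    exact v_algebraMap P hd0
  have hG : ∀ j l, v P (Algebra.trace K K' (B j * B l)) ≤ 1 := fun j l =>
    v_trace_le_one P hK (fun i => by
      rw [map_mul]; exact mul_le_one' (hbB j i) (hbB l i))
  have hT : ∀ l, v P (Algebra.trace K K' (z * B l)) ≤ 1 := fun l =>
    v_trace_le_one P hK (fun i => by
      rw [map_mul]; exact mul_le_one' (hz i.1 i.2) (hbB l i))
  exact v_repr_le_of_trace_le P B hG hd z 1 hT i

end Sep

end Groth.Agent.Lib.Helper2.GM
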