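import Mathlib
import Groth.Agent.Lib.Helper2.FunFld.GM4

set_option autoImplicit false
open scoped TensorProduct WithZero
open FunFld

namespace Groth.Agent.Lib.Helper2.GM

open Groth.Agent.Lib.Helper2.FF

universe u v

/-- nonsingularity of `P` with respect to the model `K'` of `k' ⊗ K` -/
abbrev NS {k : Type*} (k' : Type*) {K : Type*} (K' : Type*) [Field k] [Field k'] [Field K]
    [Field K'] [Algebra k K] [Algebra K K'] [Algebra k' K'] (P : FunFld.Place k K) : Prop :=
  integralClosure (P.O.toSubring.map (algebraMap K K')) K' =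
    Algebra.adjoin (P.O.toSubring.map (algebraMap K K')) (Set.range (algebraMap k' K'))

set_option maxHeartbeats 1600000 in
/-- (c): nonsingular with respect to all purely inseparable finite extensions implies nonsingular
with respect to all finite extensions -/
theorem ns_all_of_ns_pi {k : Type u} {K : Type v} [Field k] [Field K] [Algebra k K]
    (hK : IsFunctionField k K) (hg : IsGeometric k K)
    (hpi : ∀ (k₁ : Type u) [Field k₁] [Algebra k k₁] [FiniteDimensional k k₁]
      [IsPurelyInseparable k k₁] (K₁ : Type v) [Field K₁] [Algebra K K₁] [Algebra k₁ K₁]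
      [Algebra k K₁] [IsScalarTower k k₁ K₁] [IsScalarTower k K K₁],
      Function.Bijective (Algebra.TensorProduct.productMap
        (IsScalarTower.toAlgHom k k₁ K₁) (IsScalarTower.toAlgHom k K K₁)) →
      ∀ P : FunFld.Place k K, NS k₁ K₁ P)
    (k'' : Type u) [Field k''] [Algebra k k''] [FiniteDimensional k k'']
    (K'' : Type v) [Field K''] [Algebra K K''] [Algebra k'' K''] [Algebra k K'']
    [IsScalarTower k k'' K''] [IsScalarTower k K K'']
    (h : Function.Bijective (Algebra.TensorProduct.productMap
      (IsScalarTower.toAlgHom k k'' K'') (IsScalarTower.toAlgHom k K K'')))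
    (P : FunFld.Place k K) : NS k'' K'' P := by
  classical
  obtain ⟨M, fM, akM, ak''M, tkk''M, I, hfinM, hpiI, hsepI⟩ := exists_normal_decomp k k''
  letI := fM; letI := akM; letI := ak''M
  haveI := tkk''M; haveI := hfinM; haveI := hpiI; haveI := hsepI
  haveI : FiniteDimensional k'' M := Module.Finite.of_restrictScalars_finite k k'' M
  obtain ⟨hK'', hg''⟩ := Groth.Agent.S11006.result k k'' K K'' h hK hg
  obtain ⟨KM, fKM, aK''KM, aMKM, ak''KM, tow1, tow2, hM⟩ := exists_model k'' M K'' hg''
  letI := fKM; letI := aK''KM; letI := aMKM; letI := ak''KM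
  haveI := tow1; haveI := tow2
  letI aKKM : Algebra K KM := ((algebraMap K'' KM).comp (algebraMap K K'')).toAlgebra
  letI akKM : Algebra k KM := ((algebraMap k'' KM).comp (algebraMap k k'')).toAlgebra
  haveI t3 : IsScalarTower K K'' KM := IsScalarTower.of_algebraMap_eq fun _ => rfl
  haveI t4 : IsScalarTower k k'' KM := IsScalarTower.of_algebraMap_eq fun _ => rfl
  haveI t5 : IsScalarTower k K KM := IsScalarTower.of_algebraMap_eq fun c => by
    change algebraMap k'' KM (algebraMap k k'' c) = algebraMap K'' KM (algebraMap K K'' (algebraMap k K c))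
    rw [← IsScalarTower.algebraMap_apply k K K'', IsScalarTower.algebraMap_apply k k'' K'',
      ← IsScalarTower.algebraMap_apply k'' K'' KM]
  haveI t6 : IsScalarTower k M KM := IsScalarTower.of_algebraMap_eq fun c => by
    change algebraMap k'' KM (algebraMap k k'' c) = algebraMap M KM (algebraMap k M c)
    rw [IsScalarTower.algebraMap_apply k k'' M, ← IsScalarTower.algebraMap_apply k'' M KM]
  -- first reduction: it suffices to be nonsingular with respect to `M`
  have hiff1 := Groth.Agent.S12534.result k k'' M K K'' KM h hM hK hg P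
  suffices hNSM : NS M KM P from (hiff1.1 hNSM).1
  -- `KM` is a model of `M ⊗ K`
  have hMk : Function.Bijective (Algebra.TensorProduct.productMap
      (IsScalarTower.toAlgHom k M KM) (IsScalarTower.toAlgHom k K KM)) := bijective_tower h hM
  -- a model for the purely inseparable part
  obtain ⟨KI, fKI, aKKI, aIKI, akKI, tI1, tI2, hI⟩ := exists_model k I K hg
  letI := fKI; letI := aKKI; letI := aIKI; letI := akKI
  haveI := tI1; haveI := tI2
  obtain ⟨aKIKM, t8, t9, hIM⟩ := exists_mid_algebra (k := k) (k' := I) (k'' := M) (K := K)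
    (K₁ := KI) (K'' := KM) hI hMk
  letI := aKIKM
  haveI := t8; haveI := t9
  have hiff2 := Groth.Agent.S12534.result k I M K KI KM hI hIM hK hg P
  refine hiff2.2 ⟨hpi I KI hI P, fun Q hQ => ?_⟩
  obtain ⟨hKI, hgI⟩ := Groth.Agent.S11006.result k I K KI hI hK hg
  haveI : FiniteDimensional KI KM := finiteDimensional_cExt (k := I) (k' := M) hIM
  exact (ns_iff (k := I) hKI (isConstBasis_cBasis (K := KI) (K' := KM) (Module.finBasis I M) hIM)
    (upPlace (k := k) (k' := I) Q)).2 (ns_of_separable hIM hKI (upPlace (k := k) (k' := I) Q))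

end Groth.Agent.Lib.Helper2.GM
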