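import Mathlib
import Groth.Agent.Lib.Helper2.FunFld.GM4b
import Groth.Agent.Lib.Helper2.FunFld.GM1c

set_option autoImplicit false
open scoped TensorProduct WithZero
open FunFld

namespace Groth.Agent.Lib.Helper2.GM

open Groth.Agent.Lib.Helper2.FF

universe u v

/-- the genera of the purely inseparable finite scalar extensions -/
def piGenera (k : Type u) (K : Type v) [Field k] [Field K] [Algebra k K] : Set ℕ :=
  {n | ∃ (k' : Type u) (_ : Field k') (_ : Algebra k k') (K' : Type v) (_ : Field K')
    (_ : Algebra K K') (_ : Algebra k' K') (_ : Algebra k K') (_ : IsScalarTower k k' K')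
    (_ : IsScalarTower k K K'), FiniteDimensional k k' ∧ IsPurelyInseparable k k' ∧
      Function.Bijective (Algebra.TensorProduct.productMap
        (IsScalarTower.toAlgHom k k' K') (IsScalarTower.toAlgHom k K K')) ∧ genus k' K' = n}

theorem piGenera_nonempty (k : Type u) (K : Type v) [Field k] [Field K] [Algebra k K]
    (hg : IsGeometric k K) : (piGenera k K).Nonempty := by
  obtain ⟨K', f, a1, a2, a3, t1, t2, h⟩ := exists_model k k K hg
  exact ⟨_, k, inferInstance, inferInstance, K', f, a1, a2, a3, t1, t2, inferInstance,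
    inferInstance, h, rfl⟩

/-- all models of the same scalar extension have the same genus -/
theorem genus_model_le {k k' : Type u} {K K₁ K₂ : Type v} [Field k] [Field k'] [Field K]
    [Field K₁] [Field K₂] [Algebra k k'] [FiniteDimensional k k'] [Algebra k K]
    [Algebra K K₁] [Algebra k' K₁] [Algebra k K₁] [IsScalarTower k k' K₁] [IsScalarTower k K K₁]
    [Algebra K K₂] [Algebra k' K₂] [Algebra k K₂] [IsScalarTower k k' K₂] [IsScalarTower k K K₂]
    (hK : IsFunctionField k K) (hg : IsGeometric k K)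
    (h1 : Function.Bijective (Algebra.TensorProduct.productMap
      (IsScalarTower.toAlgHom k k' K₁) (IsScalarTower.toAlgHom k K K₁)))
    (h2 : Function.Bijective (Algebra.TensorProduct.productMap
      (IsScalarTower.toAlgHom k k' K₂) (IsScalarTower.toAlgHom k K K₂))) :
    genus k' K₂ ≤ genus k' K₁ := by
  obtain ⟨hK₁, -⟩ := Groth.Agent.S11006.result k k' K K₁ h1 hK hg
  obtain ⟨hK₂, -⟩ := Groth.Agent.S11006.result k k' K K₂ h2 hK hg
  obtain ⟨a, t1, t2, hb⟩ := exists_mid_algebra (k := k) (k' := k') (k'' := k') (K := K)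
    (K₁ := K₁) (K'' := K₂) h1 h2
  letI := a
  haveI := t1; haveI := t2
  exact genus_le hb hK₁ hK₂

set_option maxHeartbeats 1600000 in
/-- S12594: a purely inseparable finite scalar extension making the field nonsingular -/
theorem exists_pi_nonsingular (k : Type u) (K : Type v) [Field k] [Field K] [Algebra k K]
    (hK : IsFunctionField k K) (hg : IsGeometric k K) :
    ∃ (k' : Type u) (_ : Field k') (_ : Algebra k k'), FiniteDimensional k k' ∧
      IsPurelyInseparable k k' ∧
      ∀ (K' : Type v) [Field K'] [Algebra K K'] [Algebra k' K'] [Algebra k K']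
        [IsScalarTower k k' K'] [IsScalarTower k K K'],
        Function.Bijective (Algebra.TensorProduct.productMap
          (IsScalarTower.toAlgHom k k' K') (IsScalarTower.toAlgHom k K K')) →
        ∀ (Q : FunFld.Place k' K') (k'' : Type u) [Field k''] [Algebra k' k'']
          [FiniteDimensional k' k'']
          (K'' : Type v) [Field K''] [Algebra K' K''] [Algebra k'' K''] [Algebra k' K'']
          [IsScalarTower k' k'' K''] [IsScalarTower k' K' K''],
          Function.Bijective (Algebra.TensorProduct.productMap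
            (IsScalarTower.toAlgHom k' k'' K'') (IsScalarTower.toAlgHom k' K' K'')) →
          NS k'' K'' Q := by
  classical
  have hmem := Nat.sInf_mem (piGenera_nonempty k K hg)
  obtain ⟨k₀, f₀, a₀, K₀, fK₀, aKK₀, ak₀K₀, akK₀, tA, tB, hfin₀, hpi₀, hb₀, hgen₀⟩ := hmem
  letI := f₀; letI := a₀; letI := fK₀; letI := aKK₀; letI := ak₀K₀; letI := akK₀
  haveI := tA; haveI := tB; haveI := hfin₀; haveI := hpi₀
  refine ⟨k₀, f₀, a₀, hfin₀, hpi₀, ?_⟩
  intro K' _ _ _ _ _ _ hb' Q k'' _ _ _ K'' _ _ _ _ _ _ hb''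
  obtain ⟨hK', hg'⟩ := Groth.Agent.S11006.result k k₀ K K' hb' hK hg
  have hgen' : genus k₀ K' = sInf (piGenera k K) :=
    le_antisymm ((genus_model_le hK hg hb₀ hb').trans_eq hgen₀)
      (Nat.sInf_le ⟨k₀, f₀, a₀, K', inferInstance, inferInstance, inferInstance, inferInstance,
        inferInstance, inferInstance, hfin₀, hpi₀, hb', rfl⟩)
  refine ns_all_of_ns_pi hK' hg' ?_ k'' K'' hb'' Q
  intro k₁ _ _ _ _ K₁ _ _ _ _ _ _ hb₁ Q₁
  letI : Algebra k k₁ := ((algebraMap k₀ k₁).comp (algebraMap k k₀)).toAlgebra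
  haveI : IsScalarTower k k₀ k₁ := IsScalarTower.of_algebraMap_eq fun _ => rfl
  letI : Algebra K K₁ := ((algebraMap K' K₁).comp (algebraMap K K')).toAlgebra
  haveI : IsScalarTower K K' K₁ := IsScalarTower.of_algebraMap_eq fun _ => rfl
  letI : Algebra k K₁ := ((algebraMap k₁ K₁).comp (algebraMap k k₁)).toAlgebra
  haveI : IsScalarTower k k₁ K₁ := IsScalarTower.of_algebraMap_eq fun _ => rfl
  haveI : IsScalarTower k K K₁ := IsScalarTower.of_algebraMap_eq fun c => by
    change algebraMap k₁ K₁ (algebraMap k₀ k₁ (algebraMap k k₀ c)) =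
      algebraMap K' K₁ (algebraMap K K' (algebraMap k K c))
    rw [← IsScalarTower.algebraMap_apply k K K', IsScalarTower.algebraMap_apply k k₀ K',
      ← IsScalarTower.algebraMap_apply k₀ K' K₁, ← IsScalarTower.algebraMap_apply k₀ k₁ K₁]
  have hb₁k : Function.Bijective (Algebra.TensorProduct.productMap
      (IsScalarTower.toAlgHom k k₁ K₁) (IsScalarTower.toAlgHom k K K₁)) := bijective_tower hb' hb₁
  haveI : FiniteDimensional k k₁ := Module.Finite.trans k₀ k₁
  haveI : IsPurelyInseparable k k₁ := IsPurelyInseparable.trans k k₀ k₁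
  have hge : sInf (piGenera k K) ≤ genus k₁ K₁ :=
    Nat.sInf_le ⟨k₁, inferInstance, inferInstance, K₁, inferInstance, inferInstance, inferInstance,
      inferInstance, inferInstance, inferInstance, inferInstance, inferInstance, hb₁k, rfl⟩
  obtain ⟨hK₁, -⟩ := Groth.Agent.S11006.result k₀ k₁ K' K₁ hb₁ hK' hg'
  have hle := genus_le hb₁ hK' hK₁
  have heq : genus k₁ K₁ = genus k₀ K' := le_antisymm hle (hgen' ▸ hge)
  haveI := finiteDimensional_cExt (K := K') (K' := K₁) hb₁
  exact (ns_iff hK' (isConstBasis_cBasis (K := K') (K' := K₁) (Module.finBasis k₀ k₁) hb₁) Q₁).2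
    (ns_of_genus_eq hb₁ hK' hK₁ heq Q₁)

end Groth.Agent.Lib.Helper2.GM
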