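import Mathlib
import Groth.Agent.Lib.Helper2.FunFld.GP3
import Groth.Agent.Lib.Helper2.FunFld.SepPl
import Groth.Agent.Lib.Helper26.PlaneModel2

set_option autoImplicit false
open scoped WithZero IntermediateField TensorProduct
open FunFld Polynomial IntermediateField
open scoped IntermediateField.algebraAdjoinAdjoin

namespace Groth.Agent.Lib.Helper2.FF

section Assembly

variable {k k' K K' : Type*} [Field k] [Field k'] [Field K] [Field K']
    [Algebra k k'] [Algebra k K] [Algebra K K'] [Algebra k' K'] [Algebra k K']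
    [IsScalarTower k k' K'] [IsScalarTower k K K']

omit [Algebra k k'] [IsScalarTower k k' K'] [IsScalarTower k K K'] [Algebra k K'] in
theorem algebraMap_mem_SP (P : FunFld.Place k K) {a : K} (ha : v P a ≤ 1) :
    algebraMap K K' a ∈
      Algebra.adjoin (P.O.toSubring.map (algebraMap K K')) (Set.range (algebraMap k' K')) := by
  have : algebraMap K K' a = algebraMap (P.O.toSubring.map (algebraMap K K')) K'
      ⟨algebraMap K K' a, ⟨a, (mem_O_iff P _).2 ha, rfl⟩⟩ := rfl
  rw [this]
  exact Subalgebra.algebraMap_mem _ _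

/-- `k'[t'][y'] ⊆ O_P[k']` when `t` and `y` are integral at `P` -/
theorem adjoin_le_SP (P : FunFld.Place k K) {t y : K} (htP : v P t ≤ 1) (hyP : v P y ≤ 1)
    {x : K'} (hx : x ∈ Algebra.adjoin (Algebra.adjoin k' ({algebraMap K K' t} : Set K'))
      ({algebraMap K K' y} : Set K')) :
    x ∈ Algebra.adjoin (P.O.toSubring.map (algebraMap K K')) (Set.range (algebraMap k' K')) := by
  induction hx using Algebra.adjoin_induction with
  | mem x hx =>
    rw [Set.mem_singleton_iff] at hx
    rw [hx]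
    exact algebraMap_mem_SP P hyP
  | algebraMap a =>
    obtain ⟨a, ha⟩ := a
    change a ∈ _
    induction ha using Algebra.adjoin_induction with
    | mem x hx =>
      rw [Set.mem_singleton_iff] at hx
      rw [hx]
      exact algebraMap_mem_SP P htP
    | algebraMap c => exact Algebra.subset_adjoin ⟨c, rfl⟩
    | add x y _ _ hx hy => exact add_mem hx hy
    | mul x y _ _ hx hy => exact mul_mem hx hy
  | add x y _ _ hx hy => exact add_mem hx hy
  | mul x y _ _ hx hy => exact mul_mem hx hy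

set_option maxHeartbeats 1000000 in
/-- **a place where `t` is integral and the discriminant is a unit is nonsingular** -/
theorem ns_of_good [FiniteDimensional k k'] [FiniteDimensional K K']
    (h : Function.Bijective (Algebra.TensorProduct.productMap
      (IsScalarTower.toAlgHom k k' K') (IsScalarTower.toAlgHom k K K')))
    (hK : IsFunctionField k K) {t : K} (ht : Transcendental k t) [FiniteDimensional k⟮t⟯ K]
    (y : K) (Dt : k[X]) (w : K)
    (hyadj : Algebra.adjoin k⟮t⟯ ({y} : Set K) = ⊤)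
    (hyint : IsIntegral (Algebra.adjoin k ({t} : Set K)) y)
    (hgauss : minpoly k⟮t⟯ y = (minpoly (Algebra.adjoin k ({t} : Set K)) y).map
        (algebraMap (Algebra.adjoin k ({t} : Set K)) k⟮t⟯))
    (hw : w ∈ Algebra.adjoin k ({t, y} : Set K))
    (hwD : w * aeval y (derivative (minpoly k⟮t⟯ y)) = aeval t Dt)
    (P : FunFld.Place k K) (htP : v P t ≤ 1) (hDP : v P (aeval t Dt) = 1) :
    integralClosure (P.O.toSubring.map (algebraMap K K')) K' =
      Algebra.adjoin (P.O.toSubring.map (algebraMap K K')) (Set.range (algebraMap k' K')) := by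
  classical
  have hB := isConstBasis_cBasis (K := K) (K' := K') (Module.finBasis k k') h
  rw [ns_iff hK hB P]
  intro z hz
  rw [← mem_adjoin_iff_repr hB P]
  have hL : IsFunctionField k k⟮t⟯ :=
    Groth.Agent.Lib.Helper26.PlaneModel2.isFunctionField_adjoin hK ht
  haveI : FiniteDimensional k⟮t⟯ K' := Module.Finite.trans K K'
  obtain ⟨P₀, e, he⟩ := exists_isOverWith hL P
  obtain ⟨s, hsP, hs⟩ := exists_unit_mul_integral hL hK P₀ P ⟨e, he⟩ z (fun Q hQ => hz Q hQ)
  letI : Algebra P₀.O K' := ((algebraMap k⟮t⟯ K').comp P₀.O.subtype).toAlgebra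
  haveI : IsScalarTower P₀.O k⟮t⟯ K' := IsScalarTower.of_algebraMap_eq (fun _ => rfl)
  obtain ⟨b, hbdef⟩ : ∃ b : K', b = s • z := ⟨_, rfl⟩
  have hbint : IsIntegral P₀.O b := by
    rw [← mem_integralClosure_iff, integralClosure_eq_BP (K' := K') P₀ hL, mem_BP]
    intro i
    rw [hbdef]
    exact hs i.1 i.2
  obtain ⟨p, hpm, hp⟩ := hbint
  obtain ⟨n, hn⟩ : ∃ n, n = p.natDegree := ⟨_, rfl⟩
  -- coefficients
  have hcoef : ∀ i : ℕ, ∃ nu de : k[X], v P (aeval t de) = 1 ∧
      (((p.coeff i : P₀.O) : k⟮t⟯) : K) * aeval t de = aeval t nu := by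
    intro i
    apply exists_num_den P htP (SetLike.coe_mem _)
    have := he ((p.coeff i : P₀.O) : k⟮t⟯)
    change P.1 (algebraMap k⟮t⟯ K ((p.coeff i : P₀.O) : k⟮t⟯)) ≤ 1
    rw [this]
    exact pow_le_one' ((mem_O_iff P₀ _).1 (p.coeff i).2) e
  choose nu de hde hnude using hcoef
  obtain ⟨u, hu⟩ : ∃ u : k[X], u = ∏ i : Fin n, de i := ⟨_, rfl⟩
  have huP : v P (aeval t u) = 1 := by
    rw [hu, map_prod, map_prod]
    exact Finset.prod_eq_one fun i _ => hde i
  obtain ⟨U, hUdef⟩ : ∃ U : K', U = algebraMap K K' (aeval t u) := ⟨_, rfl⟩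
  have hrel : b ^ n + ∑ i : Fin n,
      algebraMap K K' (((p.coeff i : P₀.O) : k⟮t⟯) : K) * b ^ (i : ℕ) = 0 := by
    rw [Polynomial.eval₂_eq_sum_range, ← hn, Finset.sum_range_succ, hn, hpm.coeff_natDegree,
      map_one, one_mul, add_comm, ← hn] at hp
    rw [← hp, ← Finset.sum_range (fun i => algebraMap K K' (((p.coeff i : P₀.O) : k⟮t⟯) : K) * b ^ i)]
    rfl
  have hUint : IsIntegral (Algebra.adjoin k' ({algebraMap K K' t} : Set K')) (U * b) := by
    refine isIntegral_mul_of_coeffs b n _ hrel U fun i => ?_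
    obtain ⟨m, hm⟩ : ∃ m, n - (i : ℕ) = m + 1 := ⟨n - (i : ℕ) - 1, by have := i.2; omega⟩
    have hmem : algebraMap K K' (aeval t (nu i * (∏ j ∈ Finset.univ.erase i, de j) *
        u ^ m)) ∈ Algebra.adjoin k' ({algebraMap K K' t} : Set K') := by
      apply map_mem_adjoin (k := k) (k' := k') rfl
      rw [Algebra.adjoin_singleton_eq_range_aeval]
      exact ⟨_, rfl⟩
    refine ⟨⟨_, hmem⟩, ?_⟩
    change algebraMap K K' _ = _
    have h1 : u = de i * ∏ j ∈ Finset.univ.erase i, de j := by
      rw [hu, Finset.mul_prod_erase _ (fun j : Fin n => de (j : ℕ)) (Finset.mem_univ i)]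
    rw [hm, pow_succ, hUdef, ← map_pow, ← map_mul, ← map_mul]
    congr 1
    rw [map_mul, map_mul, ← hnude i, map_pow]
    have h3 : aeval t u = aeval t (de i) * aeval t (∏ j ∈ Finset.univ.erase i, de j) := by
      conv_lhs => rw [h1, map_mul]
    obtain ⟨A, hA⟩ : ∃ A : K, A = aeval t u ^ m := ⟨_, rfl⟩
    rw [← hA]
    conv_rhs => rw [h3]
    ring
  have hD0 : aeval t Dt ≠ 0 := by
    intro h0
    rw [h0, map_zero] at hDP
    exact zero_ne_one hDP
  have hgood := good_mul_mem (k := k) (k' := k') (K := K) (K' := K') h.2 ht y Dt w hyadj hyint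
    hgauss hw hwD hD0 rfl rfl hUint
  have hyP : v P y ≤ 1 := by
    refine v_le_one_of_isIntegral (v P) (fun r => ?_) hyint
    change v P (r : K) ≤ 1
    rw [coe_eq_aeval_symm ht r]
    exact w_aeval_le_one P.1 P.2.1 htP _
  have hmem := adjoin_le_SP (k := k) (k' := k') P htP hyP hgood
  obtain ⟨ε, hε⟩ : ∃ ε : K, ε = aeval t Dt * aeval t u * s := ⟨_, rfl⟩
  have hεP : v P ε = 1 := by
    rw [hε, map_mul, map_mul, hDP, huP, hsP, one_mul, one_mul]
  have hε0 : ε ≠ 0 := by
    intro h0
    rw [h0, map_zero] at hεP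
    exact zero_ne_one hεP
  have hz'' : algebraMap K K' (aeval t Dt) * (U * b) = algebraMap K K' ε * z := by
    rw [hUdef, hbdef, Algebra.smul_def, hε, map_mul, map_mul]; ring
  have hz' : z = algebraMap K K' ε⁻¹ * (algebraMap K K' (aeval t Dt) * (U * b)) := by
    rw [hz'', ← mul_assoc, ← map_mul, inv_mul_cancel₀ hε0, map_one, one_mul]
  rw [hz']
  refine mul_mem (algebraMap_mem_SP P ?_) hmem
  rw [map_inv₀, hεP, inv_one]

end Assembly

end Groth.Agent.Lib.Helper2.FF
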