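import Mathlib
import Groth.Agent.Lib.Helper2.FunFld.Gaps
import Groth.Agent.Lib.Helper2.FunFld.WeilK

set_option autoImplicit false
open scoped WithZero
open FunFld Polynomial

namespace Groth.Agent.Lib.Helper2.GS

open Groth.Agent.Lib.Helper2.FF

variable {k K : Type*} [Field k] [Field K] [Algebra k K]

/-- at a place of degree one the constants fill the residue field -/
theorem bijective_algebraMap_residue (P : FunFld.Place k K) (hP : P.deg = 1) :
    Function.Bijective (Algebra.ofId k (IsLocalRing.ResidueField P.O)) := by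
  refine ⟨(algebraMap k (IsLocalRing.ResidueField P.O)).injective, ?_⟩
  have h1 : Module.finrank k (IsLocalRing.ResidueField P.O) = 1 := hP
  have h2 := Subalgebra.bot_eq_top_of_finrank_eq_one h1
  intro x
  have h3 : x ∈ (⊥ : Subalgebra k (IsLocalRing.ResidueField P.O)) := by rw [h2]; trivial
  obtain ⟨a, ha⟩ := Algebra.mem_bot.1 h3
  exact ⟨a, ha⟩

/-- the residue map to `k` at a place of degree one -/
noncomputable def resk (P : FunFld.Place k K) (hP : P.deg = 1) : P.O →ₐ[k] k :=
  ((AlgEquiv.ofBijective (Algebra.ofId k (IsLocalRing.ResidueField P.O))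
    (bijective_algebraMap_residue P hP)).symm : IsLocalRing.ResidueField P.O →ₐ[k] k).comp
    (resAlg P)

theorem resk_eq_zero_iff (P : FunFld.Place k K) (hP : P.deg = 1) (x : P.O) :
    resk P hP x = 0 ↔ v P (x : K) < 1 := by
  rw [← resAlg_eq_zero_iff]
  unfold resk
  rw [AlgHom.comp_apply]
  exact (AlgEquiv.ofBijective (Algebra.ofId k (IsLocalRing.ResidueField P.O))
    (bijective_algebraMap_residue P hP)).symm.map_eq_zero_iff

/-- the residue of an element of `K`, zero when not integral -/
noncomputable def rho (P : FunFld.Place k K) (hP : P.deg = 1) (u : K) : k := by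
  classical
  exact if h : v P u ≤ 1 then resk P hP ⟨u, (mem_O_iff P u).2 h⟩ else 0

section

variable (P : FunFld.Place k K) (hP : P.deg = 1)

theorem rho_of_le {u : K} (h : v P u ≤ 1) :
    rho P hP u = resk P hP ⟨u, (mem_O_iff P u).2 h⟩ := by
  unfold rho
  rw [dif_pos h]

theorem rho_add {u w : K} (hu : v P u ≤ 1) (hw : v P w ≤ 1) :
    rho P hP (u + w) = rho P hP u + rho P hP w := by
  have huw : v P (u + w) ≤ 1 := (Valuation.map_add _ _ _).trans (max_le hu hw)
  rw [rho_of_le P hP hu, rho_of_le P hP hw, rho_of_le P hP huw, ← map_add]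
  rfl

theorem rho_mul {u w : K} (hu : v P u ≤ 1) (hw : v P w ≤ 1) :
    rho P hP (u * w) = rho P hP u * rho P hP w := by
  have huw : v P (u * w) ≤ 1 := by
    rw [map_mul]; exact mul_le_one' hu hw
  rw [rho_of_le P hP hu, rho_of_le P hP hw, rho_of_le P hP huw, ← map_mul]
  rfl

theorem rho_algebraMap (c : k) : rho P hP (algebraMap k K c) = c := by
  rw [rho_of_le P hP (v_algebraMap_le P c)]
  exact (resk P hP).commutes c

theorem rho_zero : rho P hP 0 = 0 := by
  have := rho_algebraMap P hP (0 : k)
  rwa [map_zero] at this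

theorem rho_one : rho P hP 1 = 1 := by
  have := rho_algebraMap P hP (1 : k)
  rwa [map_one] at this

theorem rho_eq_zero_iff {u : K} (hu : v P u ≤ 1) : rho P hP u = 0 ↔ v P u < 1 := by
  rw [rho_of_le P hP hu, resk_eq_zero_iff]

theorem rho_of_lt {u : K} (hu : v P u < 1) : rho P hP u = 0 :=
  (rho_eq_zero_iff P hP hu.le).2 hu

theorem rho_ne_zero_iff {u : K} (hu : v P u ≤ 1) : rho P hP u ≠ 0 ↔ v P u = 1 := by
  rw [Ne, rho_eq_zero_iff P hP hu, not_lt]
  exact ⟨fun h => le_antisymm hu h, fun h => h.ge⟩

theorem v_eq_one_of_rho_ne_zero {u : K} (h : rho P hP u ≠ 0) : v P u = 1 := by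
  by_cases hu : v P u ≤ 1
  · exact (rho_ne_zero_iff P hP hu).1 h
  · exfalso
    apply h
    unfold rho
    rw [dif_neg hu]

theorem rho_smul (c : k) {u : K} (hu : v P u ≤ 1) : rho P hP (c • u) = c * rho P hP u := by
  rw [Algebra.smul_def, rho_mul P hP (v_algebraMap_le P c) hu, rho_algebraMap]

theorem rho_sum {ι : Type*} (s : Finset ι) (f : ι → K) (h : ∀ i ∈ s, v P (f i) ≤ 1) :
    rho P hP (∑ i ∈ s, f i) = ∑ i ∈ s, rho P hP (f i) := by
  classical
  induction s using Finset.induction_on with
  | empty => simp [rho_zero]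
  | insert a s ha ih =>
    rw [Finset.sum_insert ha, Finset.sum_insert ha,
      rho_add P hP (h a (Finset.mem_insert_self a s))
        (Valuation.map_sum_le _ fun i hi => h i (Finset.mem_insert_of_mem hi)),
      ih fun i hi => h i (Finset.mem_insert_of_mem hi)]

end

end Groth.Agent.Lib.Helper2.GS
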