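import Mathlib
import Groth.Prelude.Def_W4c6gradedringsgwSect
import Groth.Agent.Lib.Helper2.FunFld.GS1

set_option autoImplicit false
open scoped WithZero
open FunFld Polynomial W4c6gradedringsgw

namespace Groth.Agent.Lib.Helper2.GS

open Groth.Agent.Lib.Helper2.FF

variable {k K : Type*} [Field k] [Field K] [Algebra k K]

theorem smul_single_eq (P : FunFld.Place k K) (n : ℤ) :
    n • (Finsupp.single P 1 : Divisor k K) = nP P n := by
  rw [Finsupp.smul_single, smul_eq_mul, mul_one]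

theorem mem_poleOrders_iff_ell (P : FunFld.Place k K) (n : ℕ) :
    n ∈ poleOrders P ↔ ell (nP P (n : ℤ)) = ell (nP P ((n : ℤ) - 1)) + 1 := by
  unfold poleOrders
  rw [Set.mem_ofPred_eq, smul_single_eq, smul_single_eq]

theorem mem_poleOrders_iff_not_isGap (hK : IsFunctionField k K) (P : FunFld.Place k K)
    (hP : P.deg = 1) (n : ℕ) : n ∈ poleOrders P ↔ ¬ IsGap P n := by
  rw [mem_poleOrders_iff_ell]
  rcases n with _ | n
  · have h1 : nP P ((0 : ℕ) : ℤ) = 0 := by simp [nP]
    have h2 : ell (nP P (((0 : ℕ) : ℤ) - 1)) = 0 :=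
      ell_eq_zero_of_deg_neg hK (by rw [deg_nP, hP]; simp)
    have h3 : L (nP P (((0 : ℕ) : ℤ) - 1)) = ⊥ :=
      L_eq_bot_of_deg_neg hK (by rw [deg_nP, hP]; simp)
    rw [h1, h2, ell_zero hK]
    refine ⟨fun _ => ?_, fun _ => rfl⟩
    intro hgap
    have h4 : L (nP P ((0 : ℕ) : ℤ)) = L (nP P (((0 : ℕ) : ℤ) - 1)) := hgap
    rw [h3, h1, L_zero hK] at h4
    have : (1 : K) ∈ (1 : Submodule k K) := Submodule.one_le.1 le_rfl
    rw [h4] at this
    exact one_ne_zero ((Submodule.mem_bot k).1 this)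
  · have h1 := ell_nP_succ hK P hP n
    have h2 : ((n + 1 : ℕ) : ℤ) = (n : ℤ) + 1 := by push_cast; rfl
    rw [h2, add_sub_cancel_right, h1]
    by_cases hg : IsGap P (n + 1)
    · rw [if_pos hg]
      simp [hg]
    · rw [if_neg hg]
      simp [hg]

theorem mem_poleOrders_iff (hK : IsFunctionField k K) (P : FunFld.Place k K)
    (hP : P.deg = 1) (n : ℕ) :
    n ∈ poleOrders P ↔ ∃ z : K, z ∈ L (nP P (n : ℤ)) ∧ v P z = WithZero.exp (n : ℤ) := by
  rw [mem_poleOrders_iff_not_isGap hK P hP, not_isGap_iff]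
  constructor
  · rintro ⟨z, hz0, hzL, hzo⟩
    refine ⟨z, hzL, ?_⟩
    rw [v_eq_exp_neg_ord P hz0, hzo, neg_neg]
  · rintro ⟨z, hzL, hv⟩
    have hz0 : z ≠ 0 := by
      intro h
      rw [h, map_zero] at hv
      exact WithZero.exp_ne_zero hv.symm
    refine ⟨z, hz0, hzL, ?_⟩
    rw [ord_eq_iff P hz0, neg_neg, hv]

theorem zero_mem_poleOrders (hK : IsFunctionField k K) (P : FunFld.Place k K)
    (hP : P.deg = 1) : 0 ∈ poleOrders P := by
  rw [mem_poleOrders_iff hK P hP]
  refine ⟨1, ?_, by simp⟩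
  have h1 : nP P ((0 : ℕ) : ℤ) = 0 := by simp [nP]
  rw [h1, L_zero hK]
  exact Submodule.one_le.1 le_rfl

theorem add_mem_poleOrders (hK : IsFunctionField k K) (P : FunFld.Place k K)
    (hP : P.deg = 1) {m n : ℕ} (hm : m ∈ poleOrders P) (hn : n ∈ poleOrders P) :
    m + n ∈ poleOrders P := by
  rw [mem_poleOrders_iff_not_isGap hK P hP] at hm hn ⊢
  exact not_isGap_add P hm hn

theorem one_not_mem_poleOrders (hK : IsFunctionField k K) (hg : 0 < genus k K)
    (P : FunFld.Place k K) (hP : P.deg = 1) : 1 ∉ poleOrders P := by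
  rw [mem_poleOrders_iff_ell]
  have h1 : nP P (((1 : ℕ) : ℤ) - 1) = 0 := by simp [nP]
  have h2 : ell (nP P ((1 : ℕ) : ℤ)) = 1 := by
    have := ell_single_eq_one hK hg P hP
    simpa [nP] using this
  rw [h1, h2, ell_zero hK]
  omega

theorem mem_poleOrders_of_ge (hK : IsFunctionField k K) (P : FunFld.Place k K)
    (hP : P.deg = 1) {n : ℕ} (hn : 2 * genus k K ≤ n) : n ∈ poleOrders P := by
  rw [mem_poleOrders_iff_ell]
  have h1 := ell_eq_of_deg_ge hK (nP P (n : ℤ)) (by rw [deg_nP, hP]; push_cast; omega)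
  have h2 := ell_eq_of_deg_ge hK (nP P ((n : ℤ) - 1)) (by rw [deg_nP, hP]; push_cast; omega)
  rw [deg_nP, hP] at h1 h2
  push_cast at h1 h2
  have : (ell (nP P (n : ℤ)) : ℤ) = ell (nP P ((n : ℤ) - 1)) + 1 := by
    rw [h1, h2]; ring
  exact_mod_cast this

/-- the Weierstrass semigroup as a submonoid of `ℕ` -/
def poleMonoid (hK : IsFunctionField k K) (P : FunFld.Place k K) (hP : P.deg = 1) :
    AddSubmonoid ℕ where
  carrier := poleOrders P
  add_mem' := add_mem_poleOrders hK P hP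
  zero_mem' := zero_mem_poleOrders hK P hP

theorem closure_poleOrders (hK : IsFunctionField k K) (P : FunFld.Place k K) (hP : P.deg = 1) :
    AddSubmonoid.closure (poleOrders P) = poleMonoid hK P hP :=
  AddSubmonoid.closure_eq (poleMonoid hK P hP)

theorem mem_closure_poleOrders (hK : IsFunctionField k K) (P : FunFld.Place k K)
    (hP : P.deg = 1) (n : ℕ) : n ∈ AddSubmonoid.closure (poleOrders P) ↔ n ∈ poleOrders P := by
  rw [closure_poleOrders hK P hP]
  rfl

/-- `L(P) = k` in positive genus -/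
theorem exists_eq_algebraMap_of_mem_L_single (hK : IsFunctionField k K) (hg : 0 < genus k K)
    (P : FunFld.Place k K) (hP : P.deg = 1) {a : K}
    (ha : a ∈ L (Finsupp.single P 1 : Divisor k K)) : ∃ c : k, a = algebraMap k K c := by
  classical
  have hnonneg : (0 : Divisor k K) ≤ Finsupp.single P 1 := by
    intro Q; rw [Finsupp.single_apply]; split_ifs <;> simp
  have hle : L (0 : Divisor k K) ≤ L (Finsupp.single P 1 : Divisor k K) := L_mono hnonneg
  have := finiteDimensional_L hK (Finsupp.single P 1 : Divisor k K)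
  have heq : L (0 : Divisor k K) = L (Finsupp.single P 1 : Divisor k K) := by
    apply Submodule.eq_of_le_of_finrank_eq hle
    rw [← ell_def, ← ell_def, ell_zero hK, ell_single_eq_one hK hg P hP]
  rw [← heq, L_zero hK, Submodule.one_eq_range, LinearMap.mem_range] at ha
  obtain ⟨c, hc⟩ := ha
  exact ⟨c, by rw [← hc]; simp [Algebra.linearMap_apply]⟩

end Groth.Agent.Lib.Helper2.GS
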