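import Mathlib
import Groth.Agent.Lib.Helper2.FunFld.GS2

set_option autoImplicit false
open scoped WithZero
open FunFld Polynomial W4c6gradedringsgw

namespace Groth.Agent.Lib.Helper2.GS

open Groth.Agent.Lib.Helper2.FF

variable {k K : Type*} [Field k] [Field K] [Algebra k K]

section

variable (P : FunFld.Place k K) (hP : P.deg = 1) {π : K} (hπ : v P π = WithZero.exp (-1 : ℤ))

theorem mem_sectRing_iff (p : K[X]) :
    p ∈ sectRing (Finsupp.single P 1 : Divisor k K) ↔ ∀ n : ℕ, p.coeff n ∈ L (nP P (n : ℤ)) := by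
  constructor
  · intro h n
    have := h n
    rwa [smul_single_eq] at this
  · intro h n
    rw [smul_single_eq]
    exact h n

theorem v_coeff_le {p : K[X]} (hp : p ∈ sectRing (Finsupp.single P 1 : Divisor k K)) (n : ℕ) :
    v P (p.coeff n) ≤ WithZero.exp (n : ℤ) := by
  have := (mem_sectRing_iff P p).1 hp n P
  rwa [nP_apply_self] at this

include hπ in
theorem v_pow_pi (n : ℕ) : v P (π ^ n) = WithZero.exp (-(n : ℤ)) := by
  rw [map_pow, hπ, ← WithZero.exp_nsmul]
  congr 1
  simp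

include hπ in
theorem v_mul_pow_pi (z : K) (n : ℕ) : v P (z * π ^ n) = v P z * WithZero.exp (-(n : ℤ)) := by
  rw [map_mul, v_pow_pi P hπ]

include hπ in
theorem v_mul_pow_le_iff (z : K) (n : ℕ) :
    v P (z * π ^ n) ≤ 1 ↔ v P z ≤ WithZero.exp (n : ℤ) := by
  rw [v_mul_pow_pi P hπ, WithZero.exp_neg, ← div_eq_mul_inv,
    div_le_iff₀ (WithZero.exp_pos), one_mul]

include hπ in
theorem v_mul_pow_lt_iff (z : K) (n : ℕ) :
    v P (z * π ^ n) < 1 ↔ v P z < WithZero.exp (n : ℤ) := by
  rw [v_mul_pow_pi P hπ, WithZero.exp_neg, ← div_eq_mul_inv,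
    div_lt_iff₀ (WithZero.exp_pos), one_mul]

include hπ in
theorem v_mul_pow_eq_iff (z : K) (n : ℕ) :
    v P (z * π ^ n) = 1 ↔ v P z = WithZero.exp (n : ℤ) := by
  rw [v_mul_pow_pi P hπ, WithZero.exp_neg, ← div_eq_mul_inv,
    div_eq_iff (WithZero.exp_ne_zero), one_mul]

include hπ in
theorem v_coeff_mul_pow_le {p : K[X]} (hp : p ∈ sectRing (Finsupp.single P 1 : Divisor k K))
    (n : ℕ) : v P (p.coeff n * π ^ n) ≤ 1 :=
  (v_mul_pow_le_iff P hπ _ n).2 (v_coeff_le P hp n)

/-- the leading-coefficient polynomial -/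
noncomputable def phiFun (π : K) (p : K[X]) : k[X] :=
  ∑ n ∈ p.support, monomial n (rho P hP (p.coeff n * π ^ n))

theorem coeff_phiFun (π : K) (p : K[X]) (n : ℕ) :
    (phiFun P hP π p).coeff n = rho P hP (p.coeff n * π ^ n) := by
  unfold phiFun
  rw [finsetSum_coeff]
  simp only [coeff_monomial]
  rw [Finset.sum_ite_eq' p.support n]
  split_ifs with h
  · rfl
  · rw [notMem_support_iff.1 h, zero_mul, rho_zero]

/-- the leading-coefficient homomorphism `R_P → k[X]` -/
noncomputable def Phi : sectRing (Finsupp.single P 1 : Divisor k K) →ₐ[k] k[X] where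
  toFun p := phiFun P hP π p.1
  map_one' := by
    ext n
    rw [coeff_phiFun]
    change rho P hP ((1 : K[X]).coeff n * π ^ n) = _
    rw [coeff_one, coeff_one]
    split_ifs with h
    · subst h
      rw [pow_zero, mul_one, rho_one]
    · rw [zero_mul, rho_zero]
  map_mul' p q := by
    ext n
    rw [coeff_phiFun]
    change rho P hP ((p.1 * q.1).coeff n * π ^ n) = _
    rw [coeff_mul, coeff_mul, Finset.sum_mul]
    have hterm : ∀ x ∈ Finset.HasAntidiagonal.antidiagonal n, p.1.coeff x.1 * q.1.coeff x.2 * π ^ n =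
        (p.1.coeff x.1 * π ^ x.1) * (q.1.coeff x.2 * π ^ x.2) := by
      intro x hx
      rw [← Finset.HasAntidiagonal.mem_antidiagonal.1 hx, pow_add]
      ring
    rw [Finset.sum_congr rfl hterm, rho_sum]
    · refine Finset.sum_congr rfl fun x _ => ?_
      rw [rho_mul P hP (v_coeff_mul_pow_le P hπ p.2 _) (v_coeff_mul_pow_le P hπ q.2 _),
        coeff_phiFun, coeff_phiFun]
    · intro x _
      rw [map_mul]
      exact mul_le_one' (v_coeff_mul_pow_le P hπ p.2 _) (v_coeff_mul_pow_le P hπ q.2 _)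
  map_zero' := by
    ext n
    rw [coeff_phiFun]
    change rho P hP ((0 : K[X]).coeff n * π ^ n) = _
    rw [coeff_zero, zero_mul, rho_zero, coeff_zero]
  map_add' p q := by
    ext n
    rw [coeff_phiFun]
    change rho P hP ((p.1 + q.1).coeff n * π ^ n) = _
    rw [coeff_add, add_mul, rho_add P hP (v_coeff_mul_pow_le P hπ p.2 _)
      (v_coeff_mul_pow_le P hπ q.2 _), coeff_add, coeff_phiFun, coeff_phiFun]
  commutes' c := by
    ext n
    rw [coeff_phiFun]
    change rho P hP ((algebraMap k K[X] c).coeff n * π ^ n) = _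
    rw [Polynomial.algebraMap_apply, Polynomial.algebraMap_apply, coeff_C, coeff_C]
    split_ifs with h
    · subst h
      rw [pow_zero, mul_one, Algebra.algebraMap_self_apply, rho_algebraMap]
    · rw [zero_mul, rho_zero]

theorem coeff_Phi (p : sectRing (Finsupp.single P 1 : Divisor k K)) (n : ℕ) :
    (Phi P hP hπ p).coeff n = rho P hP (p.1.coeff n * π ^ n) :=
  coeff_phiFun P hP π p.1 n

theorem coeff_Phi_eq_zero_iff (p : sectRing (Finsupp.single P 1 : Divisor k K)) (n : ℕ) :
    (Phi P hP hπ p).coeff n = 0 ↔ v P (p.1.coeff n) < WithZero.exp (n : ℤ) := by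
  rw [coeff_Phi, rho_eq_zero_iff P hP (v_coeff_mul_pow_le P hπ p.2 n), v_mul_pow_lt_iff P hπ]

theorem coeff_Phi_ne_zero_iff (p : sectRing (Finsupp.single P 1 : Divisor k K)) (n : ℕ) :
    (Phi P hP hπ p).coeff n ≠ 0 ↔ v P (p.1.coeff n) = WithZero.exp (n : ℤ) := by
  rw [coeff_Phi, rho_ne_zero_iff P hP (v_coeff_mul_pow_le P hπ p.2 n), v_mul_pow_eq_iff P hπ]

end

end Groth.Agent.Lib.Helper2.GS
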