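import Mathlib
import Groth.Agent.Lib.Helper2.FunFld.GS3

set_option autoImplicit false
open scoped WithZero
open FunFld Polynomial W4c6gradedringsgw

namespace Groth.Agent.Lib.Helper2.GS

open Groth.Agent.Lib.Helper2.FF

variable {k K : Type*} [Field k] [Field K] [Algebra k K]

theorem mem_L_nP_iff (P : FunFld.Place k K) (z : K) (n : ℤ) :
    z ∈ L (nP P n) ↔ v P z ≤ WithZero.exp n ∧ ∀ Q : FunFld.Place k K, Q ≠ P → v Q z ≤ 1 := by
  classical
  constructor
  · intro h
    refine ⟨?_, fun Q hQ => ?_⟩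
    · have := h P
      rwa [nP_apply_self] at this
    · have := h Q
      rwa [nP, Finsupp.single_eq_of_ne hQ, WithZero.exp_zero] at this
  · rintro ⟨h1, h2⟩ Q
    by_cases hQ : Q = P
    · subst hQ
      rw [nP_apply_self]
      exact h1
    · rw [nP, Finsupp.single_eq_of_ne hQ, WithZero.exp_zero]
      exact h2 Q hQ

section

variable (hK : IsFunctionField k K) (P : FunFld.Place k K) (hP : P.deg = 1) {π : K}
  (hπ : v P π = WithZero.exp (-1 : ℤ))

theorem Phi_eq_zero_iff (p : sectRing (Finsupp.single P 1 : Divisor k K)) :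
    Phi P hP hπ p = 0 ↔ ∀ n : ℕ, p.1.coeff n ∈ L (nP P ((n : ℤ) - 1)) := by
  constructor
  · intro h n
    have h1 : (Phi P hP hπ p).coeff n = 0 := by rw [h, coeff_zero]
    rw [coeff_Phi_eq_zero_iff] at h1
    have h2 := (mem_L_nP_iff P _ _).1 ((mem_sectRing_iff P p.1).1 p.2 n)
    rw [mem_L_nP_iff]
    refine ⟨?_, h2.2⟩
    rw [← lt_exp_succ_iff, sub_add_cancel]
    exact h1
  · intro h
    ext n
    rw [coeff_zero, coeff_Phi_eq_zero_iff]
    have h2 := ((mem_L_nP_iff P _ _).1 (h n)).1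
    rw [← lt_exp_succ_iff, sub_add_cancel] at h2
    exact h2

/-- a homogeneous element of the section ring -/
noncomputable def monoR (n : ℕ) (z : K) (hz : z ∈ L (nP P (n : ℤ))) :
    sectRing (Finsupp.single P 1 : Divisor k K) :=
  ⟨monomial n z, (mem_sectRing_iff P _).2 fun m => by
    rw [coeff_monomial]
    split_ifs with h
    · subst h; exact hz
    · exact zero_mem _⟩

theorem coe_monoR (n : ℕ) (z : K) (hz : z ∈ L (nP P (n : ℤ))) :
    (monoR P n z hz : K[X]) = monomial n z := rfl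

theorem Phi_monoR (n : ℕ) (z : K) (hz : z ∈ L (nP P (n : ℤ))) :
    Phi P hP hπ (monoR P n z hz) = monomial n (rho P hP (z * π ^ n)) := by
  ext m
  rw [coeff_Phi, coe_monoR, coeff_monomial, coeff_monomial]
  split_ifs with h
  · subst h; rfl
  · rw [zero_mul, rho_zero]

include hK in
theorem mem_poleOrders_of_coeff_Phi_ne_zero (p : sectRing (Finsupp.single P 1 : Divisor k K))
    (n : ℕ) (h : (Phi P hP hπ p).coeff n ≠ 0) : n ∈ poleOrders P := by
  rw [coeff_Phi_ne_zero_iff] at h
  rw [mem_poleOrders_iff hK P hP]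
  exact ⟨_, (mem_sectRing_iff P p.1).1 p.2 n, h⟩

include hK hπ in
theorem exists_normalized {n : ℕ} (hn : n ∈ poleOrders P) :
    ∃ z : K, z ∈ L (nP P (n : ℤ)) ∧ rho P hP (z * π ^ n) = 1 := by
  obtain ⟨z, hzL, hv⟩ := (mem_poleOrders_iff hK P hP n).1 hn
  have h1 : v P (z * π ^ n) = 1 := (v_mul_pow_eq_iff P hπ z n).2 hv
  have hc : rho P hP (z * π ^ n) ≠ 0 := (rho_ne_zero_iff P hP h1.le).2 h1
  refine ⟨(rho P hP (z * π ^ n))⁻¹ • z, Submodule.smul_mem _ _ hzL, ?_⟩
  rw [smul_mul_assoc, rho_smul P hP _ h1.le, inv_mul_cancel₀ hc]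

include hK in
theorem range_Phi :
    ((Phi P hP hπ).range : Set k[X]) = {q | ∀ n, q.coeff n ≠ 0 → n ∈ poleOrders P} := by
  ext q
  constructor
  · rintro ⟨p, rfl⟩ n hn
    exact mem_poleOrders_of_coeff_Phi_ne_zero hK P hP hπ p n hn
  · intro hq
    rw [SetLike.mem_coe, q.as_sum_support]
    refine Subalgebra.sum_mem _ fun n hn => ?_
    obtain ⟨z, hzL, hz⟩ := exists_normalized hK P hP hπ (hq n (mem_support_iff.1 hn))
    refine ⟨q.coeff n • monoR P n z hzL, ?_⟩
    change Phi P hP hπ (q.coeff n • monoR P n z hzL) = _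
    rw [map_smul, Phi_monoR, hz, smul_monomial, smul_eq_mul, mul_one]

include hK in
theorem ker_Phi (hg : 0 < genus k K) (t : sectRing (Finsupp.single P 1 : Divisor k K)) {a : K}
    (ha : a ≠ 0) (ht : (t : K[X]) = C a * X) :
    RingHom.ker (Phi P hP hπ : sectRing (Finsupp.single P 1 : Divisor k K) →+* k[X]) =
      Ideal.span {t} := by
  have haL : a ∈ L (Finsupp.single P 1 : Divisor k K) := by
    have h1 := (mem_sectRing_iff P t.1).1 t.2 1
    rw [ht, coeff_C_mul, coeff_X_one, mul_one] at h1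
    simpa [nP] using h1
  obtain ⟨c, hc⟩ := exists_eq_algebraMap_of_mem_L_single hK hg P hP haL
  have hc0 : c ≠ 0 := by
    rintro rfl
    exact ha (by rw [hc, map_zero])
  apply le_antisymm
  · intro p hp
    rw [RingHom.mem_ker] at hp
    have hp' : Phi P hP hπ p = 0 := hp
    rw [Phi_eq_zero_iff] at hp'
    have h0 : p.1.coeff 0 = 0 := by
      have h1 := hp' 0
      have h3 : L (nP P (((0 : ℕ) : ℤ) - 1)) = ⊥ :=
        L_eq_bot_of_deg_neg hK (by rw [deg_nP, hP]; simp)
      rw [h3] at h1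
      exact (Submodule.mem_bot k).1 h1
    have hq : divX p.1 ∈ sectRing (Finsupp.single P 1 : Divisor k K) := by
      rw [mem_sectRing_iff]
      intro n
      rw [coeff_divX]
      have h1 := hp' (n + 1)
      have h2 : (((n + 1 : ℕ) : ℤ) - 1) = (n : ℤ) := by push_cast; ring
      rwa [h2] at h1
    rw [Ideal.mem_span_singleton']
    refine ⟨c⁻¹ • ⟨divX p.1, hq⟩, ?_⟩
    apply Subtype.ext
    change (c⁻¹ • divX p.1) * t.1 = p.1
    rw [ht, hc, Algebra.smul_def, Polynomial.algebraMap_apply]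
    have h5 : C (algebraMap k K c⁻¹) * divX p.1 * (C (algebraMap k K c) * X) =
        C (algebraMap k K c⁻¹ * algebraMap k K c) * (divX p.1 * X) := by
      rw [C_mul]; ring
    rw [h5, ← map_mul, inv_mul_cancel₀ hc0, map_one, C_1, one_mul]
    conv_rhs => rw [← divX_mul_X_add p.1, h0, C_0, add_zero]
  · rw [Ideal.span_le, Set.singleton_subset_iff, SetLike.mem_coe, RingHom.mem_ker]
    change Phi P hP hπ t = 0
    rw [Phi_eq_zero_iff]
    intro n
    rw [ht, C_mul_X_eq_monomial, coeff_monomial]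
    split_ifs with h
    · subst h
      rw [hc]
      have h1 : nP P (((1 : ℕ) : ℤ) - 1) = 0 := by simp [nP]
      rw [h1, L_zero hK]
      exact Submodule.algebraMap_mem _
    · exact zero_mem _

end

end Groth.Agent.Lib.Helper2.GS
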