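import Mathlib
import Groth.Agent.Lib.Helper2.FunFld.GS4

set_option autoImplicit false
open scoped WithZero
open FunFld Polynomial W4c6gradedringsgw

namespace Groth.Agent.Lib.Helper2.GS

open Groth.Agent.Lib.Helper2.FF

section Mon

variable (k : Type*) [Field k]

/-- the inclusion of the semigroup algebra in the polynomial ring -/
noncomputable def iotaM (M : AddSubmonoid ℕ) : AddMonoidAlgebra k ↥M →ₐ[k] k[X] :=
  ((toFinsuppIsoAlg k).symm : AddMonoidAlgebra k ℕ →ₐ[k] k[X]).comp
    (AddMonoidAlgebra.mapDomainAlgHom k k M.subtype)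

theorem iotaM_apply (M : AddSubmonoid ℕ) (x : AddMonoidAlgebra k ↥M) :
    iotaM k M x = ⟨AddMonoidAlgebra.mapDomain M.subtype x⟩ := rfl

theorem iotaM_injective (M : AddSubmonoid ℕ) : Function.Injective (iotaM k M) := by
  intro x y h
  rw [iotaM_apply, iotaM_apply] at h
  have h2 : AddMonoidAlgebra.mapDomain (R := k) M.subtype x =
      AddMonoidAlgebra.mapDomain M.subtype y := by
    injection h
  exact AddMonoidAlgebra.mapDomain_injective Subtype.val_injective h2

theorem iotaM_single (M : AddSubmonoid ℕ) (m : M) (c : k) :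
    iotaM k M (AddMonoidAlgebra.single m c) = monomial (m : ℕ) c := by
  rw [iotaM_apply, AddMonoidAlgebra.mapDomain_single]
  exact ofFinsupp_single _ _

theorem range_iotaM (M : AddSubmonoid ℕ) :
    ((iotaM k M).range : Set k[X]) = {q | ∀ n, q.coeff n ≠ 0 → n ∈ M} := by
  ext q
  constructor
  · rintro ⟨x, rfl⟩ n hn
    by_contra hnm
    apply hn
    change (iotaM k M x).coeff n = 0
    rw [iotaM_apply, coeff_ofFinsupp, AddMonoidAlgebra.coeff_mapDomain]
    apply Finsupp.mapDomain_of_notMem_range
    rintro ⟨m, rfl⟩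
    exact hnm m.2
  · intro hq
    rw [SetLike.mem_coe, q.as_sum_support]
    refine Subalgebra.sum_mem _ fun n hn => ?_
    exact ⟨AddMonoidAlgebra.single ⟨n, hq n (mem_support_iff.1 hn)⟩ (q.coeff n),
      iotaM_single k M _ _⟩

end Mon

end Groth.Agent.Lib.Helper2.GS
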