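import Mathlib
import Groth.Agent.Lib.Helper2.FunFld.GS5

set_option autoImplicit false
open scoped WithZero
open FunFld Polynomial W4c6gradedringsgw

namespace Groth.Agent.Lib.Helper2.GS

open Groth.Agent.Lib.Helper2.FF

variable {k K : Type*} [Field k] [Field K] [Algebra k K]

section

variable (P : FunFld.Place k K) (hP : P.deg = 1)

theorem rho_neg {u : K} (hu : v P u ≤ 1) : rho P hP (-u) = -rho P hP u := by
  have h1 : -u = (-1 : k) • u := by simp
  rw [h1, rho_smul P hP _ hu]
  ring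

theorem rho_sub {u w : K} (hu : v P u ≤ 1) (hw : v P w ≤ 1) :
    rho P hP (u - w) = rho P hP u - rho P hP w := by
  rw [sub_eq_add_neg, rho_add P hP hu (by rwa [Valuation.map_neg]), rho_neg P hP hw,
    sub_eq_add_neg]

end

section

variable (hK : IsFunctionField k K) (P : FunFld.Place k K) (hP : P.deg = 1) {π : K}
  (hπ : v P π = WithZero.exp (-1 : ℤ))

theorem monoR_mul (m n : ℕ) (z w : K) (hz : z ∈ L (nP P (m : ℤ))) (hw : w ∈ L (nP P (n : ℤ)))
    (hzw : z * w ∈ L (nP P ((m + n : ℕ) : ℤ))) :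
    monoR P m z hz * monoR P n w hw = monoR P (m + n) (z * w) hzw := by
  apply Subtype.ext
  change (monomial m z : K[X]) * monomial n w = monomial (m + n) (z * w)
  rw [monomial_mul_monomial]

theorem mul_mem_L_nP {m n : ℕ} {z w : K} (hz : z ∈ L (nP P (m : ℤ))) (hw : w ∈ L (nP P (n : ℤ))) :
    z * w ∈ L (nP P ((m + n : ℕ) : ℤ)) := by
  have := FF.mul_mem_L hz hw
  rw [nP_add] at this
  exact_mod_cast this

theorem monoR_add (n : ℕ) (z w : K) (hz : z ∈ L (nP P (n : ℤ))) (hw : w ∈ L (nP P (n : ℤ))) :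
    monoR P n (z + w) (add_mem hz hw) = monoR P n z hz + monoR P n w hw := by
  apply Subtype.ext
  change (monomial n (z + w) : K[X]) = monomial n z + monomial n w
  rw [map_add]

theorem monoR_smul (n : ℕ) (c : k) (z : K) (hz : z ∈ L (nP P (n : ℤ))) :
    monoR P n (c • z) (Submodule.smul_mem _ c hz) = c • monoR P n z hz := by
  apply Subtype.ext
  change (monomial n (c • z) : K[X]) = c • monomial n z
  rw [smul_monomial]

include hK in
theorem one_mem_L_nP (n : ℕ) : (1 : K) ∈ L (nP P (n : ℤ)) := by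
  have h1 : (1 : K) ∈ L (0 : Divisor k K) := by
    rw [L_zero hK]; exact Submodule.one_le.1 le_rfl
  have h2 : (0 : Divisor k K) ≤ nP P (n : ℤ) := by
    have := nP_mono P (m := 0) (n := (n : ℤ)) (by omega)
    simp [nP] at this ⊢
  exact L_mono h2 h1

/-- the degree-one element `T` of the section ring -/
noncomputable def tOne : sectRing (Finsupp.single P 1 : Divisor k K) :=
  monoR P 1 1 (one_mem_L_nP hK P 1)

theorem coe_tOne : (tOne hK P : K[X]) = X := by
  change (monomial 1 (1 : K) : K[X]) = X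
  rw [monomial_one_one_eq_X]

theorem monoR_succ (n : ℕ) (z : K) (hz : z ∈ L (nP P (n : ℤ)))
    (hz' : z ∈ L (nP P ((n + 1 : ℕ) : ℤ))) :
    monoR P (n + 1) z hz' = tOne hK P * monoR P n z hz := by
  apply Subtype.ext
  change (monomial (n + 1) z : K[X]) = (tOne hK P : K[X]) * monomial n z
  rw [coe_tOne, X_mul_monomial]

include hπ in
theorem monoR_mem_of_rho_eq_zero {J : Ideal (sectRing (Finsupp.single P 1 : Divisor k K))}
    (htJ : tOne hK P ∈ J) (n : ℕ) (z : K) (hz : z ∈ L (nP P ((n + 1 : ℕ) : ℤ)))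
    (h0 : rho P hP (z * π ^ (n + 1)) = 0) : monoR P (n + 1) z hz ∈ J := by
  have h1 := (mem_L_nP_iff P z _).1 hz
  have h2 : v P (z * π ^ (n + 1)) ≤ 1 := (v_mul_pow_le_iff P hπ z (n + 1)).2 h1.1
  have h3 := (rho_eq_zero_iff P hP h2).1 h0
  rw [v_mul_pow_lt_iff P hπ] at h3
  have h4 : v P z ≤ WithZero.exp (n : ℤ) := by
    rw [← lt_exp_succ_iff]
    exact_mod_cast h3
  have hzn : z ∈ L (nP P (n : ℤ)) := (mem_L_nP_iff P z _).2 ⟨h4, h1.2⟩
  rw [monoR_succ hK P n z hzn]
  exact J.mul_mem_right _ htJ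

include hπ in
theorem monoR_mem_of_witness {J : Ideal (sectRing (Finsupp.single P 1 : Divisor k K))}
    (htJ : tOne hK P ∈ J) (n : ℕ) (w : K) (hw : w ∈ L (nP P ((n + 1 : ℕ) : ℤ)))
    (hw1 : rho P hP (w * π ^ (n + 1)) = 1) (hwJ : monoR P (n + 1) w hw ∈ J)
    (z : K) (hz : z ∈ L (nP P ((n + 1 : ℕ) : ℤ))) : monoR P (n + 1) z hz ∈ J := by
  set c : k := rho P hP (z * π ^ (n + 1)) with hc
  have hzi : v P (z * π ^ (n + 1)) ≤ 1 :=
    (v_mul_pow_le_iff P hπ z (n + 1)).2 ((mem_L_nP_iff P z _).1 hz).1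
  have hwi : v P (w * π ^ (n + 1)) ≤ 1 :=
    (v_mul_pow_le_iff P hπ w (n + 1)).2 ((mem_L_nP_iff P w _).1 hw).1
  have hd : z - c • w ∈ L (nP P ((n + 1 : ℕ) : ℤ)) := sub_mem hz (Submodule.smul_mem _ c hw)
  have h0 : rho P hP ((z - c • w) * π ^ (n + 1)) = 0 := by
    have : (z - c • w) * π ^ (n + 1) = z * π ^ (n + 1) - c • (w * π ^ (n + 1)) := by
      rw [sub_mul, smul_mul_assoc]
    rw [this, rho_sub P hP hzi ((v_smul_le P c _).trans hwi), rho_smul P hP c hwi, hw1, mul_one,
      ← hc, sub_self]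
  have h1 := monoR_mem_of_rho_eq_zero hK P hP hπ htJ n _ hd h0
  have h2 : monoR P (n + 1) z hz =
      c • monoR P (n + 1) w hw + monoR P (n + 1) (z - c • w) hd := by
    apply Subtype.ext
    change (monomial (n + 1) z : K[X]) = c • monomial (n + 1) w + monomial (n + 1) (z - c • w)
    rw [smul_monomial, ← map_add]
    congr 1
    ring
  rw [h2]
  exact J.add_mem (Submodule.smul_of_tower_mem J c hwJ) h1

open Classical in
/-- a normalized function with a pole of exact order `n` at `P` -/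
noncomputable def zc (π : K) (n : ℕ) : K :=
  if h : ∃ z : K, z ∈ L (nP P (n : ℤ)) ∧ rho P hP (z * π ^ n) = 1 then h.choose else 0

theorem zc_mem (n : ℕ) : zc P hP π n ∈ L (nP P (n : ℤ)) := by
  unfold zc
  split_ifs with h
  · exact h.choose_spec.1
  · exact zero_mem _

include hK hπ in
theorem rho_zc {n : ℕ} (hn : n ∈ poleOrders P) : rho P hP (zc P hP π n * π ^ n) = 1 := by
  have h := exists_normalized hK P hP hπ hn
  unfold zc
  rw [dif_pos h]
  exact h.choose_spec.2

/-- the homogeneous generator of degree `n` -/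
noncomputable def Fgen (π : K) (n : ℕ) : sectRing (Finsupp.single P 1 : Divisor k K) :=
  monoR P n (zc P hP π n) (zc_mem P hP n)

include hπ in
theorem monoR_mem_span (n : ℕ) : ∀ (z : K) (hz : z ∈ L (nP P ((n + 1 : ℕ) : ℤ))),
    monoR P (n + 1) z hz ∈ Ideal.span (insert (tOne hK P)
      (Fgen P hP π '' minGens (poleOrders P))) := by
  set J := Ideal.span (insert (tOne hK P) (Fgen P hP π '' minGens (poleOrders P))) with hJ
  have htJ : tOne hK P ∈ J := Ideal.subset_span (Set.mem_insert _ _)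
  induction n using Nat.strong_induction_on with
  | _ n ih =>
    intro z hz
    by_cases h0 : rho P hP (z * π ^ (n + 1)) = 0
    · exact monoR_mem_of_rho_eq_zero hK P hP hπ htJ n z hz h0
    · have hzi : v P (z * π ^ (n + 1)) ≤ 1 :=
        (v_mul_pow_le_iff P hπ z (n + 1)).2 ((mem_L_nP_iff P z _).1 hz).1
      have hv := (rho_ne_zero_iff P hP hzi).1 h0
      rw [v_mul_pow_eq_iff P hπ] at hv
      have hnH : n + 1 ∈ poleOrders P := (mem_poleOrders_iff hK P hP _).2 ⟨z, hz, hv⟩
      by_cases hG : n + 1 ∈ minGens (poleOrders P)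
      · exact monoR_mem_of_witness hK P hP hπ htJ n (zc P hP π (n + 1)) (zc_mem P hP _)
          (rho_zc hK P hP hπ hnH) (Ideal.subset_span (Set.mem_insert_of_mem _ ⟨n + 1, hG, rfl⟩))
          z hz
      · have hex : ∃ a ∈ poleOrders P, ∃ b ∈ poleOrders P, a ≠ 0 ∧ b ≠ 0 ∧ a + b = n + 1 := by
          by_contra hcon
          apply hG
          refine ⟨hnH, by omega, fun a ha b hb ha0 hb0 hab => hcon ⟨a, ha, b, hb, ha0, hb0, hab⟩⟩
        obtain ⟨a, ha, b, hb, ha0, hb0, hab⟩ := hex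
        obtain ⟨a', rfl⟩ : ∃ a', a = a' + 1 := ⟨a - 1, by omega⟩
        have hwL : zc P hP π (a' + 1) * zc P hP π b ∈ L (nP P ((n + 1 : ℕ) : ℤ)) := by
          have := mul_mem_L_nP P (zc_mem P hP (π := π) (a' + 1)) (zc_mem P hP (π := π) b)
          rwa [hab] at this
        have hai : v P (zc P hP π (a' + 1) * π ^ (a' + 1)) ≤ 1 :=
          (v_mul_pow_le_iff P hπ _ _).2 ((mem_L_nP_iff P _ _).1 (zc_mem P hP (a' + 1))).1
        have hbi : v P (zc P hP π b * π ^ b) ≤ 1 :=
          (v_mul_pow_le_iff P hπ _ _).2 ((mem_L_nP_iff P _ _).1 (zc_mem P hP b)).1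
        have hw1 : rho P hP (zc P hP π (a' + 1) * zc P hP π b * π ^ (n + 1)) = 1 := by
          have : zc P hP π (a' + 1) * zc P hP π b * π ^ (n + 1) =
              (zc P hP π (a' + 1) * π ^ (a' + 1)) * (zc P hP π b * π ^ b) := by
            rw [← hab, pow_add]; ring
          rw [this, rho_mul P hP hai hbi, rho_zc hK P hP hπ ha, rho_zc hK P hP hπ hb, one_mul]
        refine monoR_mem_of_witness hK P hP hπ htJ n _ hwL hw1 ?_ z hz
        have h5 : monoR P (n + 1) (zc P hP π (a' + 1) * zc P hP π b) hwL =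
            monoR P (a' + 1) (zc P hP π (a' + 1)) (zc_mem P hP _) *
              monoR P b (zc P hP π b) (zc_mem P hP _) := by
          apply Subtype.ext
          change (monomial (n + 1) (zc P hP π (a' + 1) * zc P hP π b) : K[X]) =
            monomial (a' + 1) (zc P hP π (a' + 1)) * monomial b (zc P hP π b)
          rw [monomial_mul_monomial, hab]
        rw [h5]
        exact J.mul_mem_right _ (ih a' (by omega) _ _)

end

end Groth.Agent.Lib.Helper2.GS
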