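import Mathlib
import Groth.Agent.Lib.Helper2.FunFld.GS6

set_option autoImplicit false
open scoped WithZero
open FunFld Polynomial W4c6gradedringsgw

namespace Groth.Agent.Lib.Helper2.GS

open Groth.Agent.Lib.Helper2.FF

variable {k K : Type*} [Field k] [Field K] [Algebra k K]

/-- the irrelevant ideal of the section ring -/
noncomputable abbrev irr (P : FunFld.Place k K) :
    Ideal (sectRing (Finsupp.single P 1 : Divisor k K)) :=
  RingHom.ker (Polynomial.constantCoeff.comp
    (sectRing (Finsupp.single P 1 : Divisor k K)).val.toRingHom)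

theorem mem_irr_iff (P : FunFld.Place k K) (p : sectRing (Finsupp.single P 1 : Divisor k K)) :
    p ∈ irr P ↔ p.1.coeff 0 = 0 := by
  rw [RingHom.mem_ker]
  rfl

section

variable (hK : IsFunctionField k K) (P : FunFld.Place k K) (hP : P.deg = 1) {π : K}
  (hπ : v P π = WithZero.exp (-1 : ℤ))

theorem eq_sum_monoR (p : sectRing (Finsupp.single P 1 : Divisor k K)) :
    p = ∑ n ∈ p.1.support, monoR P n (p.1.coeff n) ((mem_sectRing_iff P p.1).1 p.2 n) := by
  apply Subtype.ext
  rw [AddSubmonoidClass.coe_finsetSum]
  exact p.1.as_sum_support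

include hπ in
theorem irr_eq_span :
    irr P = Ideal.span (insert (tOne hK P) (Fgen P hP π '' minGens (poleOrders P))) := by
  apply le_antisymm
  · intro p hp
    rw [mem_irr_iff] at hp
    rw [eq_sum_monoR P p]
    refine Ideal.sum_mem _ fun n hn => ?_
    have hn0 : n ≠ 0 := by
      rintro rfl
      exact (mem_support_iff.1 hn) hp
    obtain ⟨m, rfl⟩ : ∃ m, n = m + 1 := ⟨n - 1, by omega⟩
    exact monoR_mem_span hK P hP hπ m _ _
  · rw [Ideal.span_le]
    intro x hx
    rw [SetLike.mem_coe, mem_irr_iff]
    rcases hx with rfl | ⟨h, hh, rfl⟩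
    · rw [coe_tOne, coeff_X_zero]
    · change (monomial h (zc P hP π h) : K[X]).coeff 0 = 0
      rw [coeff_monomial, if_neg hh.2.1]

include hK hP in
theorem minGens_subset (hg : 0 < genus k K) :
    minGens (poleOrders P) ⊆ (Finset.range (4 * genus k K) : Set ℕ) := by
  intro h hh
  rw [Finset.coe_range, Set.mem_Iio]
  by_contra hlt
  push Not at hlt
  refine hh.2.2 (2 * genus k K) (mem_poleOrders_of_ge hK P hP le_rfl) (h - 2 * genus k K)
    (mem_poleOrders_of_ge hK P hP (by omega)) (by omega) (by omega) (by omega)

include hK hP in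
theorem finite_minGens (hg : 0 < genus k K) : (minGens (poleOrders P)).Finite :=
  (Finset.finite_toSet _).subset (minGens_subset hK P hP hg)

include hK hP hπ in
theorem spanFinrank_irr_le (hg : 0 < genus k K) :
    (irr P).spanFinrank ≤ Set.ncard (minGens (poleOrders P)) + 1 := by
  have hfin := finite_minGens hK P hP hg
  rw [irr_eq_span hK P hP hπ]
  have hS : (insert (tOne hK P) (Fgen P hP π '' minGens (poleOrders P))).Finite :=
    (hfin.image _).insert _
  refine (Submodule.spanFinrank_span_le_ncard_of_finite hS).trans ?_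
  refine (Set.ncard_insert_le _ _).trans ?_
  exact Nat.add_le_add_right (Set.ncard_image_le hfin) 1

include hK hP hπ in
theorem fg_irr (hg : 0 < genus k K) : (irr P).FG := by
  rw [irr_eq_span hK P hP hπ]
  exact Submodule.fg_span (((finite_minGens hK P hP hg).image _).insert _)

end

end Groth.Agent.Lib.Helper2.GS
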