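import Mathlib
import Groth.Agent.Lib.Helper2.FunFld.GS7

set_option autoImplicit false
open scoped WithZero
open FunFld Polynomial W4c6gradedringsgw

namespace Groth.Agent.Lib.Helper2.GS

open Groth.Agent.Lib.Helper2.FF

variable {k K : Type*} [Field k] [Field K] [Algebra k K]

section

variable (hK : IsFunctionField k K) (hg : 0 < genus k K) (P : FunFld.Place k K) (hP : P.deg = 1)
  {π : K} (hπ : v P π = WithZero.exp (-1 : ℤ))

include hK hg hP in
theorem v_coeff_one_le (p : sectRing (Finsupp.single P 1 : Divisor k K)) :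
    v P (p.1.coeff 1) ≤ 1 := by
  have h1 := (mem_sectRing_iff P p.1).1 p.2 1
  have h2 : p.1.coeff 1 ∈ L (Finsupp.single P 1 : Divisor k K) := by simpa [nP] using h1
  obtain ⟨c, hc⟩ := exists_eq_algebraMap_of_mem_L_single hK hg P hP h2
  rw [hc]
  exact v_algebraMap_le P c

theorem v_coeff_zero_le (p : sectRing (Finsupp.single P 1 : Divisor k K)) :
    v P (p.1.coeff 0) ≤ 1 := by
  have h1 := v_coeff_le P p.2 0
  simpa using h1

/-- the linear form detecting the minimal generators -/
noncomputable def Lam : sectRing (Finsupp.single P 1 : Divisor k K) →ₗ[k]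
    (Option (minGens (poleOrders P)) → k) where
  toFun p := fun i => match i with
    | none => rho P hP (p.1.coeff 1)
    | some h => (Phi P hP hπ p).coeff h
  map_add' p q := by
    funext i
    rcases i with _ | h
    · change rho P hP ((p.1 + q.1).coeff 1) = rho P hP (p.1.coeff 1) + rho P hP (q.1.coeff 1)
      rw [coeff_add, rho_add P hP (v_coeff_one_le hK hg P hP p) (v_coeff_one_le hK hg P hP q)]
    · change (Phi P hP hπ (p + q)).coeff h = (Phi P hP hπ p).coeff h + (Phi P hP hπ q).coeff h
      rw [map_add, coeff_add]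
  map_smul' c p := by
    funext i
    rcases i with _ | h
    · change rho P hP ((c • p.1).coeff 1) = c • rho P hP (p.1.coeff 1)
      rw [coeff_smul, rho_smul P hP c (v_coeff_one_le hK hg P hP p), smul_eq_mul]
    · change (Phi P hP hπ (c • p)).coeff h = c • (Phi P hP hπ p).coeff h
      rw [map_smul, coeff_smul]

theorem Lam_none (p : sectRing (Finsupp.single P 1 : Divisor k K)) :
    Lam hK hg P hP hπ p none = rho P hP (p.1.coeff 1) := rfl

theorem Lam_some (p : sectRing (Finsupp.single P 1 : Divisor k K))
    (h : minGens (poleOrders P)) :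
    Lam hK hg P hP hπ p (some h) = (Phi P hP hπ p).coeff h := rfl

theorem coeff_zero_Phi (p : sectRing (Finsupp.single P 1 : Divisor k K)) :
    (Phi P hP hπ p).coeff 0 = rho P hP (p.1.coeff 0) := by
  rw [coeff_Phi, pow_zero, mul_one]

theorem Lam_mul (r q : sectRing (Finsupp.single P 1 : Divisor k K)) (hq : q ∈ irr P) :
    Lam hK hg P hP hπ (r * q) = (Phi P hP hπ r).coeff 0 • Lam hK hg P hP hπ q := by
  rw [mem_irr_iff] at hq
  funext i
  rcases i with _ | h
  · rw [Pi.smul_apply, Lam_none, Lam_none, coeff_zero_Phi]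
    change rho P hP ((r.1 * q.1).coeff 1) = _
    rw [mul_coeff_one, hq, mul_zero, add_zero,
      rho_mul P hP (v_coeff_zero_le P r) (v_coeff_one_le hK hg P hP q), smul_eq_mul]
  · rw [Pi.smul_apply, Lam_some, Lam_some, map_mul, coeff_mul, smul_eq_mul]
    rw [Finset.sum_eq_single (0, (h : ℕ))]
    · rintro ⟨i, j⟩ hij hne
      rw [Finset.HasAntidiagonal.mem_antidiagonal] at hij
      simp only at hij
      by_contra hprod
      obtain ⟨hi, hj⟩ := mul_ne_zero_iff.1 hprod
      have hiH := mem_poleOrders_of_coeff_Phi_ne_zero hK P hP hπ r i hi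
      have hjH := mem_poleOrders_of_coeff_Phi_ne_zero hK P hP hπ q j hj
      have hj0 : j ≠ 0 := by
        rintro rfl
        apply hj
        rw [coeff_zero_Phi, hq, rho_zero]
      have hi0 : i ≠ 0 := by
        rintro rfl
        apply hne
        rw [zero_add] at hij
        rw [hij]
      exact h.2.2.2 i hiH j hjH hi0 hj0 hij
    · intro hnot
      exfalso
      apply hnot
      rw [Finset.HasAntidiagonal.mem_antidiagonal]
      simp

theorem Phi_tOne : Phi P hP hπ (tOne hK P) = 0 := by
  unfold tOne
  rw [Phi_monoR, one_mul, pow_one, rho_of_lt P hP (by rw [hπ]; exact WithZero.exp_lt_exp.2 (by norm_num) |>.trans_eq WithZero.exp_zero), map_zero]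

theorem Lam_tOne [DecidableEq (Option (minGens (poleOrders P)))] :
    Lam hK hg P hP hπ (tOne hK P) = Pi.single none 1 := by
  funext i
  rcases i with _ | h
  · rw [Lam_none, coe_tOne, coeff_X_one, rho_one, Pi.single_eq_same]
  · rw [Lam_some, Phi_tOne, coeff_zero, Pi.single_eq_of_ne (by simp)]

theorem Lam_Fgen [DecidableEq (Option (minGens (poleOrders P)))]
    (h : minGens (poleOrders P)) :
    Lam hK hg P hP hπ (Fgen P hP π h) = Pi.single (some h) 1 := by
  have hne1 : (h : ℕ) ≠ 1 := by
    intro h1
    have := h.2.1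
    rw [h1] at this
    exact one_not_mem_poleOrders hK hg P hP this
  funext i
  rcases i with _ | h'
  · rw [Lam_none, Pi.single_eq_of_ne (by simp)]
    change rho P hP ((monomial (h : ℕ) (zc P hP π h) : K[X]).coeff 1) = 0
    rw [coeff_monomial, if_neg hne1, rho_zero]
  · rw [Lam_some]
    unfold Fgen
    rw [Phi_monoR, rho_zc hK P hP hπ h.2.1, coeff_monomial]
    by_cases hh : h = h'
    · subst hh
      rw [if_pos rfl, Pi.single_eq_same]
    · rw [if_neg (fun h2 => hh (Subtype.ext h2)), Pi.single_eq_of_ne]
      intro h3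
      exact hh (Option.some_injective _ h3).symm

theorem Lam_mem_span (s : Finset (sectRing (Finsupp.single P 1 : Divisor k K)))
    (hs : Ideal.span (s : Set (sectRing (Finsupp.single P 1 : Divisor k K))) = irr P)
    (x : sectRing (Finsupp.single P 1 : Divisor k K)) (hx : x ∈ irr P) :
    Lam hK hg P hP hπ x ∈ Submodule.span k (Lam hK hg P hP hπ '' (s : Set _)) := by
  rw [← hs] at hx
  induction hx using Submodule.span_induction with
  | mem x hx => exact Submodule.subset_span ⟨x, hx, rfl⟩
  | zero => rw [map_zero]; exact zero_mem _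
  | add x y _ _ hx hy => rw [map_add]; exact add_mem hx hy
  | smul r x hx ih =>
    rw [smul_eq_mul, Lam_mul hK hg P hP hπ r x (by rw [← hs]; exact hx)]
    exact Submodule.smul_mem _ _ ih

include hK hg hP hπ in
theorem card_le_of_span (s : Finset (sectRing (Finsupp.single P 1 : Divisor k K)))
    (hs : Ideal.span (s : Set (sectRing (Finsupp.single P 1 : Divisor k K))) = irr P) :
    Set.ncard (minGens (poleOrders P)) + 1 ≤ s.card := by
  classical
  have hfin := finite_minGens hK P hP hg
  haveI : Fintype (minGens (poleOrders P)) := hfin.fintype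
  have htop : (⊤ : Submodule k (Option (minGens (poleOrders P)) → k)) ≤
      Submodule.span k (Lam hK hg P hP hπ '' (s : Set _)) := by
    rw [← (Pi.basisFun k (Option (minGens (poleOrders P)))).span_eq, Submodule.span_le]
    rintro _ ⟨i, rfl⟩
    rw [Pi.basisFun_apply, SetLike.mem_coe]
    rcases i with _ | h
    · rw [← Lam_tOne hK hg P hP hπ]
      apply Lam_mem_span hK hg P hP hπ s hs
      rw [irr_eq_span hK P hP hπ]
      exact Ideal.subset_span (Set.mem_insert _ _)
    · rw [← Lam_Fgen hK hg P hP hπ h]
      apply Lam_mem_span hK hg P hP hπ s hs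
      rw [irr_eq_span hK P hP hπ]
      exact Ideal.subset_span (Set.mem_insert_of_mem _ ⟨h, h.2, rfl⟩)
  have h1 : Module.finrank k (Option (minGens (poleOrders P)) → k) ≤
      Module.finrank k (Submodule.span k (Lam hK hg P hP hπ '' (s : Set _))) := by
    rw [← finrank_top k (Option (minGens (poleOrders P)) → k)]
    exact Submodule.finrank_mono htop
  have h2 : Module.finrank k (Submodule.span k (Lam hK hg P hP hπ '' (s : Set _))) ≤ s.card := by
    have := finrank_span_finset_le_card (R := k) (s.image (Lam hK hg P hP hπ))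
    rw [Finset.coe_image] at this
    exact this.trans Finset.card_image_le
  rw [Module.finrank_fintype_fun_eq_card, Fintype.card_option] at h1
  have h3 : Fintype.card (minGens (poleOrders P)) = Set.ncard (minGens (poleOrders P)) := by
    rw [← Nat.card_eq_fintype_card, Nat.card_coe_set_eq]
  omega

include hK hg hP hπ in
theorem spanFinrank_irr :
    (irr P).spanFinrank = Set.ncard (minGens (poleOrders P)) + 1 := by
  apply le_antisymm (spanFinrank_irr_le hK P hP hπ hg)
  obtain ⟨s, hs1, hs2⟩ := Submodule.FG.exists_span_finset_card_eq_spanFinrank (fg_irr hK P hP hπ hg)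
  rw [← hs1]
  exact card_le_of_span hK hg P hP hπ s hs2

end

end Groth.Agent.Lib.Helper2.GS
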