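import Mathlib
import Groth.Agent.Lib.Helper2.FunFld.ASG4
import Groth.Agent.Lib.Helper2.FunFld.HY3

set_option autoImplicit false
open scoped WithZero IntermediateField
open FunFld Polynomial

/-! Common facts for `y² + y = f(x)` over an algebraically closed field of characteristic two
with `f` having odd poles exactly at `x = β`, `β ∈ B`. -/

namespace Groth.Agent.Lib.Helper2.HC

open Groth.Agent.Lib.Helper2.FF Groth.Agent.Lib.Helper2.ASG Groth.Agent.Lib.Helper2.HY
  Groth.Agent.Lib.Helper26.FunFldRatPlace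

universe u v

section Rat

variable {k : Type u} [Field k]

theorem algebraMap_X_sub_C' (α : k) :
    algebraMap k[X] (RatFunc k) (X - C α) = RatFunc.X - RatFunc.C α := by
  rw [map_sub, RatFunc.algebraMap_X, RatFunc.algebraMap_C]

theorem v_X_sub_C_eq {p : Place k (RatFunc k)} {α : k}
    (h : p.1 ((RatFunc.X : RatFunc k) - RatFunc.C α) < 1) :
    p.1 ((RatFunc.X : RatFunc k) - RatFunc.C α) = WithZero.exp (-1 : ℤ) := by
  have h1 : w p (X - C α) < 1 := by rw [w_apply, algebraMap_X_sub_C']; exact h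
  have := w_p_eq p (Polynomial.irreducible_X_sub_C α) h1
  rwa [w_apply, algebraMap_X_sub_C'] at this

theorem v_C_eq_one (p : Place k (RatFunc k)) {c : k} (hc : c ≠ 0) :
    p.1 (RatFunc.C c : RatFunc k) = 1 := by
  have : (RatFunc.C c : RatFunc k) = algebraMap k (RatFunc k) c := by
    rw [RatFunc.algebraMap_eq_C]
  rw [this]
  exact v_algebraMap p hc

theorem v_X_sub_C_eq_one {p : Place k (RatFunc k)} {α β : k} (hαβ : α ≠ β)
    (h : p.1 ((RatFunc.X : RatFunc k) - RatFunc.C α) < 1) :
    p.1 ((RatFunc.X : RatFunc k) - RatFunc.C β) = 1 := by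
  have h1 : (RatFunc.X : RatFunc k) - RatFunc.C β =
      (RatFunc.X - RatFunc.C α) + RatFunc.C (α - β) := by
    rw [map_sub]; ring
  have h2 : p.1 (RatFunc.C (α - β) : RatFunc k) = 1 := v_C_eq_one p (sub_ne_zero.2 hαβ)
  rw [h1, Valuation.map_add_eq_of_lt_right _ (by rw [h2]; exact h), h2]

end Rat

section Main

variable {k : Type u} {K : Type v} [Field k] [Field K] [Algebra k K] [Algebra (RatFunc k) K]
  [IsScalarTower k (RatFunc k) K]

theorem algebraMap_X_sub_C (α : k) :
    algebraMap (RatFunc k) K ((RatFunc.X : RatFunc k) - RatFunc.C α) =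
      algebraMap (RatFunc k) K RatFunc.X - algebraMap k K α := by
  rw [map_sub]
  congr 1
  have : (RatFunc.C α : RatFunc k) = algebraMap k (RatFunc k) α := by
    rw [RatFunc.algebraMap_eq_C]
  rw [this, ← IsScalarTower.algebraMap_apply]

variable [IsAlgClosed k] [CharP k 2] (hK : IsFunctionField k K)
  (hdeg : Module.finrank (RatFunc k) K = 2) [Algebra.IsSeparable (RatFunc k) K]
  {y : K} (hy : y ∉ Set.range (algebraMap (RatFunc k) K)) {f : RatFunc k}
  (heq : y ^ 2 + y = algebraMap (RatFunc k) K f)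
  {B : Finset k} {d : k → ℕ} (hd : ∀ β ∈ B, Odd (d β))
  (hpole : ∀ (p : FunFld.Place k (RatFunc k)) (β : k), β ∈ B →
      p.1 ((RatFunc.X : RatFunc k) - RatFunc.C β) < 1 → p.ord f = -(d β : ℤ))
  (hint : ∀ p : FunFld.Place k (RatFunc k),
      (∀ β ∈ B, 1 ≤ p.1 ((RatFunc.X : RatFunc k) - RatFunc.C β)) → p.1 f ≤ 1)

include hdeg hy heq hd hpole in
/-- the place of `K` above a pole `x = α` -/
theorem over_pole {P : Place k K} {α : k} (hα : α ∈ B)
    (hP : P.1 (algebraMap (RatFunc k) K RatFunc.X - algebraMap k K α) < 1) :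
    ∃ p : Place k (RatFunc k), IsOverWith P p 2 ∧
      p.1 ((RatFunc.X : RatFunc k) - RatFunc.C α) < 1 ∧ p.ord f = -(d α : ℤ) ∧
      P.1 (algebraMap (RatFunc k) K RatFunc.X - algebraMap k K α) = WithZero.exp (-2 : ℤ) ∧
      P.1 y = WithZero.exp (d α : ℤ) := by
  haveI : FiniteDimensional (RatFunc k) K := Module.finite_of_finrank_pos (by omega)
  have hK0 : IsFunctionField k (RatFunc k) := isFunctionField_ratFunc
  have hf0 : f ≠ 0 := f_ne_zero hy heq
  obtain ⟨p, e, he⟩ := exists_isOverWith hK0 P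
  have he1 := isOverWith_one_le he
  have hp : p.1 ((RatFunc.X : RatFunc k) - RatFunc.C α) < 1 := by
    rw [← algebraMap_X_sub_C, he] at hP
    by_contra hcon
    exact absurd hP (not_lt.2 (one_le_pow₀ (not_lt.1 hcon)))
  have hord := hpole p α hα hp
  have hdpos : 0 < d α := (hd α hα).pos
  have hneg : p.ord f < 0 := by rw [hord]; omega
  have hoddf : Odd (p.ord f) := by
    rw [hord]
    exact (Odd.natCast (hd α hα)).neg
  have h3 := ((Groth.Agent.S12519.result k K (ringChar.eq k 2) hdeg y hy f heq p).1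
    ⟨hneg, hoddf⟩).2 P ⟨e, he⟩
  have he2 : e = 2 := isOverWith_e_unique he h3.1
  subst he2
  refine ⟨p, he, hp, hord, ?_, ?_⟩
  · rw [← algebraMap_X_sub_C, he, v_X_sub_C_eq hp, ← WithZero.exp_nsmul]
    rfl
  · have hpf : p.1 f = WithZero.exp (d α : ℤ) := by
      rw [v_eq_exp_neg_ord p hf0, hord, neg_neg]
    have hpf1 : 1 < p.1 f := (one_lt_v_iff p hf0).2 hneg
    have h4 : 1 < P.1 (algebraMap (RatFunc k) K f) := by
      rw [he f]; exact one_lt_pow₀ hpf1 (by norm_num)
    have h5 := v_y_sq_eq P heq h4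
    rw [he f] at h5
    rw [← hpf]
    rcases lt_trichotomy (P.1 y) (p.1 f) with h | h | h
    · exact absurd h5 (ne_of_lt (pow_lt_pow_left₀ h zero_le (by norm_num)))
    · exact h
    · exact absurd h5.symm (ne_of_lt (pow_lt_pow_left₀ h zero_le (by norm_num)))

include hdeg hy heq hint in
/-- away from the poles, `y` is integral and the place is unramified -/
theorem not_pole {P : Place k K}
    (hP : ∀ β ∈ B, 1 ≤ P.1 (algebraMap (RatFunc k) K RatFunc.X - algebraMap k K β)) :
    P.1 y ≤ 1 ∧ ∃ p : Place k (RatFunc k), IsOverWith P p 1 := by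
  haveI : FiniteDimensional (RatFunc k) K := Module.finite_of_finrank_pos (by omega)
  have hK0 : IsFunctionField k (RatFunc k) := isFunctionField_ratFunc
  have hf0 : f ≠ 0 := f_ne_zero hy heq
  obtain ⟨p, e, he⟩ := exists_isOverWith hK0 P
  have he1 := isOverWith_one_le he
  have hp : ∀ β ∈ B, 1 ≤ p.1 ((RatFunc.X : RatFunc k) - RatFunc.C β) := by
    intro β hβ
    have h1 := hP β hβ
    rw [← algebraMap_X_sub_C, he] at h1
    by_contra hcon
    exact absurd h1 (not_le.2 (pow_lt_one' (not_le.1 hcon) (by omega)))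
  have hpf := hint p hp
  refine ⟨v_y_le_one P heq (by rw [he f]; exact pow_le_one' hpf e), p, ?_⟩
  have h3 := (Groth.Agent.S12519.result k K (ringChar.eq k 2) hdeg y hy f heq p).2
    ((v_le_one_iff p hf0).1 hpf) P ⟨e, he⟩
  have he2 : e = 1 := isOverWith_e_unique he h3
  subst he2
  exact he

end Main

end Groth.Agent.Lib.Helper2.HC
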