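import Mathlib
import Groth.Agent.Lib.Helper2.FunFld.HC1
import Groth.Agent.Lib.Helper2.FunFld.AS1

set_option autoImplicit false
open scoped WithZero IntermediateField
open FunFld Polynomial

namespace Groth.Agent.Lib.Helper2.HC

open Groth.Agent.Lib.Helper2.FF Groth.Agent.Lib.Helper2.ASG Groth.Agent.Lib.Helper2.HY
  Groth.Agent.Lib.Helper26.FunFldRatPlace Groth.Agent.Lib.Helper2.AS

universe u v

section Genus0

variable {k : Type u} {K : Type v} [Field k] [Field K] [Algebra k K]

/-- in genus zero every principal part at a place is the principal part of a function regular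
elsewhere -/
theorem exists_principal_part (hK : IsFunctionField k K) (hg : genus k K = 0) (P : Place k K)
    (w : K) : ∃ g : K, P.1 (g - w) ≤ 1 ∧ ∀ Q : Place k K, Q ≠ P → Q.1 g ≤ 1 := by
  classical
  have key : ∀ (n : ℕ) (w : K), P.1 w ≤ WithZero.exp (n : ℤ) →
      ∃ g ∈ L (n • (Finsupp.single P 1 : Divisor k K)), P.1 (g - w) ≤ 1 := by
    intro n
    induction n with
    | zero =>
      intro w hw
      refine ⟨0, Submodule.zero_mem _, ?_⟩
      rw [zero_sub, Valuation.map_neg]
      simpa using hw
    | succ n ih =>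
      intro w hw
      set D : Divisor k K := (n + 1) • (Finsupp.single P 1 : Divisor k K) with hD
      have hDP : D P = (n : ℤ) + 1 := by
        rw [hD, Finsupp.smul_apply, Finsupp.single_eq_same]
        simp
      have hsub : D - Finsupp.single P 1 = n • (Finsupp.single P 1 : Divisor k K) := by
        rw [hD, succ_nsmul]; abel
      have hdeg : 2 * (genus k K : ℤ) - 1 ≤ (D - Finsupp.single P 1).deg := by
        rw [hsub, hg, deg_nsmul, deg_single]
        have : (0 : ℤ) ≤ (n : ℤ) * (1 * (P.deg : ℤ)) := by positivity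
        push_cast
        linarith
      have hw' : v P w ≤ WithZero.exp (D P) := by
        rw [hDP]; exact_mod_cast hw
      obtain ⟨g₁, hg₁, hv₁⟩ := exists_mem_L_approx hK P D hdeg hw'
      rw [hDP, add_sub_cancel_right] at hv₁
      have hv₁' : P.1 (w - g₁) ≤ WithZero.exp (n : ℤ) := by
        rw [← neg_sub, Valuation.map_neg]; exact hv₁
      obtain ⟨g₂, hg₂, hv₂⟩ := ih (w - g₁) hv₁'
      refine ⟨g₁ + g₂, ?_, ?_⟩
      · refine Submodule.add_mem _ hg₁ (L_mono ?_ hg₂)
        rw [← hsub]
        intro Q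
        rw [Finsupp.sub_apply, Finsupp.single_apply]
        split_ifs <;> omega
      · have : g₁ + g₂ - w = g₂ - (w - g₁) := by ring
        rw [this]; exact hv₂
  have hw0 : ∃ n : ℕ, P.1 w ≤ WithZero.exp (n : ℤ) := by
    by_cases h0 : w = 0
    · exact ⟨0, by rw [h0, map_zero]; exact zero_le⟩
    · refine ⟨(WithZero.log (P.1 w)).toNat, ?_⟩
      have hne : P.1 w ≠ 0 := (Valuation.ne_zero_iff _).2 h0
      conv_lhs => rw [← WithZero.exp_log hne]
      rw [WithZero.exp_le_exp]
      exact Int.self_le_toNat _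
  obtain ⟨n, hn⟩ := hw0
  obtain ⟨g, hgL, hgv⟩ := key n w hn
  refine ⟨g, hgv, fun Q hQ => ?_⟩
  have := hgL Q
  rwa [Finsupp.smul_apply, Finsupp.single_eq_of_ne hQ, smul_zero, WithZero.exp_zero] at this

end Genus0

section Single

variable {k : Type u} {K₀ : Type v} {K : Type*} [Field k] [Field K₀] [Field K] [Algebra k K₀]
  [Algebra K₀ K] [Algebra k K] [IsScalarTower k K₀ K]

/-- a repartition of `K` supported at the unique place over `p` with value in `K₀` (of genus
zero) is trivial in `H¹` -/
theorem single_mem_of_unique [DecidableEq (Place k K)] [FiniteDimensional K₀ K]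
    (hK₀ : IsFunctionField k K₀)
    (hg : genus k K₀ = 0) {P : Place k K} {p : Place k K₀} {e : ℕ} (he : IsOverWith P p e)
    (huniq : ∀ Q : Place k K, IsOver Q p → Q = P) (r : K₀) :
    (Pi.single P (algebraMap K₀ K r) : Place k K → K) ∈
      AD (0 : Divisor k K) ⊔ LinearMap.range (diag k K) := by
  obtain ⟨g, hg1, hg2⟩ := exists_principal_part hK₀ hg p r
  have hsplit : (Pi.single P (algebraMap K₀ K r) : Place k K → K) =
      (Pi.single P (algebraMap K₀ K r) - diag k K (algebraMap K₀ K g)) +
        diag k K (algebraMap K₀ K g) := by abel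
  rw [hsplit]
  refine Submodule.add_mem _ (Submodule.mem_sup_left ?_) (Submodule.mem_sup_right ⟨_, rfl⟩)
  intro Q
  rw [Finsupp.zero_apply, WithZero.exp_zero, Pi.sub_apply]
  have hdiag : diag k K (algebraMap K₀ K g) Q = algebraMap K₀ K g := rfl
  rw [hdiag]
  by_cases hQ : Q = P
  · subst hQ
    rw [Pi.single_eq_same, ← map_sub, he, ← neg_sub, Valuation.map_neg]
    exact pow_le_one' hg1 e
  · rw [Pi.single_eq_of_ne hQ, zero_sub, Valuation.map_neg]
    obtain ⟨q, e', he'⟩ := exists_isOverWith hK₀ Q
    have hqp : q ≠ p := by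
      rintro rfl
      exact hQ (huniq Q ⟨e', he'⟩)
    rw [he']
    exact pow_le_one' (hg2 q hqp) e'

end Single

end Groth.Agent.Lib.Helper2.HC
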