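import Mathlib
import Groth.Agent.Lib.Helper2.FunFld.HC2
import Groth.Agent.Lib.Helper2.FunFld.Gaps
import Groth.Agent.Lib.Helper2.FunFld.Exists

set_option autoImplicit false
open scoped WithZero IntermediateField
open FunFld Polynomial

namespace Groth.Agent.Lib.Helper2.HC

open Groth.Agent.Lib.Helper2.FF Groth.Agent.Lib.Helper2.ASG Groth.Agent.Lib.Helper2.HY
  Groth.Agent.Lib.Helper26.FunFldRatPlace

universe u v

section Rat

variable {k : Type u} [Field k]

/-- the place `x = α` of `k(x)` is unique -/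
theorem place_unique_X_sub_C {p q : Place k (RatFunc k)} {α : k}
    (hp : p.1 ((RatFunc.X : RatFunc k) - RatFunc.C α) < 1)
    (hq : q.1 ((RatFunc.X : RatFunc k) - RatFunc.C α) < 1) : p = q := by
  have hirr : Irreducible (X - C α : k[X]) := Polynomial.irreducible_X_sub_C α
  have hp' : w p (X - C α) < 1 := by rw [w_apply, algebraMap_X_sub_C']; exact hp
  have hq' : w q (X - C α) < 1 := by rw [w_apply, algebraMap_X_sub_C']; exact hq
  apply place_eq_of_lt_one_imp
  intro z hz
  by_cases hz0 : z = 0
  · rw [hz0, map_zero]; exact zero_lt_one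
  have hden0 : z.denom ≠ 0 := RatFunc.denom_ne_zero z
  have hdiv : ∀ r : Place k (RatFunc k), r.1 z = w r z.num / w r z.denom := by
    intro r
    conv_lhs => rw [← RatFunc.num_div_denom z]
    rw [map_div₀]
    rfl
  change p.1 z < 1 at hz
  change q.1 z < 1
  rw [hdiv p] at hz
  have hwd0 : w p z.denom ≠ 0 := fun h => hden0 ((w_eq_zero_iff p _).1 h)
  have hnum : w p z.num < 1 := by
    by_contra hcon
    have h1 : w p z.num = 1 := le_antisymm (w_le_one p hirr hp' _) (not_lt.1 hcon)
    rw [h1, one_div] at hz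
    have h2 : 1 ≤ (w p z.denom)⁻¹ := (one_le_inv₀ (zero_lt_iff.2 hwd0)).2 (w_le_one p hirr hp' _)
    exact absurd hz (not_lt.2 h2)
  have hdvd : (X - C α) ∣ z.num := (w_lt_one_iff p hirr hp' _).1 hnum
  have hnd : ¬ (X - C α) ∣ z.denom := by
    intro h
    exact hirr.not_isUnit ((RatFunc.isCoprime_num_denom z).isUnit_of_dvd' hdvd h)
  rw [hdiv q, w_eq_one_of_not_dvd q hirr hq' hnd, div_one]
  exact (w_lt_one_iff q hirr hq' _).2 hdvd

theorem v_X_le_one_of_X_sub_C {p : Place k (RatFunc k)} {α : k}
    (hp : p.1 ((RatFunc.X : RatFunc k) - RatFunc.C α) < 1) : p.1 (RatFunc.X : RatFunc k) ≤ 1 := by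
  have h1 : (RatFunc.X : RatFunc k) = (RatFunc.X - RatFunc.C α) + RatFunc.C α := by ring
  rw [h1]
  refine (Valuation.map_add _ _ _).trans (max_le hp.le ?_)
  have : (RatFunc.C α : RatFunc k) = algebraMap k (RatFunc k) α := by
    rw [RatFunc.algebraMap_eq_C]
  rw [this]
  exact p.2.1 α

theorem exists_place_X_sub_C (α : k) :
    ∃ p : Place k (RatFunc k), p.1 ((RatFunc.X : RatFunc k) - RatFunc.C α) < 1 := by
  have hK0 : IsFunctionField k (RatFunc k) := isFunctionField_ratFunc
  have ht : Transcendental k ((RatFunc.X : RatFunc k) - RatFunc.C α) := by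
    intro halg
    have h1 : IsAlgebraic k (RatFunc.C α : RatFunc k) := by
      have : (RatFunc.C α : RatFunc k) = algebraMap k (RatFunc k) α := by
        rw [RatFunc.algebraMap_eq_C]
      rw [this]
      exact isAlgebraic_algebraMap α
    have h2 : IsAlgebraic k (RatFunc.X : RatFunc k) := by
      have : (RatFunc.X : RatFunc k) = (RatFunc.X - RatFunc.C α) + RatFunc.C α := by ring
      rw [this]
      exact halg.add h1
    exact (RatFunc.transcendental_X (K := k)) h2
  exact exists_place_lt_one hK0 ht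

end Rat

section Genus

variable {k : Type u} [Field k] [IsAlgClosed k] {f : RatFunc k} {B : Finset k} {d : k → ℕ}
  (hd : ∀ β ∈ B, Odd (d β))
  (hpole : ∀ (p : FunFld.Place k (RatFunc k)) (β : k), β ∈ B →
      p.1 ((RatFunc.X : RatFunc k) - RatFunc.C β) < 1 → p.ord f = -(d β : ℤ))
  (hint : ∀ p : FunFld.Place k (RatFunc k),
      (∀ β ∈ B, 1 ≤ p.1 ((RatFunc.X : RatFunc k) - RatFunc.C β)) → p.1 f ≤ 1)

include hd hpole hint in
theorem deg_ramDiv_eq_sum (hf0 : f ≠ 0) :
    (ramDiv f).deg = ∑ α ∈ B, ((d α : ℤ) + 1) / 2 := by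
  classical
  have hK0 : IsFunctionField k (RatFunc k) := isFunctionField_ratFunc
  choose pl hpl using fun α : k => exists_place_X_sub_C α
  have hinj : ∀ α β : k, pl α = pl β → α = β := by
    intro α β h
    by_contra hne
    have h1 := v_X_sub_C_eq_one hne (hpl α)
    rw [h] at h1
    exact absurd (hpl β) (by rw [h1]; exact lt_irrefl _)
  have hkey : ramDiv f = ∑ α ∈ B, Finsupp.single (pl α) (((d α : ℤ) + 1) / 2) := by
    ext p
    rw [ramDiv_apply, div_apply hK0, Finsupp.finsetSum_apply]
    simp only [Finsupp.single_apply]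
    by_cases hex : ∃ α ∈ B, p.1 ((RatFunc.X : RatFunc k) - RatFunc.C α) < 1
    · obtain ⟨α, hα, hpα⟩ := hex
      have hpeq : pl α = p := place_unique_X_sub_C (hpl α) hpα
      have hord := hpole p α hα hpα
      have hdpos : 0 < d α := (hd α hα).pos
      rw [if_pos (by rw [hord]; omega), hord, Finset.sum_eq_single α]
      · rw [if_pos hpeq]; congr 1; ring
      · intro β _ hβα
        rw [if_neg]
        intro h
        exact hβα (hinj β α (h.trans hpeq.symm))
      · intro h; exact absurd hα h
    · push Not at hex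
      have hpf := hint p hex
      rw [if_neg (by rw [not_lt, ← v_le_one_iff p hf0]; exact hpf)]
      symm
      apply Finset.sum_eq_zero
      intro α hα
      rw [if_neg]
      intro h
      have := hpl α
      rw [h] at this
      exact absurd this (not_lt.2 (hex α hα))
  rw [hkey, ← degAddHom_apply, map_sum]
  refine Finset.sum_congr rfl fun α _ => ?_
  rw [degAddHom_apply, deg_single, deg_eq_one_of_isAlgClosed hK0]
  simp

end Genus

end Groth.Agent.Lib.Helper2.HC
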