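import Mathlib
import Groth.Agent.Lib.Helper2.FunFld.HC3

set_option autoImplicit false
open scoped WithZero IntermediateField
open FunFld Polynomial

namespace Groth.Agent.Lib.Helper2.HC

open Groth.Agent.Lib.Helper2.FF Groth.Agent.Lib.Helper2.ASG Groth.Agent.Lib.Helper2.HY
  Groth.Agent.Lib.Helper26.FunFldRatPlace

universe u v

section Ultra

variable {k : Type u} {K : Type v} [Field k] [Field K] [Algebra k K]

/-- ultrametric independence: coefficients of the terms with pairwise distinct values `> 1`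
vanish when the other terms are integral -/
theorem coeff_eq_zero_of_distinct_val {ι : Type*} (P : Place k K) (fam : ι → K) (c : ι → k)
    (s : Finset ι) (hsum : ∑ i ∈ s, c i • fam i = 0) (J : Set ι)
    (hJ1 : ∀ i ∈ J, 1 < P.1 (fam i))
    (hJ2 : ∀ i ∈ J, ∀ i' ∈ J, P.1 (fam i) = P.1 (fam i') → i = i')
    (hJ3 : ∀ i ∈ s, i ∉ J → c i = 0 ∨ P.1 (fam i) ≤ 1) :
    ∀ i ∈ s, i ∈ J → c i = 0 := by
  classical
  by_contra hcon
  push Not at hcon
  obtain ⟨i₁, hi₁s, hi₁J, hci₁⟩ := hcon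
  set s' := s.filter (fun i => i ∈ J ∧ c i ≠ 0) with hs'
  have hne : s'.Nonempty := ⟨i₁, by rw [hs', Finset.mem_filter]; exact ⟨hi₁s, hi₁J, hci₁⟩⟩
  obtain ⟨i₀, hi₀, hmax⟩ := Finset.exists_max_image s' (fun i => P.1 (fam i)) hne
  rw [hs', Finset.mem_filter] at hi₀
  obtain ⟨hi₀s, hi₀J, hci₀⟩ := hi₀
  have hv0 : P.1 (c i₀ • fam i₀) = P.1 (fam i₀) := v_smul P _ _ hci₀
  have hpos : 1 < P.1 (fam i₀) := hJ1 i₀ hi₀J
  have hlt : ∀ i ∈ s.erase i₀, P.1 (c i • fam i) < P.1 (fam i₀) := by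
    intro i hi
    obtain ⟨hne, his⟩ := Finset.mem_erase.1 hi
    by_cases hci : c i = 0
    · rw [hci, zero_smul, map_zero]
      exact lt_trans zero_lt_one hpos
    rw [v_smul P _ _ hci]
    by_cases hiJ : i ∈ J
    · have hmem : i ∈ s' := by rw [hs', Finset.mem_filter]; exact ⟨his, hiJ, hci⟩
      have hle := hmax i hmem
      rcases eq_or_lt_of_le hle with h | h
      · exact absurd (hJ2 i hiJ i₀ hi₀J h) hne
      · exact h
    · rcases hJ3 i his hiJ with h | h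
      · exact absurd h hci
      · exact lt_of_le_of_lt h hpos
  have hsplit := Finset.add_sum_erase s (fun i => c i • fam i) hi₀s
  rw [hsum] at hsplit
  have h1 : P.1 (∑ i ∈ s.erase i₀, c i • fam i) < P.1 (c i₀ • fam i₀) := by
    rw [hv0]
    exact Valuation.map_sum_lt _ (ne_of_gt (lt_trans zero_lt_one hpos)) hlt
  have h2 := Valuation.map_add_eq_of_lt_left P.1 h1
  rw [hsplit, map_zero, hv0] at h2
  exact absurd h2.symm (ne_of_gt (lt_trans zero_lt_one hpos))

end Ultra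

section Vals

variable {k : Type u} [Field k]

theorem v_inv_pow_same {p : Place k (RatFunc k)} {α : k}
    (hp : p.1 ((RatFunc.X : RatFunc k) - RatFunc.C α) < 1) (m : ℕ) :
    p.1 ((((RatFunc.X : RatFunc k) - RatFunc.C α)⁻¹) ^ m) = WithZero.exp (m : ℤ) := by
  rw [map_pow, map_inv₀, v_X_sub_C_eq hp, ← WithZero.exp_neg, ← WithZero.exp_nsmul]
  congr 1
  simp

theorem v_inv_pow_ne {p : Place k (RatFunc k)} {α β : k} (h : β ≠ α)
    (hp : p.1 ((RatFunc.X : RatFunc k) - RatFunc.C α) < 1) (m : ℕ) :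
    p.1 ((((RatFunc.X : RatFunc k) - RatFunc.C β)⁻¹) ^ m) = 1 := by
  rw [map_pow, map_inv₀, v_X_sub_C_eq_one (Ne.symm h) hp, inv_one, one_pow]

theorem v_X_of_ne {p : Place k (RatFunc k)} {α : k} (h : α ≠ 0)
    (hp : p.1 ((RatFunc.X : RatFunc k) - RatFunc.C α) < 1) : p.1 (RatFunc.X : RatFunc k) = 1 := by
  have hX : (RatFunc.X : RatFunc k) = RatFunc.X - RatFunc.C 0 := by rw [map_zero, sub_zero]
  rw [hX]; exact v_X_sub_C_eq_one h hp

theorem v_X_of_zero {p : Place k (RatFunc k)}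
    (hp : p.1 ((RatFunc.X : RatFunc k) - RatFunc.C 0) < 1) :
    p.1 (RatFunc.X : RatFunc k) = WithZero.exp (-1 : ℤ) := by
  have hX : (RatFunc.X : RatFunc k) = RatFunc.X - RatFunc.C 0 := by rw [map_zero, sub_zero]
  rw [hX]; exact v_X_sub_C_eq hp

theorem v_frac_X {p : Place k (RatFunc k)} {α b : k} (hb : b ≠ 0)
    (hp : p.1 ((RatFunc.X : RatFunc k) - RatFunc.C α) < 1) :
    (b = α ∨ α = 0 → p.1 ((RatFunc.C b : RatFunc k) / (RatFunc.X * (RatFunc.X - RatFunc.C b))) =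
      WithZero.exp (1 : ℤ)) ∧
    (¬ (b = α ∨ α = 0) →
      p.1 ((RatFunc.C b : RatFunc k) / (RatFunc.X * (RatFunc.X - RatFunc.C b))) = 1) := by
  rw [map_div₀, map_mul, v_C_eq_one p hb]
  constructor
  · rintro (h | h)
    · subst h
      rw [v_X_of_ne hb hp, v_X_sub_C_eq hp, one_mul, one_div, ← WithZero.exp_neg]
      rfl
    · subst h
      rw [v_X_of_zero hp, v_X_sub_C_eq_one (Ne.symm hb) hp, mul_one, one_div, ← WithZero.exp_neg]
      rfl
  · intro h
    push Not at h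
    rw [v_X_of_ne h.2 hp, v_X_sub_C_eq_one (Ne.symm h.1) hp, one_mul, div_one]

end Vals

end Groth.Agent.Lib.Helper2.HC
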