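import Mathlib
import Groth.Agent.Lib.Helper2.FunFld.HC4

set_option autoImplicit false
open scoped WithZero IntermediateField
open FunFld Polynomial

namespace Groth.Agent.Lib.Helper2.HC

open Groth.Agent.Lib.Helper2.FF Groth.Agent.Lib.Helper2.ASG Groth.Agent.Lib.Helper2.HY
  Groth.Agent.Lib.Helper26.FunFldRatPlace

universe u v

variable {k : Type u} [Field k]

/-- index type of the forms `(x - α)^{-(j+1)} dx` -/
abbrev I1 (B : Finset k) (d : k → ℕ) : Type u :=
  {a : ↥B × ℕ // 1 ≤ a.2 ∧ 2 * a.2 + 1 ≤ d (a.1 : k)}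

/-- index type of the forms `α dx / (x (x - α))` -/
abbrev I2 (B : Finset k) : Type u := {b : ↥B // (b : k) ≠ 0}

/-- the partial fraction family in `k(x)` -/
noncomputable def fam₀ (B : Finset k) (d : k → ℕ) : I1 B d ⊕ I2 B → RatFunc k :=
  Sum.elim
    (fun a => (((RatFunc.X : RatFunc k) - RatFunc.C (a.1.1 : k))⁻¹) ^ (a.1.2 + 1))
    (fun b => RatFunc.C (b.1 : k) /
      ((RatFunc.X : RatFunc k) * ((RatFunc.X : RatFunc k) - RatFunc.C (b.1 : k))))

theorem linearIndependent_fam₀ (B : Finset k) (d : k → ℕ) :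
    LinearIndependent k (fam₀ B d) := by
  classical
  rw [linearIndependent_iff']
  intro s c hsum
  choose pl hpl using fun α : k => exists_place_X_sub_C α
  have stage1 : ∀ α₀ : k, α₀ ≠ 0 → ∀ i ∈ s,
      i ∈ {i : I1 B d ⊕ I2 B | Sum.elim (fun a => (a.1.1 : k) = α₀) (fun b => (b.1 : k) = α₀) i} →
      c i = 0 := by
    intro α₀ hα₀
    apply coeff_eq_zero_of_distinct_val (pl α₀) (fam₀ B d) c s hsum
    · rintro (a | b) hi
      · have hi' : (a.1.1 : k) = α₀ := hi
        change 1 < (pl α₀).1 ((((RatFunc.X : RatFunc k) - RatFunc.C (a.1.1 : k))⁻¹) ^ (a.1.2 + 1))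
        rw [hi', v_inv_pow_same (hpl α₀), ← WithZero.exp_zero, WithZero.exp_lt_exp]
        positivity
      · have hi' : (b.1 : k) = α₀ := hi
        change 1 < (pl α₀).1 (RatFunc.C (b.1 : k) /
          ((RatFunc.X : RatFunc k) * ((RatFunc.X : RatFunc k) - RatFunc.C (b.1 : k))))
        rw [(v_frac_X b.2 (hpl α₀)).1 (Or.inl hi'), ← WithZero.exp_zero, WithZero.exp_lt_exp]
        norm_num
    · rintro (a | b) hi (a' | b') hi' hv
      · have h1 : (a.1.1 : k) = α₀ := hi
        have h2 : (a'.1.1 : k) = α₀ := hi'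
        change (pl α₀).1 ((((RatFunc.X : RatFunc k) - RatFunc.C (a.1.1 : k))⁻¹) ^ (a.1.2 + 1)) =
          (pl α₀).1 ((((RatFunc.X : RatFunc k) - RatFunc.C (a'.1.1 : k))⁻¹) ^ (a'.1.2 + 1)) at hv
        rw [h1, h2, v_inv_pow_same (hpl α₀), v_inv_pow_same (hpl α₀), WithZero.exp_inj] at hv
        have hj : a.1.2 = a'.1.2 := by omega
        congr 1
        exact Subtype.ext (Prod.ext (Subtype.ext (h1.trans h2.symm)) hj)
      · exfalso
        have h1 : (a.1.1 : k) = α₀ := hi
        have h2 : (b'.1 : k) = α₀ := hi'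
        change (pl α₀).1 ((((RatFunc.X : RatFunc k) - RatFunc.C (a.1.1 : k))⁻¹) ^ (a.1.2 + 1)) =
          (pl α₀).1 (RatFunc.C (b'.1 : k) /
          ((RatFunc.X : RatFunc k) * ((RatFunc.X : RatFunc k) - RatFunc.C (b'.1 : k)))) at hv
        rw [h1, v_inv_pow_same (hpl α₀), (v_frac_X b'.2 (hpl α₀)).1 (Or.inl h2),
          WithZero.exp_inj] at hv
        have := a.2.1
        omega
      · exfalso
        have h1 : (b.1 : k) = α₀ := hi
        have h2 : (a'.1.1 : k) = α₀ := hi'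
        change (pl α₀).1 (RatFunc.C (b.1 : k) /
          ((RatFunc.X : RatFunc k) * ((RatFunc.X : RatFunc k) - RatFunc.C (b.1 : k)))) =
          (pl α₀).1 ((((RatFunc.X : RatFunc k) - RatFunc.C (a'.1.1 : k))⁻¹) ^ (a'.1.2 + 1)) at hv
        rw [h2, v_inv_pow_same (hpl α₀), (v_frac_X b.2 (hpl α₀)).1 (Or.inl h1),
          WithZero.exp_inj] at hv
        have := a'.2.1
        omega
      · have h1 : (b.1 : k) = α₀ := hi
        have h2 : (b'.1 : k) = α₀ := hi'
        congr 1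
        exact Subtype.ext (Subtype.ext (h1.trans h2.symm))
    · rintro (a | b) _ hi
      · right
        have hi' : (a.1.1 : k) ≠ α₀ := hi
        change (pl α₀).1 ((((RatFunc.X : RatFunc k) - RatFunc.C (a.1.1 : k))⁻¹) ^ (a.1.2 + 1)) ≤ 1
        rw [v_inv_pow_ne hi' (hpl α₀)]
      · right
        have hi' : (b.1 : k) ≠ α₀ := hi
        change (pl α₀).1 (RatFunc.C (b.1 : k) /
          ((RatFunc.X : RatFunc k) * ((RatFunc.X : RatFunc k) - RatFunc.C (b.1 : k)))) ≤ 1
        rw [(v_frac_X b.2 (hpl α₀)).2 (by tauto)]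
  have stage2 : ∀ i ∈ s,
      i ∈ {i : I1 B d ⊕ I2 B | Sum.elim (fun a => (a.1.1 : k) = 0) (fun _ => False) i} →
      c i = 0 := by
    apply coeff_eq_zero_of_distinct_val (pl 0) (fam₀ B d) c s hsum
    · rintro (a | b) hi
      · have hi' : (a.1.1 : k) = 0 := hi
        change 1 < (pl 0).1 ((((RatFunc.X : RatFunc k) - RatFunc.C (a.1.1 : k))⁻¹) ^ (a.1.2 + 1))
        rw [hi', v_inv_pow_same (hpl 0), ← WithZero.exp_zero, WithZero.exp_lt_exp]
        positivity
      · exact absurd hi id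
    · rintro (a | b) hi (a' | b') hi' hv
      · have h1 : (a.1.1 : k) = 0 := hi
        have h2 : (a'.1.1 : k) = 0 := hi'
        change (pl 0).1 ((((RatFunc.X : RatFunc k) - RatFunc.C (a.1.1 : k))⁻¹) ^ (a.1.2 + 1)) =
          (pl 0).1 ((((RatFunc.X : RatFunc k) - RatFunc.C (a'.1.1 : k))⁻¹) ^ (a'.1.2 + 1)) at hv
        rw [h1, h2, v_inv_pow_same (hpl 0), v_inv_pow_same (hpl 0), WithZero.exp_inj] at hv
        have hj : a.1.2 = a'.1.2 := by omega
        congr 1
        exact Subtype.ext (Prod.ext (Subtype.ext (h1.trans h2.symm)) hj)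
      · exact absurd hi' id
      · exact absurd hi id
      · exact absurd hi id
    · rintro (a | b) his hi
      · right
        have hi' : (a.1.1 : k) ≠ 0 := hi
        change (pl 0).1 ((((RatFunc.X : RatFunc k) - RatFunc.C (a.1.1 : k))⁻¹) ^ (a.1.2 + 1)) ≤ 1
        rw [v_inv_pow_ne hi' (hpl 0)]
      · left
        exact stage1 (b.1 : k) b.2 (Sum.inr b) his rfl
  rintro (a | b) hi
  · by_cases h : (a.1.1 : k) = 0
    · exact stage2 (Sum.inl a) hi h
    · exact stage1 (a.1.1 : k) h (Sum.inl a) hi rfl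
  · exact stage1 (b.1 : k) b.2 (Sum.inr b) hi rfl

end Groth.Agent.Lib.Helper2.HC
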