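import Mathlib
import Groth.Agent.Lib.Helper2.FunFld.HC5

set_option autoImplicit false
open scoped WithZero IntermediateField
open FunFld Polynomial

namespace Groth.Agent.Lib.Helper2.HC

universe u v

variable {k : Type u} [Field k]

/-- `I1 B d ≃ Σ α : B, Fin ((d α - 1) / 2)` -/
def equivI1 (B : Finset k) (d : k → ℕ) : I1 B d ≃ Σ α : ↥B, Fin ((d (α : k) - 1) / 2) where
  toFun a := ⟨a.1.1, ⟨a.1.2 - 1, by have := a.2.1; have := a.2.2; omega⟩⟩
  invFun s := ⟨(s.1, s.2.1 + 1), ⟨by omega, by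
    have := s.2.2
    show 2 * (s.2.1 + 1) + 1 ≤ d (s.1 : k)
    omega⟩⟩
  left_inv a := by
    apply Subtype.ext
    apply Prod.ext
    · rfl
    · have := a.2.1
      change a.1.2 - 1 + 1 = a.1.2
      omega
  right_inv s := by
    obtain ⟨α, i⟩ := s
    simp

instance (B : Finset k) (d : k → ℕ) : Finite (I1 B d) := Finite.of_equiv _ (equivI1 B d).symm

omit [Field k] in
theorem card_I1 (B : Finset k) (d : k → ℕ) :
    Nat.card (I1 B d) = ∑ α ∈ B, (d α - 1) / 2 := by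
  rw [Nat.card_congr (equivI1 B d), Nat.card_sigma]
  simp only [Nat.card_eq_fintype_card, Fintype.card_fin]
  exact Finset.sum_coe_sort B (fun α => (d α - 1) / 2)

/-- `I2 B ≃ B \ {0}` -/
def equivI2 [DecidableEq k] (B : Finset k) : I2 B ≃ ↥(B.erase 0) where
  toFun b := ⟨b.1.1, Finset.mem_erase.2 ⟨b.2, b.1.2⟩⟩
  invFun c := ⟨⟨c.1, (Finset.mem_erase.1 c.2).2⟩, (Finset.mem_erase.1 c.2).1⟩
  left_inv b := rfl
  right_inv c := rfl

theorem card_I2 {B : Finset k} (h0 : (0 : k) ∈ B) : Nat.card (I2 B) = B.card - 1 := by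
  classical
  rw [Nat.card_congr (equivI2 B), Nat.card_eq_fintype_card, Fintype.card_coe,
    Finset.card_erase_of_mem h0]

theorem card_index {B : Finset k} {d : k → ℕ} (h0 : (0 : k) ∈ B) (hd : ∀ β ∈ B, Odd (d β)) :
    ((Nat.card (I1 B d ⊕ I2 B) : ℕ) : ℤ) = ∑ α ∈ B, ((d α : ℤ) + 1) / 2 - 1 := by
  rw [Nat.card_sum, card_I1, card_I2 h0]
  have hB : 1 ≤ B.card := Finset.card_pos.2 ⟨0, h0⟩
  have h1 : ∑ α ∈ B, ((d α : ℤ) + 1) / 2 = ∑ α ∈ B, ((((d α - 1) / 2 : ℕ) : ℤ) + 1) := by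
    refine Finset.sum_congr rfl fun α hα => ?_
    obtain ⟨m, hm⟩ := hd α hα
    rw [hm]
    have : (2 * m + 1 - 1) / 2 = m := by omega
    rw [this]
    push_cast
    omega
  rw [h1, Finset.sum_add_distrib]
  simp only [Finset.sum_const, nsmul_eq_mul, mul_one]
  push_cast
  omega

end Groth.Agent.Lib.Helper2.HC
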