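import Mathlib
import Groth.Prelude.Def_LocRes
import Groth.Agent.Lib.Helper2.FunFld.HC6
import Groth.Agent.Lib.Helper2.FunFld.AR4

set_option autoImplicit false
open LaurentSeries HahnSeries KaehlerDifferential FunFld Polynomial

namespace Groth.Agent.Lib.Helper2.HC

open Groth.Agent.Lib.Helper2.Tate Groth.Agent.Lib.Helper2.FF Groth.Agent.Lib.Helper2.HF
  Groth.Agent.Lib.Helper2.HY Groth.Agent.Lib.Helper26.FunFldRatPlace
  Groth.Agent.Lib.Helper2.ASG Groth.Agent.Lib.Helper2.AR

universe u v w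

variable {k : Type u} {K : Type v} {F : Type w} [Field k] [Field K] [Field F] [Algebra k K]
  [Algebra k F] [Algebra (RatFunc k) K] [IsScalarTower k (RatFunc k) K]
variable {P : Place k K} {φ : K →ₐ[k] F⸨X⸩}

variable [IsAlgClosed k] [CharP k 2]
  (hdeg : Module.finrank (RatFunc k) K = 2) [Algebra.IsSeparable (RatFunc k) K]
  {y : K} (hy : y ∉ Set.range (algebraMap (RatFunc k) K)) {f : RatFunc k}
  (heq : y ^ 2 + y = algebraMap (RatFunc k) K f)
  {B : Finset k} (h0 : (0 : k) ∈ B) {d : k → ℕ} (hd : ∀ β ∈ B, Odd (d β))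
  (hpole : ∀ (p : FunFld.Place k (RatFunc k)) (β : k), β ∈ B →
      p.1 ((RatFunc.X : RatFunc k) - RatFunc.C β) < 1 → p.ord f = -(d β : ℤ))
  (hint : ∀ p : FunFld.Place k (RatFunc k),
      (∀ β ∈ B, 1 ≤ p.1 ((RatFunc.X : RatFunc k) - RatFunc.C β)) → p.1 f ≤ 1)

include hdeg hy heq h0 hd hpole hint in
/-- the partial fraction forms are regular -/
theorem vDiff_fam_le_one (hφ : LocRes.IsExpansionAt P.1 φ) (i : I1 B d ⊕ I2 B) :
    P.1 (algebraMap (RatFunc k) K (fam₀ B d i)) *
      Valued.v (LocRes.D F (φ (algebraMap (RatFunc k) K RatFunc.X))) ≤ 1 := by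
  classical
  set x : K := algebraMap (RatFunc k) K RatFunc.X with hx
  have hf0 : f ≠ 0 := f_ne_zero hy heq
  have hX0 : (RatFunc.X : RatFunc k) ≠ 0 := RatFunc.X_ne_zero
  by_cases hex : ∃ α₀ ∈ B, P.1 (x - algebraMap k K α₀) < 1
  · obtain ⟨α₀, hα₀, hP⟩ := hex
    obtain ⟨p, he, hp, hpf, hvx, hvy⟩ := over_pole hdeg hy heq hd hpole hα₀ hP
    obtain ⟨m, hm⟩ := hd α₀ hα₀
    have hd1 : 1 ≤ m + 1 := by omega
    have hord : p.1 f = WithZero.exp (2 * ((m + 1 : ℕ) : ℤ) - 1) := by
      rw [v_eq_exp_neg_ord p hf0, hpf, hm]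
      congr 1
      push_cast
      ring
    have hXle : p.1 (RatFunc.X : RatFunc k) ≤ 1 := v_X_le_one_of_X_sub_C hp
    have hD := v_D_X_le_of_finite_pole hφ he hXle heq hd1 hord
    rw [he]
    have hbound : ∀ r : RatFunc k, p.1 r ^ 2 ≤ WithZero.exp ((d α₀ : ℤ) + 1) →
        p.1 r ^ 2 * Valued.v (LocRes.D F (φ x)) ≤ 1 := by
      intro r hr
      calc p.1 r ^ 2 * Valued.v (LocRes.D F (φ x))
          ≤ WithZero.exp ((d α₀ : ℤ) + 1) * WithZero.exp (-(2 * ((m + 1 : ℕ) : ℤ))) :=
            mul_le_mul' hr hD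
        _ = 1 := by
            rw [← WithZero.exp_add, ← WithZero.exp_zero, hm]
            congr 1
            push_cast
            ring
    apply hbound
    rcases i with a | b
    · change p.1 ((((RatFunc.X : RatFunc k) - RatFunc.C (a.1.1 : k))⁻¹) ^ (a.1.2 + 1)) ^ 2 ≤ _
      by_cases ha : (a.1.1 : k) = α₀
      · rw [ha, v_inv_pow_same hp, ← WithZero.exp_nsmul, WithZero.exp_le_exp]
        have := a.2.2
        rw [ha] at this
        simp only [nsmul_eq_mul]
        push_cast
        have h3 : (2 * (a.1.2 : ℤ) + 1) ≤ d α₀ := by exact_mod_cast this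
        linarith
      · rw [v_inv_pow_ne ha hp, one_pow, ← WithZero.exp_zero, WithZero.exp_le_exp]
        positivity
    · change p.1 (RatFunc.C (b.1 : k) /
        ((RatFunc.X : RatFunc k) * ((RatFunc.X : RatFunc k) - RatFunc.C (b.1 : k)))) ^ 2 ≤ _
      by_cases hb : (b.1 : k) = α₀ ∨ α₀ = 0
      · rw [(v_frac_X b.2 hp).1 hb, ← WithZero.exp_nsmul, WithZero.exp_le_exp]
        simp only [nsmul_eq_mul]
        have : (1 : ℤ) ≤ d α₀ := by rw [hm]; push_cast; omega
        push_cast
        linarith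
      · rw [(v_frac_X b.2 hp).2 hb, one_pow, ← WithZero.exp_zero, WithZero.exp_le_exp]
        positivity
  · push Not at hex
    obtain ⟨-, p, he⟩ := not_pole hdeg hy heq hint hex
    have hpB : ∀ β ∈ B, 1 ≤ p.1 ((RatFunc.X : RatFunc k) - RatFunc.C β) := by
      intro β hβ
      have h1 := hex β hβ
      rwa [hx, ← algebraMap_X_sub_C, he, pow_one] at h1
    have hPx : P.1 x = p.1 RatFunc.X := by rw [hx, he, pow_one]
    rw [he, pow_one]
    have hC : ∀ c : k, p.1 (RatFunc.C c : RatFunc k) ≤ 1 := by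
      intro c
      have : (RatFunc.C c : RatFunc k) = algebraMap k (RatFunc k) c := by
        rw [RatFunc.algebraMap_eq_C]
      rw [this]; exact p.2.1 c
    by_cases hXle : p.1 (RatFunc.X : RatFunc k) ≤ 1
    · -- finite, away from the poles: everything is a unit
      have hunit : ∀ β ∈ B, p.1 ((RatFunc.X : RatFunc k) - RatFunc.C β) = 1 := by
        intro β hβ
        refine le_antisymm ?_ (hpB β hβ)
        exact (Valuation.map_sub _ _ _).trans (max_le hXle (hC β))
      have hDx : Valued.v (LocRes.D F (φ x)) ≤ 1 :=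
        D_mem_Fil_zero_of_le hφ (by rw [hPx]; exact hXle)
      have hfam : p.1 (fam₀ B d i) = 1 := by
        rcases i with a | b
        · change p.1 ((((RatFunc.X : RatFunc k) - RatFunc.C (a.1.1 : k))⁻¹) ^ (a.1.2 + 1)) = 1
          rw [map_pow, map_inv₀, hunit _ a.1.1.2, inv_one, one_pow]
        · change p.1 (RatFunc.C (b.1 : k) /
            ((RatFunc.X : RatFunc k) * ((RatFunc.X : RatFunc k) - RatFunc.C (b.1 : k)))) = 1
          have hX1 : p.1 (RatFunc.X : RatFunc k) = 1 := by
            have := hunit 0 h0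
            rwa [map_zero, sub_zero] at this
          rw [map_div₀, map_mul, v_C_eq_one p b.2, hX1, hunit _ b.1.2, one_mul, div_one]
      rw [hfam, one_mul]
      exact hDx
    · -- the infinite place
      have hp' : p.ord (RatFunc.X : RatFunc k) < 0 := (one_lt_v_iff p hX0).1 (not_le.1 hXle)
      have hpX : p.1 (RatFunc.X : RatFunc k) = WithZero.exp (1 : ℤ) := by
        rw [v_eq_exp_neg_ord p hX0, ord_X_inf p hp']; rfl
      have hsub : ∀ β : k, p.1 ((RatFunc.X : RatFunc k) - RatFunc.C β) = WithZero.exp (1 : ℤ) := by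
        intro β
        rw [← hpX, sub_eq_add_neg]
        apply Valuation.map_add_eq_of_lt_left
        rw [Valuation.map_neg]
        exact lt_of_le_of_lt (hC β) (not_le.1 hXle)
      have hDx := v_D_le_of_one_lt (k := k) hφ (hPx.trans hpX)
      have hfam : p.1 (fam₀ B d i) ≤ WithZero.exp (-2 : ℤ) := by
        rcases i with a | b
        · change p.1 ((((RatFunc.X : RatFunc k) - RatFunc.C (a.1.1 : k))⁻¹) ^ (a.1.2 + 1)) ≤ _
          rw [map_pow, map_inv₀, hsub, ← WithZero.exp_neg, ← WithZero.exp_nsmul,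
            WithZero.exp_le_exp]
          have := a.2.1
          simp only [nsmul_eq_mul]
          push_cast
          have h3 : (1 : ℤ) ≤ a.1.2 := by exact_mod_cast this
          linarith
        · change p.1 (RatFunc.C (b.1 : k) /
            ((RatFunc.X : RatFunc k) * ((RatFunc.X : RatFunc k) - RatFunc.C (b.1 : k)))) ≤ _
          rw [map_div₀, map_mul, v_C_eq_one p b.2, hpX, hsub, ← WithZero.exp_add, one_div,
            ← WithZero.exp_neg]
          norm_num
      calc p.1 (fam₀ B d i) * Valued.v (LocRes.D F (φ x))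
          ≤ WithZero.exp (-2 : ℤ) * WithZero.exp ((1 : ℤ) + 1) := mul_le_mul' hfam hDx
        _ = 1 := by
            rw [← WithZero.exp_add, ← WithZero.exp_zero]
            norm_num

end Groth.Agent.Lib.Helper2.HC
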