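import Mathlib
import Groth.Agent.Lib.Helper2.FunFld.HC7

set_option autoImplicit false
open scoped WithZero IntermediateField
open FunFld Polynomial

namespace Groth.Agent.Lib.Helper2.HC

open Groth.Agent.Lib.Helper2.FF Groth.Agent.Lib.Helper2.ASG Groth.Agent.Lib.Helper2.HY
  Groth.Agent.Lib.Helper26.FunFldRatPlace

universe u v

section Ultra

variable {k : Type u} {K : Type v} [Field k] [Field K] [Algebra k K]

/-- if the terms of value `> 1` of an integral sum have values distinct from all other terms,
then every term is integral -/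
theorem le_one_of_distinct_val {ι : Type*} (P : Place k K) (a : ι → K) (s : Finset ι)
    (hsum : P.1 (∑ i ∈ s, a i) ≤ 1)
    (hd : ∀ i ∈ s, ∀ i' ∈ s, i ≠ i' → 1 < P.1 (a i) → P.1 (a i) ≠ P.1 (a i')) :
    ∀ i ∈ s, P.1 (a i) ≤ 1 := by
  classical
  by_contra hcon
  push Not at hcon
  obtain ⟨i₁, hi₁s, hi₁⟩ := hcon
  obtain ⟨i₀, hi₀, hmax⟩ := Finset.exists_max_image s (fun i => P.1 (a i)) ⟨i₁, hi₁s⟩
  have hpos : 1 < P.1 (a i₀) := lt_of_lt_of_le hi₁ (hmax i₁ hi₁s)
  have hlt : ∀ i ∈ s.erase i₀, P.1 (a i) < P.1 (a i₀) := by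
    intro i hi
    obtain ⟨hne, his⟩ := Finset.mem_erase.1 hi
    rcases eq_or_lt_of_le (hmax i his) with h | h
    · exact absurd h.symm (hd i₀ hi₀ i his (Ne.symm hne) hpos)
    · exact h
  have hsplit := Finset.add_sum_erase s a hi₀
  have h1 : P.1 (∑ i ∈ s.erase i₀, a i) < P.1 (a i₀) :=
    Valuation.map_sum_lt _ (ne_of_gt (lt_trans zero_lt_one hpos)) hlt
  have h2 := Valuation.map_add_eq_of_lt_left P.1 h1
  rw [hsplit] at h2
  rw [h2] at hsum
  exact absurd hpos (not_lt.2 hsum)

end Ultra

section Local

variable {k : Type u} {K : Type v} [Field k] [Field K] [Algebra k K] [Algebra (RatFunc k) K]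
  [IsScalarTower k (RatFunc k) K]

/-- local independence of the classes `y (x - α)^j` at the place over a pole of odd order -/
theorem local_indep {P : Place k K} {p : Place k (RatFunc k)} (he : IsOverWith P p 2)
    {t y : K} {dα : ℕ} (hvt : P.1 t = WithZero.exp (-2 : ℤ))
    (hvy : P.1 y = WithZero.exp (dα : ℤ)) (hodd : Odd dα)
    {ι : Type*} (s : Finset ι) (c : ι → k) (jj : ι → ℕ)
    (hjj : ∀ i ∈ s, 2 * jj i + 1 ≤ dα)
    (hinj : ∀ i ∈ s, ∀ i' ∈ s, jj i = jj i' → i = i') (A : RatFunc k)
    (h : P.1 (∑ i ∈ s, c i • (y * t ^ (jj i)) - algebraMap (RatFunc k) K A) ≤ 1) :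
    ∀ i ∈ s, c i = 0 := by
  classical
  obtain ⟨m, hm⟩ := hodd
  have hval : ∀ i : ι, c i ≠ 0 →
      P.1 (c i • (y * t ^ (jj i))) = WithZero.exp ((dα : ℤ) - 2 * jj i) := by
    intro i hci
    rw [v_smul P _ _ hci, map_mul, map_pow, hvy, hvt, ← WithZero.exp_nsmul, ← WithZero.exp_add]
    congr 1
    simp only [nsmul_eq_mul]
    ring
  have hvA : P.1 (algebraMap (RatFunc k) K A) = p.1 A ^ 2 := he A
  -- the index type `Option ι`
  let a : Option ι → K := fun o => match o with
    | none => -algebraMap (RatFunc k) K A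
    | some i => c i • (y * t ^ (jj i))
  let s' : Finset (Option ι) := insert none (s.map Function.Embedding.some)
  have hsum : ∑ o ∈ s', a o = ∑ i ∈ s, c i • (y * t ^ (jj i)) - algebraMap (RatFunc k) K A := by
    rw [Finset.sum_insert (by simp), Finset.sum_map]
    simp only [a, Function.Embedding.some_apply]
    ring
  have hmain := le_one_of_distinct_val P a s' (by rw [hsum]; exact h) (by
    intro o ho o' ho' hne hgt
    rcases o with _ | i
    · -- `none`
      rcases o' with _ | i'
      · exact absurd rfl hne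
      · change P.1 (-algebraMap (RatFunc k) K A) ≠ P.1 (c i' • (y * t ^ (jj i')))
        change 1 < P.1 (-algebraMap (RatFunc k) K A) at hgt
        rw [Valuation.map_neg, hvA] at hgt ⊢
        by_cases hci' : c i' = 0
        · rw [hci', zero_smul, map_zero]
          exact ne_of_gt (lt_trans zero_lt_one hgt)
        rw [hval i' hci']
        have hA0 : p.1 A ≠ 0 := by
          intro h0
          rw [h0] at hgt
          simp at hgt
        rw [← WithZero.exp_log hA0, ← WithZero.exp_nsmul, Ne, WithZero.exp_inj]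
        simp only [nsmul_eq_mul, Nat.cast_ofNat]
        omega
    · have hgt' : 1 < P.1 (c i • (y * t ^ (jj i))) := hgt
      have hci : c i ≠ 0 := by
        intro h0
        rw [h0, zero_smul, map_zero] at hgt'
        exact absurd hgt' (not_lt.2 zero_le)
      rcases o' with _ | i'
      · change P.1 (c i • (y * t ^ (jj i))) ≠ P.1 (-algebraMap (RatFunc k) K A)
        rw [Valuation.map_neg, hvA, hval i hci]
        by_cases hA0 : p.1 A = 0
        · rw [hA0]; simp
        rw [← WithZero.exp_log hA0, ← WithZero.exp_nsmul, Ne, WithZero.exp_inj]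
        simp only [nsmul_eq_mul, Nat.cast_ofNat]
        omega
      · change P.1 (c i • (y * t ^ (jj i))) ≠ P.1 (c i' • (y * t ^ (jj i')))
        rw [hval i hci]
        by_cases hci' : c i' = 0
        · rw [hci', zero_smul, map_zero]; exact WithZero.exp_ne_zero
        rw [hval i' hci', Ne, WithZero.exp_inj]
        have his : i ∈ s := by simpa [s'] using ho
        have his' : i' ∈ s := by simpa [s'] using ho'
        intro heq
        have hj : jj i = jj i' := by omega
        exact hne (congrArg some (hinj i his i' his' hj)))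
  intro i hi
  by_contra hci
  have h1 := hmain (some i) (by simp [s', hi])
  change P.1 (c i • (y * t ^ (jj i))) ≤ 1 at h1
  rw [hval i hci, ← WithZero.exp_zero, WithZero.exp_le_exp] at h1
  have := hjj i hi
  omega

end Local

end Groth.Agent.Lib.Helper2.HC
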