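import Mathlib
import Groth.Agent.Lib.Helper2.FunFld.HC8
import Groth.Agent.Lib.Helper2.FunFld.AdeleG

set_option autoImplicit false
open scoped WithZero IntermediateField
open FunFld Polynomial

namespace Groth.Agent.Lib.Helper2.HC

open Groth.Agent.Lib.Helper2.FF Groth.Agent.Lib.Helper2.ASG Groth.Agent.Lib.Helper2.HY
  Groth.Agent.Lib.Helper26.FunFldRatPlace

universe u v

section Gen

variable {k : Type u} {K : Type v} [Field k] [Field K] [Algebra k K]

theorem single_mem_adele [DecidableEq (Place k K)] (Q : Place k K) (w : K) :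
    (Pi.single Q w : Place k K → K) ∈ adele k K := by
  rw [mem_adele]
  refine (Set.finite_singleton Q).subset fun P hP => ?_
  by_contra hne
  apply hP
  rw [Pi.single_eq_of_ne hne]
  simp

end Gen

section Main

variable {k : Type u} {K : Type v} [Field k] [Field K] [Algebra k K] [Algebra (RatFunc k) K]
  [IsScalarTower k (RatFunc k) K]

variable [IsAlgClosed k] [CharP k 2]
  (hdeg : Module.finrank (RatFunc k) K = 2) [Algebra.IsSeparable (RatFunc k) K]
  {y : K} (hy : y ∉ Set.range (algebraMap (RatFunc k) K)) {f : RatFunc k}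
  (heq : y ^ 2 + y = algebraMap (RatFunc k) K f)
  {B : Finset k} {d : k → ℕ} (hd : ∀ β ∈ B, Odd (d β))
  (hpole : ∀ (p : FunFld.Place k (RatFunc k)) (β : k), β ∈ B →
      p.1 ((RatFunc.X : RatFunc k) - RatFunc.C β) < 1 → p.ord f = -(d β : ℤ))

include hdeg hy heq hd hpole in
/-- the place over a pole is unique, hence fixed by the conjugation -/
theorem place_over_pole_unique {P Q : Place k K} {α : k} (hα : α ∈ B)
    (hP : P.1 (algebraMap (RatFunc k) K RatFunc.X - algebraMap k K α) < 1)
    (hQ : Q.1 (algebraMap (RatFunc k) K RatFunc.X - algebraMap k K α) < 1) : P = Q := by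
  obtain ⟨p, he, hp, hpf, -, -⟩ := over_pole hdeg hy heq hd hpole hα hP
  obtain ⟨q, he', hq, -, -, -⟩ := over_pole hdeg hy heq hd hpole hα hQ
  have hpq : q = p := place_unique_X_sub_C hq hp
  subst hpq
  have hdpos : 0 < d α := (hd α hα).pos
  have hneg : q.ord f < 0 := by rw [hpf]; omega
  have hoddf : Odd (q.ord f) := by
    rw [hpf]
    exact (Odd.natCast (hd α hα)).neg
  obtain ⟨P₀, -, hu⟩ := ((Groth.Agent.S12519.result k K (ringChar.eq k 2) hdeg y hy f heq q).1
    ⟨hneg, hoddf⟩).1
  rw [hu P ⟨2, he⟩, hu Q ⟨2, he'⟩]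

include hdeg hy heq hd hpole in
theorem comapPlace_over_pole (σ : K ≃ₐ[RatFunc k] K) {P : Place k K} {α : k} (hα : α ∈ B)
    (hP : P.1 (algebraMap (RatFunc k) K RatFunc.X - algebraMap k K α) < 1) :
    comapPlace (σ.restrictScalars k) P = P := by
  apply place_over_pole_unique hdeg hy heq hd hpole hα _ hP
  change P.1 (σ (algebraMap (RatFunc k) K RatFunc.X - algebraMap k K α)) < 1
  rw [← algebraMap_X_sub_C, σ.commutes, algebraMap_X_sub_C]
  exact hP

omit [IsAlgClosed k] [CharP k 2] [Algebra.IsSeparable (RatFunc k) K] in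
/-- places over distinct poles are distinct -/
theorem place_ne_of_ne {P Q : Place k K} {α β : k} (hαβ : α ≠ β)
    (hP : P.1 (algebraMap (RatFunc k) K RatFunc.X - algebraMap k K α) < 1)
    (hQ : Q.1 (algebraMap (RatFunc k) K RatFunc.X - algebraMap k K β) < 1) : P ≠ Q := by
  rintro rfl
  have h1 : algebraMap (RatFunc k) K RatFunc.X - algebraMap k K β =
      (algebraMap (RatFunc k) K RatFunc.X - algebraMap k K α) + algebraMap k K (α - β) := by
    rw [map_sub]; ring
  have h2 : P.1 (algebraMap k K (α - β)) = 1 := v_algebraMap P (sub_ne_zero.2 hαβ)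
  rw [h1, Valuation.map_add_eq_of_lt_right _ (by rw [h2]; exact hP), h2] at hQ
  exact lt_irrefl _ hQ

end Main

end Groth.Agent.Lib.Helper2.HC
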