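import Mathlib
import Groth.Agent.Lib.Helper2.FunFld.HC9

set_option autoImplicit false
open scoped WithZero IntermediateField
open FunFld Polynomial

namespace Groth.Agent.Lib.Helper2.HC

open Groth.Agent.Lib.Helper2.FF Groth.Agent.Lib.Helper2.ASG Groth.Agent.Lib.Helper2.HY
  Groth.Agent.Lib.Helper26.FunFldRatPlace

universe u v

section Fam

variable {k : Type u} {K : Type v} [Field k] [Field K] [Algebra k K] [Algebra (RatFunc k) K]

/-- the pole attached to an index -/
def al {B : Finset k} {d : k → ℕ} : I1 B d ⊕ I2 B → k :=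
  Sum.elim (fun a => (a.1.1 : k)) (fun b => (b.1 : k))

/-- the exponent attached to an index -/
def jj {B : Finset k} {d : k → ℕ} : I1 B d ⊕ I2 B → ℕ :=
  Sum.elim (fun a => a.1.2) (fun _ => 0)

theorem al_mem {B : Finset k} {d : k → ℕ} (i : I1 B d ⊕ I2 B) : al i ∈ B := by
  rcases i with a | b
  · exact a.1.1.2
  · exact b.1.2

theorem jj_le {B : Finset k} {d : k → ℕ} (hd : ∀ β ∈ B, Odd (d β)) (i : I1 B d ⊕ I2 B) :
    2 * jj i + 1 ≤ d (al i) := by
  rcases i with a | b
  · exact a.2.2
  · have := (hd _ b.1.2).pos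
    change 2 * 0 + 1 ≤ d (b.1 : k)
    omega

theorem index_ext {B : Finset k} {d : k → ℕ} {i i' : I1 B d ⊕ I2 B} (h1 : al i = al i')
    (h2 : jj i = jj i') : i = i' := by
  rcases i with a | b <;> rcases i' with a' | b'
  · congr 1
    exact Subtype.ext (Prod.ext (Subtype.ext h1) h2)
  · exfalso
    have := a.2.1
    change a.1.2 = 0 at h2
    omega
  · exfalso
    have := a'.2.1
    change 0 = a'.1.2 at h2
    omega
  · congr 1
    exact Subtype.ext (Subtype.ext h1)

/-- the repartition family of `H¹` -/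
noncomputable def famA [DecidableEq (Place k K)] (y : K) (B : Finset k) (d : k → ℕ)
    (Pl : k → Place k K) : I1 B d ⊕ I2 B → (Place k K → K) :=
  Sum.elim
    (fun a => Pi.single (Pl (a.1.1 : k))
      (y * (algebraMap (RatFunc k) K RatFunc.X - algebraMap k K (a.1.1 : k)) ^ a.1.2))
    (fun b => Pi.single (Pl (b.1 : k)) y)

theorem famA_eq [DecidableEq (Place k K)] (y : K) (B : Finset k) (d : k → ℕ)
    (Pl : k → Place k K) (i : I1 B d ⊕ I2 B) :
    famA y B d Pl i = Pi.single (Pl (al i))
      (y * (algebraMap (RatFunc k) K RatFunc.X - algebraMap k K (al i)) ^ (jj i)) := by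
  rcases i with a | b
  · rfl
  · change (Pi.single (Pl (b.1 : k)) y : Place k K → K) =
      Pi.single (Pl (b.1 : k))
        (y * (algebraMap (RatFunc k) K RatFunc.X - algebraMap k K (b.1 : k)) ^ 0)
    rw [pow_zero, mul_one]

end Fam

end Groth.Agent.Lib.Helper2.HC
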