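import Mathlib
import Groth.Agent.Lib.Helper2.FunFld.HC10

set_option autoImplicit false
open scoped WithZero IntermediateField
open FunFld Polynomial

namespace Groth.Agent.Lib.Helper2.HC

open Groth.Agent.Lib.Helper2.FF Groth.Agent.Lib.Helper2.ASG Groth.Agent.Lib.Helper2.HY
  Groth.Agent.Lib.Helper26.FunFldRatPlace

universe u v

section Main

variable {k : Type u} {K : Type v} [Field k] [Field K] [Algebra k K] [Algebra (RatFunc k) K]
  [IsScalarTower k (RatFunc k) K]

variable [IsAlgClosed k] [CharP k 2] (hK : IsFunctionField k K)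
  (hdeg : Module.finrank (RatFunc k) K = 2) [Algebra.IsSeparable (RatFunc k) K]
  {y : K} (hy : y ∉ Set.range (algebraMap (RatFunc k) K)) {f : RatFunc k}
  (heq : y ^ 2 + y = algebraMap (RatFunc k) K f)
  {B : Finset k} (h0 : (0 : k) ∈ B) {d : k → ℕ} (hd : ∀ β ∈ B, Odd (d β))
  (hpole : ∀ (p : FunFld.Place k (RatFunc k)) (β : k), β ∈ B →
      p.1 ((RatFunc.X : RatFunc k) - RatFunc.C β) < 1 → p.ord f = -(d β : ℤ))
  {Pl : k → Place k K}
  (hPl : ∀ β ∈ B, (Pl β).1 (algebraMap (RatFunc k) K RatFunc.X - algebraMap k K β) < 1)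

include hdeg hy heq hd hpole in
theorem comapPlace_fixed (τ : K ≃ₐ[k] K)
    (hτ : τ (algebraMap (RatFunc k) K RatFunc.X) = algebraMap (RatFunc k) K RatFunc.X)
    {P : Place k K} {α : k} (hα : α ∈ B)
    (hP : P.1 (algebraMap (RatFunc k) K RatFunc.X - algebraMap k K α) < 1) :
    comapPlace τ P = P := by
  apply place_over_pole_unique hdeg hy heq hd hpole hα _ hP
  change P.1 (τ (algebraMap (RatFunc k) K RatFunc.X - algebraMap k K α)) < 1
  rw [map_sub, hτ, τ.commutes]
  exact hP

include hK hdeg hy heq h0 hd hpole hPl in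
/-- a combination of the family lying in `A(0) + K` is trivial -/
theorem coeff_eq_zero_of_mem [DecidableEq (Place k K)] (s : Finset (I1 B d ⊕ I2 B))
    (c : I1 B d ⊕ I2 B → k)
    (hmem : ∑ i ∈ s, c i • famA y B d Pl i ∈
      AD (0 : Divisor k K) ⊔ LinearMap.range (diag k K)) : ∀ i ∈ s, c i = 0 := by
  classical
  haveI : FiniteDimensional (RatFunc k) K := Module.finite_of_finrank_pos (by omega)
  haveI : CharP (RatFunc k) 2 :=
    charP_of_injective_algebraMap (algebraMap k (RatFunc k)).injective 2
  set x : K := algebraMap (RatFunc k) K RatFunc.X with hx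
  obtain ⟨σ, hσ⟩ := exists_conj hdeg hy heq
  set σk : K ≃ₐ[k] K := σ.restrictScalars k with hσk
  have hσx : σk x = x := σ.commutes _
  have hσkx' : σk.symm x = x := by rw [AlgEquiv.symm_apply_eq, hσx]
  obtain ⟨a₀, ha₀, _, ⟨z, rfl⟩, hsplit⟩ := Submodule.mem_sup.1 hmem
  set S : Place k K → K := ∑ i ∈ s, c i • famA y B d Pl i with hS
  have hcomp : ∀ Q : Place k K, Q.1 (S Q - z) ≤ 1 := by
    intro Q
    have h1 := ha₀ Q
    have h2 : a₀ Q = S Q - z := by
      rw [← hsplit, Pi.add_apply, diag_apply]; ring
    rw [h2] at h1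
    simpa using h1
  have hat : ∀ Q : Place k K, S Q = ∑ i ∈ s, c i • (famA y B d Pl i Q) := by
    intro Q
    rw [hS, Finset.sum_apply]
    rfl
  have hatP : ∀ α₀ ∈ B, S (Pl α₀) = ∑ i ∈ s.filter (fun i => al i = α₀),
      c i • (y * (x - algebraMap k K α₀) ^ (jj i)) := by
    intro α₀ hα₀
    rw [hat, Finset.sum_filter]
    refine Finset.sum_congr rfl fun i _ => ?_
    rw [famA_eq, Pi.single_apply]
    by_cases h : al i = α₀
    · rw [if_pos h, if_pos (by rw [h]), h]
    · rw [if_neg h, if_neg, smul_zero]
      exact place_ne_of_ne (Ne.symm h) (hPl α₀ hα₀) (hPl (al i) (al_mem i))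
  have haway : ∀ Q : Place k K, (∀ α ∈ B, Q ≠ Pl α) → S Q = 0 := by
    intro Q hQ
    rw [hat]
    apply Finset.sum_eq_zero
    intro i _
    rw [famA_eq, Pi.single_eq_of_ne (hQ (al i) (al_mem i)), smul_zero]
  obtain ⟨A', B', hz⟩ := exists_decomp hdeg hy z
  have hσz : σ z = z + algebraMap (RatFunc k) K B' := by
    rw [hz, map_add, map_mul, σ.commutes, σ.commutes, hσ]
    ring
  -- `B'` is integral everywhere
  have hB'int : ∀ Q : Place k K, Q.1 (algebraMap (RatFunc k) K B') ≤ 1 := by
    intro Q
    by_cases hQ : ∃ α ∈ B, Q = Pl α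
    · obtain ⟨α, hα, rfl⟩ := hQ
      have hfix : comapPlace σk (Pl α) = Pl α :=
        comapPlace_fixed hdeg hy heq hd hpole σk hσx hα (hPl α hα)
      have h1 := hcomp (Pl α)
      have h2 : (Pl α).1 (σ (S (Pl α) - z)) ≤ 1 := by
        have : (comapPlace σk (Pl α)).1 (S (Pl α) - z) ≤ 1 := by rw [hfix]; exact h1
        exact this
      set t : K := x - algebraMap k K α with ht
      have hσt : σ t = t := by
        rw [ht, hx, ← algebraMap_X_sub_C, σ.commutes]
      set r : K := ∑ i ∈ s.filter (fun i => al i = α), c i • t ^ (jj i) with hr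
      have hSr : S (Pl α) = y * r := by
        rw [hatP α hα, hr, Finset.mul_sum]
        refine Finset.sum_congr rfl fun i _ => ?_
        rw [mul_smul_comm]
      have hσr : σ r = r := by
        rw [hr, map_sum]
        refine Finset.sum_congr rfl fun i _ => ?_
        have : σ (c i • t ^ jj i) = σk (c i • t ^ jj i) := rfl
        rw [this, map_smul, map_pow]
        congr 2
      have hvt : (Pl α).1 t ≤ 1 := (hPl α hα).le
      have hr1 : (Pl α).1 r ≤ 1 := by
        rw [hr]
        refine Valuation.map_sum_le _ fun i _ => ?_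
        exact (v_smul_le (Pl α) _ _).trans (by rw [map_pow]; exact pow_le_one' hvt _)
      have h3 : σ (S (Pl α) - z) - (S (Pl α) - z) = r - algebraMap (RatFunc k) K B' := by
        rw [map_sub, hSr, map_mul, hσ, hσr, hσz]; ring
      have h4 : algebraMap (RatFunc k) K B' = r - (σ (S (Pl α) - z) - (S (Pl α) - z)) := by
        rw [h3]; ring
      rw [h4]
      exact (Valuation.map_sub _ _ _).trans (max_le hr1
        ((Valuation.map_sub _ _ _).trans (max_le h2 h1)))
    · push Not at hQ
      have h1 := hcomp Q
      rw [haway Q hQ, zero_sub, Valuation.map_neg] at h1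
      have hQ' : ∀ α ∈ B, comapPlace σk Q ≠ Pl α := by
        intro α hα h
        apply hQ α hα
        have h5 := comapPlace_symm_comapPlace σk Q
        rw [h] at h5
        rw [← h5]
        exact comapPlace_fixed hdeg hy heq hd hpole σk.symm hσkx' hα (hPl α hα)
      have h2 := hcomp (comapPlace σk Q)
      rw [haway _ hQ', zero_sub, Valuation.map_neg] at h2
      have h2' : Q.1 (σ z) ≤ 1 := h2
      have h4 : algebraMap (RatFunc k) K B' = σ z - z := by rw [hσz]; ring
      rw [h4]
      exact (Valuation.map_sub _ _ _).trans (max_le h2' h1)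
  have hB'L : algebraMap (RatFunc k) K B' ∈ L (0 : Divisor k K) := by
    intro Q
    simpa using hB'int Q
  rw [L_zero hK, Submodule.mem_one] at hB'L
  obtain ⟨b, hb⟩ := hB'L
  -- the place over `0`: `b = 0`
  have hb0 : b = 0 := by
    obtain ⟨p, he, hp, hpf, hvx, hvy⟩ := over_pole hdeg hy heq hd hpole h0 (hPl 0 h0)
    have h1 := hcomp (Pl 0)
    rw [hatP 0 h0] at h1
    set t : K := x - algebraMap k K 0 with ht
    set s₀ := s.filter (fun i => al i = 0) with hs₀
    let c' : Option (I1 B d ⊕ I2 B) → k := fun o => o.elim (-b) c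
    let j' : Option (I1 B d ⊕ I2 B) → ℕ := fun o => o.elim 0 jj
    let s' : Finset (Option (I1 B d ⊕ I2 B)) := insert none (s₀.map Function.Embedding.some)
    have hsum : ∑ o ∈ s', c' o • (y * t ^ (j' o)) - algebraMap (RatFunc k) K A' =
        ∑ i ∈ s₀, c i • (y * t ^ jj i) - z := by
      rw [Finset.sum_insert (by simp), Finset.sum_map]
      simp only [c', j', Option.elim_none, Option.elim_some, Function.Embedding.some_apply,
        pow_zero, mul_one]
      rw [hz, ← hb, neg_smul, Algebra.smul_def]
      ring
    have hres := local_indep he hvx hvy (hd 0 h0) s' c' j'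
      (by
        intro o ho
        rcases o with _ | i
        · have := (hd 0 h0).pos
          change 2 * 0 + 1 ≤ d 0
          omega
        · have hi : i ∈ s₀ := by simpa [s'] using ho
          have hal : al i = 0 := (Finset.mem_filter.1 hi).2
          have := jj_le hd i
          rw [hal] at this
          exact this)
      (by
        intro o ho o' ho' hj
        rcases o with _ | i <;> rcases o' with _ | i'
        · rfl
        · exfalso
          have hi : i' ∈ s₀ := by simpa [s'] using ho'
          have hal : al i' = 0 := (Finset.mem_filter.1 hi).2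
          have hj' : jj i' = 0 := hj.symm
          rcases i' with a | b'
          · have := a.2.1
            change a.1.2 = 0 at hj'
            omega
          · exact b'.2 hal
        · exfalso
          have hi : i ∈ s₀ := by simpa [s'] using ho
          have hal : al i = 0 := (Finset.mem_filter.1 hi).2
          have hj' : jj i = 0 := hj
          rcases i with a | b'
          · have := a.2.1
            change a.1.2 = 0 at hj'
            omega
          · exact b'.2 hal
        · have hi : i ∈ s₀ := by simpa [s'] using ho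
          have hi' : i' ∈ s₀ := by simpa [s'] using ho'
          have hal : al i = 0 := (Finset.mem_filter.1 hi).2
          have hal' : al i' = 0 := (Finset.mem_filter.1 hi').2
          exact congrArg some (index_ext (hal.trans hal'.symm) hj))
      A' (by rw [hsum]; exact h1)
    have := hres none (by simp [s'])
    simpa [c'] using this
  -- all coefficients vanish
  have hzA : z = algebraMap (RatFunc k) K A' := by
    rw [hz, ← hb, hb0, map_zero, zero_mul, add_zero]
  intro i hi
  have hα₀ := al_mem i
  obtain ⟨p, he, hp, hpf, hvx, hvy⟩ := over_pole hdeg hy heq hd hpole hα₀ (hPl (al i) hα₀)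
  have h1 := hcomp (Pl (al i))
  rw [hatP (al i) hα₀, hzA] at h1
  have hres := local_indep he hvx hvy (hd _ hα₀) (s.filter (fun i' => al i' = al i)) c jj
    (by
      intro i' hi'
      have hal : al i' = al i := (Finset.mem_filter.1 hi').2
      have := jj_le hd i'
      rw [hal] at this
      exact this)
    (by
      intro i₁ h₁ i₂ h₂ hj
      have hal₁ : al i₁ = al i := (Finset.mem_filter.1 h₁).2
      have hal₂ : al i₂ = al i := (Finset.mem_filter.1 h₂).2
      exact index_ext (hal₁.trans hal₂.symm) hj)
    A' h1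
  exact hres i (Finset.mem_filter.2 ⟨hi, rfl⟩)

end Main

end Groth.Agent.Lib.Helper2.HC
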