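import Mathlib
import Groth.Agent.Lib.Helper2.FunFld.Inertia4

set_option autoImplicit false
open scoped WithZero IntermediateField NNReal Pointwise
open FunFld Polynomial
open Groth.Agent.Lib.Helper2.RelDim

/-! The inertia group of a place in a Galois extension of function fields, as a subgroup of the
Galois group, and its fixed field. -/

namespace Groth.Agent.Lib.Helper2.HF

open Groth.Agent.Lib.Helper2.FF

variable {k K K' : Type*} [Field k] [Field K] [Field K'] [Algebra k K] [Algebra K K'] [Algebra k K']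
  [IsScalarTower k K K']

variable (K) in
/-- the inertia group inside the Galois group -/
noncomputable def TT (Q : FunFld.Place k K') : Subgroup (K' ≃ₐ[K] K') :=
  ((Q.O).inertiaSubgroup K).map ((Q.O).decompositionSubgroup K).subtype

theorem mem_TT_iff (Q : FunFld.Place k K') (σ : K' ≃ₐ[K] K') :
    σ ∈ TT K Q ↔ ∀ z : K', Q.1 z ≤ 1 → Q.1 (σ z - z) < 1 := by
  constructor
  · rintro ⟨τ, hτ, rfl⟩
    exact (mem_inertiaSubgroup_iff Q τ).1 hτ
  · intro h
    have hD : σ ∈ (Q.O).decompositionSubgroup K := by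
      rw [mem_decompositionSubgroup_iff]
      symm
      apply place_eq_of_lt_one_imp
      intro z hz
      rw [v_galPlace]
      have h1 : σ z = z + (σ z - z) := by ring
      rw [h1]
      exact lt_of_le_of_lt (Valuation.map_add _ _ _) (max_lt hz (h z hz.le))
    exact ⟨⟨σ, hD⟩, (mem_inertiaSubgroup_iff Q ⟨σ, hD⟩).2 h, rfl⟩

theorem v_apply_of_mem_TT {Q : FunFld.Place k K'} {σ : K' ≃ₐ[K] K'} (hσ : σ ∈ TT K Q) (z : K') :
    Q.1 (σ z) = Q.1 z := by
  obtain ⟨τ, -, rfl⟩ := hσ
  have h1 := (mem_decompositionSubgroup_iff τ.1 Q).1 τ.2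
  have h2 : v (galPlace τ.1 Q) z = v Q (τ.1 z) := v_galPlace τ.1 Q z
  rw [h1] at h2
  exact h2.symm

theorem card_TT [FiniteDimensional K K'] [IsGalois K K'] (hK : IsFunctionField k K)
    {P : FunFld.Place k K} {Q : FunFld.Place k K'} {e : ℕ} (he : IsOverWith Q P e)
    [Algebra.IsSeparable k (IsLocalRing.ResidueField Q.O)] : Nat.card (TT K Q) = e := by
  unfold TT
  rw [Subgroup.card_map_of_injective (Subgroup.subtype_injective _)]
  exact card_inertia P hK Q he

variable (K) in
/-- the inertia field -/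
noncomputable def LL (Q : FunFld.Place k K') : IntermediateField K K' :=
  IntermediateField.fixedField (TT K Q)

theorem v_mem_LL [FiniteDimensional K K'] [IsGalois K K'] (hK : IsFunctionField k K)
    {P : FunFld.Place k K} {Q : FunFld.Place k K'} {e : ℕ} (he : IsOverWith Q P e)
    [Algebra.IsSeparable k (IsLocalRing.ResidueField Q.O)] {a : K'} (ha : a ∈ LL K Q) :
    ∃ γ : ℤᵐ⁰, Q.1 a = γ ^ e := by
  have h1 := (unramified_iff_le_inertiaField hK Q (LL K Q)).2 le_rfl
  rw [range_comap_eq he] at h1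
  have h2 : Q.1 a ∈ Set.range (Q.1.comap (algebraMap (LL K Q) K')) := ⟨⟨a, ha⟩, rfl⟩
  rw [h1] at h2
  obtain ⟨γ, hγ⟩ := h2
  exact ⟨γ, hγ.symm⟩

theorem finrank_LL [FiniteDimensional K K'] [IsGalois K K'] (hK : IsFunctionField k K)
    {P : FunFld.Place k K} {Q : FunFld.Place k K'} {e : ℕ} (he : IsOverWith Q P e)
    [Algebra.IsSeparable k (IsLocalRing.ResidueField Q.O)] :
    Module.finrank (LL K Q) K' = e := by
  classical
  unfold LL
  rw [IntermediateField.finrank_fixedField_eq_card]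
  exact card_TT hK he

theorem apply_eq_of_mem_LL {Q : FunFld.Place k K'} {σ : K' ≃ₐ[K] K'} (hσ : σ ∈ TT K Q) {a : K'}
    (ha : a ∈ LL K Q) : σ a = a := by
  have := (IntermediateField.mem_fixedField_iff (TT K Q) a).1 ha
  exact this σ hσ

theorem mem_LL_of_forall {Q : FunFld.Place k K'} {a : K'}
    (h : ∀ σ ∈ TT K Q, σ a = a) : a ∈ LL K Q :=
  (IntermediateField.mem_fixedField_iff (TT K Q) a).2 h

variable (K) in
/-- the integral elements of the inertia field, as a `k`-subalgebra -/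
noncomputable def AA (Q : FunFld.Place k K') : Subalgebra k K' where
  carrier := {a | a ∈ LL K Q ∧ Q.1 a ≤ 1}
  mul_mem' {a b} ha hb := ⟨mul_mem ha.1 hb.1, by
    rw [map_mul]; exact mul_le_one' ha.2 hb.2⟩
  add_mem' {a b} ha hb := ⟨add_mem ha.1 hb.1,
    (Valuation.map_add _ _ _).trans (max_le ha.2 hb.2)⟩
  algebraMap_mem' c := ⟨by
    rw [IsScalarTower.algebraMap_apply k K K']
    exact (LL K Q).algebraMap_mem _, Q.2.1 c⟩

theorem mem_AA_iff {Q : FunFld.Place k K'} {a : K'} : a ∈ AA K Q ↔ a ∈ LL K Q ∧ Q.1 a ≤ 1 :=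
  Iff.rfl

end Groth.Agent.Lib.Helper2.HF
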