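import Mathlib
import Groth.Agent.Lib.Helper2.FunFld.HF5

set_option autoImplicit false
open scoped WithZero IntermediateField NNReal Pointwise
open FunFld Polynomial
open Groth.Agent.Lib.Helper2.RelDim

/-! Powers of a local parameter form an integral basis over the inertia field. -/

namespace Groth.Agent.Lib.Helper2.HF

open Groth.Agent.Lib.Helper2.FF

theorem v_sum_eq_sup {R : Type*} [Field R] (v : Valuation R ℤᵐ⁰) {ι : Type*} [DecidableEq ι]
    (s : Finset ι) (f : ι → R)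
    (hd : ∀ i ∈ s, ∀ j ∈ s, i ≠ j → f i ≠ 0 → v (f i) ≠ v (f j)) :
    v (∑ i ∈ s, f i) = s.sup (fun i => v (f i)) := by
  induction s using Finset.induction_on with
  | empty => simp
  | insert a s ha ih =>
    have ih' := ih (fun i hi j hj => hd i (Finset.mem_insert_of_mem hi) j (Finset.mem_insert_of_mem hj))
    rw [Finset.sum_insert ha, Finset.sup_insert]
    by_cases h0 : f a = 0
    · rw [h0, zero_add, map_zero, ih']
      exact (bot_sup_eq _).symm
    · have hne : v (f a) ≠ v (∑ i ∈ s, f i) := by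
        rw [ih']
        rcases s.eq_empty_or_nonempty with hs | hs
        · rw [hs, Finset.sup_empty]
          exact (Valuation.ne_zero_iff _).2 h0
        · obtain ⟨i, hi, hsup⟩ := Finset.exists_mem_eq_sup s hs (fun i => v (f i))
          rw [hsup]
          apply hd a (Finset.mem_insert_self a s) i (Finset.mem_insert_of_mem hi) _ h0
          rintro rfl
          exact ha hi
      rw [Valuation.map_add_of_distinct_val v hne, ih']

variable {k K K' : Type*} [Field k] [Field K] [Field K'] [Algebra k K] [Algebra K K'] [Algebra k K']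
  [IsScalarTower k K K']

section

variable [FiniteDimensional K K'] [IsGalois K K'] (hK : IsFunctionField k K)
  {P : FunFld.Place k K} {Q : FunFld.Place k K'} {e : ℕ} (he : IsOverWith Q P e)
  [Algebra.IsSeparable k (IsLocalRing.ResidueField Q.O)]

include hK he

theorem v_mul_pow_ne {s : K'} (hs : Q.1 s = WithZero.exp (-1)) {c : Fin e → K'}
    (hc : ∀ j, c j ∈ LL K Q) (i j : Fin e) (hij : i ≠ j) (hi : c i * s ^ (i : ℕ) ≠ 0) :
    Q.1 (c i * s ^ (i : ℕ)) ≠ Q.1 (c j * s ^ (j : ℕ)) := by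
  intro heq
  have hci : c i ≠ 0 := left_ne_zero_of_mul hi
  have hj : c j * s ^ (j : ℕ) ≠ 0 := by
    intro h0
    rw [h0, map_zero] at heq
    exact hi ((Valuation.zero_iff _).1 heq)
  have hcj : c j ≠ 0 := left_ne_zero_of_mul hj
  obtain ⟨γi, hγi⟩ := v_mem_LL hK he (hc i)
  obtain ⟨γj, hγj⟩ := v_mem_LL hK he (hc j)
  have he1 : 1 ≤ e := isOverWith_one_le he
  have hγi0 : γi ≠ 0 := by
    rintro rfl
    rw [zero_pow (by omega)] at hγi
    exact hci ((Valuation.zero_iff _).1 hγi)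
  have hγj0 : γj ≠ 0 := by
    rintro rfl
    rw [zero_pow (by omega)] at hγj
    exact hcj ((Valuation.zero_iff _).1 hγj)
  rw [map_mul, map_mul, map_pow, map_pow, hs, hγi, hγj, ← WithZero.exp_log hγi0,
    ← WithZero.exp_log hγj0, ← WithZero.exp_nsmul, ← WithZero.exp_nsmul, ← WithZero.exp_nsmul,
    ← WithZero.exp_nsmul, ← WithZero.exp_add, ← WithZero.exp_add, WithZero.exp_inj] at heq
  simp only [nsmul_eq_mul] at heq
  have h1 : (e : ℤ) * (WithZero.log γi - WithZero.log γj) = (i : ℕ) - (j : ℕ) := by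
    ring_nf at heq ⊢
    linarith
  have hi' := i.2
  have hj' := j.2
  have hdvd : (e : ℤ) ∣ ((i : ℕ) : ℤ) - ((j : ℕ) : ℤ) := ⟨_, h1.symm⟩
  have : ((i : ℕ) : ℤ) - ((j : ℕ) : ℤ) = 0 := by
    apply Int.eq_zero_of_abs_lt_dvd hdvd
    rw [abs_lt]
    constructor <;> omega
  apply hij
  apply Fin.ext
  omega

theorem linearIndependent_pow {s : K'} (hs : Q.1 s = WithZero.exp (-1)) :
    LinearIndependent (LL K Q) (fun j : Fin e => s ^ (j : ℕ)) := by
  classical
  have hs0 : s ≠ 0 := by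
    rintro rfl
    rw [map_zero] at hs
    exact WithZero.exp_ne_zero hs.symm
  rw [Fintype.linearIndependent_iff]
  intro c hsum j
  have hsum' : ∑ i, (c i : K') * s ^ (i : ℕ) = 0 := by
    rw [← hsum]
    apply Finset.sum_congr rfl
    intro i _
    rw [IntermediateField.smul_def, smul_eq_mul]
  have h1 := v_sum_eq_sup Q.1 Finset.univ (fun i : Fin e => (c i : K') * s ^ (i : ℕ))
    (fun i _ j _ hij hi => v_mul_pow_ne hK he hs (c := fun i => (c i : K')) (fun i => (c i).2) i j hij hi)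
  rw [hsum', map_zero] at h1
  have h2 : Q.1 ((c j : K') * s ^ (j : ℕ)) ≤ 0 := by
    rw [h1]
    exact Finset.le_sup (f := fun i : Fin e => Q.1 ((c i : K') * s ^ (i : ℕ))) (Finset.mem_univ j)
  have h3 : (c j : K') * s ^ (j : ℕ) = 0 := (Valuation.zero_iff _).1 (le_antisymm h2 zero_le)
  have h4 : (c j : K') = 0 := by
    rcases mul_eq_zero.1 h3 with h | h
    · exact h
    · exact absurd (eq_zero_of_pow_eq_zero h) hs0
  exact Subtype.ext h4

theorem exists_repr {s : K'} (hs : Q.1 s = WithZero.exp (-1)) (z : K') :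
    ∃ a : Fin e → K', (∀ j, a j ∈ LL K Q) ∧ z = ∑ j, a j * s ^ (j : ℕ) ∧
      ∀ j, Q.1 (a j * s ^ (j : ℕ)) ≤ Q.1 z := by
  classical
  have hli := linearIndependent_pow hK he hs
  have hcard : Fintype.card (Fin e) = Module.finrank (LL K Q) K' := by
    rw [Fintype.card_fin, finrank_LL hK he]
  have he1 : 1 ≤ e := isOverWith_one_le he
  haveI : Nonempty (Fin e) := ⟨⟨0, by omega⟩⟩
  let B := basisOfLinearIndependentOfCardEqFinrank hli hcard
  have hz : z = ∑ j, ((B.repr z j : LL K Q) : K') * s ^ (j : ℕ) := by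
    have h1 := B.sum_repr z
    conv_lhs => rw [← h1]
    apply Finset.sum_congr rfl
    intro j _
    have hB : B j = s ^ (j : ℕ) := by
      change basisOfLinearIndependentOfCardEqFinrank hli hcard j = _
      rw [coe_basisOfLinearIndependentOfCardEqFinrank]
    rw [hB, IntermediateField.smul_def, smul_eq_mul]
  refine ⟨fun j => ((B.repr z j : LL K Q) : K'), fun j => (B.repr z j).2, hz, ?_⟩
  intro j
  have h1 := v_sum_eq_sup Q.1 Finset.univ
    (fun i : Fin e => ((B.repr z i : LL K Q) : K') * s ^ (i : ℕ))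
    (fun i _ j _ hij hi => v_mul_pow_ne hK he hs
      (c := fun i => ((B.repr z i : LL K Q) : K')) (fun i => (B.repr z i).2) i j hij hi)
  rw [← hz] at h1
  rw [h1]
  exact Finset.le_sup (f := fun i : Fin e => Q.1 (((B.repr z i : LL K Q) : K') * s ^ (i : ℕ)))
    (Finset.mem_univ j)

theorem v_le_one_of_mul_pow {s : K'} (hs : Q.1 s = WithZero.exp (-1)) {a : K'}
    (ha : a ∈ LL K Q) {j : ℕ} (hj : j < e) (h : Q.1 (a * s ^ j) ≤ 1) : Q.1 a ≤ 1 := by
  by_cases ha0 : a = 0
  · rw [ha0, map_zero]; exact zero_le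
  obtain ⟨γ, hγ⟩ := v_mem_LL hK he ha
  have hγ0 : γ ≠ 0 := by
    rintro rfl
    rw [zero_pow (by omega)] at hγ
    exact ha0 ((Valuation.zero_iff _).1 hγ)
  rw [map_mul, map_pow, hs, hγ, ← WithZero.exp_log hγ0, ← WithZero.exp_nsmul,
    ← WithZero.exp_nsmul, ← WithZero.exp_add, ← WithZero.exp_zero, WithZero.exp_le_exp] at h
  simp only [nsmul_eq_mul] at h
  rw [hγ, ← WithZero.exp_log hγ0, ← WithZero.exp_nsmul, ← WithZero.exp_zero, WithZero.exp_le_exp]
  simp only [nsmul_eq_mul]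
  by_contra hcon
  push Not at hcon
  have h1 : 0 < WithZero.log γ := by
    by_contra h2
    push Not at h2
    have : (e : ℤ) * WithZero.log γ ≤ 0 := mul_nonpos_of_nonneg_of_nonpos (by positivity) h2
    omega
  have h2 : (e : ℤ) * 1 ≤ (e : ℤ) * WithZero.log γ :=
    mul_le_mul_of_nonneg_left (by omega) (by positivity)
  omega

theorem v_apply_sub_le {s : K'} (hs : Q.1 s = WithZero.exp (-1)) {σ : K' ≃ₐ[K] K'}
    (hσ : σ ∈ TT K Q) {z : K'} (hz : Q.1 z ≤ 1) : Q.1 (σ z - z) ≤ Q.1 (σ s - s) := by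
  obtain ⟨a, haL, hza, hle⟩ := exists_repr hK he hs z
  have hs1 : Q.1 s ≤ 1 := by
    rw [hs, ← WithZero.exp_zero, WithZero.exp_le_exp]; norm_num
  have hσs1 : Q.1 (σ s) ≤ 1 := by rw [v_apply_of_mem_TT hσ]; exact hs1
  have h1 : σ z - z = ∑ j : Fin e, a j * ((σ s) ^ (j : ℕ) - s ^ (j : ℕ)) := by
    conv_lhs => rw [hza]
    rw [map_sum, ← Finset.sum_sub_distrib]
    apply Finset.sum_congr rfl
    intro j _
    rw [map_mul, map_pow, apply_eq_of_mem_LL hσ (haL j), mul_sub]
  rw [h1]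
  apply Valuation.map_sum_le
  intro j _
  have ha1 : Q.1 (a j) ≤ 1 := v_le_one_of_mul_pow hK he hs (haL j) j.2 ((hle j).trans hz)
  have h2 := Commute.geom_sum₂_mul (Commute.all (σ s) s) (j : ℕ)
  rw [← h2, map_mul, map_mul]
  have h3 : Q.1 (∑ i ∈ Finset.range (j : ℕ), σ s ^ i * s ^ ((j : ℕ) - 1 - i)) ≤ 1 := by
    apply Valuation.map_sum_le
    intro i _
    rw [map_mul, map_pow, map_pow]
    exact mul_le_one' (pow_le_one' hσs1 _) (pow_le_one' hs1 _)
  calc Q.1 (a j) * (Q.1 (∑ i ∈ Finset.range (j : ℕ), σ s ^ i * s ^ ((j : ℕ) - 1 - i)) *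
        Q.1 (σ s - s)) ≤ 1 * (1 * Q.1 (σ s - s)) :=
        mul_le_mul' ha1 (mul_le_mul' h3 le_rfl)
    _ = Q.1 (σ s - s) := by rw [one_mul, one_mul]

end

end Groth.Agent.Lib.Helper2.HF
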