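import Mathlib
import Groth.Agent.Lib.Helper2.FunFld.HF6
import Groth.Agent.Lib.Helper2.FunFld.HF4

set_option autoImplicit false
open scoped WithZero IntermediateField NNReal Pointwise
open FunFld Polynomial
open Groth.Agent.Lib.Helper2.RelDim

/-! Properties of the subalgebra `AA` and the polynomial `∏ (X - σ s)` over the inertia group. -/

namespace Groth.Agent.Lib.Helper2.HF

open Groth.Agent.Lib.Helper2.FF

variable {k K K' : Type*} [Field k] [Field K] [Field K'] [Algebra k K] [Algebra K K'] [Algebra k K']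
  [IsScalarTower k K K']

theorem exists_poly_of_le_one (Q : FunFld.Place k K')
    [Algebra.IsSeparable k (IsLocalRing.ResidueField Q.O)] {a : K'} (ha : Q.1 a ≤ 1) :
    ∃ h : k[X], Q.1 (aeval a h) < 1 ∧ Q.1 (aeval a (derivative h)) = 1 := by
  set x : Q.O := ⟨a, (mem_O_iff Q a).2 ha⟩ with hx
  set ab := resAlg Q x with hab
  have hsep : (minpoly k ab).Separable := Algebra.IsSeparable.isSeparable k ab
  refine ⟨minpoly k ab, ?_, ?_⟩
  · have h1 : (aeval x (minpoly k ab) : Q.O) = (⟨aeval a (minpoly k ab), by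
        have := aeval_algHom_apply (IsScalarTower.toAlgHom k Q.O K') x (minpoly k ab)
        rw [← show (IsScalarTower.toAlgHom k Q.O K') x = a from rfl, this]
        exact Subtype.mem _⟩ : Q.O) := by
      apply Subtype.ext
      have := aeval_algHom_apply (IsScalarTower.toAlgHom k Q.O K') x (minpoly k ab)
      exact this.symm
    have h2 : resAlg Q (aeval x (minpoly k ab)) = 0 := by
      rw [← aeval_algHom_apply, ← hab, minpoly.aeval]
    rw [resAlg_eq_zero_iff, h1] at h2
    exact h2
  · have h1 : (aeval x (derivative (minpoly k ab)) : Q.O) =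
        (⟨aeval a (derivative (minpoly k ab)), by
        have := aeval_algHom_apply (IsScalarTower.toAlgHom k Q.O K') x (derivative (minpoly k ab))
        rw [← show (IsScalarTower.toAlgHom k Q.O K') x = a from rfl, this]
        exact Subtype.mem _⟩ : Q.O) := by
      apply Subtype.ext
      have := aeval_algHom_apply (IsScalarTower.toAlgHom k Q.O K') x (derivative (minpoly k ab))
      exact this.symm
    have h2 : resAlg Q (aeval x (derivative (minpoly k ab))) ≠ 0 := by
      rw [← aeval_algHom_apply, ← hab]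
      exact hsep.aeval_derivative_ne_zero (minpoly.aeval k ab)
    rw [Ne, resAlg_eq_zero_iff, h1] at h2
    have h3 : Q.1 (aeval a (derivative (minpoly k ab))) ≤ 1 := by
      have := (aeval x (derivative (minpoly k ab)) : Q.O).2
      rw [h1] at this
      exact (mem_O_iff Q _).1 this
    exact le_antisymm h3 (not_lt.1 h2)

section

variable [FiniteDimensional K K'] [IsGalois K K'] (hK : IsFunctionField k K)
  {P : FunFld.Place k K} {Q : FunFld.Place k K'} {e : ℕ} (he : IsOverWith Q P e)
  [Algebra.IsSeparable k (IsLocalRing.ResidueField Q.O)]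

include hK he

theorem v_le_of_lt_one {a : K'} (ha : a ∈ LL K Q) (h : Q.1 a < 1) :
    Q.1 a ≤ WithZero.exp (-(e : ℤ)) := by
  by_cases ha0 : a = 0
  · rw [ha0, map_zero]; exact zero_le
  have he1 : 1 ≤ e := isOverWith_one_le he
  obtain ⟨γ, hγ⟩ := v_mem_LL hK he ha
  have hγ0 : γ ≠ 0 := by
    rintro rfl
    rw [zero_pow (by omega)] at hγ
    exact ha0 ((Valuation.zero_iff _).1 hγ)
  rw [hγ, ← WithZero.exp_log hγ0, ← WithZero.exp_nsmul, ← WithZero.exp_zero,
    WithZero.exp_lt_exp] at h
  simp only [nsmul_eq_mul] at h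
  rw [hγ, ← WithZero.exp_log hγ0, ← WithZero.exp_nsmul, WithZero.exp_le_exp]
  simp only [nsmul_eq_mul]
  have h1 : WithZero.log γ < 0 := by
    by_contra h2
    push Not at h2
    have : 0 ≤ (e : ℤ) * WithZero.log γ := mul_nonneg (by positivity) h2
    omega
  have h2 : (e : ℤ) * WithZero.log γ ≤ (e : ℤ) * (-1) :=
    mul_le_mul_of_nonneg_left (by omega) (by positivity)
  omega

theorem exists_mul_of_lt_one {t : K} (ht : P.1 t = WithZero.exp (-1)) {a : K'}
    (ha : a ∈ AA K Q) (h : Q.1 a < 1) : ∃ u ∈ AA K Q, a = algebraMap K K' t * u := by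
  have htQ : Q.1 (algebraMap K K' t) = WithZero.exp (-(e : ℤ)) := by
    rw [he t, ht, ← WithZero.exp_nsmul]
    simp
  have ht0 : algebraMap K K' t ≠ 0 := by
    intro h0
    rw [h0, map_zero] at htQ
    exact WithZero.exp_ne_zero htQ.symm
  refine ⟨a / algebraMap K K' t, ⟨div_mem ha.1 ((LL K Q).algebraMap_mem t), ?_⟩, ?_⟩
  · rw [map_div₀, htQ]
    exact div_le_one_of_le₀ (v_le_of_lt_one hK he ha.1 h) zero_le
  · field_simp

end

end Groth.Agent.Lib.Helper2.HF
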