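import Mathlib
import Groth.Agent.Lib.Helper2.FunFld.HF7

set_option autoImplicit false
open scoped WithZero IntermediateField NNReal Pointwise
open FunFld Polynomial
open Groth.Agent.Lib.Helper2.RelDim

/-! The polynomial `∏ (X - σ s)` over the inertia group. -/

namespace Groth.Agent.Lib.Helper2.HF

open Groth.Agent.Lib.Helper2.FF

variable {k K K' : Type*} [Field k] [Field K] [Field K'] [Algebra k K] [Algebra K K'] [Algebra k K']
  [IsScalarTower k K K']

variable (K) in
/-- the polynomial `∏_{σ ∈ T} (X - σ s)` -/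
noncomputable def pp (Q : FunFld.Place k K') [Fintype (TT K Q)] (s : K') : K'[X] :=
  ∏ σ : TT K Q, (X - C (σ.1 s))

variable (Q : FunFld.Place k K') [Fintype (TT K Q)] (s : K')

theorem aeval_pp : aeval s (pp K Q s) = 0 := by
  unfold pp
  rw [map_prod]
  apply Finset.prod_eq_zero (Finset.mem_univ (1 : TT K Q))
  rw [map_sub, aeval_X, aeval_C]
  change s - algebraMap K' K' ((1 : K' ≃ₐ[K] K') s) = 0
  rw [Algebra.algebraMap_self_apply, AlgEquiv.one_apply, sub_self]

theorem map_pp {τ : K' ≃ₐ[K] K'} (hτ : τ ∈ TT K Q) :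
    (pp K Q s).map (τ : K' →+* K') = pp K Q s := by
  unfold pp
  rw [Polynomial.map_prod]
  have h1 : ∀ σ : TT K Q, (X - C (σ.1 s)).map (τ : K' →+* K') =
      X - C (((⟨τ, hτ⟩ : TT K Q) * σ).1 s) := by
    intro σ
    rw [Polynomial.map_sub, Polynomial.map_X, Polynomial.map_C]
    rfl
  rw [Finset.prod_congr rfl (fun σ _ => h1 σ)]
  exact Equiv.prod_comp (Equiv.mulLeft (⟨τ, hτ⟩ : TT K Q)) (fun σ : TT K Q => X - C (σ.1 s))

theorem coeff_pp_mem_LL (i : ℕ) : (pp K Q s).coeff i ∈ LL K Q := by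
  apply mem_LL_of_forall
  intro τ hτ
  have h1 := congrArg (fun q => q.coeff i) (map_pp Q s hτ)
  simp only [coeff_map] at h1
  exact h1

theorem v_coeff_pp_le (hs1 : Q.1 s ≤ 1) (i : ℕ) : Q.1 ((pp K Q s).coeff i) ≤ 1 := by
  have hmem : pp K Q s ∈ liftsRing (Q.O.subtype) := by
    unfold pp
    apply Subring.prod_mem
    intro σ _
    apply Subring.sub_mem
    · rw [← lifts_iff_liftsRing]; exact X_mem_lifts _
    · rw [← lifts_iff_liftsRing]
      apply C'_mem_lifts
      refine ⟨⟨σ.1 s, ?_⟩, rfl⟩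
      rw [mem_O_iff]
      change Q.1 (σ.1 s) ≤ 1
      rw [v_apply_of_mem_TT σ.2]
      exact hs1
  rw [← lifts_iff_liftsRing, lifts_iff_coeff_lifts] at hmem
  obtain ⟨x, hx⟩ := hmem i
  rw [← hx]
  exact (mem_O_iff Q _).1 x.2

theorem coeff_zero_pp : (pp K Q s).coeff 0 = ∏ σ : TT K Q, (- (σ.1 s)) := by
  unfold pp
  rw [coeff_zero_eq_eval_zero, eval_prod]
  apply Finset.prod_congr rfl
  intro σ _
  rw [eval_sub, eval_X, eval_C, zero_sub]

theorem v_coeff_zero_pp : Q.1 ((pp K Q s).coeff 0) = (Q.1 s) ^ (Fintype.card (TT K Q)) := by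
  rw [coeff_zero_pp, map_prod]
  have : ∀ σ : TT K Q, Q.1 (- (σ.1 s)) = Q.1 s := by
    intro σ
    rw [Valuation.map_neg, v_apply_of_mem_TT σ.2]
  rw [Finset.prod_congr rfl (fun σ _ => this σ), Finset.prod_const, Finset.card_univ]

theorem aeval_derivative_pp [DecidableEq (TT K Q)] :
    aeval s (derivative (pp K Q s)) = ∏ σ ∈ (Finset.univ : Finset (TT K Q)).erase 1, (s - σ.1 s) := by
  unfold pp
  rw [← Finset.mul_prod_erase Finset.univ _ (Finset.mem_univ (1 : TT K Q)), derivative_mul,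
    map_add, map_mul, map_mul, derivative_sub, derivative_X, derivative_C, sub_zero, map_one,
    one_mul]
  have h1 : aeval s (X - C (((1 : TT K Q) : K' ≃ₐ[K] K') s)) = 0 := by
    rw [map_sub, aeval_X, aeval_C]
    change s - algebraMap K' K' ((1 : K' ≃ₐ[K] K') s) = 0
    rw [Algebra.algebraMap_self_apply, AlgEquiv.one_apply, sub_self]
  rw [h1, zero_mul, add_zero, map_prod]
  apply Finset.prod_congr rfl
  intro σ _
  rw [map_sub, aeval_X, aeval_C, Algebra.algebraMap_self_apply]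

end Groth.Agent.Lib.Helper2.HF
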