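import Mathlib
import Groth.Agent.Lib.Helper2.FunFld.HF8

set_option autoImplicit false
open scoped WithZero IntermediateField NNReal Pointwise
open FunFld Polynomial LaurentSeries
open Groth.Agent.Lib.Helper2.RelDim

/-! The order of `dt` above equals the order of `∏_{σ ≠ 1} (s - σ s)` over the inertia group. -/

namespace Groth.Agent.Lib.Helper2.HF

open Groth.Agent.Lib.Helper2.FF Groth.Agent.Lib.Helper2.Tate

universe u v w

variable {k : Type u} {K : Type v} {K' : Type v} {F' : Type w} [Field k] [Field K] [Field K']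
  [Algebra k K] [Algebra K K'] [Algebra k K'] [IsScalarTower k K K'] [Field F'] [Algebra k F']

theorem prod_v_eq_val_D [FiniteDimensional K K'] [IsGalois K K'] (hK : IsFunctionField k K)
    {P : FunFld.Place k K} {Q : FunFld.Place k K'} {e : ℕ} (he : IsOverWith Q P e)
    [Algebra.IsSeparable k (IsLocalRing.ResidueField Q.O)]
    [Fintype (TT K Q)] [DecidableEq (TT K Q)]
    {ψ : K' →ₐ[k] F'⸨X⸩} (hψ : LocRes.IsExpansionAt Q.1 ψ)
    {t : K} (ht : P.1 t = WithZero.exp (-1))
    (hDt : LocRes.D F' (ψ (algebraMap K K' t)) ≠ 0) {s : K'} (hs : Q.1 s = WithZero.exp (-1)) :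
    ∏ σ ∈ (Finset.univ : Finset (TT K Q)).erase 1, Q.1 (s - σ.1 s) =
      Valued.v (LocRes.D F' (ψ (algebraMap K K' t))) := by
  have he1 : 1 ≤ e := isOverWith_one_le he
  set t' := algebraMap K K' t with ht'
  have htQ : Q.1 t' = WithZero.exp (-(e : ℤ)) := by
    rw [he t, ht, ← WithZero.exp_nsmul]
    simp
  have ht0 : t' ≠ 0 := by
    intro h0
    rw [h0, map_zero] at htQ
    exact WithZero.exp_ne_zero htQ.symm
  have hV₀0 : Valued.v (LocRes.D F' (ψ t')) ≠ 0 := (Valuation.ne_zero_iff _).2 hDt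
  have hD := D_le_of_subalgebra hψ (AA K Q) he1 htQ hDt (fun a ha => ha.2)
    (fun a ha h => exists_mul_of_lt_one hK he ht ha h)
    (fun a ha => exists_poly_of_le_one Q ha.2)
  have hs1 : Q.1 s ≤ 1 := by
    rw [hs, ← WithZero.exp_zero, WithZero.exp_le_exp]; norm_num
  have hcoefA : ∀ i, (pp K Q s).coeff i ∈ AA K Q := fun i =>
    ⟨coeff_pp_mem_LL Q s i, v_coeff_pp_le Q s hs1 i⟩
  have hp0v : Q.1 ((pp K Q s).coeff 0) = WithZero.exp (-(e : ℤ)) := by
    rw [v_coeff_zero_pp, hs, ← Nat.card_eq_fintype_card, card_TT hK he, ← WithZero.exp_nsmul]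
    simp
  set u := (pp K Q s).coeff 0 / t' with hu
  have huA : u ∈ AA K Q := by
    refine ⟨div_mem (hcoefA 0).1 ((LL K Q).algebraMap_mem t), ?_⟩
    rw [hu, map_div₀, htQ, hp0v, div_self WithZero.exp_ne_zero]
  have huv : Q.1 u = 1 := by
    rw [hu, map_div₀, htQ, hp0v, div_self WithZero.exp_ne_zero]
  have hp0eq : (pp K Q s).coeff 0 = t' * u := by
    rw [hu]; field_simp
  have h0 := val_D_mul_unit hψ he1 htQ hDt huv (hD u huA)
  have hmain := val_aeval_derivative' hψ hs (aeval_pp Q s) hV₀0 (fun i => hD _ (hcoefA i))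
    (by rw [hp0eq]; exact h0)
  rw [aeval_derivative_pp, map_prod] at hmain
  exact hmain

end Groth.Agent.Lib.Helper2.HF
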