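import Mathlib
import Groth.Agent.Lib.Helper2.FunFld.HF9

set_option autoImplicit false
open scoped WithZero IntermediateField NNReal Pointwise
open FunFld Polynomial LaurentSeries
open Groth.Agent.Lib.Helper2.RelDim

/-! Counting lemmas for Hilbert's different formula. -/

namespace Groth.Agent.Lib.Helper2.HF

open Groth.Agent.Lib.Helper2.FF Groth.Agent.Lib.Helper2.Tate

theorem sum_card_filter_eq_sum {α : Type*} [DecidableEq α] (S : Finset α) (n : α → ℕ) (N : ℕ)
    (hN : ∀ σ ∈ S, n σ ≤ N) :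
    ∑ i ∈ Finset.range (N + 1), (if 1 ≤ i then ((S.filter (fun σ => i ≤ n σ)).card : ℤ) else 0) =
      ∑ σ ∈ S, (n σ : ℤ) := by
  have h1 : ∀ i ∈ Finset.range (N + 1),
      (if 1 ≤ i then ((S.filter (fun σ => i ≤ n σ)).card : ℤ) else 0) =
        ∑ σ ∈ S, (if 1 ≤ i ∧ i ≤ n σ then (1 : ℤ) else 0) := by
    intro i _
    by_cases hi : 1 ≤ i
    · rw [if_pos hi, Finset.card_filter]
      push_cast
      apply Finset.sum_congr rfl
      intro σ _
      simp [hi]
    · rw [if_neg hi]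
      symm
      apply Finset.sum_eq_zero
      intro σ _
      rw [if_neg]
      exact fun h => hi h.1
  rw [Finset.sum_congr rfl h1, Finset.sum_comm]
  apply Finset.sum_congr rfl
  intro σ hσ
  have h2 : ∑ i ∈ Finset.range (N + 1), (if 1 ≤ i ∧ i ≤ n σ then (1 : ℤ) else 0) =
      ((Finset.Icc 1 (n σ)).card : ℤ) := by
    rw [← Finset.sum_filter, Finset.sum_const, nsmul_eq_mul, mul_one]
    congr 2
    ext i
    simp only [Finset.mem_filter, Finset.mem_range, Finset.mem_Icc]
    have := hN σ hσ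
    constructor
    · rintro ⟨_, h⟩; exact h
    · intro h; exact ⟨by omega, h⟩
  rw [h2, Nat.card_Icc]
  simp

theorem prod_subgroup_erase {G M : Type*} [Group G] [CommMonoid M] (H : Subgroup G) [Fintype H]
    [DecidableEq H] [Fintype G] [DecidableEq G] [DecidablePred (· ∈ H)] (f : G → M) :
    ∏ σ ∈ (Finset.univ : Finset H).erase 1, f σ.1 =
      ∏ σ ∈ (Finset.univ.filter (· ∈ H)).erase 1, f σ := by
  apply Finset.prod_bij (fun σ _ => σ.1)
  · intro σ hσ
    rw [Finset.mem_erase] at hσ ⊢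
    refine ⟨fun h => hσ.1 (Subtype.ext h), ?_⟩
    rw [Finset.mem_filter]
    exact ⟨Finset.mem_univ _, σ.2⟩
  · intro σ _ τ _ h
    exact Subtype.ext h
  · intro τ hτ
    rw [Finset.mem_erase, Finset.mem_filter] at hτ
    refine ⟨⟨τ, hτ.2.2⟩, ?_, rfl⟩
    rw [Finset.mem_erase]
    exact ⟨fun h => hτ.1 (congrArg Subtype.val h), Finset.mem_univ _⟩
  · intro σ _
    rfl

end Groth.Agent.Lib.Helper2.HF
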