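import Mathlib
import Groth.Agent.Lib.Helper2.FunFld.HF10

set_option autoImplicit false
open scoped WithZero IntermediateField NNReal Pointwise
open FunFld Polynomial LaurentSeries
open Groth.Agent.Lib.Helper2.RelDim

/-! Hilbert's different formula, core form. -/

namespace Groth.Agent.Lib.Helper2.HF

open Groth.Agent.Lib.Helper2.FF Groth.Agent.Lib.Helper2.Tate

universe u v w

theorem prod_exp {α : Type*} [DecidableEq α] (S : Finset α) (a : α → ℤ) :
    ∏ σ ∈ S, (WithZero.exp (a σ) : ℤᵐ⁰) = WithZero.exp (∑ σ ∈ S, a σ) := by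
  induction S using Finset.induction_on with
  | empty => simp
  | insert x S hx ih => rw [Finset.prod_insert hx, Finset.sum_insert hx, ih, WithZero.exp_add]

variable {k : Type u} {K : Type v} {K' : Type v} {F' : Type w} [Field k] [Field K] [Field K']
  [Algebra k K] [Algebra K K'] [Algebra k K'] [IsScalarTower k K K'] [Field F'] [Algebra k F']

set_option maxHeartbeats 800000 in
theorem hilbert_core [FiniteDimensional K K'] [IsGalois K K'] (hK : IsFunctionField k K)
    {P : FunFld.Place k K} {Q : FunFld.Place k K'} {e : ℕ} (he : IsOverWith Q P e)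
    [Algebra.IsSeparable k (IsLocalRing.ResidueField Q.O)]
    {ψ : K' →ₐ[k] F'⸨X⸩} (hψ : LocRes.IsExpansionAt Q.1 ψ)
    {t : K} (ht : P.1 t = WithZero.exp (-1))
    (hDt : LocRes.D F' (ψ (algebraMap K K' t)) ≠ 0) :
    (Function.support fun i : ℕ => (Nat.card {σ : K' ≃ₐ[K] K' //
        ∀ z : K', Q.1 z ≤ 1 → Q.1 (σ z - z) ≤ WithZero.exp (-(i : ℤ))} : ℤ) - 1).Finite ∧
    - WithZero.log (Valued.v (LocRes.D F' (ψ (algebraMap K K' t)))) = ∑ᶠ i : ℕ, if 1 ≤ i then
      (Nat.card {σ : K' ≃ₐ[K] K' // ∀ z : K', Q.1 z ≤ 1 → Q.1 (σ z - z) ≤ WithZero.exp (-(i : ℤ))} : ℤ) - 1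
      else 0 := by
  classical
  obtain ⟨s, hs⟩ := Q.2.2 (WithZero.exp (-1))
  have hs1 : Q.1 s ≤ 1 := by
    rw [hs, ← WithZero.exp_zero, WithZero.exp_le_exp]; norm_num
  set Tf : Finset (K' ≃ₐ[K] K') := Finset.univ.filter (· ∈ TT K Q) with hTf
  set S : Finset (K' ≃ₐ[K] K') := Tf.erase 1 with hS
  have hST : ∀ σ ∈ S, σ ∈ TT K Q := by
    intro σ hσ
    exact (Finset.mem_filter.1 (Finset.mem_of_mem_erase hσ)).2
  have hne : ∀ σ ∈ S, σ s - s ≠ 0 := by
    intro σ hσ h0
    apply (Finset.mem_erase.1 hσ).1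
    have hσT := hST σ hσ
    ext z
    rw [AlgEquiv.one_apply]
    rcases le_total (Q.1 z) 1 with hz | hz
    · have := v_apply_sub_le hK he hs hσT hz
      rw [h0, map_zero] at this
      exact sub_eq_zero.1 ((Valuation.zero_iff _).1 (le_antisymm this zero_le))
    · have hz' : Q.1 z⁻¹ ≤ 1 := by rw [map_inv₀]; exact inv_le_one_of_one_le₀ hz
      have := v_apply_sub_le hK he hs hσT hz'
      rw [h0, map_zero] at this
      have h1 : σ z⁻¹ = z⁻¹ := sub_eq_zero.1 ((Valuation.zero_iff _).1 (le_antisymm this zero_le))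
      rw [map_inv₀] at h1
      exact inv_injective h1
  let n : (K' ≃ₐ[K] K') → ℕ := fun σ => (Q.ord (σ s - s)).toNat
  have hn : ∀ σ ∈ S, Q.1 (σ s - s) = WithZero.exp (-(n σ : ℤ)) := by
    intro σ hσ
    have h1 : Q.1 (σ s - s) < 1 := (mem_TT_iff Q σ).1 (hST σ hσ) s hs1
    have h2 := v_eq_exp_neg_ord Q (hne σ hσ)
    have h3 : 0 < Q.ord (σ s - s) := (v_lt_one_iff Q (hne σ hσ)).1 h1
    change Q.1 (σ s - s) = _ at h2
    rw [h2]
    congr 2
    exact (Int.toNat_of_nonneg h3.le).symm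
  -- characterisation of the ramification groups
  have hGi : ∀ i : ℕ, 1 ≤ i → ∀ σ : K' ≃ₐ[K] K',
      (∀ z : K', Q.1 z ≤ 1 → Q.1 (σ z - z) ≤ WithZero.exp (-(i : ℤ))) ↔
        σ ∈ insert 1 (S.filter (fun σ => i ≤ n σ)) := by
    intro i hi σ
    rw [Finset.mem_insert, Finset.mem_filter]
    constructor
    · intro h
      by_cases h1 : σ = 1
      · exact Or.inl h1
      · right
        have hσT : σ ∈ TT K Q := by
          rw [mem_TT_iff]
          intro z hz
          refine lt_of_le_of_lt (h z hz) ?_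
          rw [← WithZero.exp_zero, WithZero.exp_lt_exp]
          omega
        have hσS : σ ∈ S := Finset.mem_erase.2 ⟨h1, Finset.mem_filter.2 ⟨Finset.mem_univ _, hσT⟩⟩
        refine ⟨hσS, ?_⟩
        have h2 := h s hs1
        rw [hn σ hσS, WithZero.exp_le_exp] at h2
        omega
    · rintro (rfl | ⟨hσS, hin⟩)
      · intro z _
        rw [AlgEquiv.one_apply, sub_self, map_zero]
        exact zero_le
      · intro z hz
        refine (v_apply_sub_le hK he hs (hST σ hσS) hz).trans ?_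
        rw [hn σ hσS, WithZero.exp_le_exp]
        omega
  have hcard : ∀ i : ℕ, 1 ≤ i → (Nat.card {σ : K' ≃ₐ[K] K' //
        ∀ z : K', Q.1 z ≤ 1 → Q.1 (σ z - z) ≤ WithZero.exp (-(i : ℤ))} : ℤ) - 1 =
      ((S.filter (fun σ => i ≤ n σ)).card : ℤ) := by
    intro i hi
    have h1 : Nat.card {σ : K' ≃ₐ[K] K' //
        ∀ z : K', Q.1 z ≤ 1 → Q.1 (σ z - z) ≤ WithZero.exp (-(i : ℤ))} =
        (insert 1 (S.filter (fun σ => i ≤ n σ))).card := by
      rw [Nat.card_eq_fintype_card]
      exact Fintype.card_of_subtype _ (fun σ => (hGi i hi σ).symm)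
    rw [h1, Finset.card_insert_of_notMem]
    · push_cast; ring
    · intro h
      exact (Finset.mem_erase.1 (Finset.mem_filter.1 h).1).1 rfl
  set N := S.sup n with hN
  have hNle : ∀ σ ∈ S, n σ ≤ N := fun σ hσ => Finset.le_sup hσ
  have hzero : ∀ i : ℕ, N + 1 ≤ i → (S.filter (fun σ => i ≤ n σ)).card = 0 := by
    intro i hi
    rw [Finset.card_eq_zero, Finset.filter_eq_empty_iff]
    intro σ hσ
    have := hNle σ hσ
    omega
  refine ⟨?_, ?_⟩
  · apply (Finset.range (N + 1)).finite_toSet.subset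
    intro i hi
    rw [Function.mem_support] at hi
    rw [Finset.mem_coe, Finset.mem_range]
    by_contra hcon
    push Not at hcon
    apply hi
    rw [hcard i (by omega), hzero i hcon]
    rfl
  · have hsupp : (Function.support fun i : ℕ => if 1 ≤ i then
        (Nat.card {σ : K' ≃ₐ[K] K' // ∀ z : K', Q.1 z ≤ 1 → Q.1 (σ z - z) ≤ WithZero.exp (-(i : ℤ))} : ℤ) - 1
        else 0) ⊆ ↑(Finset.range (N + 1)) := by
      intro i hi
      rw [Function.mem_support] at hi
      rw [Finset.mem_coe, Finset.mem_range]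
      by_contra hcon
      push Not at hcon
      apply hi
      rw [if_pos (by omega), hcard i (by omega), hzero i hcon]
      rfl
    rw [finsum_eq_sum_of_support_subset _ hsupp]
    have h2 : ∀ i ∈ Finset.range (N + 1), (if 1 ≤ i then
        (Nat.card {σ : K' ≃ₐ[K] K' // ∀ z : K', Q.1 z ≤ 1 → Q.1 (σ z - z) ≤ WithZero.exp (-(i : ℤ))} : ℤ) - 1
        else 0) = (if 1 ≤ i then ((S.filter (fun σ => i ≤ n σ)).card : ℤ) else 0) := by
      intro i _
      by_cases hi : 1 ≤ i
      · rw [if_pos hi, if_pos hi, hcard i hi]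
      · rw [if_neg hi, if_neg hi]
    rw [Finset.sum_congr rfl h2, sum_card_filter_eq_sum S n N hNle]
    -- the product formula
    haveI : Fintype (TT K Q) := Fintype.ofFinite _
    have h3 := prod_v_eq_val_D hK he hψ ht hDt hs
    rw [prod_subgroup_erase (TT K Q) (fun σ => Q.1 (s - σ s))] at h3
    have h4 : ∏ σ ∈ S, Q.1 (s - σ s) = WithZero.exp (∑ σ ∈ S, (-(n σ : ℤ))) := by
      rw [← prod_exp]
      apply Finset.prod_congr rfl
      intro σ hσ
      rw [Valuation.map_sub_swap, hn σ hσ]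
    rw [← h3]
    change - WithZero.log (∏ σ ∈ S, Q.1 (s - σ s)) = _
    rw [h4, WithZero.log_exp, Finset.sum_neg_distrib, neg_neg]

end Groth.Agent.Lib.Helper2.HF
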