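import Mathlib

set_option autoImplicit false
open Polynomial

namespace Groth.Agent.Lib.Helper2.FF

/-- if the power sums of finitely many complex numbers are bounded then all of them have
absolute value at most one -/
theorem norm_le_one_of_bounded_power_sums {n : ℕ} (β : Fin n → ℂ) (B : ℝ)
    (h : ∀ r : ℕ, 0 < r → ‖∑ i, β i ^ r‖ ≤ B) (i₀ : Fin n) : ‖β i₀‖ ≤ 1 := by
  classical
  by_contra hcon
  push Not at hcon
  set γ := β i₀ with hγ
  let P : ℂ[X] := ∏ j ∈ Finset.univ.filter (fun j => β j ≠ γ), (X - C (β j))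
  have hPγ : P.eval γ ≠ 0 := by
    rw [eval_prod]
    apply Finset.prod_ne_zero_iff.2
    intro j hj
    rw [eval_sub, eval_X, eval_C, sub_ne_zero]
    exact fun h => (Finset.mem_filter.1 hj).2 h.symm
  have hPj : ∀ j, β j ≠ γ → P.eval (β j) = 0 := by
    intro j hj
    rw [eval_prod]
    apply Finset.prod_eq_zero (Finset.mem_filter.2 ⟨Finset.mem_univ j, hj⟩)
    simp
  -- the key identity
  have key : ∀ r : ℕ, ∑ l ∈ Finset.range (P.natDegree + 1), P.coeff l * ∑ j, β j ^ (r + l) =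
      ∑ j, β j ^ r * P.eval (β j) := by
    intro r
    simp_rw [Finset.mul_sum]
    rw [Finset.sum_comm]
    apply Finset.sum_congr rfl
    intro j _
    rw [eval_eq_sum_range, Finset.mul_sum]
    apply Finset.sum_congr rfl
    intro l _
    rw [pow_add]; ring
  have key2 : ∀ r : ℕ, ∑ j, β j ^ r * P.eval (β j) =
      ((Finset.univ.filter (fun j => β j = γ)).card : ℂ) * (γ ^ r * P.eval γ) := by
    intro r
    rw [← Finset.sum_filter_add_sum_filter_not Finset.univ (fun j => β j = γ)]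
    have h1 : ∑ j ∈ Finset.univ.filter (fun j => ¬ β j = γ), β j ^ r * P.eval (β j) = 0 := by
      apply Finset.sum_eq_zero
      intro j hj
      rw [hPj j (Finset.mem_filter.1 hj).2, mul_zero]
    rw [h1, add_zero]
    have h2 : ∀ j ∈ Finset.univ.filter (fun j => β j = γ), β j ^ r * P.eval (β j) =
        γ ^ r * P.eval γ := by
      intro j hj
      rw [(Finset.mem_filter.1 hj).2]
    rw [Finset.sum_congr rfl h2, Finset.sum_const, nsmul_eq_mul]
  set C' := ∑ l ∈ Finset.range (P.natDegree + 1), ‖P.coeff l‖ * B with hC'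
  have hbound : ∀ r : ℕ, 0 < r → ‖γ‖ ^ r * ‖P.eval γ‖ ≤ C' := by
    intro r hr
    have hm : (1 : ℝ) ≤ ((Finset.univ.filter (fun j => β j = γ)).card : ℝ) := by
      have : 0 < (Finset.univ.filter (fun j => β j = γ)).card :=
        Finset.card_pos.2 ⟨i₀, Finset.mem_filter.2 ⟨Finset.mem_univ _, rfl⟩⟩
      exact_mod_cast this
    calc ‖γ‖ ^ r * ‖P.eval γ‖
        ≤ ((Finset.univ.filter (fun j => β j = γ)).card : ℝ) * (‖γ‖ ^ r * ‖P.eval γ‖) :=
          le_mul_of_one_le_left (by positivity) hm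
      _ = ‖((Finset.univ.filter (fun j => β j = γ)).card : ℂ) * (γ ^ r * P.eval γ)‖ := by
          rw [norm_mul, norm_mul, norm_pow, Complex.norm_natCast]
      _ = ‖∑ l ∈ Finset.range (P.natDegree + 1), P.coeff l * ∑ j, β j ^ (r + l)‖ := by
          rw [key r, key2 r]
      _ ≤ ∑ l ∈ Finset.range (P.natDegree + 1), ‖P.coeff l * ∑ j, β j ^ (r + l)‖ :=
          norm_sum_le _ _
      _ ≤ C' := by
          apply Finset.sum_le_sum
          intro l _
          rw [norm_mul]
          exact mul_le_mul_of_nonneg_left (h (r + l) (by omega)) (norm_nonneg _)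
  have hpos : 0 < ‖P.eval γ‖ := norm_pos_iff.2 hPγ
  obtain ⟨r, hr⟩ := pow_unbounded_of_one_lt (C' / ‖P.eval γ‖) hcon
  have h1 := hbound (r + 1) (by omega)
  have h2 : C' / ‖P.eval γ‖ < ‖γ‖ ^ (r + 1) := by
    refine hr.trans_le ?_
    exact pow_le_pow_right₀ hcon.le (by omega)
  rw [div_lt_iff₀ hpos] at h2
  linarith

/-- the Riemann hypothesis from a bound on the power sums along an arithmetic progression -/
theorem norm_sq_eq_of_bound {g : ℕ} (α : Fin (2 * g) → ℂ) (q : ℝ) (hq : 0 < q)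
    (hpair : ∀ i, α i * α (Fin.rev i) = (q : ℂ)) (m₀ : ℕ) (hm₀ : 0 < m₀) (B : ℝ)
    (h : ∀ r : ℕ, 0 < r → ‖∑ i, α i ^ (m₀ * r)‖ ≤ B * (Real.sqrt q) ^ (m₀ * r)) (i : Fin (2 * g)) :
    ‖α i‖ ^ 2 = q := by
  have hs : 0 < Real.sqrt q := Real.sqrt_pos.2 hq
  have hle : ∀ j, ‖α j‖ ≤ Real.sqrt q := by
    intro j
    let β : Fin (2 * g) → ℂ := fun i => α i ^ m₀ / ((Real.sqrt q : ℂ)) ^ m₀
    have hβ : ∀ r : ℕ, 0 < r → ‖∑ i, β i ^ r‖ ≤ B := by
      intro r hr
      have h1 : ∑ i, β i ^ r = (∑ i, α i ^ (m₀ * r)) / ((Real.sqrt q : ℂ)) ^ (m₀ * r) := by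
        rw [Finset.sum_div]
        apply Finset.sum_congr rfl
        intro i _
        simp only [β]
        rw [div_pow, ← pow_mul, ← pow_mul]
      rw [h1, norm_div, norm_pow, Complex.norm_real, Real.norm_of_nonneg hs.le,
        div_le_iff₀ (by positivity)]
      exact h r hr
    have h2 := norm_le_one_of_bounded_power_sums β B hβ j
    simp only [β] at h2
    rw [norm_div, norm_pow, norm_pow, Complex.norm_real, Real.norm_of_nonneg hs.le,
      div_le_one (by positivity)] at h2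
    exact le_of_pow_le_pow_left₀ hm₀.ne' hs.le h2
  have h1 := hle i
  have h2 := hle (Fin.rev i)
  have h3 : ‖α i‖ * ‖α (Fin.rev i)‖ = q := by
    rw [← norm_mul, hpair i, Complex.norm_real, Real.norm_of_nonneg hq.le]
  have hsq : Real.sqrt q * Real.sqrt q = q := Real.mul_self_sqrt hq.le
  have h4 : ‖α i‖ = Real.sqrt q := by
    by_contra hne
    have hlt : ‖α i‖ < Real.sqrt q := lt_of_le_of_ne h1 hne
    have : ‖α i‖ * ‖α (Fin.rev i)‖ < Real.sqrt q * Real.sqrt q := by
      calc ‖α i‖ * ‖α (Fin.rev i)‖ ≤ ‖α i‖ * Real.sqrt q :=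
            mul_le_mul_of_nonneg_left h2 (norm_nonneg _)
        _ < Real.sqrt q * Real.sqrt q := mul_lt_mul_of_pos_right hlt hs
    rw [h3, hsq] at this
    exact lt_irrefl _ this
  rw [h4, sq, hsq]

end Groth.Agent.Lib.Helper2.FF
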