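import Mathlib
import Groth.Agent.Lib.Helper2.FunFld.Aut
import Groth.Agent.Lib.Helper2.FunFld.Galois
import Groth.Agent.Lib.Helper2.FunFld.OrdIndep

set_option autoImplicit false
open scoped WithZero IntermediateField NNReal
open FunFld Polynomial

namespace Groth.Agent.Lib.Helper2.FF

variable {k K : Type*} [Field k] [Field K] [Algebra k K]

/-- the twisted Frobenius condition `σ z ≡ z ^ N mod W` on the valuation ring of `W` -/
def IsFrobAt (σ : K → K) (N : ℕ) (W : FunFld.Place k K) : Prop :=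
  ∀ z : K, v W z ≤ 1 → v W (σ z - z ^ N) < 1

theorem deg_comapPlace (σ : K ≃ₐ[k] K) (P : FunFld.Place k K) :
    (comapPlace σ P).deg = P.deg :=
  deg_galPlace (K := k) σ P

theorem sum_deg_le_deg_zdiv (hK : IsFunctionField k K) {y : K} (hy : y ≠ 0)
    (Z : Finset (FunFld.Place k K)) (hZ : ∀ Q ∈ Z, v Q y < 1) :
    (∑ Q ∈ Z, (Q.deg : ℤ)) ≤ (zdiv (k := k) y).deg := by
  classical
  have hle : (∑ Q ∈ Z, (Finsupp.single Q 1 : Divisor k K)) ≤ zdiv y := by
    intro Q
    rw [Finsupp.coe_finsetSum, Finset.sum_apply, zdiv_apply hK]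
    by_cases hQ : Q ∈ Z
    · rw [Finset.sum_eq_single Q]
      · rw [Finsupp.single_eq_same]
        have := (v_lt_one_iff Q hy).1 (hZ Q hQ)
        exact le_max_of_le_left (by omega)
      · intro R _ hR
        rw [Finsupp.single_apply, if_neg hR]
      · intro h; exact absurd hQ h
    · rw [Finset.sum_eq_zero]
      · exact le_max_right _ _
      · intro R hR
        rw [Finsupp.single_apply, if_neg (fun h : R = Q => hQ (h ▸ hR))]
  have h1 := deg_mono hle
  rw [deg_sum] at h1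
  refine le_trans (le_of_eq ?_) h1
  apply Finset.sum_congr rfl
  intro Q _
  rw [deg_single, one_mul]

theorem not_isGap_zero (P : FunFld.Place k K) : ¬ IsGap P 0 := by
  rw [not_isGap_iff]
  refine ⟨1, one_ne_zero, ?_, by simp [ord_one]⟩
  intro Q
  simp [nP]

open Classical in
theorem card_nongaps (hK : IsFunctionField k K) (P : FunFld.Place k K) (hP : P.deg = 1) (a : ℕ) :
    a + 1 ≤ ((Finset.range (a + 1)).filter (fun i => ¬ IsGap P i)).card + genus k K := by
  have h1 := Finset.card_filter_add_card_filter_not (s := Finset.range (a + 1)) (IsGap P)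
  rw [Finset.card_range] at h1
  have h2 : ((Finset.range (a + 1)).filter (IsGap P)).card = gapCount P a := by
    unfold gapCount
    congr 1
    ext i
    simp only [Finset.mem_filter, Finset.mem_range, Finset.mem_Icc]
    constructor
    · rintro ⟨hi, hg⟩
      refine ⟨⟨?_, by omega⟩, hg⟩
      rcases Nat.eq_zero_or_pos i with rfl | h
      · exact absurd hg (not_isGap_zero P)
      · exact h
    · rintro ⟨⟨_, hi⟩, hg⟩; exact ⟨by omega, hg⟩
  have h3 : gapCount P a ≤ genus k K := by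
    have := gapCount_mono P (le_max_left a (2 * genus k K))
    have h4 : gapCount P (max a (2 * genus k K)) = genus k K :=
      gapCount_eq_genus hK P hP (n := max a (2 * genus k K)) (by
        have : 2 * genus k K ≤ max a (2 * genus k K) := le_max_right _ _
        have : (2 * (genus k K : ℤ)) ≤ ((max a (2 * genus k K) : ℕ) : ℤ) := by exact_mod_cast this
        omega)
    rwa [h4] at this
  omega

theorem sum_ne_zero_of_ord_injOn (P : FunFld.Place k K) {ι : Type*} (S : Finset ι)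
    (hS : S.Nonempty) (w : ι → K) (hw : ∀ i ∈ S, w i ≠ 0)
    (hinj : Set.InjOn (fun i => P.ord (w i)) S) : ∑ i ∈ S, w i ≠ 0 := by
  classical
  obtain ⟨i₀, hi₀⟩ := hS
  have hli := linearIndependent_of_ord_injective (k := k) P (fun i : ↥S => w i)
    (fun i => hw i i.2) (fun i j hij => Subtype.ext (hinj i.2 j.2 hij))
  intro h0
  rw [← Finset.sum_coe_sort] at h0
  have := Fintype.linearIndependent_iff.1 hli (fun _ => (1 : k)) (by simpa using h0) ⟨i₀, hi₀⟩
  exact one_ne_zero this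

theorem sum_mul_pow_ne_zero (P : FunFld.Place k K) (Q₀ : ℕ) (T : Finset ℕ)
    (hT : ∀ i ∈ T, i < Q₀) (u : ℕ → K)
    (hu : ∀ i ∈ T, u i ≠ 0 ∧ P.ord (u i) = -(i : ℤ))
    (z : ↥T → K) (hz : ∃ i, z i ≠ 0) : ∑ i : ↥T, u i * z i ^ Q₀ ≠ 0 := by
  classical
  obtain ⟨i₀, hi₀⟩ := hz
  have h1 : ∑ i : ↥T, u i * z i ^ Q₀ =
      ∑ i ∈ Finset.univ.filter (fun i : ↥T => z i ≠ 0), u i * z i ^ Q₀ := by
    symm
    apply Finset.sum_filter_of_ne
    intro i _ hne h0
    apply hne
    have hQ₀ : Q₀ ≠ 0 := by have := hT i i.2; omega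
    rw [h0, zero_pow hQ₀, mul_zero]
  rw [h1]
  apply sum_ne_zero_of_ord_injOn (k := k) P
  · exact ⟨i₀, Finset.mem_filter.2 ⟨Finset.mem_univ _, hi₀⟩⟩
  · intro i hi
    exact mul_ne_zero (hu i i.2).1 (pow_ne_zero _ (Finset.mem_filter.1 hi).2)
  · intro i hi j hj hij
    have hzi : z i ≠ 0 := (Finset.mem_filter.1 (Finset.mem_coe.1 hi)).2
    have hzj : z j ≠ 0 := (Finset.mem_filter.1 (Finset.mem_coe.1 hj)).2
    simp only at hij
    rw [ord_mul P (hu i i.2).1 (pow_ne_zero _ hzi), ord_mul P (hu j j.2).1 (pow_ne_zero _ hzj),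
      ord_pow, ord_pow, (hu i i.2).2, (hu j j.2).2] at hij
    have h2 : ((i : ℕ) : ℤ) - (j : ℕ) = Q₀ * (P.ord (z i) - P.ord (z j)) := by linarith
    have h3 : ((i : ℕ) : ℤ) - (j : ℕ) = 0 := by
      apply Int.eq_zero_of_abs_lt_dvd (m := (Q₀ : ℤ)) ⟨_, h2⟩
      have := hT i i.2
      have := hT j j.2
      rw [abs_lt]; constructor <;> omega
    apply Subtype.ext
    omega


/-- **Bombieri's bound**, twisted by an automorphism `σ`: if `Q₀ = p ^ e > (g + 1)²`
then the places at which `σ` acts as the `Q₀²`-Frobenius have total degree at most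
`Q₀² + 1 + (2 g + 1) Q₀`. -/
theorem bombieri_twisted (hK : IsFunctionField k K) (p : ℕ) [hp : Fact p.Prime] [CharP K p]
    (e : ℕ) (σ : K ≃ₐ[k] K) (P0 : FunFld.Place k K) (hP : P0.deg = 1)
    (hbig : (genus k K + 1) ^ 2 < p ^ e)
    (Z : Finset (FunFld.Place k K)) (hZ : ∀ W ∈ Z, IsFrobAt (k := k) σ ((p ^ e) ^ 2) W) :
    ∑ W ∈ Z, W.deg ≤ (p ^ e) ^ 2 + 1 + (2 * genus k K + 1) * p ^ e := by
  classical
  set g := genus k K with hg
  set Q₀ := p ^ e with hQ₀
  have hQ₀pos : 0 < Q₀ := pow_pos hp.out.pos e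
  set a := Q₀ - 1 with ha
  set n := Q₀ + 2 * g with hn
  set P' := comapPlace σ P0 with hP'def
  have hP' : P'.deg = 1 := by rw [hP'def, deg_comapPlace, hP]
  -- the pole numbers
  set T := (Finset.range (a + 1)).filter (fun i => ¬ IsGap P0 i) with hT
  have hTcard : Q₀ ≤ T.card + g := by
    have : a + 1 ≤ T.card + g := card_nongaps hK P0 hP a
    omega
  have hTlt : ∀ i ∈ T, i < Q₀ := by
    intro i hi
    have := Finset.mem_range.1 (Finset.mem_filter.1 hi).1
    omega
  have hex : ∀ i : ℕ, ∃ u : K, i ∈ T →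
      (u ≠ 0 ∧ u ∈ L (nP P0 (i : ℤ)) ∧ P0.ord u = -(i : ℤ)) := by
    intro i
    by_cases hi : i ∈ T
    · obtain ⟨u, h1, h2, h3⟩ := (not_isGap_iff P0 i).1 (Finset.mem_filter.1 hi).2
      exact ⟨u, fun _ => ⟨h1, h2, h3⟩⟩
    · exact ⟨0, fun h => absurd h hi⟩
  choose u hu using hex
  set V := L (nP P0 (n : ℤ)) with hV
  set D' : Divisor k K := Finsupp.single P' ((Q₀ * a : ℕ) : ℤ) + Finsupp.single P0 (n : ℤ)
    with hD'
  haveI := finiteDimensional_L hK (nP P0 (n : ℤ))
  haveI := finiteDimensional_L hK D'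
  -- the coefficients of the linear map
  let c : ℕ → K := fun i => (σ.symm (u i)) ^ Q₀
  have hvc : ∀ i ∈ T, ∀ R : FunFld.Place k K, v R (σ.symm (u i)) ≤
      WithZero.exp (nP P' (i : ℤ) R) := by
    intro i hi R
    have h1 := (hu i hi).2.1 (comapPlace σ.symm R)
    rw [v_comapPlace] at h1
    refine h1.trans ?_
    rw [WithZero.exp_le_exp, nP, nP, Finsupp.single_apply, Finsupp.single_apply]
    by_cases hR : P0 = comapPlace σ.symm R
    · have : P' = R := by rw [hP'def, hR, comapPlace_comapPlace_symm]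
      rw [if_pos hR, if_pos this]
    · rw [if_neg hR]
      split_ifs <;> simp
  have hc : ∀ i ∈ T, ∀ x ∈ V, c i * x ∈ L D' := by
    intro i hi x hx
    have h1 : σ.symm (u i) ∈ L (nP P' (i : ℤ)) := fun R => hvc i hi R
    have h2 : c i ∈ L (Q₀ • nP P' (i : ℤ)) := pow_mem_L h1 Q₀
    have h3 := mul_mem_L h2 hx
    refine L_mono ?_ h3
    rw [nsmul_nP, hD']
    refine add_le_add (nP_mono P' ?_) le_rfl
    have := hTlt i hi
    have : i ≤ a := by omega
    push_cast
    exact mul_le_mul_of_nonneg_left (by exact_mod_cast this) (by positivity)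
  let Λ : (↥T → ↥V) →ₗ[k] ↥(L D') :=
    { toFun := fun z => ⟨∑ i : ↥T, c i * (z i : K),
        Submodule.sum_mem _ fun i _ => hc i i.2 _ (z i).2⟩
      map_add' := fun z z' => by
        apply Subtype.ext
        simp only [Pi.add_apply, Submodule.coe_add, mul_add, Finset.sum_add_distrib]
      map_smul' := fun r z => by
        apply Subtype.ext
        simp only [Pi.smul_apply, Submodule.coe_smul, mul_smul_comm, Finset.smul_sum,
          RingHom.id_apply] }
  -- dimensions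
  have hdegV : (nP P0 (n : ℤ)).deg = n := by rw [deg_nP, hP]; simp
  have hellV : (ell (nP P0 (n : ℤ)) : ℤ) = n + 1 - g := by
    rw [ell_eq_of_deg_ge hK _ (by rw [hdegV, hn]; push_cast; omega), hdegV]
  have hdegD' : D'.deg = Q₀ * a + n := by
    rw [hD', deg_add, deg_single, deg_single, hP', hP]; push_cast; ring
  have hellD' : (ell D' : ℤ) = Q₀ * a + n + 1 - g := by
    rw [ell_eq_of_deg_ge hK _ (by rw [hdegD', hn]; push_cast; nlinarith), hdegD']
  have hfr1 : Module.finrank k (↥T → ↥V) = T.card * ell (nP P0 (n : ℤ)) := by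
    rw [Module.finrank_pi_fintype, Finset.sum_const, Finset.card_univ, Fintype.card_coe,
      smul_eq_mul, ell_def]
  have hlt : Module.finrank k ↥(L D') < Module.finrank k (↥T → ↥V) := by
    rw [hfr1, ← ell_def]
    have h1 : ((ell D' : ℕ) : ℤ) < ((T.card * ell (nP P0 (n : ℤ)) : ℕ) : ℤ) := by
      push_cast
      rw [hellD', hellV]
      have hT' : (Q₀ : ℤ) - g ≤ T.card := by omega
      have hb : ((g : ℤ) + 1) ^ 2 < Q₀ := by exact_mod_cast hbig
      have hn' : (n : ℤ) = Q₀ + 2 * g := by rw [hn]; push_cast; ring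
      have ha' : (a : ℤ) = Q₀ - 1 := by rw [ha]; omega
      have h5 : ((Q₀ : ℤ) - g) * (n + 1 - g) ≤ T.card * ((n : ℤ) + 1 - g) :=
        mul_le_mul_of_nonneg_right hT' (by rw [hn']; linarith)
      refine lt_of_lt_of_le ?_ h5
      rw [hn', ha']
      nlinarith
    exact_mod_cast h1
  have hninj : ¬ Function.Injective Λ := fun hinj =>
    absurd (LinearMap.finrank_le_finrank_of_injective hinj) (not_le.2 hlt)
  obtain ⟨z, hzker, hz0⟩ : ∃ z, Λ z = 0 ∧ z ≠ 0 := by
    by_contra hcon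
    push Not at hcon
    apply hninj
    rw [← LinearMap.ker_eq_bot, Submodule.eq_bot_iff]
    intro z hz
    by_contra h0
    exact h0 (hcon z (LinearMap.mem_ker.1 hz))
  have hΛ : ∑ i : ↥T, c i * (z i : K) = 0 := congrArg Subtype.val hzker
  -- the function `y`
  set y : K := ∑ i : ↥T, u i * (z i : K) ^ Q₀ with hy
  have hy0 : y ≠ 0 := by
    apply sum_mul_pow_ne_zero (k := k) P0 Q₀ T hTlt u (fun i hi => ⟨(hu i hi).1, (hu i hi).2.2⟩)
      (fun i => (z i : K))
    by_contra hcon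
    push Not at hcon
    apply hz0
    funext i
    exact Subtype.ext (hcon i)
  -- poles of `y`
  have hyL : y ∈ L (nP P0 ((a + Q₀ * n : ℕ) : ℤ)) := by
    apply Submodule.sum_mem
    intro i _
    have h1 := (hu i i.2).2.1
    have h2 : (z i : K) ^ Q₀ ∈ L (Q₀ • nP P0 (n : ℤ)) := pow_mem_L (z i).2 Q₀
    have h3 := mul_mem_L h1 h2
    refine L_mono ?_ h3
    rw [nsmul_nP, nP_add]
    apply nP_mono
    have := hTlt i i.2
    push_cast
    have : ((i : ℕ) : ℤ) ≤ a := by omega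
    linarith
  have hpdeg : (pdiv (k := k) y).deg ≤ ((a + Q₀ * n : ℕ) : ℤ) := by
    have hnn : (0 : Divisor k K) ≤ nP P0 ((a + Q₀ * n : ℕ) : ℤ) := by
      intro R
      rw [nP, Finsupp.single_apply]
      split_ifs
      · simp only [Finsupp.coe_zero, Pi.zero_apply]; positivity
      · simp
    have := deg_mono (pdiv_le_of_mem_L hK hnn hyL)
    rwa [deg_nP, hP, Nat.cast_one, mul_one] at this
  -- zeros of `y`
  have hzero : ∀ W ∈ Z, W ≠ P0 → W ≠ P' → v W y < 1 := by
    intro W hW hne1 hne2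
    have hzi : ∀ i : ↥T, v W (z i : K) ≤ 1 := by
      intro i
      have := (z i).2 W
      rwa [nP, Finsupp.single_apply, if_neg (Ne.symm hne1), WithZero.exp_zero] at this
    have hwi : ∀ i : ↥T, v W (σ.symm (u i)) ≤ 1 := by
      intro i
      have := hvc i i.2 W
      rwa [nP, Finsupp.single_apply, if_neg (Ne.symm hne2), WithZero.exp_zero] at this
    have hε : ∀ i : ↥T, v W (u i - (σ.symm (u i)) ^ (Q₀ ^ 2)) < 1 := by
      intro i
      have := hZ W hW (σ.symm (u i)) (hwi i)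
      rwa [AlgEquiv.apply_symm_apply] at this
    have hsplit : y = (∑ i : ↥T, c i * (z i : K)) ^ Q₀ +
        ∑ i : ↥T, (u i - (σ.symm (u i)) ^ (Q₀ ^ 2)) * (z i : K) ^ Q₀ := by
      rw [hQ₀, sum_pow_char_pow, ← hQ₀, hy, ← Finset.sum_add_distrib]
      apply Finset.sum_congr rfl
      intro i _
      simp only [c]
      rw [mul_pow, ← pow_mul, ← sq]
      ring
    rw [hsplit, hΛ, zero_pow hQ₀pos.ne', zero_add]
    apply Valuation.map_sum_lt _ one_ne_zero
    intro i _
    rw [map_mul, map_pow]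
    calc v W (u i - (σ.symm (u i)) ^ (Q₀ ^ 2)) * v W (z i : K) ^ Q₀
        ≤ v W (u i - (σ.symm (u i)) ^ (Q₀ ^ 2)) * 1 :=
          mul_le_mul' le_rfl (pow_le_one' (hzi i) _)
      _ = v W (u i - (σ.symm (u i)) ^ (Q₀ ^ 2)) := mul_one _
      _ < 1 := hε i
  -- counting
  set Z₁ := Z.filter (fun W => W ≠ P0 ∧ W ≠ P') with hZ₁
  have h1 : (∑ W ∈ Z₁, (W.deg : ℤ)) ≤ ((a + Q₀ * n : ℕ) : ℤ) := by
    refine le_trans (sum_deg_le_deg_zdiv hK hy0 Z₁ ?_) ?_
    · intro W hW
      obtain ⟨h1, h2, h3⟩ := Finset.mem_filter.1 hW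
      exact hzero W h1 h2 h3
    · rw [deg_zdiv_eq_deg_pdiv hK]; exact hpdeg
  have h2 : ∑ W ∈ Z.filter (fun W => ¬ (W ≠ P0 ∧ W ≠ P')), W.deg ≤ 2 := by
    have hsub : Z.filter (fun W => ¬ (W ≠ P0 ∧ W ≠ P')) ⊆ ({P0, P'} : Finset _) := by
      intro W hW
      have := (Finset.mem_filter.1 hW).2
      rw [Finset.mem_insert, Finset.mem_singleton]
      by_contra hcon
      push Not at hcon
      exact this hcon
    refine le_trans (Finset.sum_le_sum_of_subset hsub) ?_
    by_cases hPP : P0 = P'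
    · rw [← hPP]; simp [hP]
    · rw [Finset.sum_pair hPP, hP, hP']
  have h3 := Finset.sum_filter_add_sum_filter_not Z (fun W => W ≠ P0 ∧ W ≠ P')
    (fun W => W.deg)
  have h4 : ((∑ W ∈ Z₁, W.deg : ℕ) : ℤ) ≤ ((a + Q₀ * n : ℕ) : ℤ) := by
    push_cast at h1 ⊢
    exact h1
  have h5 : ∑ W ∈ Z₁, W.deg ≤ a + Q₀ * n := by exact_mod_cast h4
  rw [← h3]
  have h6 : a + Q₀ * n + 2 = Q₀ ^ 2 + 1 + (2 * g + 1) * Q₀ := by
    rw [hn, ha]
    have : Q₀ - 1 + 1 = Q₀ := Nat.sub_add_cancel hQ₀pos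
    nlinarith
  calc _ ≤ (a + Q₀ * n) + 2 := add_le_add h5 h2
    _ = _ := h6

end Groth.Agent.Lib.Helper2.FF
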