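import Mathlib
import Groth.Agent.Lib.Helper2.FunFld.HW2
import Groth.Agent.Lib.Helper2.FunFld.Inertia2
import Groth.Agent.Lib.Helper2.FunFld.CEG2

set_option autoImplicit false
open scoped WithZero IntermediateField NNReal Pointwise
open FunFld Polynomial

namespace Groth.Agent.Lib.Helper2.FF

section A

variable {k K K' : Type*} [Field k] [Field K] [Field K'] [Algebra k K] [Algebra K K'] [Algebra k K']
  [IsScalarTower k K K']

theorem galPlace_eq_of_isFrobAt {σ : K' ≃ₐ[K] K'} {N : ℕ} (hN : N ≠ 0) {W : FunFld.Place k K'}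
    (h : IsFrobAt (k := k) σ N W) : galPlace σ W = W := by
  symm
  apply place_eq_of_lt_one_imp
  intro z hz
  rw [v_galPlace]
  have h1 := h z hz.le
  have h2 : v W (z ^ N) < 1 := by rw [map_pow]; exact pow_lt_one' hz hN
  have : σ z = (σ z - z ^ N) + z ^ N := by ring
  rw [this]
  exact lt_of_le_of_lt (Valuation.map_add _ _ _) (max_lt h1 h2)

theorem deg_dvd_of_isFrobAt [Finite k] (hK : IsFunctionField k K) {σ : K' ≃ₐ[K] K'} {m : ℕ}
    {W : FunFld.Place k K'} {P : FunFld.Place k K} {e : ℕ} (he : IsOverWith W P e)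
    (h : IsFrobAt (k := k) σ (Nat.card k ^ m) W) : P.deg ∣ m := by
  classical
  letI := Fintype.ofFinite k
  haveI := finiteDimensional_residueField P hK
  haveI : Finite (IsLocalRing.ResidueField P.O) := Module.finite_of_finite k
  apply finrank_dvd_of_forall_pow_eq k (IsLocalRing.ResidueField P.O) m
  intro y
  obtain ⟨x, rfl⟩ := IsLocalRing.residue_surjective y
  rw [← map_pow, ← sub_eq_zero, ← map_sub, IsLocalRing.residue_eq_zero_iff]
  apply (Valuation.mem_maximalIdeal_iff _ _).2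
  have hx : v W (algebraMap K K' x.1) ≤ 1 := by
    have : v W (algebraMap K K' x.1) = v P x.1 ^ e := he x.1
    rw [this]
    exact pow_le_one' ((mem_O_iff P _).1 x.2) e
  have h1 := h _ hx
  rw [AlgEquiv.commutes] at h1
  rw [← Nat.card_eq_fintype_card]
  have h2 : algebraMap K K' x.1 - algebraMap K K' x.1 ^ Nat.card k ^ m =
      algebraMap K K' (x.1 - x.1 ^ Nat.card k ^ m) := by rw [map_sub, map_pow]
  rw [h2, isOverWith_lt_one_iff he] at h1
  have h3 : ((x ^ Nat.card k ^ m - x : P.O) : K) = -(x.1 - x.1 ^ Nat.card k ^ m) := by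
    push_cast; ring
  change v P ((x ^ Nat.card k ^ m - x : P.O) : K) < 1
  rw [h3, Valuation.map_neg]
  exact h1

/-- the automorphisms acting as the `N`-Frobenius at `W` form a coset of the inertia group -/
theorem card_isFrobAt_eq_card_inertia {N : ℕ} (hN : N ≠ 0) (W : FunFld.Place k K')
    (σ₁ : K' ≃ₐ[K] K') (h₁ : IsFrobAt (k := k) σ₁ N W) :
    Nat.card {σ : K' ≃ₐ[K] K' // IsFrobAt (k := k) σ N W} =
      Nat.card ((W.O).inertiaSubgroup K) := by
  have hg₁ := galPlace_eq_of_isFrobAt hN h₁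
  have hg₁' : galPlace σ₁⁻¹ W = W := by
    have := galPlace_mul σ₁ σ₁⁻¹ W
    rw [mul_inv_cancel, galPlace_one, hg₁] at this
    exact this.symm
  symm
  apply Nat.card_congr
  refine Equiv.ofBijective (fun τ => ⟨σ₁ * τ.1.1, ?_⟩) ⟨?_, ?_⟩
  · intro z hz
    have hτ := (mem_inertiaSubgroup_iff W τ.1).1 τ.2 z hz
    have h2 : v W (σ₁ (τ.1.1 z - z)) < 1 := by
      have : v W (σ₁ (τ.1.1 z - z)) = v (galPlace σ₁ W) (τ.1.1 z - z) := rfl
      rw [this, hg₁]; exact hτ
    have : (σ₁ * τ.1.1) z - z ^ N = σ₁ (τ.1.1 z - z) + (σ₁ z - z ^ N) := by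
      rw [AlgEquiv.mul_apply, map_sub]; ring
    rw [this]
    exact lt_of_le_of_lt (Valuation.map_add _ _ _) (max_lt h2 (h₁ z hz))
  · intro τ τ' h
    have h1 : σ₁ * τ.1.1 = σ₁ * τ'.1.1 := congrArg Subtype.val h
    exact Subtype.ext (Subtype.ext (mul_left_cancel h1))
  · rintro ⟨σ₂, h₂⟩
    have hg₂ := galPlace_eq_of_isFrobAt hN h₂
    have hD : σ₁⁻¹ * σ₂ ∈ (W.O).decompositionSubgroup K := by
      rw [mem_decompositionSubgroup_iff, galPlace_mul, hg₁', hg₂]
    have hI : (⟨σ₁⁻¹ * σ₂, hD⟩ : (W.O).decompositionSubgroup K) ∈ (W.O).inertiaSubgroup K := by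
      rw [mem_inertiaSubgroup_iff]
      intro z hz
      have h3 : v W (σ₂ z - σ₁ z) < 1 := by
        have : σ₂ z - σ₁ z = (σ₂ z - z ^ N) - (σ₁ z - z ^ N) := by ring
        rw [this]
        exact lt_of_le_of_lt (Valuation.map_sub _ _ _) (max_lt (h₂ z hz) (h₁ z hz))
      have h4 : (σ₁⁻¹ * σ₂) z - z = σ₁⁻¹ (σ₂ z - σ₁ z) := by
        rw [AlgEquiv.mul_apply, map_sub]
        congr 1
        change z = σ₁.symm (σ₁ z)
        rw [AlgEquiv.symm_apply_apply]
      change v W ((σ₁⁻¹ * σ₂) z - z) < 1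
      rw [h4]
      have : v W (σ₁⁻¹ (σ₂ z - σ₁ z)) = v (galPlace σ₁⁻¹ W) (σ₂ z - σ₁ z) := rfl
      rw [this, hg₁']
      exact h3
    refine ⟨⟨⟨σ₁⁻¹ * σ₂, hD⟩, hI⟩, ?_⟩
    apply Subtype.ext
    change σ₁ * (σ₁⁻¹ * σ₂) = σ₂
    rw [mul_inv_cancel_left]

end A


section B

variable {k K K' : Type*} [Field k] [Field K] [Field K'] [Algebra k K] [Algebra K K'] [Algebra k K']
  [IsScalarTower k K K'] (P : FunFld.Place k K) [Algebra P.O K'] [IsScalarTower P.O K K']

attribute [local instance] isScalarTower_k_O Ideal.Quotient.field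

set_option synthInstance.maxHeartbeats 200000 in
set_option maxHeartbeats 1000000 in
/-- existence of a Frobenius lift on the integral closure -/
theorem exists_frob_lift_BP [Finite k] [FiniteDimensional K K'] [IsGalois K K']
    (hK : IsFunctionField k K) (i : OverP K' P) (m : ℕ) (hdvd : P.deg ∣ m) :
    ∃ σ : K' ≃ₐ[K] K', galPlace σ i.1 = i.1 ∧
      ∀ b : ↥(BP (K' := K') P), v i.1 (σ b.1 - b.1 ^ (Nat.card k ^ m)) < 1 := by
  classical
  letI := primeQ_liesOver P i
  haveI := isScalarTower_quot P i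
  haveI : (primeQ P i).IsMaximal := primeQ_isMaximal P hK i
  haveI : Algebra.IsInvariant P.O ↥(BP (K' := K') P) (K' ≃ₐ[K] K') := isInvariant_BP P hK
  have hsurj := Ideal.Quotient.stabilizerHom_surjective (K' ≃ₐ[K] K')
    (IsLocalRing.maximalIdeal P.O) (primeQ P i)
  obtain ⟨hfin, hdeg⟩ := finrank_residue_ext P hK i
  haveI hfinP : FiniteDimensional k (P.O ⧸ IsLocalRing.maximalIdeal P.O) :=
    finiteDimensional_residueField P hK
  haveI : Finite (P.O ⧸ IsLocalRing.maximalIdeal P.O) := Module.finite_of_finite k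
  letI := Fintype.ofFinite (P.O ⧸ IsLocalRing.maximalIdeal P.O)
  haveI : Algebra.IsAlgebraic (P.O ⧸ IsLocalRing.maximalIdeal P.O)
      (↥(BP (K' := K') P) ⧸ primeQ P i) := Algebra.IsAlgebraic.of_finite _ _
  have hcard : Fintype.card (P.O ⧸ IsLocalRing.maximalIdeal P.O) = Nat.card k ^ P.deg := by
    rw [← Nat.card_eq_fintype_card, Module.natCard_eq_pow_finrank (K := k),
      finrank_quotient_maximalIdeal P]
  obtain ⟨c, rfl⟩ := hdvd
  let φ := (FiniteField.frobeniusAlgEquivOfAlgebraic (P.O ⧸ IsLocalRing.maximalIdeal P.O)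
    (↥(BP (K' := K') P) ⧸ primeQ P i)) ^ c
  have hφ : ∀ x, φ x = x ^ (Nat.card k ^ (P.deg * c)) := by
    intro x
    change ((FiniteField.frobeniusAlgEquivOfAlgebraic (P.O ⧸ IsLocalRing.maximalIdeal P.O)
      (↥(BP (K' := K') P) ⧸ primeQ P i)) ^ c) x = _
    rw [AlgEquiv.coe_pow, FiniteField.coe_frobeniusAlgEquivOfAlgebraic_iterate, hcard, ← pow_mul]
  obtain ⟨σ, hσ⟩ := hsurj φ
  have hσD : galPlace σ.1 i.1 = i.1 := by
    have : σ.1 ∈ (i.1.O).decompositionSubgroup K := by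
      rw [← stabilizer_primeQ P hK i]; exact σ.2
    exact (mem_decompositionSubgroup_iff _ _).1 this
  refine ⟨σ.1, hσD, ?_⟩
  intro b
  have h1 : Ideal.Quotient.stabilizerHom (primeQ P i) (IsLocalRing.maximalIdeal P.O)
      (K' ≃ₐ[K] K') σ (Ideal.Quotient.mk _ b) = φ (Ideal.Quotient.mk _ b) := by rw [hσ]
  rw [Ideal.Quotient.stabilizerHom_apply, hφ, ← map_pow, Ideal.Quotient.eq, mem_primeQ] at h1
  exact h1


omit [Algebra P.O K'] [IsScalarTower P.O K K'] in
theorem exists_isFrobAt [Finite k] [FiniteDimensional K K'] [IsGalois K K']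
    (hK : IsFunctionField k K) {W : FunFld.Place k K'} (hW : IsOver W P) (m : ℕ)
    (hdvd : P.deg ∣ m) :
    ∃ σ : K' ≃ₐ[K] K', IsFrobAt (k := k) σ (Nat.card k ^ m) W := by
  letI : Algebra P.O K' := ((algebraMap K K').comp P.O.subtype).toAlgebra
  haveI : IsScalarTower P.O K K' := IsScalarTower.of_algebraMap_eq (fun _ => rfl)
  let i : OverP K' P := ⟨W, hW⟩
  obtain ⟨σ, hσD, hσ⟩ := exists_frob_lift_BP P hK i m hdvd
  refine ⟨σ, ?_⟩
  intro z hz
  obtain ⟨b, hb⟩ := redQ_surjective P hK i (IsLocalRing.residue i.1.O ⟨z, (mem_O_iff i.1 z).2 hz⟩)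
  have hzb : v W (z - b.1) < 1 := by
    have h1 : IsLocalRing.residue i.1.O (⟨z, (mem_O_iff i.1 z).2 hz⟩ - toOQ P i b) = 0 := by
      rw [map_sub, sub_eq_zero]; exact hb.symm
    rw [IsLocalRing.residue_eq_zero_iff] at h1
    exact (Valuation.mem_maximalIdeal_iff _ _).1 h1
  have hpow : v W (b.1 ^ (Nat.card k ^ m) - z ^ (Nat.card k ^ m)) < 1 := by
    have h1 : IsLocalRing.residue i.1.O ((toOQ P i b) ^ (Nat.card k ^ m) -
        (⟨z, (mem_O_iff i.1 z).2 hz⟩ : i.1.O) ^ (Nat.card k ^ m)) = 0 := by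
      rw [map_sub, map_pow, map_pow, sub_eq_zero]
      congr 1
    rw [IsLocalRing.residue_eq_zero_iff] at h1
    exact (Valuation.mem_maximalIdeal_iff _ _).1 h1
  have h2 : v W (σ (z - b.1)) < 1 := by
    have : v W (σ (z - b.1)) = v (galPlace σ W) (z - b.1) := rfl
    rw [this]
    have hσD' : galPlace σ W = W := hσD
    rw [hσD']
    exact hzb
  have h3 : σ z - z ^ (Nat.card k ^ m) = σ (z - b.1) + (σ b.1 - b.1 ^ (Nat.card k ^ m)) +
      (b.1 ^ (Nat.card k ^ m) - z ^ (Nat.card k ^ m)) := by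
    rw [map_sub]; ring
  rw [h3]
  refine lt_of_le_of_lt (Valuation.map_add _ _ _) (max_lt ?_ hpow)
  exact lt_of_le_of_lt (Valuation.map_add _ _ _) (max_lt h2 (hσ b))

omit [Algebra P.O K'] [IsScalarTower P.O K K'] in
open Classical in
/-- the number of automorphisms acting as the `q ^ m`-Frobenius at a place `W` over `P` -/
theorem card_isFrobAt [Finite k] [FiniteDimensional K K'] [IsGalois K K']
    (hK : IsFunctionField k K) {W : FunFld.Place k K'} {e : ℕ} (he : IsOverWith W P e) (m : ℕ) :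
    Nat.card {σ : K' ≃ₐ[K] K' // IsFrobAt (k := k) σ (Nat.card k ^ m) W} =
      if P.deg ∣ m then e else 0 := by
  have hq : Nat.card k ^ m ≠ 0 := pow_ne_zero _ Nat.card_pos.ne'
  split_ifs with hdvd
  · obtain ⟨σ₁, h₁⟩ := exists_isFrobAt P hK ⟨e, he⟩ m hdvd
    rw [card_isFrobAt_eq_card_inertia hq W σ₁ h₁]
    haveI h0 : @Module.Finite k (IsLocalRing.ResidueField W.O) _ _ (Algebra.toModule) :=
      finiteDimensional_residueField_w (isFFw_of_finite (K' := K') hK) W
    haveI : Algebra.IsAlgebraic k (IsLocalRing.ResidueField W.O) :=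
      Algebra.IsAlgebraic.of_finite k _
    haveI : Algebra.IsSeparable k (IsLocalRing.ResidueField W.O) :=
      Algebra.IsAlgebraic.isSeparable_of_perfectField
    exact card_inertia P hK W he
  · haveI : IsEmpty {σ : K' ≃ₐ[K] K' // IsFrobAt (k := k) σ (Nat.card k ^ m) W} :=
      ⟨fun σ => hdvd (deg_dvd_of_isFrobAt hK he σ.2)⟩
    exact Nat.card_of_isEmpty

end B

section C

variable {k K K' : Type*} [Field k] [Field K] [Field K'] [Algebra k K] [Algebra K K'] [Algebra k K']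
  [IsScalarTower k K K']

/-- **the counting identity**: summing over the Galois group the total degree of the places at
which `σ` acts as the `q ^ m`-Frobenius gives `[K' : K] · N_m(K)` -/
theorem sum_isFrobAt [Finite k] [FiniteDimensional K K'] [IsGalois K K']
    (hK : IsFunctionField k K) (m : ℕ) (hm : 0 < m) [Fintype (K' ≃ₐ[K] K')] :
    ∃ F : (K' ≃ₐ[K] K') → Finset (FunFld.Place k K'),
      (∀ σ W, W ∈ F σ ↔ IsFrobAt (k := k) σ (Nat.card k ^ m) W) ∧
      ∑ σ, ∑ W ∈ F σ, W.deg = Module.finrank K K' * Ncount k K m := by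
  classical
  haveI := finite_PlDvd hK m hm
  letI := Fintype.ofFinite (PlDvd k K m)
  let ovr : PlDvd k K m → Finset (FunFld.Place k K') :=
    fun P => (finite_isOver (K' := K') hK P.1).toFinset
  have hovr : ∀ P W, W ∈ ovr P ↔ IsOver W P.1 := fun P W => by
    simp only [ovr, Set.Finite.mem_toFinset, Set.mem_ofPred_eq]
  let WW : Finset (FunFld.Place k K') := Finset.univ.biUnion ovr
  refine ⟨fun σ => WW.filter (fun W => IsFrobAt (k := k) σ (Nat.card k ^ m) W), ?_, ?_⟩
  · intro σ W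
    rw [Finset.mem_filter]
    refine ⟨fun h => h.2, fun h => ⟨?_, h⟩⟩
    obtain ⟨P, e, he⟩ := exists_isOverWith (K := K) hK W
    have hdvd := deg_dvd_of_isFrobAt hK he h
    rw [Finset.mem_biUnion]
    exact ⟨⟨P, hdvd⟩, Finset.mem_univ _, (hovr _ _).2 ⟨e, he⟩⟩
  · simp_rw [Finset.sum_filter]
    rw [Finset.sum_comm]
    have h1 : ∀ W ∈ WW, (∑ σ : K' ≃ₐ[K] K',
        if IsFrobAt (k := k) σ (Nat.card k ^ m) W then W.deg else 0) =
        Nat.card {σ : K' ≃ₐ[K] K' // IsFrobAt (k := k) σ (Nat.card k ^ m) W} * W.deg := by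
      intro W _
      rw [← Finset.sum_filter, Finset.sum_const, smul_eq_mul,
        Nat.card_eq_fintype_card
          (α := {σ : K' ≃ₐ[K] K' // IsFrobAt (k := k) σ (Nat.card k ^ m) W}),
        Fintype.card_subtype]
    rw [Finset.sum_congr rfl h1, Finset.sum_biUnion]
    · rw [Ncount_eq_sum, Finset.mul_sum]
      apply Finset.sum_congr rfl
      intro P _
      rw [← (sum_ramIdx_mul_deg (K' := K') hK P.1).2 (ovr P) (hovr P)]
      apply Finset.sum_congr rfl
      intro W hW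
      have hW' := (hovr P W).1 hW
      have he := isOverWith_ramIdx hW'
      rw [card_isFrobAt P.1 hK he m, if_pos P.2]
    · intro P _ P' _ hne
      rw [Function.onFun, Finset.disjoint_left]
      intro W hW hW'
      obtain ⟨e, he⟩ := (hovr P W).1 hW
      obtain ⟨e', he'⟩ := (hovr P' W).1 hW'
      exact hne (Subtype.ext (isOverWith_unique he he'))

end C

end Groth.Agent.Lib.Helper2.FF
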