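import Mathlib
import Groth.Agent.Lib.Helper2.FunFld.HW3

set_option autoImplicit false
open scoped WithZero IntermediateField NNReal Pointwise
open FunFld Polynomial

namespace Groth.Agent.Lib.Helper2.FF

section Star

variable {k L K E : Type*} [Field k] [Field L] [Field K] [Field E]
  [Algebra k L] [Algebra k K] [Algebra k E] [Algebra L K] [Algebra K E] [Algebra L E]
  [IsScalarTower k L E] [IsScalarTower k K E] [IsScalarTower L K E]

/-- upper and lower bounds for the point counts of an intermediate field of a Galois extension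
`E/L` of function fields with the same constant field, when `E` has a rational place. -/
theorem ncount_bounds [Finite k] [FiniteDimensional L E] [IsGalois L E]
    (hL : IsFunctionField k L) (hK : IsFunctionField k K) (hE : IsFunctionField k E)
    (P0 : FunFld.Place k E) (hP : P0.deg = 1)
    (p : ℕ) [hp : Fact p.Prime] [CharP E p] (e m : ℕ) (hm : 0 < m)
    (hN : Nat.card k ^ m = (p ^ e) ^ 2)
    (hbig : (genus k E + 1) ^ 2 < p ^ e) :
    Ncount k K m ≤ (p ^ e) ^ 2 + 1 + (2 * genus k E + 1) * p ^ e ∧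
    Module.finrank L E * Ncount k L m ≤ Module.finrank K E * Ncount k K m +
      (Module.finrank L E - Module.finrank K E) *
        ((p ^ e) ^ 2 + 1 + (2 * genus k E + 1) * p ^ e) := by
  classical
  haveI : FiniteDimensional K E := FiniteDimensional.right L K E
  haveI : IsGalois K E := IsGalois.tower_top_of_isGalois L K E
  letI := Fintype.ofFinite (E ≃ₐ[K] E)
  letI := Fintype.ofFinite (E ≃ₐ[L] E)
  set B := (p ^ e) ^ 2 + 1 + (2 * genus k E + 1) * p ^ e with hB
  obtain ⟨FH, hFH, hsumH⟩ := sum_isFrobAt (K := K) (K' := E) hK m hm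
  obtain ⟨FG, hFG, hsumG⟩ := sum_isFrobAt (K := L) (K' := E) hL m hm
  have hcardG : Fintype.card (E ≃ₐ[L] E) = Module.finrank L E := by
    rw [← Nat.card_eq_fintype_card, IsGalois.card_aut_eq_finrank]
  have hcardH : Fintype.card (E ≃ₐ[K] E) = Module.finrank K E := by
    rw [← Nat.card_eq_fintype_card, IsGalois.card_aut_eq_finrank]
  -- Bombieri's bound for every `σ`
  have hbomb : ∀ σ : E ≃ₐ[L] E, ∑ W ∈ FG σ, W.deg ≤ B := by
    intro σ
    apply bombieri_twisted hE p e (σ.restrictScalars k) P0 hP hbig (FG σ)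
    intro W hW
    have := (hFG σ W).1 hW
    rw [hN] at this
    exact this
  let ι : (E ≃ₐ[K] E) → (E ≃ₐ[L] E) := fun τ => τ.restrictScalars L
  have hι : Function.Injective ι := AlgEquiv.restrictScalars_injective L
  have hFHG : ∀ τ : E ≃ₐ[K] E, FG (ι τ) = FH τ := by
    intro τ
    ext W
    rw [hFG, hFH]
    rfl
  have hsplit : ∑ σ : E ≃ₐ[L] E, ∑ W ∈ FG σ, W.deg =
      ∑ τ : E ≃ₐ[K] E, ∑ W ∈ FH τ, W.deg +
        ∑ σ ∈ (Finset.univ.image ι)ᶜ, ∑ W ∈ FG σ, W.deg := by
    rw [← Finset.sum_add_sum_compl (Finset.univ.image ι), Finset.sum_image (fun a _ b _ h => hι h)]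
    congr 1
    apply Finset.sum_congr rfl
    intro τ _
    rw [hFHG]
  have hcompl : ∑ σ ∈ (Finset.univ.image ι)ᶜ, ∑ W ∈ FG σ, W.deg ≤
      (Module.finrank L E - Module.finrank K E) * B := by
    refine le_trans (Finset.sum_le_card_nsmul _ _ B (fun σ _ => hbomb σ)) ?_
    rw [smul_eq_mul, Finset.card_compl, Finset.card_image_of_injective _ hι, Finset.card_univ,
      hcardG, hcardH]
  have hupper : Module.finrank K E * Ncount k K m ≤ Module.finrank K E * B := by
    rw [← hsumH]
    calc ∑ τ : E ≃ₐ[K] E, ∑ W ∈ FH τ, W.deg ≤ ∑ τ : E ≃ₐ[K] E, B := by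
          apply Finset.sum_le_sum
          intro τ _
          rw [← hFHG]
          exact hbomb _
      _ = Module.finrank K E * B := by
          rw [Finset.sum_const, Finset.card_univ, hcardH, smul_eq_mul]
  have hpos : 0 < Module.finrank K E := Module.finrank_pos
  refine ⟨Nat.le_of_mul_le_mul_left hupper hpos, ?_⟩
  rw [← hsumG, hsplit, hsumH]
  exact Nat.add_le_add_left hcompl _

end Star

end Groth.Agent.Lib.Helper2.FF
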