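import Mathlib

set_option autoImplicit false
open PowerSeries

namespace Groth.Agent.Lib.Helper2.FF

section LogD

variable {R : Type*} [CommRing R]

/-- `s` is `X` times the logarithmic derivative of `f`: `X f' = f s` -/
def HasLogD (f s : R⟦X⟧) : Prop := X * d⁄dX R f = f * s

theorem HasLogD.mul {f g s u : R⟦X⟧} (hf : HasLogD f s) (hg : HasLogD g u) :
    HasLogD (f * g) (s + u) := by
  unfold HasLogD at *
  rw [Derivation.leibniz, smul_eq_mul, smul_eq_mul, mul_add]
  calc X * (f * d⁄dX R g) + X * (g * d⁄dX R f)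
      = f * (X * d⁄dX R g) + g * (X * d⁄dX R f) := by ring
    _ = _ := by rw [hf, hg]; ring

theorem hasLogD_one : HasLogD (1 : R⟦X⟧) 0 := by
  simp [HasLogD, derivative_one]

theorem HasLogD.prod {ι : Type*} (S : Finset ι) (f s : ι → R⟦X⟧)
    (h : ∀ i ∈ S, HasLogD (f i) (s i)) : HasLogD (∏ i ∈ S, f i) (∑ i ∈ S, s i) := by
  classical
  induction S using Finset.induction_on with
  | empty => simpa using hasLogD_one
  | insert a S ha ih =>
    rw [Finset.prod_insert ha, Finset.sum_insert ha]
    exact (h a (Finset.mem_insert_self a S)).mul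
      (ih fun i hi => h i (Finset.mem_insert_of_mem hi))

theorem coeff_X_mul_derivative (f : R⟦X⟧) (m : ℕ) :
    coeff m (X * d⁄dX R f) = (m : R) * coeff m f := by
  cases m with
  | zero => simp
  | succ m =>
    rw [coeff_succ_X_mul, coeff_derivative]
    push_cast
    ring

theorem HasLogD.coeff_eq {f s : R⟦X⟧} (h : HasLogD f s) (m : ℕ) :
    (m : R) * coeff m f = ∑ p ∈ Finset.HasAntidiagonal.antidiagonal m, coeff p.1 f * coeff p.2 s := by
  rw [← coeff_X_mul_derivative, h, coeff_mul]

theorem HasLogD.congr_of_coeff {f s f' s' : R⟦X⟧} (h : HasLogD f s) (m : ℕ)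
    (hf : ∀ i, i ≤ m → coeff i f = coeff i f') (hs : ∀ i, i ≤ m → coeff i s = coeff i s') :
    (m : R) * coeff m f' = ∑ p ∈ Finset.HasAntidiagonal.antidiagonal m, coeff p.1 f' * coeff p.2 s' := by
  rw [← hf m le_rfl, h.coeff_eq]
  refine Finset.sum_congr rfl fun p hp => ?_
  have := Finset.HasAntidiagonal.mem_antidiagonal.1 hp
  rw [hf _ (by omega), hs _ (by omega)]

theorem hasLogD_of_coeff {f s : R⟦X⟧}
    (h : ∀ m : ℕ, (m : R) * coeff m f = ∑ p ∈ Finset.HasAntidiagonal.antidiagonal m, coeff p.1 f * coeff p.2 s) :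
    HasLogD f s := by
  unfold HasLogD
  ext m
  rw [coeff_X_mul_derivative, h, coeff_mul]

/-- `∑_{m ≥ 1} a^m X^m` -/
noncomputable def geo (a : R) : R⟦X⟧ := PowerSeries.mk fun m => if m = 0 then 0 else a ^ m

theorem coeff_geo (a : R) (m : ℕ) : coeff m (geo a) = if m = 0 then 0 else a ^ m := by
  simp [geo]

theorem one_sub_mul_geo (a : R) : (1 - C a * X) * geo a = C a * X := by
  ext m
  rw [sub_mul, one_mul, map_sub, mul_assoc, coeff_C_mul, coeff_C_mul]
  cases m with
  | zero => simp [coeff_geo]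
  | succ m =>
    rw [coeff_succ_X_mul, coeff_geo, coeff_geo, if_neg (Nat.succ_ne_zero m)]
    cases m with
    | zero => simp [coeff_one_X]
    | succ m =>
      rw [if_neg (Nat.succ_ne_zero m)]
      have : coeff (m + 1 + 1) (X : R⟦X⟧) = 0 := by
        rw [coeff_X, if_neg (by omega)]
      rw [this]
      ring

theorem hasLogD_one_sub (a : R) : HasLogD (1 - C a * X) (-(geo a)) := by
  unfold HasLogD
  rw [mul_neg, one_sub_mul_geo, map_sub, derivative_one, Derivation.leibniz, derivative_X,
    derivative_C]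
  simp
  ring

theorem derivative_map {S : Type*} [CommRing S] (φ : R →+* S) (f : R⟦X⟧) :
    d⁄dX S (PowerSeries.map φ f) = PowerSeries.map φ (d⁄dX R f) := by
  ext m
  rw [coeff_derivative, coeff_map, coeff_map, coeff_derivative]
  simp

theorem HasLogD.map {S : Type*} [CommRing S] (φ : R →+* S) {f s : R⟦X⟧} (h : HasLogD f s) :
    HasLogD (PowerSeries.map φ f) (PowerSeries.map φ s) := by
  unfold HasLogD at *
  rw [derivative_map, ← map_mul, ← PowerSeries.map_X φ, ← map_mul, h]

theorem HasLogD.unique_right [IsDomain R] {f s s' : R⟦X⟧} (h : HasLogD f s) (h' : HasLogD f s')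
    (hf : f ≠ 0) : s = s' := by
  unfold HasLogD at *
  exact mul_left_cancel₀ hf (h.symm.trans h')

theorem HasLogD.of_mul [IsDomain R] {g h s w : R⟦X⟧} (hgh : HasLogD (g * h) s) (hg : HasLogD g w)
    (hg0 : g ≠ 0) : HasLogD h (s - w) := by
  unfold HasLogD at *
  rw [Derivation.leibniz, smul_eq_mul, smul_eq_mul] at hgh
  apply mul_left_cancel₀ hg0
  have : g * (X * d⁄dX R h) = X * (g * d⁄dX R h + h * d⁄dX R g) - h * (X * d⁄dX R g) := by ring
  rw [this, hgh, hg]
  ring

theorem HasLogD.unique_left [IsDomain R] [CharZero R] {f g s : R⟦X⟧} (hf : HasLogD f s)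
    (hg : HasLogD g s) (hs : constantCoeff s = 0) (h0 : constantCoeff f = constantCoeff g) :
    f = g := by
  ext m
  induction m using Nat.strong_induction_on with
  | _ m ih =>
    rcases Nat.eq_zero_or_pos m with rfl | hm
    · simpa using h0
    · have h1 := hf.coeff_eq m
      have h2 := hg.coeff_eq m
      have h3 : ∑ p ∈ Finset.HasAntidiagonal.antidiagonal m, coeff p.1 f * coeff p.2 s =
          ∑ p ∈ Finset.HasAntidiagonal.antidiagonal m, coeff p.1 g * coeff p.2 s := by
        refine Finset.sum_congr rfl fun p hp => ?_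
        rcases Nat.lt_or_ge p.1 m with hlt | hge
        · rw [ih p.1 hlt]
        · have hp2 : p.2 = 0 := by
            have := Finset.HasAntidiagonal.mem_antidiagonal.1 hp
            omega
          rw [hp2, coeff_zero_eq_constantCoeff_apply, hs, mul_zero, mul_zero]
      rw [h3, ← h2] at h1
      have hm0 : (m : R) ≠ 0 := Nat.cast_ne_zero.2 hm.ne'
      exact mul_left_cancel₀ hm0 h1

end LogD

end Groth.Agent.Lib.Helper2.FF
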