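import Mathlib
import Groth.Agent.Lib.Helper2.FunFld.LogD
import Groth.Agent.Lib.Helper2.FunFld.CEG2

set_option autoImplicit false
open FunFld PowerSeries

namespace Groth.Agent.Lib.Helper2.FF

/-- `∑_{j ≥ 1} d X^{dj}` -/
noncomputable def sD (d : ℕ) : ℤ⟦X⟧ :=
  PowerSeries.mk fun m => if d ∣ m ∧ m ≠ 0 then (d : ℤ) else 0

theorem coeff_sD (d m : ℕ) : coeff m (sD d) = if d ∣ m ∧ m ≠ 0 then (d : ℤ) else 0 := by
  simp [sD]

theorem sD_eq (d : ℕ) (hd : 0 < d) : sD d = C (d : ℤ) * X ^ d * geomD d := by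
  ext m
  rw [mul_assoc, coeff_C_mul, coeff_X_pow_mul', coeff_sD]
  by_cases h : d ≤ m
  · rw [if_pos h, coeff_geomD]
    have h1 : d ∣ m - d ↔ d ∣ m := by
      constructor
      · intro hh
        have h3 : m = (m - d) + d := by omega
        rw [h3]
        exact Nat.dvd_add hh (dvd_refl d)
      · intro hh
        exact Nat.dvd_sub hh (dvd_refl d)
    have h2 : m ≠ 0 := by omega
    by_cases h3 : d ∣ m
    · rw [if_pos ⟨h3, h2⟩, if_pos (h1.2 h3), mul_one]
    · rw [if_neg (fun hh => h3 hh.1), if_neg (fun hh => h3 (h1.1 hh)), mul_zero]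
  · rw [if_neg h, mul_zero, if_neg]
    rintro ⟨h3, h4⟩
    exact h (Nat.le_of_dvd (Nat.pos_of_ne_zero h4) h3)

theorem hasLogD_geomD (d : ℕ) (hd : 0 < d) : HasLogD (geomD d) (sD d) := by
  unfold HasLogD
  have h1 := geomD_mul d hd
  have h2 := congrArg (d⁄dX ℤ) h1
  rw [Derivation.leibniz, derivative_one, smul_eq_mul, smul_eq_mul, map_sub, derivative_one,
    zero_sub, derivative_pow, derivative_X, mul_one] at h2
  -- h2 : geomD d * (-(d * X^(d-1))) + (1 - X^d) * (geomD d)' = 0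
  have h3 : (X : ℤ⟦X⟧) ^ d = X * X ^ (d - 1) := by
    rw [← pow_succ']
    congr 1
    omega
  have h4 : ((d : ℕ) : ℤ⟦X⟧) = C (d : ℤ) := by
    simp
  rw [sD_eq d hd]
  have h5 : X * d⁄dX ℤ (geomD d) = X * d⁄dX ℤ (geomD d) * (geomD d * (1 - X ^ d)) := by
    rw [h1, mul_one]
  rw [h5, ← h4, h3]
  have h6 : X * d⁄dX ℤ (geomD d) * (geomD d * (1 - X * X ^ (d - 1))) =
      geomD d * X * ((1 - X * X ^ (d - 1)) * d⁄dX ℤ (geomD d)) := by ring
  rw [h6]
  rw [h3] at h2
  have h7 : (1 - X * X ^ (d - 1)) * d⁄dX ℤ (geomD d) =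
      geomD d * ((d : ℤ⟦X⟧) * X ^ (d - 1)) := by
    have := eq_neg_of_add_eq_zero_right h2
    rw [this]
    ring
  rw [h7]
  ring

variable {k K : Type*} [Field k] [Field K] [Algebra k K]

/-- `∑_{m ≥ 1} N_m X^m` -/
noncomputable def Nser (k K : Type*) [Field k] [Field K] [Algebra k K] : ℤ⟦X⟧ :=
  PowerSeries.mk fun m => if m = 0 then 0 else (Ncount k K m : ℤ)

theorem coeff_Nser (m : ℕ) : coeff m (Nser k K) = if m = 0 then 0 else (Ncount k K m : ℤ) := by
  simp [Nser]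

theorem sum_PlLe_eq_Ncount [Finite k] (hK : IsFunctionField k K) (M : ℕ) [Fintype (PlLe k K M)]
    (j : ℕ) (hj : 0 < j) (hjM : j ≤ M) :
    ∑ P : PlLe k K M, (if P.1.deg ∣ j then P.1.deg else 0) = Ncount k K j := by
  classical
  haveI := finite_PlDvd hK j hj
  letI := Fintype.ofFinite (PlDvd k K j)
  rw [Ncount_eq_sum]
  have hS := finite_places_deg_le hK M
  have e1 : ∑ P ∈ hS.toFinset, (if P.deg ∣ j then P.deg else 0) =
      ∑ P : PlLe k K M, (if P.1.deg ∣ j then P.1.deg else 0) :=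
    Finset.sum_subtype (p := fun P : FunFld.Place k K => P.deg ≤ M) hS.toFinset
      (fun P => by simp) (fun P => if P.deg ∣ j then P.deg else 0)
  have e2 : ∑ P ∈ hS.toFinset.filter (fun P => P.deg ∣ j), P.deg =
      ∑ P : PlDvd k K j, P.1.deg :=
    Finset.sum_subtype (p := fun P : FunFld.Place k K => P.deg ∣ j)
      (hS.toFinset.filter (fun P => P.deg ∣ j))
      (fun P => by
        simp only [Finset.mem_filter, Set.Finite.mem_toFinset, Set.mem_setOf_eq,
          and_iff_right_iff_imp]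
        intro h
        exact (Nat.le_of_dvd hj h).trans hjM) (fun P => P.deg)
  rw [← e1, ← e2, Finset.sum_filter]

theorem hasLogD_zetaZ [Finite k] (hK : IsFunctionField k K) :
    HasLogD (zetaZ k K) (Nser k K) := by
  classical
  apply hasLogD_of_coeff
  intro m
  haveI := finite_PlLe hK m
  letI := Fintype.ofFinite (PlLe k K m)
  have h1 : HasLogD (∏ P : PlLe k K m, geomD P.1.deg) (∑ P : PlLe k K m, sD P.1.deg) :=
    HasLogD.prod _ _ _ (fun P _ => hasLogD_geomD _ (deg_pos P.1 hK))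
  refine h1.congr_of_coeff m (fun i hi => (coeff_zetaZ_eq_prod hK m i hi).symm) (fun j hj => ?_)
  rw [map_sum, coeff_Nser]
  simp_rw [coeff_sD]
  rcases Nat.eq_zero_or_pos j with rfl | hj0
  · simp
  · rw [if_neg hj0.ne', ← sum_PlLe_eq_Ncount hK m j hj0 hj]
    push_cast
    refine Finset.sum_congr rfl fun P _ => ?_
    by_cases h : P.1.deg ∣ j
    · rw [if_pos ⟨h, hj0.ne'⟩, if_pos h]
    · rw [if_neg (fun hh => h hh.1), if_neg h]

end Groth.Agent.Lib.Helper2.FF
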