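import Mathlib
import Groth.Agent.Lib.Helper2.FunFld.FKS3

set_option autoImplicit false
open scoped WithZero IntermediateField
open FunFld PowerSeries

namespace Groth.Agent.Lib.Helper2.FF

section ZR

variable {k K : Type*} [Field k] [Field K] [Algebra k K]

theorem numerZ_def : numerZ k K =
    (1 - X) * (1 - C (Nat.card k : ℤ) * X) * PowerSeries.mk fun n => (effDivCount k K n : ℤ) := rfl

/-- rationality of the zeta function, with the value `L(1) = h` -/
theorem exists_poly_numerZ [Finite k] (hK : IsFunctionField k K) :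
    ∃ p : Polynomial ℤ, (p : ℤ⟦X⟧) = numerZ k K ∧ p.eval 1 = (classNum k K : ℤ) := by
  obtain ⟨D₁, hD₁⟩ := deg_surjective hK 1
  have hq1 : 1 < Nat.card k := Finite.one_lt_card
  have hc : ((Nat.card k : ℤ) - 1) ≠ 0 := by
    have : (1 : ℤ) < Nat.card k := by exact_mod_cast hq1
    omega
  obtain ⟨p, hp, hp1⟩ := exists_poly_of_geometric
    (fun m => (effDivCount k K m : ℤ)) (Nat.card k : ℤ)
    ((Nat.card k : ℤ) - 1)
    ((Nat.card (Cl0 k K) : ℤ) * (Nat.card k : ℤ) ^ (2 * genus k K + 1 - genus k K))
    (Nat.card (Cl0 k K) : ℤ) (2 * genus k K) hc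
    (by
      intro m hm
      have h1 := effDivCount_mul_eq hK m (by omega) (m • D₁) (by
        rw [deg_nsmul, hD₁]; push_cast; ring)
      rw [h1]
      have e : m + 1 - genus k K = (2 * genus k K + 1 - genus k K) +
          (m - 2 * genus k K) := by omega
      rw [e, pow_add]
      ring)
  refine ⟨p, hp, ?_⟩
  have : ((Nat.card k : ℤ) - 1) * p.eval 1 = ((Nat.card k : ℤ) - 1) * (classNum k K : ℤ) := by
    rw [hp1]; unfold classNum; ring
  exact mul_left_cancel₀ hc this

end ZR

end Groth.Agent.Lib.Helper2.FF
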