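import Mathlib
import Groth.Agent.Lib.Helper2.FunFld.Zeta6

set_option autoImplicit false
open scoped WithZero IntermediateField
open FunFld PowerSeries

namespace Groth.Agent.Lib.Helper2.FF

section Z7

variable {k K : Type*} [Field k] [Field K] [Algebra k K]

/-- `∑_c q^{ℓ(a D₁ + c)}` over the degree-zero classes -/
noncomputable def bsum [Fintype (Cl0 k K)] (D₁ : Divisor k K) (a : ℤ) : ℚ :=
  ∑ c : Cl0 k K, (Nat.card k : ℚ) ^
    ell (a • D₁ + ((Quotient.out c : (degHom k K).ker) : Divisor k K))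

/-- the number of effective divisors, extended by zero to negative degrees -/
noncomputable def Aext (k K : Type*) [Field k] [Field K] [Algebra k K] (m : ℤ) : ℚ :=
  if 0 ≤ m then (effDivCount k K m.toNat : ℚ) else 0

theorem deg_out (c : Cl0 k K) :
    ((Quotient.out c : (degHom k K).ker) : Divisor k K).deg = 0 :=
  (Quotient.out c : (degHom k K).ker).2

theorem Aext_eq [Finite k] (hK : IsFunctionField k K) [Fintype (Cl0 k K)] (D₁ : Divisor k K)
    (hD₁ : D₁.deg = 1) (m : ℤ) :
    ((Nat.card k : ℚ) - 1) * Aext k K m = bsum D₁ m - Fintype.card (Cl0 k K) := by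
  have hq : 1 ≤ Nat.card k := Nat.one_le_iff_ne_zero.2 Nat.card_pos.ne'
  unfold Aext bsum
  split_ifs with hm
  · obtain ⟨n, rfl⟩ := Int.eq_ofNat_of_zero_le hm
    have h1 := card_effDiv_sum hK n (n • D₁) (by rw [deg_nsmul, hD₁]; ring)
    have h2 : ((Nat.card {D : Divisor k K // 0 ≤ D ∧ D.deg = n} * (Nat.card k - 1) : ℕ) : ℚ) =
        ((∑ c : Cl0 k K, ((Nat.card k) ^
          ell (n • D₁ + ((Quotient.out c : (degHom k K).ker) : Divisor k K)) - 1) : ℕ) : ℚ) := by
      rw [h1]
    rw [Nat.cast_mul, Nat.cast_sub hq, Nat.cast_one, Nat.cast_sum] at h2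
    rw [Int.toNat_natCast, mul_comm]
    unfold effDivCount
    rw [h2]
    have h3 : ∀ x : Cl0 k K, (((Nat.card k) ^
        ell (n • D₁ + ((Quotient.out x : (degHom k K).ker) : Divisor k K)) - 1 : ℕ) : ℚ) =
        (Nat.card k : ℚ) ^
          ell ((n : ℤ) • D₁ + ((Quotient.out x : (degHom k K).ker) : Divisor k K)) - 1 := by
      intro x
      rw [Nat.cast_sub (Nat.one_le_pow _ _ hq), Nat.cast_pow, Nat.cast_one, natCast_zsmul]
    simp_rw [h3]
    rw [Finset.sum_sub_distrib]
    simp
  · push Not at hm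
    have h3 : ∀ x : Cl0 k K,
        ell (m • D₁ + ((Quotient.out x : (degHom k K).ker) : Divisor k K)) = 0 := by
      intro x
      apply ell_eq_zero_of_deg_neg hK
      rw [deg_add, deg_zsmul, hD₁, deg_out]
      omega
    simp_rw [h3]
    simp

theorem bsum_reflect [Finite k] (hK : IsFunctionField k K) [Fintype (Cl0 k K)]
    (D₁ : Divisor k K) (hD₁ : D₁.deg = 1) (a : ℤ) :
    bsum D₁ a = (Nat.card k : ℚ) ^ (a + 1 - genus k K) *
      bsum D₁ (2 * (genus k K : ℤ) - 2 - a) := by
  classical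
  obtain ⟨W, hW⟩ := exists_isCanonical hK
  have hq0 : (Nat.card k : ℚ) ≠ 0 := by
    have : 0 < Nat.card k := Nat.card_pos
    positivity
  set a' : ℤ := 2 * (genus k K : ℤ) - 2 - a with ha'
  have hκ : (W - a • D₁ - a' • D₁).deg = 0 := by
    rw [deg_sub, deg_sub, deg_zsmul, deg_zsmul, hD₁, deg_canonical hK hW, ha']; ring
  set κ : Cl0 k K := QuotientAddGroup.mk ⟨W - a • D₁ - a' • D₁, hκ⟩ with hκdef
  have key : ∀ c : Cl0 k K, (Nat.card k : ℚ) ^
      ell (a • D₁ + ((Quotient.out c : (degHom k K).ker) : Divisor k K)) =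
      (Nat.card k : ℚ) ^ (a + 1 - genus k K) * (Nat.card k : ℚ) ^
        ell (a' • D₁ + ((Quotient.out (κ - c) : (degHom k K).ker) : Divisor k K)) := by
    intro c
    -- Riemann–Roch
    have hrr := riemann_roch hK W hW
      (a • D₁ + ((Quotient.out c : (degHom k K).ker) : Divisor k K))
    rw [deg_add, deg_zsmul, hD₁, deg_out, mul_one, add_zero] at hrr
    -- `W - D` is equivalent to `a' D₁ + out (κ - c)`
    have hcls : (QuotientAddGroup.mk (Quotient.out (κ - c) : (degHom k K).ker) : Cl0 k K) =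
        QuotientAddGroup.mk (⟨W - a • D₁ - a' • D₁, hκ⟩ - (Quotient.out c : (degHom k K).ker)) := by
      rw [QuotientAddGroup.out_eq', QuotientAddGroup.mk_sub, ← hκdef, QuotientAddGroup.out_eq']
    obtain ⟨x, hx0, hx⟩ := (mk_eq_mk_iff hK _ _).1 hcls
    have hWD : W - (a • D₁ + ((Quotient.out c : (degHom k K).ker) : Divisor k K)) =
        a' • D₁ + ((Quotient.out (κ - c) : (degHom k K).ker) : Divisor k K) + FunFld.div k x := by
      have hx' : W - a • D₁ - a' • D₁ - ((Quotient.out c : (degHom k K).ker) : Divisor k K) =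
          ((Quotient.out (κ - c) : (degHom k K).ker) : Divisor k K) + FunFld.div k x := hx
      rw [add_assoc, ← hx']; abel
    rw [hWD, ell_add_div hK _ hx0] at hrr
    have hexp : (ell (a • D₁ + ((Quotient.out c : (degHom k K).ker) : Divisor k K)) : ℤ) =
        (a + 1 - genus k K) +
          ell (a' • D₁ + ((Quotient.out (κ - c) : (degHom k K).ker) : Divisor k K)) := hrr
    rw [← zpow_natCast, hexp, zpow_add₀ hq0, zpow_natCast]
  unfold bsum
  rw [Finset.mul_sum, ← Equiv.sum_comp (Equiv.subLeft κ) (fun c => (Nat.card k : ℚ) ^ (a + 1 - genus k K) * (Nat.card k : ℚ) ^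
        ell (a' • D₁ + ((Quotient.out c : (degHom k K).ker) : Divisor k K)))]
  refine Finset.sum_congr rfl fun c _ => ?_
  rw [Equiv.subLeft_apply]
  exact key c

end Z7

end Groth.Agent.Lib.Helper2.FF
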