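import Mathlib
import Groth.Agent.Lib.Helper2.FunFld.Zeta7

set_option autoImplicit false
open scoped WithZero IntermediateField
open FunFld PowerSeries

namespace Groth.Agent.Lib.Helper2.FF

section Z8

variable {k K : Type*} [Field k] [Field K] [Algebra k K]

/-- coefficients of the numerator, extended to all integers -/
noncomputable def Lc (k K : Type*) [Field k] [Field K] [Algebra k K] (m : ℤ) : ℚ :=
  Aext k K m - ((Nat.card k : ℚ) + 1) * Aext k K (m - 1) + (Nat.card k : ℚ) * Aext k K (m - 2)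

theorem Lc_neg {m : ℤ} (hm : m < 0) : Lc k K m = 0 := by
  unfold Lc Aext
  rw [if_neg (by omega), if_neg (by omega), if_neg (by omega)]
  ring

theorem Lc_functional [Finite k] (hK : IsFunctionField k K) (i : ℤ) :
    Lc k K (2 * (genus k K : ℤ) - i) = (Nat.card k : ℚ) ^ ((genus k K : ℤ) - i) * Lc k K i := by
  classical
  haveI := finite_Cl0 hK
  letI := Fintype.ofFinite (Cl0 k K)
  obtain ⟨D₁, hD₁⟩ := deg_surjective hK 1
  have hq1 : (1 : ℚ) < Nat.card k := by exact_mod_cast (Finite.one_lt_card : 1 < Nat.card k)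
  have hq0 : (Nat.card k : ℚ) ≠ 0 := by positivity
  have hc : (Nat.card k : ℚ) - 1 ≠ 0 := by linarith
  apply mul_left_cancel₀ hc
  have hA := Aext_eq hK D₁ hD₁
  have hL : ∀ m : ℤ, ((Nat.card k : ℚ) - 1) * Lc k K m =
      bsum D₁ m - ((Nat.card k : ℚ) + 1) * bsum D₁ (m - 1) + (Nat.card k : ℚ) * bsum D₁ (m - 2) := by
    intro m
    unfold Lc
    have e1 := hA m
    have e2 := hA (m - 1)
    have e3 := hA (m - 2)
    linear_combination e1 - ((Nat.card k : ℚ) + 1) * e2 + (Nat.card k : ℚ) * e3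
  have hR := bsum_reflect hK D₁ hD₁
  rw [hL, hR (2 * (genus k K : ℤ) - i), hR (2 * (genus k K : ℤ) - i - 1),
    hR (2 * (genus k K : ℤ) - i - 2)]
  have e1 : 2 * (genus k K : ℤ) - 2 - (2 * (genus k K : ℤ) - i) = i - 2 := by ring
  have e2 : 2 * (genus k K : ℤ) - 2 - (2 * (genus k K : ℤ) - i - 1) = i - 1 := by ring
  have e3 : 2 * (genus k K : ℤ) - 2 - (2 * (genus k K : ℤ) - i - 2) = i := by ring
  rw [e1, e2, e3]
  have f1 : (2 * (genus k K : ℤ) - i + 1 - genus k K) = ((genus k K : ℤ) - i) + 1 := by ring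
  have f2 : (2 * (genus k K : ℤ) - i - 1 + 1 - genus k K) = ((genus k K : ℤ) - i) := by ring
  have f3 : (2 * (genus k K : ℤ) - i - 2 + 1 - genus k K) = ((genus k K : ℤ) - i) - 1 := by ring
  have hT1 : (Nat.card k : ℚ) ^ (((genus k K : ℤ) - i) + 1) =
      (Nat.card k : ℚ) ^ ((genus k K : ℤ) - i) * (Nat.card k : ℚ) := by
    rw [zpow_add₀ hq0, zpow_one]
  have hT3 : (Nat.card k : ℚ) ^ (((genus k K : ℤ) - i) - 1) =
      (Nat.card k : ℚ) ^ ((genus k K : ℤ) - i) / (Nat.card k : ℚ) := by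
    rw [zpow_sub₀ hq0, zpow_one]
  rw [f1, f2, f3, hT1, hT3]
  have := hL i
  generalize (Nat.card k : ℚ) ^ ((genus k K : ℤ) - i) = T at *
  have hq : (Nat.card k : ℚ) * (T / (Nat.card k : ℚ) * bsum D₁ i) = T * bsum D₁ i := by
    field_simp
  rw [hq]
  linear_combination (-T) * this
  
theorem Aext_natCast (n : ℕ) : Aext k K (n : ℤ) = (effDivCount k K n : ℚ) := by
  unfold Aext
  rw [if_pos (by omega), Int.toNat_natCast]

theorem coeff_numerZ_eq_Lc (n : ℕ) :
    ((coeff n (numerZ k K) : ℤ) : ℚ) = Lc k K n := by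
  rw [numerZ_def, mul_assoc, coeff_one_sub_X_mul, coeff_one_sub_CX_mul]
  unfold Lc
  rcases n with _ | _ | n
  · simp only [if_pos, coeff_mk, Nat.cast_zero]
    have h1 : Aext k K ((0 : ℤ) - 1) = 0 := by unfold Aext; rw [if_neg (by omega)]
    have h2 : Aext k K ((0 : ℤ) - 2) = 0 := by unfold Aext; rw [if_neg (by omega)]
    rw [h1, h2, ← Nat.cast_zero (R := ℤ), Aext_natCast]
    push_cast; ring
  · rw [coeff_one_sub_CX_mul]
    simp only [coeff_mk]
    have h1 : ((0 + 1 : ℕ) : ℤ) - 1 = ((0 : ℕ) : ℤ) := by simp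
    have h2 : Aext k K (((0 + 1 : ℕ) : ℤ) - 2) = 0 := by
      unfold Aext; rw [if_neg (by simp)]
    rw [h1, h2, Aext_natCast, Aext_natCast]
    simp
    ring
  · rw [coeff_one_sub_CX_mul]
    simp only [coeff_mk]
    have h1 : ((n + 1 + 1 : ℕ) : ℤ) - 1 = ((n + 1 : ℕ) : ℤ) := by push_cast; ring
    have h2 : ((n + 1 + 1 : ℕ) : ℤ) - 2 = ((n : ℕ) : ℤ) := by push_cast; ring
    rw [h1, h2, Aext_natCast, Aext_natCast, Aext_natCast]
    simp
    ring

theorem effDivCount_zero (hK : IsFunctionField k K) : effDivCount k K 0 = 1 := by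
  unfold effDivCount
  have : ∀ D : Divisor k K, (0 ≤ D ∧ D.deg = ((0 : ℕ) : ℤ)) ↔ D = 0 := by
    intro D
    constructor
    · rintro ⟨h0, hd⟩
      ext P
      have h1 := coeff_mul_deg_le h0 P
      rw [hd] at h1
      have h2 : (0 : ℤ) ≤ D P := h0 P
      have h3 : (0 : ℤ) < P.deg := by exact_mod_cast deg_pos P hK
      simp only [Finsupp.coe_zero, Pi.zero_apply]
      rw [Nat.cast_zero] at h1
      by_contra hne
      have h4 : 0 < D P := lt_of_le_of_ne h2 (Ne.symm hne)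
      have := mul_pos h4 h3
      omega
    · rintro rfl
      exact ⟨le_rfl, by simp [deg_zero]⟩
  rw [Nat.card_congr (Equiv.subtypeEquivRight this)]
  simp

end Z8

end Groth.Agent.Lib.Helper2.FF
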