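import Mathlib
import Groth.Agent.Lib.Helper2.FunFld.ZLog
import Groth.Agent.Lib.Helper2.FunFld.Zeta8

set_option autoImplicit false
open FunFld PowerSeries

namespace Groth.Agent.Lib.Helper2.FF

section ZCE

variable {k K : Type*} [Field k] [Field K] [Algebra k K]

theorem map_numerZ : PowerSeries.map (Int.castRingHom ℂ) (numerZ k K) =
    (1 - C (1 : ℂ) * X) * (1 - C (Nat.card k : ℂ) * X) *
      PowerSeries.map (Int.castRingHom ℂ) (zetaZ k K) := by
  unfold numerZ
  simp

theorem hasLogD_numerZ [Finite k] (hK : IsFunctionField k K) :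
    HasLogD (PowerSeries.map (Int.castRingHom ℂ) (numerZ k K))
      (-(geo (1 : ℂ)) + -(geo (Nat.card k : ℂ)) +
        PowerSeries.map (Int.castRingHom ℂ) (Nser k K)) := by
  rw [map_numerZ]
  exact ((hasLogD_one_sub 1).mul (hasLogD_one_sub _)).mul ((hasLogD_zetaZ hK).map _)

theorem coe_prod_one_sub {g : ℕ} (β : Fin g → ℂ) :
    ((∏ i, (1 - Polynomial.C (β i) * Polynomial.X) : Polynomial ℂ) : PowerSeries ℂ) =
      ∏ i, (1 - C (β i) * X) := by
  have := map_prod (Polynomial.coeToPowerSeries.ringHom (R := ℂ))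
    (fun i => (1 - Polynomial.C (β i) * Polynomial.X : Polynomial ℂ)) Finset.univ
  simp only [Polynomial.coeToPowerSeries.ringHom_apply] at this
  rw [this]
  refine Finset.prod_congr rfl fun i _ => ?_
  simp

theorem hasLogD_prod_one_sub {g : ℕ} (β : Fin g → ℂ) :
    HasLogD (((∏ i, (1 - Polynomial.C (β i) * Polynomial.X) : Polynomial ℂ) : PowerSeries ℂ))
      (∑ i, -(geo (β i))) := by
  rw [coe_prod_one_sub]
  exact HasLogD.prod _ _ _ (fun i _ => hasLogD_one_sub (β i))

theorem constantCoeff_prod_one_sub {g : ℕ} (β : Fin g → ℂ) :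
    constantCoeff (((∏ i, (1 - Polynomial.C (β i) * Polynomial.X) : Polynomial ℂ) :
      PowerSeries ℂ)) = 1 := by
  rw [coe_prod_one_sub, map_prod]
  apply Finset.prod_eq_one
  intro i _
  simp

theorem constantCoeff_map_numerZ (hK : IsFunctionField k K) :
    constantCoeff (PowerSeries.map (Int.castRingHom ℂ) (numerZ k K)) = 1 := by
  rw [map_numerZ, map_mul, map_mul]
  have : constantCoeff (PowerSeries.map (Int.castRingHom ℂ) (zetaZ k K)) = 1 := by
    rw [← coeff_zero_eq_constantCoeff_apply, coeff_map, coeff_zetaZ, effDivCount_zero hK]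
    simp
  rw [this]
  simp

/-- the point counts `N_m` in terms of the inverse roots of `L` -/
theorem Ncount_eq_of_factor [Finite k] (hK : IsFunctionField k K) {g : ℕ} (α : Fin g → ℂ)
    (hα : PowerSeries.map (Int.castRingHom ℂ) (numerZ k K) =
      ((∏ i, (1 - Polynomial.C (α i) * Polynomial.X) : Polynomial ℂ) : PowerSeries ℂ))
    (m : ℕ) (hm : 0 < m) :
    (Ncount k K m : ℂ) = 1 + (Nat.card k : ℂ) ^ m - ∑ i, α i ^ m := by
  have h1 := hasLogD_numerZ hK
  have h2 := hasLogD_prod_one_sub α
  rw [← hα] at h2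
  have hne : PowerSeries.map (Int.castRingHom ℂ) (numerZ k K) ≠ 0 := by
    intro h0
    have := constantCoeff_map_numerZ hK
    rw [h0] at this
    simp at this
  have h3 := congrArg (coeff m) (h1.unique_right h2 hne)
  simp only [map_add, map_neg, map_sum, coeff_geo, coeff_map, coeff_Nser, if_neg hm.ne',
    one_pow] at h3
  have h4 : ((Int.castRingHom ℂ) (Ncount k K m : ℤ)) = (Ncount k K m : ℂ) := by simp
  rw [h4, Finset.sum_neg_distrib] at h3
  linear_combination h3

/-- conversely, the point counts determine `L` -/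
theorem numerZ_eq_of_Ncount [Finite k] (hK : IsFunctionField k K) {g : ℕ} (β : Fin g → ℂ)
    (h : ∀ m, 0 < m → (Ncount k K m : ℂ) = 1 + (Nat.card k : ℂ) ^ m - ∑ i, β i ^ m) :
    PowerSeries.map (Int.castRingHom ℂ) (numerZ k K) =
      ((∏ i, (1 - Polynomial.C (β i) * Polynomial.X) : Polynomial ℂ) : PowerSeries ℂ) := by
  have h1 := hasLogD_numerZ hK
  have h2 := hasLogD_prod_one_sub β
  have hs : (-(geo (1 : ℂ)) + -(geo (Nat.card k : ℂ)) +
      PowerSeries.map (Int.castRingHom ℂ) (Nser k K)) = ∑ i, -(geo (β i)) := by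
    ext m
    simp only [map_add, map_neg, map_sum, coeff_geo, coeff_map, coeff_Nser, one_pow]
    rcases Nat.eq_zero_or_pos m with rfl | hm
    · simp
    · simp only [if_neg hm.ne']
      have h4 : ((Int.castRingHom ℂ) (Ncount k K m : ℤ)) = (Ncount k K m : ℂ) := by simp
      rw [h4, h m hm, Finset.sum_neg_distrib]
      ring
  rw [hs] at h1
  refine h1.unique_left h2 ?_ ?_
  · rw [map_sum]
    apply Finset.sum_eq_zero
    intro i _
    rw [map_neg, ← coeff_zero_eq_constantCoeff_apply, coeff_geo, if_pos rfl, neg_zero]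
  · rw [constantCoeff_map_numerZ hK, constantCoeff_prod_one_sub]

end ZCE

section ZCE2

variable {k k' K K' : Type*} [Field k] [Field k'] [Field K] [Field K']
    [Algebra k k'] [Algebra k K] [Algebra K K'] [Algebra k' K'] [Algebra k K']
    [IsScalarTower k k' K'] [IsScalarTower k K K']

/-- point counts of the constant field extension -/
theorem Ncount_cExt_eq [Finite k] [FiniteDimensional k k']
    (h : Function.Bijective (Algebra.TensorProduct.productMap
      (IsScalarTower.toAlgHom k k' K') (IsScalarTower.toAlgHom k K K')))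
    (hK : IsFunctionField k K) {g : ℕ} (α : Fin g → ℂ)
    (hα : PowerSeries.map (Int.castRingHom ℂ) (numerZ k K) =
      ((∏ i, (1 - Polynomial.C (α i) * Polynomial.X) : Polynomial ℂ) : PowerSeries ℂ))
    (m : ℕ) (hm : 0 < m) :
    (Ncount k' K' m : ℂ) = 1 + (Nat.card k' : ℂ) ^ m -
      ∑ i, (α i ^ Module.finrank k k') ^ m := by
  rw [Ncount_cExt h hK m hm, Ncount_eq_of_factor hK α hα _ (Nat.mul_pos Module.finrank_pos hm)]
  have : Nat.card k' = Nat.card k ^ Module.finrank k k' := Module.natCard_eq_pow_finrank (K := k)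
  rw [this]
  push_cast
  simp_rw [pow_mul]

theorem card_deg_one_eq_Ncount {k K : Type*} [Field k] [Field K] [Algebra k K] [Finite k]
    (hK : IsFunctionField k K) :
    Nat.card {P : FunFld.Place k K // P.deg = 1} = Ncount k K 1 := by
  classical
  haveI := finite_PlDvd hK 1 one_pos
  letI := Fintype.ofFinite (PlDvd k K 1)
  rw [Ncount_eq_sum]
  have h1 : ∀ P : PlDvd k K 1, P.1.deg = 1 := fun P => Nat.dvd_one.1 P.2
  simp_rw [h1]
  rw [Finset.sum_const, Finset.card_univ, smul_eq_mul, mul_one, ← Nat.card_eq_fintype_card]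
  exact Nat.card_congr (Equiv.subtypeEquivRight fun P => Nat.dvd_one.symm)

end ZCE2

end Groth.Agent.Lib.Helper2.FF
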