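import Mathlib
import Groth.Agent.Lib.Helper2.FunFld.HW4
import Groth.Agent.Lib.Helper2.FunFld.GEO2
import Groth.Agent.Lib.Helper2.FunFld.ZCE
import Groth.Agent.Lib.Helper2.FunFld.CF2

set_option autoImplicit false
open scoped WithZero IntermediateField NNReal TensorProduct
open FunFld Polynomial IntermediateField

namespace Groth.Agent.Lib.Helper2.FF

section PB

variable {k₀ E₁ E : Type*} [Field k₀] [Field E₁] [Field E] [Algebra k₀ E₁] [Algebra E₁ E]
  [Algebra k₀ E] [IsScalarTower k₀ E₁ E]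

/-- a field generated over `E₁` by a finite separable extension `k₁` of the constants is the
constant field extension `k₁ ⊗ E₁` -/
theorem bijective_productMap_of_adjoin
    (hcl : ∀ y : E₁, IsAlgebraic k₀ y → y ∈ Set.range (algebraMap k₀ E₁))
    (k₁ : IntermediateField k₀ E) [FiniteDimensional k₀ k₁] [Algebra.IsSeparable k₀ k₁]
    (hgen : Algebra.adjoin E₁ (k₁ : Set E) = ⊤) :
    Function.Bijective (Algebra.TensorProduct.productMap
      (IsScalarTower.toAlgHom k₀ k₁ E) (IsScalarTower.toAlgHom k₀ E₁ E)) := by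
  constructor
  · have hF := Groth.Agent.Lib.Helper2.Geo.isField_tensor_of_isSeparable k₀ k₁ E₁ hcl
    letI := hF.toField
    exact RingHom.injective ((Algebra.TensorProduct.productMap
      (IsScalarTower.toAlgHom k₀ k₁ E) (IsScalarTower.toAlgHom k₀ E₁ E)).toRingHom)
  · intro z
    have hz : z ∈ Algebra.adjoin E₁ (k₁ : Set E) := by rw [hgen]; trivial
    induction hz using Algebra.adjoin_induction with
    | mem x hx =>
      exact ⟨(⟨x, hx⟩ : k₁) ⊗ₜ 1, by simp⟩
    | algebraMap a =>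
      exact ⟨1 ⊗ₜ a, by simp⟩
    | add x y _ _ hx hy =>
      obtain ⟨a, rfl⟩ := hx
      obtain ⟨b, rfl⟩ := hy
      exact ⟨a + b, map_add _ _ _⟩
    | mul x y _ _ hx hy =>
      obtain ⟨a, rfl⟩ := hx
      obtain ⟨b, rfl⟩ := hy
      exact ⟨a * b, map_mul _ _ _⟩

end PB


theorem natDegree_minpoly_dvd_finrank {k₀ k₁ : Type*} [Field k₀] [Field k₁] [Algebra k₀ k₁]
    {θ : k₁} (hint : IsIntegral k₀ θ) : (minpoly k₀ θ).natDegree ∣ Module.finrank k₀ k₁ := by
  rw [← IntermediateField.adjoin.finrank hint]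
  exact Dvd.intro _ (Module.finrank_mul_finrank k₀ k₀⟮θ⟯ k₁)

section CE

variable (E₁ : Type*) [Field E₁]

/-- adjoin to `E₁` the roots of `X ^ N - X` -/
noncomputable def CE (N : ℕ) : IntermediateField E₁ (AlgebraicClosure E₁) :=
  IntermediateField.adjoin E₁ ((X ^ N - X : E₁[X]).rootSet (AlgebraicClosure E₁))

instance isSplittingField_CE (N : ℕ) : IsSplittingField E₁ (CE E₁ N) (X ^ N - X : E₁[X]) :=
  IntermediateField.adjoin_rootSet_isSplittingField (IsAlgClosed.splits _)

instance finiteDimensional_CE (N : ℕ) : FiniteDimensional E₁ (CE E₁ N) :=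
  IsSplittingField.finiteDimensional (CE E₁ N) (X ^ N - X : E₁[X])

theorem isSeparable_CE (p : ℕ) [CharP E₁ p] (N : ℕ) (hN : p ∣ N) :
    Algebra.IsSeparable E₁ (CE E₁ N) := by
  unfold CE
  rw [IntermediateField.isSeparable_adjoin_iff_isSeparable]
  intro x hx
  have hsep : (X ^ N - X : E₁[X]).Separable := galois_poly_separable p N hN
  have hx' := (mem_rootSet.1 hx).2
  exact hsep.of_dvd (minpoly.dvd E₁ x hx')

variable {E₁}

instance isScalarTower_CE_top (L : Type*) [Field L] [Algebra L E₁] (N : ℕ) :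
    IsScalarTower L (CE E₁ N) (AlgebraicClosure E₁) :=
  IsScalarTower.of_algebraMap_eq (fun _ => rfl)

instance isScalarTower_CE (L K : Type*) [Field L] [Field K] [Algebra L K] [Algebra L E₁]
    [Algebra K E₁] [IsScalarTower L K E₁] (N : ℕ) : IsScalarTower L K (CE E₁ N) :=
  IsScalarTower.of_algebraMap_eq (fun x => Subtype.ext
    (IsScalarTower.algebraMap_apply L K (AlgebraicClosure E₁) x))

theorem isGalois_CE (L : Type*) [Field L] [Algebra L E₁] [FiniteDimensional L E₁] [IsGalois L E₁]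
    (p : ℕ) [CharP E₁ p] (N : ℕ) (hN : p ∣ N) (hN1 : 1 < N) :
    IsGalois L (CE E₁ N) ∧ FiniteDimensional L (CE E₁ N) := by
  haveI := isSeparable_CE E₁ p N hN
  haveI : Algebra.IsSeparable L (CE E₁ N) := Algebra.IsSeparable.trans L E₁ (CE E₁ N)
  have hfin : FiniteDimensional L (CE E₁ N) := FiniteDimensional.trans L E₁ (CE E₁ N)
  refine ⟨?_, hfin⟩
  haveI : Normal L (CE E₁ N) := by
    obtain ⟨q, hq⟩ := Normal.exists_isSplittingField L E₁
    have hg0 : (X ^ N - X : L[X]) ≠ 0 := FiniteField.X_pow_card_sub_X_ne_zero L hN1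
    have hmap : (X ^ N - X : L[X]).map (algebraMap L E₁) = (X ^ N - X : E₁[X]) := by
      simp
    haveI : IsSplittingField E₁ (CE E₁ N) ((X ^ N - X : L[X]).map (algebraMap L E₁)) := by
      rw [hmap]; infer_instance
    by_cases hq0 : q = 0
    · subst hq0
      haveI : IsSplittingField L E₁ (1 : L[X]) :=
        ⟨by simp, by have := hq.adjoin_rootSet; simpa using this⟩
      haveI := IsSplittingField.mul (F := L) (K := E₁) (L := CE E₁ N) 1 (X ^ N - X : L[X])
        one_ne_zero hg0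
      exact Normal.of_isSplittingField ((1 : L[X]) * (X ^ N - X))
    · haveI := IsSplittingField.mul (F := L) (K := E₁) (L := CE E₁ N) q (X ^ N - X : L[X])
        hq0 hg0
      exact Normal.of_isSplittingField (q * (X ^ N - X))
  exact ⟨⟩

/-- after adjoining suitable constants the field has a rational place over its constant
field -/
theorem exists_rational_place_CE {k₀ : Type*} [Field k₀] [Finite k₀] [Algebra k₀ E₁]
    (hE₁ : IsFunctionField k₀ E₁) :
    ∃ (p N : ℕ), p.Prime ∧ CharP E₁ p ∧ p ∣ N ∧ 1 < N ∧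
      IsFunctionField (KC k₀ (CE E₁ N)) (CE E₁ N) ∧
      ∃ P : FunFld.Place (KC k₀ (CE E₁ N)) (CE E₁ N), P.deg = 1 := by
  classical
  letI := Fintype.ofFinite k₀
  obtain ⟨p, hpc⟩ := CharP.exists k₀
  haveI := hpc
  obtain ⟨n, hp, hn⟩ := FiniteField.card k₀ p
  haveI : Fact p.Prime := ⟨hp⟩
  haveI : CharP E₁ p := charP_of_injective_algebraMap (algebraMap k₀ E₁).injective p
  obtain ⟨x, hx, -⟩ := hE₁.1
  obtain ⟨Q₀, -⟩ := exists_place_lt_one hE₁ hx
  have hd₀ := deg_pos Q₀ hE₁
  set d₀ := Q₀.deg with hd₀def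
  have hq : Nat.card k₀ = p ^ (n : ℕ) := by rw [Nat.card_eq_fintype_card, hn]
  set N := Nat.card k₀ ^ d₀ with hNdef
  have hpN : p ∣ N := by
    rw [hNdef, hq, ← pow_mul]
    exact dvd_pow_self p (Nat.mul_ne_zero n.pos.ne' hd₀.ne')
  have hN1 : 1 < N := by
    rw [hNdef]
    exact Nat.one_lt_pow hd₀.ne' (by rw [hq]; exact Nat.one_lt_pow n.pos.ne' hp.one_lt)
  refine ⟨p, N, hp, inferInstance, hpN, hN1, ?_⟩
  -- the constants of `E`
  have hFF : IsFFw k₀ (CE E₁ N) := isFFw_of_finite hE₁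
  haveI := finiteDimensional_KC hFF
  haveI : Algebra.IsSeparable k₀ (KC k₀ (CE E₁ N)) :=
    Algebra.IsAlgebraic.isSeparable_of_perfectField
  have hg₀ : (X ^ N - X : k₀[X]) ≠ 0 := FiniteField.X_pow_card_sub_X_ne_zero k₀ hN1
  have hroot : ∀ x : CE E₁ N, x ∈ (X ^ N - X : E₁[X]).rootSet (CE E₁ N) →
      x ∈ KC k₀ (CE E₁ N) := by
    intro x hx
    rw [mem_algebraicClosure_iff]
    refine ⟨X ^ N - X, hg₀, ?_⟩
    have := (mem_rootSet.1 hx).2
    simpa using this
  have hgen : Algebra.adjoin E₁ ((KC k₀ (CE E₁ N) : IntermediateField k₀ (CE E₁ N)) :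
      Set (CE E₁ N)) = ⊤ := by
    rw [eq_top_iff, ← (isSplittingField_CE E₁ N).adjoin_rootSet]
    exact Algebra.adjoin_mono hroot
  have hbij := bijective_productMap_of_adjoin hE₁.2 (KC k₀ (CE E₁ N)) hgen
  have hE := isFunctionField_cExt hbij hE₁
  refine ⟨hE, ?_⟩
  -- the residue degree divides the degree of the constant field extension
  have hdvd : d₀ ∣ Module.finrank k₀ (KC k₀ (CE E₁ N)) := by
    haveI h0 : @Module.Finite k₀ (IsLocalRing.ResidueField Q₀.O) _ _ (Algebra.toModule) :=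
      finiteDimensional_residueField Q₀ hE₁
    haveI h0' := finiteDimensional_residueField Q₀ hE₁
    haveI : Finite (IsLocalRing.ResidueField Q₀.O) := Module.finite_of_finite k₀
    haveI : Algebra.IsAlgebraic k₀ (IsLocalRing.ResidueField Q₀.O) :=
      Algebra.IsAlgebraic.of_finite k₀ _
    letI := Fintype.ofFinite (IsLocalRing.ResidueField Q₀.O)
    haveI : Algebra.IsSeparable k₀ (IsLocalRing.ResidueField Q₀.O) :=
      Algebra.IsAlgebraic.isSeparable_of_perfectField
    obtain ⟨a, ha⟩ := Field.exists_primitive_element k₀ (IsLocalRing.ResidueField Q₀.O)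
    have hinta : IsIntegral k₀ a := Algebra.IsIntegral.isIntegral a
    have hdeg : (minpoly k₀ a).natDegree = d₀ := by
      rw [← IntermediateField.adjoin.finrank hinta, ha, IntermediateField.finrank_top']
      rfl
    have hcard : Fintype.card (IsLocalRing.ResidueField Q₀.O) = N := by
      rw [← Nat.card_eq_fintype_card, Module.natCard_eq_pow_finrank (K := k₀)]
      rfl
    have hdvd1 : minpoly k₀ a ∣ (X ^ N - X : k₀[X]) := by
      apply minpoly.dvd
      rw [map_sub, map_pow, aeval_X, ← hcard, FiniteField.pow_card, sub_self]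
    have hsplit : ((X ^ N - X : k₀[X]).map (algebraMap k₀ (CE E₁ N))).Splits := by
      have h1 := (isSplittingField_CE E₁ N).splits
      have h2 : (X ^ N - X : k₀[X]).map (algebraMap k₀ (CE E₁ N)) =
          (X ^ N - X : E₁[X]).map (algebraMap E₁ (CE E₁ N)) := by simp
      rw [h2]; exact h1
    have hsplit2 : ((minpoly k₀ a).map (algebraMap k₀ (CE E₁ N))).Splits :=
      hsplit.of_dvd (Polynomial.map_ne_zero hg₀) (Polynomial.map_dvd _ hdvd1)
    have hdegpos : ((minpoly k₀ a).map (algebraMap k₀ (CE E₁ N))).degree ≠ 0 := by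
      rw [degree_map]
      exact (minpoly.degree_pos hinta).ne'
    obtain ⟨θ, hθ⟩ := hsplit2.exists_eval_eq_zero hdegpos
    rw [eval_map_algebraMap] at hθ
    have hθalg : IsAlgebraic k₀ θ := ⟨minpoly k₀ a, minpoly.ne_zero hinta, hθ⟩
    let θ' : KC k₀ (CE E₁ N) := ⟨θ, mem_algebraicClosure_iff.2 hθalg⟩
    have hθ' : aeval θ' (minpoly k₀ a) = 0 := by
      apply (algebraMap (KC k₀ (CE E₁ N)) (CE E₁ N)).injective
      rw [map_zero, ← aeval_algebraMap_apply]
      exact hθ
    have hintθ : IsIntegral k₀ θ' := Algebra.IsIntegral.isIntegral θ'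
    have hmin : minpoly k₀ θ' = minpoly k₀ a :=
      (minpoly.eq_of_irreducible_of_monic (minpoly.irreducible hinta) hθ'
        (minpoly.monic hinta)).symm
    have h2 := natDegree_minpoly_dvd_finrank hintθ
    rwa [hmin, hdeg] at h2
  -- count rational places
  have h1 := Ncount_cExt hbij hE₁ 1 one_pos
  rw [mul_one] at h1
  have hs : 0 < Module.finrank k₀ (KC k₀ (CE E₁ N)) := Module.finrank_pos
  obtain ⟨s, hsdef⟩ : ∃ s, s = Module.finrank k₀ (KC k₀ (CE E₁ N)) := ⟨_, rfl⟩
  rw [← hsdef] at h1 hs hdvd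
  have h2 : 0 < Ncount k₀ E₁ s := by
    haveI := finite_PlDvd hE₁ s hs
    letI := Fintype.ofFinite (PlDvd k₀ E₁ s)
    rw [Ncount_eq_sum]
    let P₀ : PlDvd k₀ E₁ s := ⟨Q₀, hdvd⟩
    have h := Finset.single_le_sum (s := Finset.univ) (f := fun P : PlDvd k₀ E₁ s => P.1.deg)
      (fun _ _ => Nat.zero_le _) (Finset.mem_univ P₀)
    exact lt_of_lt_of_le hd₀ h
  haveI : Finite (KC k₀ (CE E₁ N)) := Module.finite_of_finite k₀
  have h3 := card_deg_one_eq_Ncount hE
  rw [h1] at h3
  have h4 : 0 < Nat.card {P : FunFld.Place (KC k₀ (CE E₁ N)) (CE E₁ N) // P.deg = 1} := by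
    rw [h3]; exact h2
  obtain ⟨⟨P, hP⟩⟩ := (Nat.card_pos_iff.1 h4).1
  exact ⟨P, hP⟩


end CE

end Groth.Agent.Lib.Helper2.FF
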