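import Mathlib
import Groth.Agent.Lib.Helper2.FunFld.HW5
import Groth.Agent.Lib.Helper2.FunFld.Rational
import Groth.Agent.Lib.Helper26.PlaneModel2
import Groth.Agent.Lib.Helper9.FunFldSep
import Groth.Agent.S11039
import Groth.Agent.S11000

set_option autoImplicit false
open scoped WithZero IntermediateField NNReal TensorProduct
open FunFld Polynomial IntermediateField

namespace Groth.Agent.Lib.Helper2.FF

section Rat

variable {k K : Type*} [Field k] [Field K] [Algebra k K]

/-- the rational function field `k(x)` has `q ^ m + 1` points of degree dividing `m` -/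
theorem Ncount_adjoin_simple [Finite k] (hK : IsFunctionField k K) {x : K}
    (hx : Transcendental k x) (m : ℕ) (hm : 0 < m) :
    Ncount k k⟮x⟯ m = Nat.card k ^ m + 1 := by
  have hL := Groth.Agent.Lib.Helper26.PlaneModel2.isFunctionField_adjoin hK hx
  have htop : IntermediateField.adjoin k
      ({IntermediateField.AdjoinSimple.gen k x} : Set k⟮x⟯) = ⊤ := by
    apply IntermediateField.map_injective (IntermediateField.val k⟮x⟯)
    rw [IntermediateField.adjoin_map, Set.image_singleton]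
    simp only [IntermediateField.coe_val, IntermediateField.AdjoinSimple.coe_gen]
    rw [← AlgHom.fieldRange_eq_map, IntermediateField.fieldRange_val]
  have hg : genus k k⟮x⟯ = 0 := ((genus_zero_iff hL).2 ⟨_, htop⟩).1
  have hS := (Groth.Agent.S11039.result k k⟮x⟯ hL).1
  rw [hg, mul_zero] at hS
  have hα : PowerSeries.map (Int.castRingHom ℂ) (numerZ k k⟮x⟯) =
      ((∏ i : Fin 0, (1 - Polynomial.C ((fun _ => 0 : Fin 0 → ℂ) i) * Polynomial.X) :
        Polynomial ℂ) : PowerSeries ℂ) := by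
    rw [Finset.univ_eq_empty, Finset.prod_empty, Polynomial.coe_one]
    ext n
    rcases Nat.eq_zero_or_pos n with rfl | hn
    · rw [PowerSeries.coeff_zero_eq_constantCoeff_apply, constantCoeff_map_numerZ hL]
      simp
    · rw [PowerSeries.coeff_map, hS n hn, PowerSeries.coeff_one, if_neg hn.ne']
      simp
  have h1 := Ncount_eq_of_factor hL (fun _ => 0 : Fin 0 → ℂ) hα m hm
  rw [Finset.univ_eq_empty, Finset.sum_empty, sub_zero] at h1
  have h2 : ((Ncount k k⟮x⟯ m : ℕ) : ℂ) = ((Nat.card k ^ m + 1 : ℕ) : ℂ) := by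
    rw [h1]; push_cast; ring
  exact_mod_cast h2

end Rat


section PB'

variable {k k₁ K T : Type*} [Field k] [Field k₁] [Field K] [Field T] [Algebra k k₁] [Algebra k K]
  [Algebra K T] [Algebra k₁ T] [Algebra k T] [IsScalarTower k k₁ T] [IsScalarTower k K T]

theorem bijective_productMap_of_adjoin'
    (hcl : ∀ y : K, IsAlgebraic k y → y ∈ Set.range (algebraMap k K))
    [FiniteDimensional k k₁] [Algebra.IsSeparable k k₁]
    (hgen : Algebra.adjoin K (Set.range (algebraMap k₁ T)) = ⊤) :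
    Function.Bijective (Algebra.TensorProduct.productMap
      (IsScalarTower.toAlgHom k k₁ T) (IsScalarTower.toAlgHom k K T)) := by
  constructor
  · have hF := Groth.Agent.Lib.Helper2.Geo.isField_tensor_of_isSeparable k k₁ K hcl
    letI := hF.toField
    exact RingHom.injective ((Algebra.TensorProduct.productMap
      (IsScalarTower.toAlgHom k k₁ T) (IsScalarTower.toAlgHom k K T)).toRingHom)
  · intro z
    have hz : z ∈ Algebra.adjoin K (Set.range (algebraMap k₁ T)) := by rw [hgen]; trivial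
    induction hz using Algebra.adjoin_induction with
    | mem x hx =>
      obtain ⟨c, rfl⟩ := hx
      exact ⟨c ⊗ₜ 1, by simp⟩
    | algebraMap a =>
      exact ⟨1 ⊗ₜ a, by simp⟩
    | add x y _ _ hx hy =>
      obtain ⟨a, rfl⟩ := hx
      obtain ⟨b, rfl⟩ := hy
      exact ⟨a + b, map_add _ _ _⟩
    | mul x y _ _ hx hy =>
      obtain ⟨a, rfl⟩ := hx
      obtain ⟨b, rfl⟩ := hy
      exact ⟨a * b, map_mul _ _ _⟩

end PB'


section Final

variable {k k₁ L K E : Type*} [Field k] [Field k₁] [Field L] [Field K] [Field E]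
  [Algebra k k₁] [Algebra k L] [Algebra k K] [Algebra k E] [Algebra k₁ E] [Algebra L K]
  [Algebra K E] [Algebra L E]
  [IsScalarTower k k₁ E] [IsScalarTower k L K] [IsScalarTower k K E] [IsScalarTower L K E]

omit [Algebra k L] [IsScalarTower k L K] in
set_option maxHeartbeats 1000000 in
theorem final_bound [Finite k] [FiniteDimensional k k₁] [FiniteDimensional L E] [IsGalois L E]
    (hK : IsFunctionField k K) (hE : IsFunctionField k₁ E)
    (t : K) (ht : Transcendental k t) (hLt : ∀ y : L, algebraMap L K y ∈ k⟮t⟯)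
    (P0 : FunFld.Place k₁ E) (hP0 : P0.deg = 1) :
    ∃ G₀ : ℕ, ∀ (m' : ℕ), 0 < m' → ∀ (p e : ℕ), p.Prime → CharP K p →
      Nat.card k ^ (Module.finrank k k₁ * m') = (p ^ e) ^ 2 →
      (genus k₁ E + 1) ^ 2 < p ^ e →
      (Ncount k K (Module.finrank k k₁ * m') : ℤ) ≤
        (p ^ e) ^ 2 + 1 + (2 * genus k₁ E + 1) * p ^ e ∧
      (((p ^ e) ^ 2 + 1 : ℕ) : ℤ) - G₀ * ((2 * genus k₁ E + 1) * p ^ e) ≤
        Ncount k K (Module.finrank k k₁ * m') := by
  classical
  set tE : E := algebraMap K E t with htE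
  let L₁ : IntermediateField k₁ E := k₁⟮tE⟯
  let K₁ : IntermediateField k₁ E := IntermediateField.adjoin k₁ (Set.range (algebraMap K E))
  have hmemK : ∀ x : K, algebraMap K E x ∈ K₁ := fun x =>
    IntermediateField.subset_adjoin _ _ ⟨x, rfl⟩
  have hle : L₁ ≤ K₁ := IntermediateField.adjoin_simple_le_iff.2 (hmemK t)
  -- `L` maps into `L₁`
  have hmemL : ∀ y : L, algebraMap L E y ∈ L₁ := by
    intro y
    rw [IsScalarTower.algebraMap_apply L K E]
    have h1 : algebraMap K E (algebraMap L K y) ∈ (k⟮t⟯).map (IsScalarTower.toAlgHom k K E) :=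
      ⟨_, hLt y, rfl⟩
    rw [map_adjoin_simple] at h1
    have h2 : k⟮tE⟯ ≤ L₁.restrictScalars k := by
      rw [IntermediateField.adjoin_simple_le_iff]
      exact IntermediateField.mem_adjoin_simple_self k₁ tE
    exact h2 h1
  letI algLK : Algebra L₁ K₁ := (IntermediateField.inclusion hle).toRingHom.toAlgebra
  haveI : IsScalarTower L₁ K₁ E := IsScalarTower.of_algebraMap_eq (fun _ => rfl)
  letI algLL : Algebra L L₁ := ((algebraMap L E).codRestrict L₁ hmemL).toAlgebra
  haveI : IsScalarTower L L₁ E := IsScalarTower.of_algebraMap_eq (fun _ => rfl)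
  haveI : IsGalois L₁ E := IsGalois.tower_top_of_isGalois L L₁ E
  haveI : FiniteDimensional L₁ E := FiniteDimensional.right L L₁ E
  letI algKK : Algebra K K₁ := ((algebraMap K E).codRestrict K₁ hmemK).toAlgebra
  haveI : IsScalarTower K K₁ E := IsScalarTower.of_algebraMap_eq (fun _ => rfl)
  haveI : IsScalarTower k K K₁ := IsScalarTower.of_algebraMap_eq (fun c => Subtype.ext
    (IsScalarTower.algebraMap_apply k K E c))
  haveI : Algebra.IsAlgebraic k k₁ := Algebra.IsAlgebraic.of_finite k k₁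
  haveI : Algebra.IsSeparable k k₁ := Algebra.IsAlgebraic.isSeparable_of_perfectField
  haveI : Finite k₁ := Module.finite_of_finite k
  refine ⟨Module.finrank L₁ E, ?_⟩
  intro m' hm' p e hp hpc hN hbig
  haveI : Fact p.Prime := ⟨hp⟩
  haveI := hpc
  haveI : CharP E p := charP_of_injective_algebraMap (algebraMap K E).injective p
  -- `K₁` is generated over `K` by the constants
  haveI hfinKE : FiniteDimensional K E := FiniteDimensional.right L K E
  haveI : Algebra.IsAlgebraic K E := Algebra.IsAlgebraic.of_finite K E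
  have hK₁B : ∀ z : E, z ∈ K₁ → z ∈ Algebra.adjoin K (Set.range (algebraMap k₁ E)) := by
    have hBfield : IsField (Algebra.adjoin K (Set.range (algebraMap k₁ E))) :=
      Subalgebra.isField_of_algebraic _
    let BK : IntermediateField K E := Subalgebra.toIntermediateField' _ hBfield
    let X : IntermediateField k₁ E := BK.toSubfield.toIntermediateField (fun c =>
      Algebra.subset_adjoin ⟨c, rfl⟩)
    have hle' : K₁ ≤ X := by
      apply IntermediateField.adjoin_le_iff.2
      rintro _ ⟨a, rfl⟩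
      exact Subalgebra.algebraMap_mem (Algebra.adjoin K (Set.range (algebraMap k₁ E))) a
    intro z hz
    exact hle' hz
  have hgen : Algebra.adjoin K (Set.range (algebraMap k₁ K₁)) = ⊤ := by
    rw [eq_top_iff]
    have key : ∀ w : E, w ∈ Algebra.adjoin K (Set.range (algebraMap k₁ E)) →
        ∃ hw' : w ∈ K₁, (⟨w, hw'⟩ : K₁) ∈
        Algebra.adjoin K (Set.range (algebraMap k₁ K₁)) := by
      intro w hwB
      induction hwB using Algebra.adjoin_induction with
      | mem w hw =>
        obtain ⟨c, rfl⟩ := hw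
        exact ⟨K₁.algebraMap_mem c, Algebra.subset_adjoin ⟨c, rfl⟩⟩
      | algebraMap a =>
        exact ⟨hmemK a, Subalgebra.algebraMap_mem _ a⟩
      | add x y _ _ hx hy =>
        obtain ⟨hx', hx''⟩ := hx
        obtain ⟨hy', hy''⟩ := hy
        exact ⟨K₁.add_mem hx' hy', Subalgebra.add_mem _ hx'' hy''⟩
      | mul x y _ _ hx hy =>
        obtain ⟨hx', hx''⟩ := hx
        obtain ⟨hy', hy''⟩ := hy
        exact ⟨K₁.mul_mem hx' hy', Subalgebra.mul_mem _ hx'' hy''⟩
    rintro ⟨z, hz⟩ -
    exact (key z (hK₁B z hz)).2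
  have hbij := bijective_productMap_of_adjoin' (k := k) (k₁ := k₁) (K := K) (T := K₁) hK.2 hgen
  have hK₁ : IsFunctionField k₁ K₁ := isFunctionField_cExt hbij hK
  have htE' : Transcendental k tE :=
    (transcendental_algebraMap_iff (algebraMap K E).injective).2 ht
  have htE₁ : Transcendental k₁ tE := fun h => htE' (IsAlgebraic.restrictScalars k h)
  have hL₁ : IsFunctionField k₁ L₁ :=
    Groth.Agent.Lib.Helper26.PlaneModel2.isFunctionField_adjoin hE htE₁
  have hNL : Ncount k₁ L₁ m' = Nat.card k₁ ^ m' + 1 := Ncount_adjoin_simple hE htE₁ m' hm'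
  have hcard : Nat.card k₁ = Nat.card k ^ Module.finrank k k₁ :=
    Module.natCard_eq_pow_finrank
  have hN' : Nat.card k₁ ^ m' = (p ^ e) ^ 2 := by rw [hcard, ← pow_mul, hN]
  obtain ⟨hU, hLo⟩ := ncount_bounds (k := k₁) (L := L₁) (K := K₁) (E := E) hL₁ hK₁ hE P0 hP0
    p e m' hm' hN' hbig
  have hNK := Ncount_cExt hbij hK m' hm'
  rw [hNK] at hU hLo
  rw [hNL, hN'] at hLo
  haveI : FiniteDimensional K₁ E := FiniteDimensional.right L₁ K₁ E
  have hHG : Module.finrank K₁ E ≤ Module.finrank L₁ E :=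
    IntermediateField.finrank_le_of_le_left hle
  have hHpos : 0 < Module.finrank K₁ E := Module.finrank_pos
  set N := Ncount k K (Module.finrank k k₁ * m') with hNdef
  set G := Module.finrank L₁ E with hGdef
  set H := Module.finrank K₁ E with hHdef
  set c := (2 * genus k₁ E + 1) * p ^ e with hcdef
  set Q := (p ^ e) ^ 2 with hQdef
  constructor
  · have : ((N : ℕ) : ℤ) ≤ ((Q + 1 + c : ℕ) : ℤ) := by exact_mod_cast hU
    push_cast at this ⊢
    linarith
  · have h1 : ((G * (Q + 1) : ℕ) : ℤ) ≤ ((H * N + (G - H) * (Q + 1 + c) : ℕ) : ℤ) := by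
      exact_mod_cast hLo
    push_cast [Nat.cast_sub hHG] at h1
    have hcz : ((c : ℕ) : ℤ) = (2 * (genus k₁ E : ℤ) + 1) * (p : ℤ) ^ e := by
      rw [hcdef]; push_cast; ring
    have hgoal : ((Q : ℤ) + 1) - G * (c : ℤ) ≤ N := by
      have hH1 : (1 : ℤ) ≤ H := by exact_mod_cast hHpos
      have hHG' : (H : ℤ) ≤ G := by exact_mod_cast hHG
      have hc0 : (0 : ℤ) ≤ c := by positivity
      by_contra hcon
      push Not at hcon
      have h2 : (H : ℤ) * N ≤ H * ((Q : ℤ) + 1 - G * c - 1) :=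
        mul_le_mul_of_nonneg_left (by linarith) (by linarith)
      nlinarith [mul_nonneg (mul_nonneg (by linarith : (0 : ℤ) ≤ (H : ℤ) - 1)
        (by linarith : (0 : ℤ) ≤ G)) hc0]
    rw [hcz] at hgoal
    push_cast
    exact hgoal

end Final


section Main2

variable {k L K E₁ : Type*} [Field k] [Field L] [Field K] [Field E₁] [Algebra k L]
  [Algebra k K] [Algebra L K] [IsScalarTower k L K] [Algebra k E₁] [Algebra L E₁] [Algebra K E₁]
  [IsScalarTower k K E₁] [IsScalarTower L K E₁]

omit [Algebra k L] [IsScalarTower k L K] in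
set_option synthInstance.maxHeartbeats 400000 in
set_option maxHeartbeats 2000000 in
theorem main_aux2 [Finite k] [FiniteDimensional L E₁] [IsGalois L E₁]
    (hK : IsFunctionField k K) (t : K) (ht : Transcendental k t)
    (hLt : ∀ y : L, algebraMap L K y ∈ k⟮t⟯) :
    ∃ s g₀ G₀ : ℕ, 0 < s ∧ ∀ (m' : ℕ), 0 < m' → ∀ (p e : ℕ), p.Prime → CharP K p →
      Nat.card k ^ (s * m') = (p ^ e) ^ 2 → (g₀ + 1) ^ 2 < p ^ e →
      (Ncount k K (s * m') : ℤ) ≤ (p ^ e) ^ 2 + 1 + (2 * g₀ + 1) * p ^ e ∧
      (((p ^ e) ^ 2 + 1 : ℕ) : ℤ) - G₀ * ((2 * g₀ + 1) * p ^ e) ≤ Ncount k K (s * m') := by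
  classical
  haveI : FiniteDimensional K E₁ := FiniteDimensional.right L K _
  have hFFw : IsFFw k E₁ := isFFw_of_finite hK
  have hE₁ := isFunctionField_KC hFFw
  haveI := finiteDimensional_KC hFFw
  haveI : Finite (KC k E₁) := Module.finite_of_finite k
  obtain ⟨p', N, hp', hcp', hpN, hN1, hE, P0, hP0⟩ := exists_rational_place_CE hE₁
  haveI := hcp'
  obtain ⟨hgal, hfin⟩ := isGalois_CE (E₁ := E₁) L p' N hpN hN1
  haveI := hgal
  haveI := hfin
  haveI hST : IsScalarTower k (KC (KC k E₁) (CE E₁ N)) (CE E₁ N) :=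
    IsScalarTower.of_algebraMap_eq (fun _ => rfl)
  have hFFw' : IsFFw (KC k E₁) (CE E₁ N) := isFFw_of_finite hE₁
  haveI := finiteDimensional_KC hFFw'
  haveI : FiniteDimensional k (KC (KC k E₁) (CE E₁ N)) :=
    FiniteDimensional.trans k (KC k E₁) _
  obtain ⟨G₀, hG₀⟩ := @final_bound k (KC (KC k E₁) (CE E₁ N)) L K (CE E₁ N) _ _ _ _ _
    inferInstance _ _ _ _ _ _ hST _ _ _ _ _ _ hK hE t ht hLt P0 hP0
  exact ⟨_, _, G₀, Module.finrank_pos, hG₀⟩

end Main2

section Main

variable {k L K : Type*} [Field k] [Field L] [Field K] [Algebra k L]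
  [Algebra k K] [Algebra L K] [IsScalarTower k L K]

set_option synthInstance.maxHeartbeats 400000 in
set_option maxHeartbeats 2000000 in
theorem main_aux [Finite k] [FiniteDimensional L K] [Algebra.IsSeparable L K]
    (hK : IsFunctionField k K) (t : K) (ht : Transcendental k t)
    (hLt : ∀ y : L, algebraMap L K y ∈ k⟮t⟯) :
    ∃ s g₀ G₀ : ℕ, 0 < s ∧ ∀ (m' : ℕ), 0 < m' → ∀ (p e : ℕ), p.Prime → CharP K p →
      Nat.card k ^ (s * m') = (p ^ e) ^ 2 → (g₀ + 1) ^ 2 < p ^ e →
      (Ncount k K (s * m') : ℤ) ≤ (p ^ e) ^ 2 + 1 + (2 * g₀ + 1) * p ^ e ∧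
      (((p ^ e) ^ 2 + 1 : ℕ) : ℤ) - G₀ * ((2 * g₀ + 1) * p ^ e) ≤ Ncount k K (s * m') := by
  classical
  -- the Galois closure
  haveI : ∀ f : K →ₐ[L] AlgebraicClosure K, Algebra.IsSeparable L f.fieldRange := fun f =>
    AlgEquiv.Algebra.isSeparable (AlgEquiv.ofInjectiveField f)
  haveI hsepE₁ : Algebra.IsSeparable L (normalClosure L K (AlgebraicClosure K)) := by
    rw [normalClosure_def]; infer_instance
  haveI : IsGalois L (normalClosure L K (AlgebraicClosure K)) := ⟨⟩
  haveI : IsScalarTower k K (normalClosure L K (AlgebraicClosure K)) :=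
    IsScalarTower.of_algebraMap_eq (fun c => Subtype.ext (by
      change algebraMap k (AlgebraicClosure K) c = algebraMap K (AlgebraicClosure K) (algebraMap k K c)
      exact IsScalarTower.algebraMap_apply k K (AlgebraicClosure K) c))
  exact main_aux2 (k := k) (L := L) (K := K) (E₁ := normalClosure L K (AlgebraicClosure K))
    hK t ht hLt

end Main

section Top

variable {k K : Type*} [Field k] [Field K] [Algebra k K]

/-- the two-sided estimate of the number of points over suitable extensions of the constants -/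
theorem exists_ncount_bound [Finite k] (hK : IsFunctionField k K) :
    ∃ s g₀ G₀ : ℕ, 0 < s ∧ ∀ (m' : ℕ), 0 < m' → ∀ (p e : ℕ), p.Prime → CharP K p →
      Nat.card k ^ (s * m') = (p ^ e) ^ 2 → (g₀ + 1) ^ 2 < p ^ e →
      (Ncount k K (s * m') : ℤ) ≤ (p ^ e) ^ 2 + 1 + (2 * g₀ + 1) * p ^ e ∧
      (((p ^ e) ^ 2 + 1 : ℕ) : ℤ) - G₀ * ((2 * g₀ + 1) * p ^ e) ≤ Ncount k K (s * m') := by
  have hg := Groth.Agent.S11000.result k K hK
  obtain ⟨x₁, hx₁, hfin₁⟩ := hK.1
  obtain ⟨t, ht, hsep⟩ := Groth.Agent.Lib.Helper9.FunFld.exists_separating_variable hx₁ hfin₁ hg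
  haveI := hsep
  haveI := finiteDimensional_adjoin_simple hK ht
  exact main_aux (L := k⟮t⟯) hK t ht (fun y => y.2)

end Top

end Groth.Agent.Lib.Helper2.FF
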