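import Mathlib
import Groth.Agent.Lib.Helper2.FunFld.HW6
import Groth.Agent.Lib.Helper2.FunFld.HW1

set_option autoImplicit false
open scoped WithZero IntermediateField NNReal TensorProduct
open FunFld Polynomial IntermediateField

namespace Groth.Agent.Lib.Helper2.FF

variable {k K : Type*} [Field k] [Field K] [Algebra k K]

set_option maxHeartbeats 1000000 in
/-- the Riemann hypothesis for the inverse roots -/
theorem rh_alpha [Finite k] (hK : IsFunctionField k K) {g : ℕ} (α : Fin (2 * g) → ℂ)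
    (hα : PowerSeries.map (Int.castRingHom ℂ) (numerZ k K) =
      ((∏ i, (1 - Polynomial.C (α i) * Polynomial.X) : Polynomial ℂ) : PowerSeries ℂ))
    (hpair : ∀ i, α i * α (Fin.rev i) = (Nat.card k : ℂ)) (i : Fin (2 * g)) :
    ‖α i‖ ^ 2 = (Nat.card k : ℝ) := by
  classical
  obtain ⟨s, g₀, G₀, hs, hB⟩ := exists_ncount_bound hK
  letI := Fintype.ofFinite k
  obtain ⟨p, hpc⟩ := CharP.exists k
  haveI := hpc
  obtain ⟨n, hp, hn⟩ := FiniteField.card k p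
  haveI : Fact p.Prime := ⟨hp⟩
  haveI hcK : CharP K p := charP_of_injective_algebraMap (algebraMap k K).injective p
  have hq : Nat.card k = p ^ (n : ℕ) := by rw [Nat.card_eq_fintype_card, hn]
  have hq0 : (0 : ℝ) < (Nat.card k : ℝ) := by
    rw [hq]; exact_mod_cast pow_pos hp.pos _
  set m₁ := (g₀ + 1) ^ 2 with hm₁
  have hm₁pos : 0 < m₁ := by positivity
  set m₀ := s * (2 * m₁) with hm₀
  have hm₀pos : 0 < m₀ := by positivity
  set C : ℝ := ((G₀ : ℝ) + 1) * (2 * g₀ + 1) with hC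
  have hpair' : ∀ i, α i * α (Fin.rev i) = (((Nat.card k : ℝ)) : ℂ) := by
    intro i; rw [hpair i]; simp
  refine norm_sq_eq_of_bound α (Nat.card k : ℝ) hq0 hpair' m₀ hm₀pos C ?_ i
  intro r hr
  set e := (n : ℕ) * s * m₁ * r with he
  have hm' : 0 < 2 * m₁ * r := by positivity
  have hmr : s * (2 * m₁ * r) = m₀ * r := by rw [hm₀]; ring
  have hN : Nat.card k ^ (s * (2 * m₁ * r)) = (p ^ e) ^ 2 := by
    rw [hq, ← pow_mul, ← pow_mul, he]; congr 1; ring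
  have hbig : (g₀ + 1) ^ 2 < p ^ e := by
    have h1 : m₁ ≤ e := by
      rw [he]
      calc m₁ = 1 * 1 * m₁ * 1 := by ring
        _ ≤ (n : ℕ) * s * m₁ * r := by
          apply Nat.mul_le_mul (Nat.mul_le_mul (Nat.mul_le_mul n.pos hs) le_rfl) hr
    calc (g₀ + 1) ^ 2 = m₁ := rfl
      _ ≤ e := h1
      _ < 2 ^ e := Nat.lt_two_pow_self
      _ ≤ p ^ e := Nat.pow_le_pow_left hp.two_le e
  obtain ⟨hU, hL⟩ := hB (2 * m₁ * r) hm' p e hp hcK hN hbig
  rw [hmr] at hU hL hN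
  have hfac := Ncount_eq_of_factor hK α hα (m₀ * r) (by positivity)
  have hsq : (Real.sqrt (Nat.card k : ℝ)) ^ (m₀ * r) = ((p ^ e : ℕ) : ℝ) := by
    have h2 : m₀ * r = 2 * (s * m₁ * r) := by rw [hm₀]; ring
    rw [h2, pow_mul, Real.sq_sqrt hq0.le, hq, he]
    push_cast
    rw [← pow_mul]; congr 1; ring
  clear_value e m₀ m₁
  have hsum : (∑ i, α i ^ (m₀ * r)) = (((1 + (p ^ e) ^ 2 - (Ncount k K (m₀ * r) : ℤ) : ℤ)) : ℂ) := by
    have h1 : ((Nat.card k : ℂ)) ^ (m₀ * r) = (((p ^ e) ^ 2 : ℕ) : ℂ) := by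
      rw [← hN]; push_cast; rfl
    rw [h1] at hfac
    push_cast at hfac ⊢
    linear_combination hfac
  rw [hsum]
  have hnorm : ‖(((1 + (p ^ e) ^ 2 - (Ncount k K (m₀ * r) : ℤ) : ℤ)) : ℂ)‖ =
      |((1 + (p ^ e) ^ 2 - (Ncount k K (m₀ * r) : ℤ) : ℤ) : ℝ)| := by
    rw [Complex.norm_intCast]
  rw [hnorm]
  rw [hsq]
  have hU' : (Ncount k K (m₀ * r) : ℝ) ≤ ((p : ℝ) ^ e) ^ 2 + 1 + (2 * g₀ + 1) * (p : ℝ) ^ e := by
    have := (Int.cast_le (R := ℝ)).2 hU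
    push_cast at this
    exact this
  have hL' : ((p : ℝ) ^ e) ^ 2 + 1 - G₀ * ((2 * g₀ + 1) * (p : ℝ) ^ e) ≤
      (Ncount k K (m₀ * r) : ℝ) := by
    have := (Int.cast_le (R := ℝ)).2 hL
    push_cast at this
    exact this
  have hpe : (0 : ℝ) ≤ (p : ℝ) ^ e := by positivity
  have hG0 : (0 : ℝ) ≤ (G₀ : ℝ) := by positivity
  have hg0 : (0 : ℝ) ≤ (g₀ : ℝ) := by positivity
  rw [abs_le]
  push_cast
  rw [hC]
  constructor
  · nlinarith [mul_nonneg hG0 (mul_nonneg (by linarith : (0 : ℝ) ≤ 2 * g₀ + 1) hpe)]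
  · nlinarith [mul_nonneg (by linarith : (0 : ℝ) ≤ 2 * (g₀ : ℝ) + 1) hpe]

end Groth.Agent.Lib.Helper2.FF
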