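import Mathlib
import Groth.Prelude.Def_LocRes
import Groth.Prelude.Def_W4bk4goldsch23FF

set_option autoImplicit false
open Polynomial KaehlerDifferential TensorProduct

/-! Kähler differentials of a finite separable extension of `k(x)`; quadratic extensions in
characteristic `≠ 2` are separable. -/

namespace Groth.Agent.Lib.Helper2.HY

universe u v

variable {k : Type u} {K : Type v} [Field k] [Field K] [Algebra k K] [Algebra (RatFunc k) K]
  [IsScalarTower k (RatFunc k) K]

theorem D_ratFunc_X_ne_zero : D k (RatFunc k) (RatFunc.X : RatFunc k) ≠ 0 := by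
  have : Algebra.FormallyEtale k[X] (RatFunc k) :=
    Algebra.FormallyEtale.of_isLocalization (nonZeroDivisors k[X])
  intro h0
  have h1 := tensorKaehlerEquivOfFormallyEtale_symm_D_algebraMap k k[X] (RatFunc k) (X : k[X])
  rw [RatFunc.algebraMap_X, h0, map_zero] at h1
  have h2 := congrArg (fun t => TensorProduct.rid k[X] (RatFunc k)
    (LinearMap.lTensor (RatFunc k) (KaehlerDifferential.polynomialEquiv k).toLinearMap t)) h1
  simp only [map_zero, LinearMap.lTensor_tmul, LinearEquiv.coe_coe,
    KaehlerDifferential.polynomialEquiv_D, derivative_X, TensorProduct.rid_tmul, one_smul] at h2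
  exact one_ne_zero h2.symm

theorem D_X_ne_zero [Algebra.IsSeparable (RatFunc k) K] :
    D k K (algebraMap (RatFunc k) K RatFunc.X) ≠ 0 := by
  have : Algebra.FormallyEtale (RatFunc k) K := Algebra.FormallyEtale.of_isSeparable _ _
  intro h0
  have h1 := tensorKaehlerEquivOfFormallyEtale_symm_D_algebraMap k (RatFunc k) K
    (RatFunc.X : RatFunc k)
  rw [h0, map_zero] at h1
  exact D_ratFunc_X_ne_zero ((Module.FaithfullyFlat.one_tmul_eq_zero_iff _ _ _).1 h1.symm)

theorem finrank_kaehler [Algebra.IsSeparable (RatFunc k) K] : Module.finrank K (Ω[K⁄k]) = 1 := by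
  have : Algebra.FormallyEtale (RatFunc k) K := Algebra.FormallyEtale.of_isSeparable _ _
  have : Algebra.FormallyEtale k[X] (RatFunc k) :=
    Algebra.FormallyEtale.of_isLocalization (nonZeroDivisors k[X])
  have e1 := KaehlerDifferential.tensorKaehlerEquivOfFormallyEtale k (RatFunc k) K
  have e2 := KaehlerDifferential.tensorKaehlerEquivOfFormallyEtale k k[X] (RatFunc k)
  have e3 := KaehlerDifferential.polynomialEquiv k
  have : Module.Free k[X] (Ω[k[X]⁄k]) := Module.Free.of_equiv e3.symm
  rw [← e1.finrank_eq, Module.finrank_baseChange, ← e2.finrank_eq, Module.finrank_baseChange,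
    e3.finrank_eq, Module.finrank_self]

theorem isSeparable_of_finrank_two {F E : Type*} [Field F] [Field E] [Algebra F E]
    (h2 : (2 : F) ≠ 0) (hdeg : Module.finrank F E = 2) : Algebra.IsSeparable F E := by
  haveI : FiniteDimensional F E := Module.finite_of_finrank_pos (by omega)
  refine ⟨fun z => ?_⟩
  have hint : IsIntegral F z := IsIntegral.of_finite F z
  have hirr := minpoly.irreducible hint
  show (minpoly F z).Separable
  rw [Polynomial.separable_iff_derivative_ne_zero hirr]
  intro h0
  have hdvd : (minpoly F z).natDegree ∣ 2 := hdeg ▸ minpoly.degree_dvd hint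
  have hpos : 0 < (minpoly F z).natDegree := minpoly.natDegree_pos hint
  have hle : (minpoly F z).natDegree ≤ 2 := Nat.le_of_dvd (by norm_num) hdvd
  have hc := congrArg (fun p => p.coeff ((minpoly F z).natDegree - 1)) h0
  simp only [coeff_derivative, coeff_zero] at hc
  have hd1 : (minpoly F z).natDegree - 1 + 1 = (minpoly F z).natDegree := by omega
  rw [hd1] at hc
  have hmon : (minpoly F z).coeff (minpoly F z).natDegree = 1 := (minpoly.monic hint).coeff_natDegree
  rw [hmon, one_mul] at hc
  interval_cases h : (minpoly F z).natDegree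
  · simp at hc
  · apply h2
    norm_num at hc
    linear_combination hc

end Groth.Agent.Lib.Helper2.HY
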