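import Mathlib
import Groth.Agent.Lib.Helper2.FunFld.Jac4

set_option autoImplicit false
open scoped WithZero
open MvPolynomial FunFld
open Groth.Agent.Lib.Helper2.FF

namespace Groth.Agent.Lib.Helper2.Jac

section Homog

variable {k : Type*} [CommRing k] {σ : Type*}

theorem aeval_mul_of_isHomogeneous' {S : Type*} [CommRing S] [Algebra k S]
    {g : MvPolynomial σ k} {m : ℕ} (hg : g.IsHomogeneous m) (a : S) (x : σ → S) :
    MvPolynomial.aeval (fun i => a * x i) g = a ^ m * MvPolynomial.aeval x g := by
  classical
  rw [MvPolynomial.aeval_def, MvPolynomial.aeval_def, MvPolynomial.eval₂_eq,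
    MvPolynomial.eval₂_eq, Finset.mul_sum]
  refine Finset.sum_congr rfl fun d hd => ?_
  have hdeg := hg.degree_eq_sum_deg_support hd
  simp only [mul_pow, Finset.prod_mul_distrib, Finset.prod_pow_eq_pow_sum]
  rw [← hdeg]; ring

/-- homogenization with respect to the variable `X j`, modulo `X j - 1` -/
theorem homog_decomp (j : σ) (G : MvPolynomial σ k) :
    ∃ H : MvPolynomial σ k, H.IsHomogeneous G.totalDegree ∧ G - H ∈ Ideal.span {X j - 1} := by
  classical
  refine ⟨∑ d ∈ Finset.range (G.totalDegree + 1),
    X j ^ (G.totalDegree - d) * homogeneousComponent d G, ?_, ?_⟩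
  · refine IsHomogeneous.sum _ _ _ (fun d hd => ?_)
    have hd' : d ≤ G.totalDegree := Nat.lt_succ_iff.1 (Finset.mem_range.1 hd)
    have h1 : (X j ^ (G.totalDegree - d) : MvPolynomial σ k).IsHomogeneous
        (1 * (G.totalDegree - d)) := (isHomogeneous_X k j).pow _
    have h2 := h1.mul (homogeneousComponent_isHomogeneous d G)
    have e : 1 * (G.totalDegree - d) + d = G.totalDegree := by omega
    rw [e] at h2
    exact h2
  · have e : G - ∑ d ∈ Finset.range (G.totalDegree + 1),
        X j ^ (G.totalDegree - d) * homogeneousComponent d G =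
        ∑ d ∈ Finset.range (G.totalDegree + 1),
          (1 - X j ^ (G.totalDegree - d)) * homogeneousComponent d G := by
      have h0 : G = ∑ d ∈ Finset.range (G.totalDegree + 1), homogeneousComponent d G :=
        (sum_homogeneousComponent G).symm
      conv_lhs => lhs; rw [h0]
      rw [← Finset.sum_sub_distrib]
      refine Finset.sum_congr rfl (fun d _ => ?_)
      ring
    rw [e]
    refine Ideal.sum_mem _ (fun d _ => Ideal.mul_mem_right _ _ ?_)
    rw [Ideal.mem_span_singleton]
    have h1 := one_sub_dvd_one_sub_pow (X j : MvPolynomial σ k) (G.totalDegree - d)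
    have h2 : (X j - 1 : MvPolynomial σ k) = -(1 - X j) := by ring
    rw [h2, neg_dvd]
    exact h1

end Homog

section Ker

variable {k K : Type*} [Field k] [Field K] [Algebra k K] {σ : Type*} (φ : σ → K) (j : σ)

/-- the homogeneous relation ideal of a projective map -/
noncomputable abbrev Ih : Ideal (MvPolynomial σ k) :=
  RingHom.ker (aeval (fun i => Polynomial.C (φ i) * Polynomial.X) :
    MvPolynomial σ k →ₐ[k] Polynomial K)

theorem aeval_C_comp (ψ : σ → K) (H : MvPolynomial σ k) :
    aeval (fun i => Polynomial.C (ψ i)) H = Polynomial.C (aeval ψ H) := by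
  have := MvPolynomial.comp_aeval_apply (IsScalarTower.toAlgHom k K (Polynomial K)) (f := ψ) H
  rw [IsScalarTower.coe_toAlgHom', Polynomial.algebraMap_eq] at this
  rw [this]

theorem aeval_div_eq_eval (H : MvPolynomial σ k) :
    aeval (fun i => φ i / φ j) H =
      Polynomial.eval (φ j)⁻¹ (aeval (fun i => Polynomial.C (φ i) * Polynomial.X) H) := by
  have := MvPolynomial.comp_aeval_apply
    ((Polynomial.aeval (φ j)⁻¹ : Polynomial K →ₐ[K] K).restrictScalars k)
    (f := fun i => Polynomial.C (φ i) * Polynomial.X) H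
  simp only [AlgHom.coe_restrictScalars', Polynomial.coe_aeval_eq_eval, Polynomial.eval_mul,
    Polynomial.eval_C, Polynomial.eval_X] at this
  rw [this]
  simp only [div_eq_mul_inv]

theorem mem_Ih_of_isHomogeneous {H : MvPolynomial σ k} {D : ℕ} (hH : H.IsHomogeneous D)
    (h : aeval φ H = 0) : H ∈ (Ih φ : Ideal (MvPolynomial σ k)) := by
  rw [RingHom.mem_ker]
  have e : (fun i => Polynomial.C (φ i) * Polynomial.X : σ → Polynomial K) =
      fun i => (Polynomial.X : Polynomial K) * Polynomial.C (φ i) := by
    funext i; ring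
  rw [e, aeval_mul_of_isHomogeneous' hH, aeval_C_comp, h, map_zero, mul_zero]

theorem aeval_eq_zero_of_mem_Ih_of_isHomogeneous {H : MvPolynomial σ k} {D : ℕ}
    (hH : H.IsHomogeneous D) (h : H ∈ (Ih φ : Ideal (MvPolynomial σ k))) : aeval φ H = 0 := by
  rw [RingHom.mem_ker] at h
  have e : (fun i => Polynomial.C (φ i) * Polynomial.X : σ → Polynomial K) =
      fun i => (Polynomial.X : Polynomial K) * Polynomial.C (φ i) := by
    funext i; ring
  rw [e, aeval_mul_of_isHomogeneous' hH, aeval_C_comp] at h
  have h2 := congrArg (Polynomial.eval 1) h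
  rw [Polynomial.eval_mul, Polynomial.eval_pow, Polynomial.eval_X, one_pow, one_mul,
    Polynomial.eval_C, Polynomial.eval_zero] at h2
  exact h2

theorem ker_aeval_div_eq (hj0 : φ j ≠ 0) :
    RingHom.ker (aeval (fun i => φ i / φ j) : MvPolynomial σ k →ₐ[k] K) =
      Ih φ ⊔ Ideal.span {X j - 1} := by
  apply le_antisymm
  · intro G hG
    rw [RingHom.mem_ker] at hG
    obtain ⟨H, hH, hGH⟩ := homog_decomp j G
    have h1 : aeval (fun i => φ i / φ j) (G - H) = 0 := by
      have : Ideal.span {(X j - 1 : MvPolynomial σ k)} ≤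
          RingHom.ker (aeval (fun i => φ i / φ j) : MvPolynomial σ k →ₐ[k] K) := by
        rw [Ideal.span_le, Set.singleton_subset_iff, SetLike.mem_coe, RingHom.mem_ker]
        simp [div_self hj0]
      exact this hGH
    have h2 : aeval (fun i => φ i / φ j) H = 0 := by
      rw [map_sub, hG, zero_sub, neg_eq_zero] at h1
      exact h1
    have h3 : aeval φ H = 0 := by
      have e : φ = fun i => φ j * (φ i / φ j) := by
        funext i; field_simp
      rw [e, aeval_mul_of_isHomogeneous' hH, h2, mul_zero]
    have h4 := mem_Ih_of_isHomogeneous φ hH h3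
    have : G = H + (G - H) := by ring
    rw [this]
    exact Ideal.add_mem _ (Ideal.mem_sup_left h4) (Ideal.mem_sup_right hGH)
  · apply sup_le
    · intro H hH
      rw [RingHom.mem_ker] at hH ⊢
      rw [aeval_div_eq_eval, hH, Polynomial.eval_zero]
    · rw [Ideal.span_le, Set.singleton_subset_iff, SetLike.mem_coe, RingHom.mem_ker]
      simp [div_self hj0]

end Ker

end Groth.Agent.Lib.Helper2.Jac
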