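import Mathlib
import Groth.Agent.Lib.Helper2.FunFld.Jac5
import Groth.Agent.Lib.Helper26.LocRing2

set_option autoImplicit false
open scoped WithZero
open MvPolynomial FunFld
open Groth.Agent.Lib.Helper2.FF

namespace Groth.Agent.Lib.Helper2.Jac

variable {k K : Type*} [Field k] [Field K] [Algebra k K]
variable {σ : Type*} [Fintype σ] [DecidableEq σ]

theorem dd_X_sub_one (b d : σ → k) (j : σ) : dd b d (X j - 1 : MvPolynomial σ k) = d j := by
  have : (1 : MvPolynomial σ k) = C 1 := by simp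
  rw [dd_sub, dd_X, this, dd_C, sub_zero]

set_option maxHeartbeats 800000 in
/-- **Jacobian criterion**: kernel form -/
theorem nonsing_iff_ker_line [IsAlgClosed k] (hK : IsFunctionField k K) (φ : σ → K)
    (P : FunFld.Place k K) (j : σ) (hj0 : φ j ≠ 0) (hj : ∀ i, v P (φ i) ≤ v P (φ j))
    (hfrac : IntermediateField.adjoin k (Set.range fun i => φ i / φ j) = ⊤)
    {ι : Type*} [Fintype ι] (f : ι → MvPolynomial σ k)
    (hf : Ideal.span (Set.range f) = (Ih φ : Ideal (MvPolynomial σ k)))
    (b : σ → k) (hb : ∀ l, v P (φ l / φ j - algebraMap k K (b l)) < 1) :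
    IsNonsingularAt φ P ↔ ∃ s : σ → k, s ≠ 0 ∧ s j = 0 ∧ (∀ i, dd b s (f i) = 0) ∧
      ∀ d : σ → k, d j = 0 → (∀ i, dd b d (f i) = 0) → ∃ c : k, d = c • s := by
  classical
  set ψ : σ → K := fun i => φ i / φ j with hψ
  let g : Option ι → MvPolynomial σ k := fun o => o.elim (X j - 1) f
  have hg : Ideal.span (Set.range g) =
      RingHom.ker (aeval ψ : MvPolynomial σ k →ₐ[k] K) := by
    rw [ker_aeval_div_eq φ j hj0, ← hf]
    have : Set.range g = insert (X j - 1) (Set.range f) := by
      ext x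
      constructor
      · rintro ⟨o, rfl⟩
        cases o with
        | none => exact Set.mem_insert _ _
        | some i => exact Set.mem_insert_of_mem _ ⟨i, rfl⟩
      · intro hx
        rcases Set.mem_insert_iff.1 hx with rfl | ⟨i, rfl⟩
        · exact ⟨none, rfl⟩
        · exact ⟨some i, rfl⟩
    rw [this, Ideal.span_insert, sup_comm]
  have hgd : ∀ d : σ → k, (∀ o, dd b d (g o) = 0) ↔ (d j = 0 ∧ ∀ i, dd b d (f i) = 0) := by
    intro d
    constructor
    · intro h
      refine ⟨?_, fun i => h (some i)⟩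
      have := h none
      simpa [g, dd_X_sub_one] using this
    · rintro ⟨h1, h2⟩ o
      cases o with
      | none => simpa [g, dd_X_sub_one] using h1
      | some i => exact h2 i
  have hns : IsNonsingularAt φ P ↔ ∀ z, v P z ≤ 1 → ∃ u ∈ Algebra.adjoin k (Set.range ψ),
      ∃ w ∈ Algebra.adjoin k (Set.range ψ), v P w = 1 ∧ z * w = u := by
    unfold IsNonsingularAt
    refine forall_congr' (fun z => imp_congr Iff.rfl ?_)
    exact Groth.Agent.Lib.Helper26.LocRing2.inLocRing_iff φ P j hj0 hj z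
  rw [hns]
  constructor
  · intro h
    obtain ⟨s, hs0, hsker, hsuniq⟩ := jac_forward P ψ b hb hK g hg h
    have h1 := (hgd s).1 hsker
    refine ⟨s, hs0, h1.1, h1.2, fun d hdj hd => hsuniq d ((hgd d).2 ⟨hdj, hd⟩)⟩
  · rintro ⟨s, hs0, hsj, hsker, hsuniq⟩
    exact jac_backward P ψ b hb g hg hfrac s hs0
      (fun d hd => hsuniq d ((hgd d).1 hd).1 ((hgd d).1 hd).2)

end Groth.Agent.Lib.Helper2.Jac
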