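import Mathlib
import Groth.Agent.Lib.Helper2.FunFld.Jac6
import Groth.Agent.Lib.Helper26.PlaneModel5

set_option autoImplicit false
open scoped WithZero IntermediateField
open MvPolynomial FunFld
open Groth.Agent.Lib.Helper2.FF

namespace Groth.Agent.Lib.Helper2.Jac

variable {k K : Type*} [Field k] [Field K] [Algebra k K]

section Scale

variable {σ : Type*} (φ : σ → K)

theorem Ih_smul_le (a : K) :
    (Ih φ : Ideal (MvPolynomial σ k)) ≤ Ih (fun i => a * φ i) := by
  intro H hH
  rw [RingHom.mem_ker] at hH ⊢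
  have := MvPolynomial.comp_aeval_apply
    ((Polynomial.aeval (Polynomial.C a * Polynomial.X : Polynomial K) :
      Polynomial K →ₐ[K] Polynomial K).restrictScalars k)
    (f := fun i => Polynomial.C (φ i) * Polynomial.X) H
  simp only [AlgHom.coe_restrictScalars', map_mul, Polynomial.aeval_C, Polynomial.aeval_X,
    Polynomial.algebraMap_eq] at this
  rw [hH, map_zero] at this
  have e : (fun i => Polynomial.C ((fun i => a * φ i) i) * Polynomial.X : σ → Polynomial K) =
      fun i => Polynomial.C (φ i) * (Polynomial.C a * Polynomial.X) := by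
    funext i
    simp only [map_mul]; ring
  rw [e, ← this]

theorem Ih_smul (a : K) (ha : a ≠ 0) :
    (Ih (fun i => a * φ i) : Ideal (MvPolynomial σ k)) = Ih φ := by
  apply le_antisymm
  · have h := Ih_smul_le (k := k) (fun i => a * φ i) a⁻¹
    have e : (fun i => a⁻¹ * (a * φ i)) = φ := by
      funext i; field_simp
    rw [e] at h
    exact h
  · exact Ih_smul_le φ a

end Scale

/-- the homogeneous ideal of a birational plane map is generated by any irreducible homogeneous
relation -/
theorem Ih_eq_span_of_irreducible [IsAlgClosed k] (hK : IsFunctionField k K) (φ : Fin 3 → K)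
    (h0 : φ 0 ≠ 0)
    (hbir : IntermediateField.adjoin k (Set.range fun i => φ i / φ 0) = ⊤)
    (f : MvPolynomial (Fin 3) k) (hf : Irreducible f) (hhom : f.IsHomogeneous f.totalDegree)
    (hfφ : MvPolynomial.aeval φ f = 0) :
    (Ih φ : Ideal (MvPolynomial (Fin 3) k)) = Ideal.span {f} := by
  classical
  set x := φ 1 / φ 0 with hx
  set y := φ 2 / φ 0 with hy
  have hxy : IntermediateField.adjoin k ({x, y} : Set K) = ⊤ := by
    rw [eq_top_iff, ← hbir, IntermediateField.adjoin_le_iff]
    rintro _ ⟨i, rfl⟩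
    fin_cases i
    · simp only [Fin.zero_eta, Fin.isValue]
      rw [div_self h0]; exact one_mem _
    · exact IntermediateField.subset_adjoin _ _ (by simp [hx])
    · exact IntermediateField.subset_adjoin _ _ (by simp [hy])
  haveI : Infinite k := IsAlgClosed.instInfinite
  obtain ⟨G₀, N, hG₀, -, -, hker⟩ :=
    Groth.Agent.Lib.Helper26.PlaneModel5.exists_ker_eq_span_homog hK x y hxy
  have hu : (fun i => (φ 0)⁻¹ * φ i) = ![(1 : K), x, y] := by
    funext i
    fin_cases i
    · simp [h0]
    · simp [hx, div_eq_inv_mul]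
    · simp [hy, div_eq_inv_mul]
  have hI : (Ih φ : Ideal (MvPolynomial (Fin 3) k)) = Ideal.span {G₀} := by
    rw [← Ih_smul φ (φ 0)⁻¹ (inv_ne_zero h0), ← hker, hu]
  rw [hI]
  have hfI : f ∈ (Ih φ : Ideal (MvPolynomial (Fin 3) k)) := mem_Ih_of_isHomogeneous φ hhom hfφ
  rw [hI, Ideal.mem_span_singleton] at hfI
  obtain ⟨h, rfl⟩ := hfI
  rcases hf.isUnit_or_isUnit rfl with hu1 | hu2
  · exfalso
    have h1 : (1 : MvPolynomial (Fin 3) k) ∈ (Ih φ : Ideal (MvPolynomial (Fin 3) k)) := by
      rw [hI]
      exact Ideal.mem_span_singleton.2 hu1.dvd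
    rw [RingHom.mem_ker, map_one] at h1
    exact one_ne_zero h1
  · exact (Ideal.span_singleton_mul_right_unit hu2 G₀).symm

end Groth.Agent.Lib.Helper2.Jac
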