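import Mathlib
import Groth.Agent.Lib.Helper2.FunFld.LSpace
import Groth.Agent.Lib.Helper2.FunFld.WeakApprox

set_option autoImplicit false
open scoped WithZero
open FunFld
open Groth.Agent.Lib.Helper2.FF Groth.Agent.Lib.Helper2.RelDim

namespace Groth.Agent.Lib.Helper2.SL

variable {k K : Type*} [Field k] [Field K] [Algebra k K]

/-- functions with prescribed order bounds on a set of places -/
def LT (T : Set (FunFld.Place k K)) (D : FunFld.Place k K → ℤ) : Submodule k K where
  carrier := {x | ∀ P ∈ T, v P x ≤ WithZero.exp (D P)}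
  add_mem' {x y} hx hy P hP := (Valuation.map_add _ x y).trans (max_le (hx P hP) (hy P hP))
  zero_mem' P _ := by simp
  smul_mem' c x hx P hP := (v_smul_le P c x).trans (hx P hP)

theorem mem_LT {T : Set (FunFld.Place k K)} {D : FunFld.Place k K → ℤ} {x : K} :
    x ∈ LT T D ↔ ∀ P ∈ T, v P x ≤ WithZero.exp (D P) := Iff.rfl

theorem LT_mono {T : Set (FunFld.Place k K)} {D E : FunFld.Place k K → ℤ}
    (h : ∀ P ∈ T, D P ≤ E P) : LT T D ≤ LT T E := fun _ hx P hP =>
  (hx P hP).trans (WithZero.exp_le_exp.2 (h P hP))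

theorem LT_congr {T : Set (FunFld.Place k K)} {D E : FunFld.Place k K → ℤ}
    (h : ∀ P ∈ T, D P = E P) : LT T D = LT T E :=
  le_antisymm (LT_mono fun P hP => (h P hP).le) (LT_mono fun P hP => (h P hP).ge)

variable (T : Set (FunFld.Place k K)) (D : FunFld.Place k K → ℤ) (P : FunFld.Place k K)

/-- evaluation `LT(D) → ball_P(D P) / ball_P(D P - 1)` -/
def evalLT (hP : P ∈ T) : LT T D →ₗ[k] RQ (ball P (D P - 1)) (ball P (D P)) :=
  ((ball P (D P - 1)).submoduleOf (ball P (D P))).mkQ.comp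
    (LinearMap.codRestrict (ball P (D P)) (LT T D).subtype (fun x => x.2 P hP))

open Classical in
theorem ker_evalLT (hP : P ∈ T) :
    LinearMap.ker (evalLT T D P hP) =
      (LT T (Function.update D P (D P - 1))).submoduleOf (LT T D) := by
  ext x
  rw [LinearMap.mem_ker]
  simp only [evalLT, LinearMap.comp_apply, Submodule.mkQ_apply]
  rw [Submodule.Quotient.mk_eq_zero]
  change v P x.1 ≤ WithZero.exp (D P - 1) ↔ x.1 ∈ LT T (Function.update D P (D P - 1))
  rw [mem_LT]
  constructor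
  · intro h Q hQ
    by_cases hQP : Q = P
    · subst hQP
      simpa using h
    · rw [Function.update_of_ne hQP]
      exact x.2 Q hQ
  · intro h
    simpa using h P hP

theorem evalLT_surjective (hT : T.Finite) (hP : P ∈ T) :
    Function.Surjective (evalLT T D P hP) := by
  classical
  intro q
  obtain ⟨⟨x, hx⟩, rfl⟩ := Submodule.mkQ_surjective _ q
  haveI : Finite T := hT.to_subtype
  obtain ⟨y, hy⟩ := weak_approx (fun i : T => (i : FunFld.Place k K)) Subtype.val_injective
    (fun i => if (i : FunFld.Place k K) = P then x else 0) (fun i => D i)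
  have hyT : y ∈ LT T D := by
    intro Q hQ
    have h1 := hy ⟨Q, hQ⟩
    simp only at h1
    by_cases hQP : Q = P
    · subst hQP
      rw [if_pos rfl] at h1
      have e : y = (y - x) + x := by ring
      rw [e]
      exact (Valuation.map_add _ _ _).trans (max_le h1.le hx)
    · rw [if_neg hQP, sub_zero] at h1
      exact h1.le
  refine ⟨⟨y, hyT⟩, ?_⟩
  simp only [evalLT, LinearMap.comp_apply, Submodule.mkQ_apply]
  rw [Submodule.Quotient.eq]
  change v P (y - x) ≤ WithZero.exp (D P - 1)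
  have h1 := hy ⟨P, hP⟩
  simp only [if_true] at h1
  have h2 := (lt_exp_succ_iff (v P (y - x)) (D P - 1)).1 (by simpa using h1)
  exact h2

open Classical in
theorem idx_LT_single (hK : IsFunctionField k K) (hT : T.Finite) (hP : P ∈ T) :
    FinIdx (LT T (Function.update D P (D P - 1))) (LT T D) ∧
      idx (LT T (Function.update D P (D P - 1))) (LT T D) = P.deg := by
  have e1 := equivOfSurjective (evalLT T D P hP) (ker_evalLT T D P hP)
    (evalLT_surjective T D P hT hP)
  obtain ⟨e2⟩ := nonempty_ball_succ_equiv P (D P - 1)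
  have h1 : D P - 1 + 1 = D P := by ring
  rw [h1] at e2
  have e := e1.trans e2
  have hfin := finiteDimensional_residueField P hK
  constructor
  · unfold FinIdx
    exact Module.Finite.equiv e.symm
  · unfold idx
    rw [e.finrank_eq]; rfl

open Classical in
theorem idx_LT_aux (hK : IsFunctionField k K) (hT : T.Finite) :
    ∀ (N : ℕ) (D₁ D₂ : FunFld.Place k K → ℤ), (∀ P ∈ T, D₁ P ≤ D₂ P) →
      ∑ P ∈ hT.toFinset, (D₂ P - D₁ P) = N →
      FinIdx (LT T D₁) (LT T D₂) ∧
        (idx (LT T D₁) (LT T D₂) : ℤ) = ∑ P ∈ hT.toFinset, (D₂ P - D₁ P) * (P.deg : ℤ) := by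
  intro N
  induction N with
  | zero =>
    intro D₁ D₂ hle hsum
    have h0 : ∀ P ∈ hT.toFinset, D₂ P - D₁ P = 0 := by
      have := (Finset.sum_eq_zero_iff_of_nonneg (fun P hP =>
        sub_nonneg.2 (hle P (hT.mem_toFinset.1 hP)))).1 (by simpa using hsum)
      exact this
    have heq : LT T D₁ = LT T D₂ := LT_congr (fun P hP => by
      have := h0 P (hT.mem_toFinset.2 hP); omega)
    rw [heq]
    refine ⟨finIdx_self _, ?_⟩
    rw [idx_self]
    push_cast
    symm
    exact Finset.sum_eq_zero (fun P hP => by rw [h0 P hP, zero_mul])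
  | succ N ih =>
    intro D₁ D₂ hle hsum
    obtain ⟨P, hP, hlt⟩ : ∃ P ∈ hT.toFinset, D₁ P < D₂ P := by
      by_contra hcon
      push Not at hcon
      have : ∑ P ∈ hT.toFinset, (D₂ P - D₁ P) = 0 :=
        Finset.sum_eq_zero (fun P hP => by
          have h1 := hcon P hP
          have h2 := hle P (hT.mem_toFinset.1 hP)
          omega)
      rw [this] at hsum
      have : (0 : ℤ) = ((N + 1 : ℕ) : ℤ) := hsum
      omega
    have hPT : P ∈ T := hT.mem_toFinset.1 hP
    set D₂' := Function.update D₂ P (D₂ P - 1) with hD₂'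
    have hle' : ∀ Q ∈ T, D₁ Q ≤ D₂' Q := by
      intro Q hQ
      by_cases hQP : Q = P
      · subst hQP
        rw [hD₂', Function.update_self]; omega
      · rw [hD₂', Function.update_of_ne hQP]; exact hle Q hQ
    have hdiff : ∀ Q, D₂ Q - D₂' Q = if Q = P then 1 else 0 := by
      intro Q
      by_cases hQP : Q = P
      · subst hQP
        rw [hD₂', Function.update_self, if_pos rfl]; ring
      · rw [hD₂', Function.update_of_ne hQP, if_neg hQP]; ring
    have hsum' : ∑ Q ∈ hT.toFinset, (D₂' Q - D₁ Q) = N := by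
      have h1 : ∑ Q ∈ hT.toFinset, (D₂ Q - D₁ Q) - ∑ Q ∈ hT.toFinset, (D₂' Q - D₁ Q) = 1 := by
        rw [← Finset.sum_sub_distrib]
        have : ∀ Q ∈ hT.toFinset, (D₂ Q - D₁ Q) - (D₂' Q - D₁ Q) = if Q = P then 1 else 0 := by
          intro Q _
          rw [← hdiff Q]; ring
        rw [Finset.sum_congr rfl this, Finset.sum_ite_eq' hT.toFinset P, if_pos hP]
      rw [hsum] at h1
      push_cast at h1
      linarith
    obtain ⟨hf1, hi1⟩ := ih D₁ D₂' hle' hsum'
    obtain ⟨hf2, hi2⟩ := idx_LT_single T D₂ P hK hT hPT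
    have hA : LT T D₁ ≤ LT T D₂' := LT_mono hle'
    have hB : LT T D₂' ≤ LT T D₂ := LT_mono (fun Q _ => by
      have := hdiff Q
      split_ifs at this <;> omega)
    refine ⟨hf1.trans hA hB hf2, ?_⟩
    rw [← idx_add hA hB hf1 hf2]
    push_cast
    rw [hi1, hi2]
    have h2 : ∑ Q ∈ hT.toFinset, (D₂ Q - D₁ Q) * (Q.deg : ℤ) -
        ∑ Q ∈ hT.toFinset, (D₂' Q - D₁ Q) * (Q.deg : ℤ) = (P.deg : ℤ) := by
      rw [← Finset.sum_sub_distrib]
      have : ∀ Q ∈ hT.toFinset, (D₂ Q - D₁ Q) * (Q.deg : ℤ) - (D₂' Q - D₁ Q) * (Q.deg : ℤ) =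
          if Q = P then (P.deg : ℤ) else 0 := by
        intro Q _
        have h3 : (D₂ Q - D₁ Q) * (Q.deg : ℤ) - (D₂' Q - D₁ Q) * (Q.deg : ℤ) =
            (D₂ Q - D₂' Q) * (Q.deg : ℤ) := by ring
        rw [h3, hdiff Q]
        by_cases hQP : Q = P
        · subst hQP; simp
        · simp [hQP]
      rw [Finset.sum_congr rfl this, Finset.sum_ite_eq' hT.toFinset P, if_pos hP]
    linarith

open Classical in
/-- the index of semilocal spaces of functions -/
theorem idx_LT (hK : IsFunctionField k K) (hT : T.Finite) (D₁ D₂ : FunFld.Place k K → ℤ)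
    (hle : ∀ P ∈ T, D₁ P ≤ D₂ P) :
    FinIdx (LT T D₁) (LT T D₂) ∧
      (idx (LT T D₁) (LT T D₂) : ℤ) = ∑ P ∈ hT.toFinset, (D₂ P - D₁ P) * (P.deg : ℤ) := by
  have hnn : 0 ≤ ∑ P ∈ hT.toFinset, (D₂ P - D₁ P) :=
    Finset.sum_nonneg (fun P hP => sub_nonneg.2 (hle P (hT.mem_toFinset.1 hP)))
  exact idx_LT_aux T hK hT (∑ P ∈ hT.toFinset, (D₂ P - D₁ P)).toNat D₁ D₂ hle
    (Int.toNat_of_nonneg hnn).symm

end Groth.Agent.Lib.Helper2.SL
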