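import Mathlib
import Groth.Agent.Lib.Helper2.FunFld.SL1
import Groth.Agent.Lib.Helper2.FunFld.Cond1
import Groth.Agent.Lib.Helper2.FunFld.Jac7
import Groth.Agent.Lib.Helper26.PlaneModel4

set_option autoImplicit false
open scoped WithZero IntermediateField
open FunFld MvPolynomial
open Groth.Agent.Lib.Helper2.FF Groth.Agent.Lib.Helper2.RelDim Groth.Agent.Lib.Helper2.SL
  Groth.Agent.Lib.Helper2.Jac

namespace Groth.Agent.Lib.Helper2.IM

variable {k K : Type*} [Field k] [Field K] [Algebra k K]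

section Basic

variable (P : FunFld.Place k K) (ψ : Fin 2 → K) (c : Fin 2 → k)

/-- the places centred at the point `c` -/
def Fib : Set (FunFld.Place k K) := {Q | ∀ i, v Q (ψ i - algebraMap k K (c i)) < 1}

/-- the local ring at the point below `P`, as a subspace -/
def Oloc : Submodule k K where
  carrier := {z | ∃ u ∈ Algebra.adjoin k (Set.range ψ), ∃ w ∈ Algebra.adjoin k (Set.range ψ),
    v P w = 1 ∧ z * w = u}
  add_mem' := by
    rintro x y ⟨u₁, hu₁, w₁, hw₁, hv₁, h₁⟩ ⟨u₂, hu₂, w₂, hw₂, hv₂, h₂⟩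
    refine ⟨u₁ * w₂ + u₂ * w₁, add_mem (mul_mem hu₁ hw₂) (mul_mem hu₂ hw₁), w₁ * w₂,
      mul_mem hw₁ hw₂, by rw [map_mul, hv₁, hv₂, mul_one], ?_⟩
    rw [← h₁, ← h₂]; ring
  zero_mem' := ⟨0, zero_mem _, 1, one_mem _, map_one _, by ring⟩
  smul_mem' := by
    rintro a x ⟨u, hu, w, hw, hv, h⟩
    refine ⟨a • u, Subalgebra.smul_mem _ hu a, w, hw, hv, ?_⟩
    rw [← h, smul_mul_assoc]

theorem mem_Oloc {z : K} : z ∈ Oloc P ψ ↔
    ∃ u ∈ Algebra.adjoin k (Set.range ψ), ∃ w ∈ Algebra.adjoin k (Set.range ψ),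
      v P w = 1 ∧ z * w = u := Iff.rfl

theorem adjoin_le_Oloc {a : K} (ha : a ∈ Algebra.adjoin k (Set.range ψ)) : a ∈ Oloc P ψ :=
  ⟨a, ha, 1, one_mem _, map_one _, mul_one _⟩

theorem mul_mem_Oloc {x y : K} (hx : x ∈ Oloc P ψ) (hy : y ∈ Oloc P ψ) : x * y ∈ Oloc P ψ := by
  obtain ⟨u₁, hu₁, w₁, hw₁, hv₁, h₁⟩ := hx
  obtain ⟨u₂, hu₂, w₂, hw₂, hv₂, h₂⟩ := hy
  refine ⟨u₁ * u₂, mul_mem hu₁ hu₂, w₁ * w₂, mul_mem hw₁ hw₂,
    by rw [map_mul, hv₁, hv₂, mul_one], ?_⟩
  rw [← h₁, ← h₂]; ring

variable {P ψ c}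

/-- elements of the coordinate ring have the same residue at all places of the fibre -/
theorem v_eq_one_of_fib (hc : ∀ i, v P (ψ i - algebraMap k K (c i)) < 1)
    {Q : FunFld.Place k K} (hQ : Q ∈ Fib ψ c) {w : K}
    (hw : w ∈ Algebra.adjoin k (Set.range ψ)) (hvw : v P w = 1) : v Q w = 1 := by
  obtain ⟨W, rfl⟩ := (mem_adjoin_iff_aeval ψ).1 hw
  have h1 : eval c W ≠ 0 := eval_ne_zero_of_v_eq_one P ψ c hc W hvw
  have h2 := v_taylor0 Q ψ c hQ W
  have h3 : v Q (algebraMap k K (eval c W)) = 1 := v_algebraMap Q h1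
  have e : aeval ψ W = (aeval ψ W - algebraMap k K (eval c W)) + algebraMap k K (eval c W) := by
    ring
  rw [e, Valuation.map_add_eq_of_lt_right]
  · exact h3
  · rw [h3]; exact (lt_one_iff_le_exp _).2 h2

theorem Oloc_le_LT (hc : ∀ i, v P (ψ i - algebraMap k K (c i)) < 1) :
    Oloc P ψ ≤ LT (Fib ψ c) (fun _ => 0) := by
  rintro z ⟨u, hu, w, hw, hvw, h⟩ Q hQ
  have h1 : v Q w = 1 := v_eq_one_of_fib hc hQ hw hvw
  have h2 : v Q u ≤ 1 := v_le_one_of_mem_adjoin Q ψ c hQ hu
  have h3 : v Q z = v Q u := by rw [← h, map_mul, h1, mul_one]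
  rw [h3]; simpa using h2

theorem fib_finite (hK : IsFunctionField k K)
    (hxy : IntermediateField.adjoin k (Set.range ψ) = ⊤) : (Fib ψ c).Finite := by
  have hex : ∃ i, ψ i - algebraMap k K (c i) ≠ 0 := by
    by_contra hcon
    push Not at hcon
    obtain ⟨t, ht, -⟩ := hK.1
    have h1 : t ∈ IntermediateField.adjoin k (Set.range ψ) := by rw [hxy]; trivial
    have h2 : IntermediateField.adjoin k (Set.range ψ) ≤ ⊥ := by
      rw [IntermediateField.adjoin_le_iff]
      rintro _ ⟨i, rfl⟩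
      have := sub_eq_zero.1 (hcon i)
      rw [SetLike.mem_coe, this]
      exact IntermediateField.algebraMap_mem _ _
    obtain ⟨a, ha⟩ := IntermediateField.mem_bot.1 (h2 h1)
    exact ht (ha ▸ isAlgebraic_algebraMap a)
  obtain ⟨i, hi⟩ := hex
  refine (finite_support_ord hK (ψ i - algebraMap k K (c i))).subset ?_
  intro Q hQ
  rw [Function.mem_support]
  have := (v_lt_one_iff Q hi).1 (hQ i)
  omega

/-- products of functions with residues -/
theorem residue_mul (R : FunFld.Place k K) {a b : K} {α β : k}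
    (ha : v R (a - algebraMap k K α) < 1) (hb : v R (b - algebraMap k K β) < 1) :
    v R (a * b - algebraMap k K (α * β)) < 1 := by
  have hb1 : v R b ≤ 1 := Groth.Agent.Lib.Helper26.LocRing2.v_le_one_of_residue R hb
  have e : a * b - algebraMap k K (α * β) =
      (a - algebraMap k K α) * b + algebraMap k K α * (b - algebraMap k K β) := by
    rw [map_mul]; ring
  rw [e]
  refine (Valuation.map_add _ _ _).trans_lt (max_lt ?_ ?_)
  · rw [map_mul]
    calc v R (a - algebraMap k K α) * v R b ≤ v R (a - algebraMap k K α) * 1 :=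
          mul_le_mul' le_rfl hb1
      _ = _ := mul_one _
      _ < 1 := ha
  · rw [map_mul]
    calc v R (algebraMap k K α) * v R (b - algebraMap k K β)
        ≤ 1 * v R (b - algebraMap k K β) := mul_le_mul' (v_algebraMap_le R α) le_rfl
      _ = _ := one_mul _
      _ < 1 := hb

/-- inverse of a function with nonzero residue -/
theorem residue_inv (R : FunFld.Place k K) {a : K} {α : k} (hα : α ≠ 0)
    (ha : v R (a - algebraMap k K α) < 1) :
    v R (a⁻¹ - algebraMap k K α⁻¹) < 1 := by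
  have hva : v R a = 1 := Groth.Agent.Lib.Helper26.LocRing2.v_eq_one_of_residue R ha hα
  have ha0 : a ≠ 0 := by
    intro h; rw [h, map_zero] at hva; exact zero_ne_one hva
  have hα' : algebraMap k K α ≠ 0 := by simpa using hα
  have e : a⁻¹ - algebraMap k K α⁻¹ =
      -(a - algebraMap k K α) * (a⁻¹ * algebraMap k K α⁻¹) := by
    rw [map_inv₀]; field_simp; ring
  rw [e, map_mul, Valuation.map_neg, map_mul, map_inv₀, hva, inv_one, one_mul,
    v_algebraMap R (inv_ne_zero hα), mul_one]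
  exact ha

theorem residue_unique (R : FunFld.Place k K) {a : K} {α β : k}
    (ha : v R (a - algebraMap k K α) < 1) (hb : v R (a - algebraMap k K β) < 1) : α = β := by
  by_contra hne
  have h1 : v R (algebraMap k K (α - β)) = 1 := v_algebraMap R (sub_ne_zero.2 hne)
  have e : algebraMap k K (α - β) = (a - algebraMap k K β) - (a - algebraMap k K α) := by
    rw [map_sub]; ring
  rw [e] at h1
  have := (Valuation.map_sub _ _ _).trans_lt (max_lt hb ha)
  rw [h1] at this
  exact lt_irrefl _ this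

end Basic

section Same

variable (x y : K) (c : Fin 2 → k) (P Q : FunFld.Place k K)

theorem sameImage_iff (hc : ∀ i, v P (![x, y] i - algebraMap k K (c i)) < 1) :
    SameImage ![(1 : K), x, y] P Q ↔ Q ∈ Fib ![x, y] c := by
  constructor
  · rintro ⟨j', hj'0, hPle, hQle, hres⟩
    -- the entry `φ j'` is a unit at `P`
    have hPreg : ∀ i : Fin 3, v P (![(1 : K), x, y] i) ≤ 1 := by
      intro i
      fin_cases i
      · simp
      · exact v_le_one_of_hb P ![x, y] c hc 0
      · exact v_le_one_of_hb P ![x, y] c hc 1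
    have hvP : v P (![(1 : K), x, y] j') = 1 := by
      apply le_antisymm (hPreg j')
      have := hPle 0
      simpa using this
    obtain ⟨c', hc'P, hc'Q⟩ := hres 0
    simp only [Matrix.cons_val_zero, one_div] at hc'P hc'Q
    have hc'0 : c' ≠ 0 := by
      intro h0
      rw [h0, map_zero, sub_zero, map_inv₀, hvP, inv_one] at hc'P
      exact lt_irrefl _ hc'P
    -- `φ j' ≡ 1 / c'` at both places
    have hjP := residue_inv P hc'0 hc'P
    have hjQ := residue_inv Q hc'0 hc'Q
    rw [inv_inv] at hjP hjQ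
    intro l
    obtain ⟨c'', hc''P, hc''Q⟩ := hres l.succ
    have e : ![x, y] l = ![(1 : K), x, y] l.succ / ![(1 : K), x, y] j' * ![(1 : K), x, y] j' := by
      have : ![(1 : K), x, y] l.succ = ![x, y] l := by
        fin_cases l <;> rfl
      rw [this]; field_simp
    have hP2 := residue_mul P hc''P hjP
    have hQ2 := residue_mul Q hc''Q hjQ
    rw [← e] at hP2 hQ2
    have := residue_unique P hP2 (hc l)
    rw [← this]
    exact hQ2
  · intro hQ
    refine ⟨0, by simp, ?_, ?_, ?_⟩
    · intro i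
      fin_cases i
      · simp
      · simpa using v_le_one_of_hb P ![x, y] c hc 0
      · simpa using v_le_one_of_hb P ![x, y] c hc 1
    · intro i
      fin_cases i
      · simp
      · simpa using v_le_one_of_hb Q ![x, y] c hQ 0
      · simpa using v_le_one_of_hb Q ![x, y] c hQ 1
    · intro i
      fin_cases i
      · exact ⟨1, by simp, by simp⟩
      · exact ⟨c 0, by simpa using hc 0, by simpa using hQ 0⟩
      · exact ⟨c 1, by simpa using hc 1, by simpa using hQ 1⟩

end Same

end Groth.Agent.Lib.Helper2.IM
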