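import Mathlib
import Groth.Agent.Lib.Helper2.FunFld.IM1

set_option autoImplicit false
open scoped WithZero IntermediateField
open FunFld MvPolynomial
open Groth.Agent.Lib.Helper2.FF Groth.Agent.Lib.Helper2.RelDim Groth.Agent.Lib.Helper2.SL
  Groth.Agent.Lib.Helper2.Jac

namespace Groth.Agent.Lib.Helper2.IM

variable {k K : Type*} [Field k] [Field K] [Algebra k K]

theorem range_xy (x y : K) : Set.range ![x, y] = {x, y} := by
  ext z
  simp only [Set.mem_range, Set.mem_insert_iff, Set.mem_singleton_iff]
  constructor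
  · rintro ⟨i, rfl⟩
    fin_cases i
    · left; rfl
    · right; rfl
  · rintro (rfl | rfl)
    · exact ⟨0, rfl⟩
    · exact ⟨1, rfl⟩

/-- the ideal of a plane model is generated by any irreducible relation -/
theorem ker_eq_span_of_irreducible [IsAlgClosed k] (hK : IsFunctionField k K) (x y : K)
    (hxy : IntermediateField.adjoin k ({x, y} : Set K) = ⊤)
    (f : MvPolynomial (Fin 2) k) (hf : Irreducible f) (hfxy : aeval ![x, y] f = 0) :
    RingHom.ker (aeval ![x, y] : MvPolynomial (Fin 2) k →ₐ[k] K) = Ideal.span {f} := by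
  haveI : Infinite k := IsAlgClosed.instInfinite
  obtain ⟨G, hG0, hker, -⟩ := Groth.Agent.Lib.Helper26.PlaneModel4.exists_ker_eq_span hK x y hxy
  have hfI : f ∈ RingHom.ker (aeval ![x, y] : MvPolynomial (Fin 2) k →ₐ[k] K) := hfxy
  rw [hker, Ideal.mem_span_singleton] at hfI
  obtain ⟨h, rfl⟩ := hfI
  rcases hf.isUnit_or_isUnit rfl with hu1 | hu2
  · exfalso
    have h1 : (1 : MvPolynomial (Fin 2) k) ∈
        RingHom.ker (aeval ![x, y] : MvPolynomial (Fin 2) k →ₐ[k] K) := by
      rw [hker]
      exact Ideal.mem_span_singleton.2 hu1.dvd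
    rw [RingHom.mem_ker, map_one] at h1
    exact one_ne_zero h1
  · rw [hker]
    exact (Ideal.span_singleton_mul_right_unit hu2 G).symm

/-- a line: the local ring is the valuation ring -/
theorem oloc_of_dependent [IsAlgClosed k] (hK : IsFunctionField k K) (x y : K)
    (hxy : IntermediateField.adjoin k ({x, y} : Set K) = ⊤)
    (f : MvPolynomial (Fin 2) k) (hf : Irreducible f) (hfxy : aeval ![x, y] f = 0)
    (P : FunFld.Place k K) (c : Fin 2 → k)
    (hc : ∀ i, v P (![x, y] i - algebraMap k K (c i)) < 1)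
    (hdep : ¬ LinearIndependent k ![(1 : K), x, y]) :
    ∀ z, v P z ≤ 1 → z ∈ Oloc P ![x, y] := by
  classical
  have hker := ker_eq_span_of_irreducible hK x y hxy f hf hfxy
  rw [Fintype.not_linearIndependent_iff] at hdep
  obtain ⟨a, ha, hane⟩ := hdep
  rw [Fin.sum_univ_three] at ha
  simp only [Matrix.cons_val_zero, Matrix.cons_val_one, Matrix.cons_val_two,
    Matrix.tail_cons, Matrix.head_cons] at ha
  set ℓ : MvPolynomial (Fin 2) k := C (a 0) + C (a 1) * X 0 + C (a 2) * X 1 with hℓ
  have hℓxy : aeval ![x, y] ℓ = 0 := by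
    rw [hℓ]
    simp only [map_add, map_mul, aeval_C, aeval_X, Matrix.cons_val_zero, Matrix.cons_val_one,
      Matrix.head_cons]
    rw [← ha]
    simp only [Algebra.smul_def, mul_one]
  have hℓI : ℓ ∈ RingHom.ker (aeval ![x, y] : MvPolynomial (Fin 2) k →ₐ[k] K) := hℓxy
  rw [hker, Ideal.mem_span_singleton] at hℓI
  obtain ⟨h, hh⟩ := hℓI
  have hfc : eval c f = 0 := by
    apply eval_eq_zero_of_v_lt P ![x, y] c hc
    rw [hfxy, map_zero]; exact zero_lt_one
  have hp0 : a 1 = eval c (pderiv 0 f) * eval c h := by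
    have h1 : pderiv 0 ℓ = C (a 1) := by
      rw [hℓ]
      simp [pderiv_X, Pi.single_apply]
    have h2 : pderiv 0 ℓ = pderiv 0 f * h + f * pderiv 0 h := by
      rw [hh, Derivation.leibniz]; simp only [smul_eq_mul]; ring
    have := congrArg (eval c) (h1.symm.trans h2)
    simpa [hfc] using this
  have hp1 : a 2 = eval c (pderiv 1 f) * eval c h := by
    have h1 : pderiv 1 ℓ = C (a 2) := by
      rw [hℓ]
      simp [pderiv_X, Pi.single_apply]
    have h2 : pderiv 1 ℓ = pderiv 1 f * h + f * pderiv 1 h := by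
      rw [hh, Derivation.leibniz]; simp only [smul_eq_mul]; ring
    have := congrArg (eval c) (h1.symm.trans h2)
    simpa [hfc] using this
  have hgrad : eval c (pderiv 0 f) ≠ 0 ∨ eval c (pderiv 1 f) ≠ 0 := by
    by_contra hcon
    push Not at hcon
    rw [hcon.1, zero_mul] at hp0
    rw [hcon.2, zero_mul] at hp1
    obtain ⟨i, hi⟩ := hane
    have hi0 : a 0 ≠ 0 := by
      fin_cases i
      · exact hi
      · exact absurd hp0 hi
      · exact absurd hp1 hi
    rw [hℓ, hp0, hp1] at hℓxy
    simp only [map_zero, zero_mul, add_zero, aeval_C] at hℓxy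
    exact hi0 ((algebraMap k K).injective (hℓxy.trans (map_zero _).symm))
  intro z hz
  have hrange : Ideal.span (Set.range fun _ : Unit => f) =
      RingHom.ker (aeval ![x, y] : MvPolynomial (Fin 2) k →ₐ[k] K) := by
    rw [hker, Set.range_const]
  have hfrac : IntermediateField.adjoin k (Set.range ![x, y]) = ⊤ := by rw [range_xy, hxy]
  refine jac_backward P ![x, y] c hc (fun _ : Unit => f) hrange hfrac
    ![eval c (pderiv 1 f), - eval c (pderiv 0 f)] ?_ ?_ z hz
  · intro h0
    have e0 := congrFun h0 0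
    have e1 := congrFun h0 1
    simp only [Matrix.cons_val_zero, Matrix.cons_val_one, Matrix.head_cons, Pi.zero_apply,
      neg_eq_zero] at e0 e1
    rcases hgrad with h | h
    · exact h e1
    · exact h e0
  · intro d hd
    have hd' := hd ()
    unfold dd at hd'
    rw [Fin.sum_univ_two] at hd'
    by_cases hy0 : eval c (pderiv 1 f) = 0
    · have hx0 : eval c (pderiv 0 f) ≠ 0 := by
        rcases hgrad with h | h
        · exact h
        · exact absurd hy0 h
      rw [hy0, mul_zero, add_zero] at hd'
      have hd0 : d 0 = 0 := by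
        rcases mul_eq_zero.1 hd' with h | h
        · exact h
        · exact absurd h hx0
      refine ⟨- d 1 / eval c (pderiv 0 f), ?_⟩
      funext i
      fin_cases i
      · show d 0 = (- d 1 / eval c (pderiv 0 f)) * eval c (pderiv 1 f)
        rw [hd0, hy0, mul_zero]
      · show d 1 = (- d 1 / eval c (pderiv 0 f)) * (- eval c (pderiv 0 f))
        field_simp
    · refine ⟨d 0 / eval c (pderiv 1 f), ?_⟩
      funext i
      fin_cases i
      · show d 0 = (d 0 / eval c (pderiv 1 f)) * eval c (pderiv 1 f)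
        field_simp
      · show d 1 = (d 0 / eval c (pderiv 1 f)) * (- eval c (pderiv 0 f))
        field_simp
        linear_combination hd'

theorem adjoin_ratio_eq (x y : K) :
    Algebra.adjoin k (Set.range fun i => ![(1 : K), x, y] i / ![(1 : K), x, y] 0) =
      Algebra.adjoin k (Set.range ![x, y]) := by
  apply le_antisymm
  · apply Algebra.adjoin_le
    rintro _ ⟨i, rfl⟩
    fin_cases i
    · simp only [Fin.zero_eta, Matrix.cons_val_zero, div_one]
      exact one_mem _
    · exact Algebra.subset_adjoin ⟨0, by simp⟩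
    · exact Algebra.subset_adjoin ⟨1, by simp⟩
  · apply Algebra.adjoin_le
    rintro _ ⟨i, rfl⟩
    fin_cases i
    · exact Algebra.subset_adjoin ⟨1, by simp⟩
    · exact Algebra.subset_adjoin ⟨2, by simp⟩

/-- **the conductor of the local ring of a plane curve at a finite point is nonzero** -/
theorem exists_conductor_aff [IsAlgClosed k] (hK : IsFunctionField k K) (x y : K)
    (hxy : IntermediateField.adjoin k ({x, y} : Set K) = ⊤)
    (f : MvPolynomial (Fin 2) k) (hf : Irreducible f) (hfxy : aeval ![x, y] f = 0)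
    (P : FunFld.Place k K) (c : Fin 2 → k)
    (hc : ∀ i, v P (![x, y] i - algebraMap k K (c i)) < 1) :
    ∃ N : ℕ, LT (Fib ![x, y] c) (fun _ => -(N : ℤ)) ≤ Oloc P ![x, y] := by
  by_cases hli : LinearIndependent k ![(1 : K), x, y]
  · have hbir : IntermediateField.adjoin k
        (Set.range fun i => ![(1 : K), x, y] i / ![(1 : K), x, y] 0) = ⊤ := by
      rw [eq_top_iff, ← hxy, IntermediateField.adjoin_le_iff]
      rintro z (rfl | rfl)
      · exact IntermediateField.subset_adjoin _ _ ⟨1, by simp⟩
      · exact IntermediateField.subset_adjoin _ _ ⟨2, by simp⟩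
    obtain ⟨N, hN⟩ := Groth.Agent.Lib.Helper2.Cond.exists_conductor hK (n := 2) (by norm_num)
      ![(1 : K), x, y] hli hbir P
    refine ⟨N, fun z hz => ?_⟩
    have h1 := hN z (fun Q hQ => hz Q ((sameImage_iff x y c P Q hc).1 hQ))
    have hj : ∀ i, v P (![(1 : K), x, y] i) ≤ v P (![(1 : K), x, y] 0) := by
      intro i
      simp only [Matrix.cons_val_zero, map_one]
      fin_cases i
      · simp
      · exact v_le_one_of_hb P ![x, y] c hc 0
      · exact v_le_one_of_hb P ![x, y] c hc 1
    rw [Groth.Agent.Lib.Helper26.LocRing2.inLocRing_iff ![(1 : K), x, y] P 0 (by simp) hj,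
      adjoin_ratio_eq] at h1
    exact h1
  · refine ⟨0, fun z hz => ?_⟩
    apply oloc_of_dependent hK x y hxy f hf hfxy P c hc hli
    have := hz P hc
    simpa using this

end Groth.Agent.Lib.Helper2.IM
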