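import Mathlib
import Groth.Agent.Lib.Helper2.FunFld.IM2
import Groth.Agent.Lib.Helper2.FunFld.Gaps

set_option autoImplicit false
open scoped WithZero IntermediateField
open FunFld MvPolynomial
open Groth.Agent.Lib.Helper2.FF Groth.Agent.Lib.Helper2.RelDim Groth.Agent.Lib.Helper2.SL
  Groth.Agent.Lib.Helper2.Jac

namespace Groth.Agent.Lib.Helper2.IM

variable {k K : Type*} [Field k] [Field K] [Algebra k K]

/-- multiplying the semilocal ring by a function -/
theorem map_mul_LT (T : Set (FunFld.Place k K)) (γ : K) (hγ0 : γ ≠ 0) :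
    (LT T (fun _ => 0)).map (LinearMap.mulLeft k γ) = LT T (fun Q => - Q.ord γ) := by
  ext z
  rw [Submodule.mem_map, mem_LT]
  constructor
  · rintro ⟨w, hw, rfl⟩ Q hQ
    rw [LinearMap.mulLeft_apply, map_mul, v_eq_exp_neg_ord Q hγ0]
    have := hw Q hQ
    simp only [WithZero.exp_zero] at this
    calc WithZero.exp (-Q.ord γ) * v Q w ≤ WithZero.exp (-Q.ord γ) * 1 := mul_le_mul' le_rfl this
      _ = _ := mul_one _
  · intro h
    refine ⟨γ⁻¹ * z, ?_, ?_⟩
    · intro Q hQ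
      have := h Q hQ
      rw [map_mul, map_inv₀, v_eq_exp_neg_ord Q hγ0, WithZero.exp_zero]
      rw [← WithZero.exp_neg, neg_neg]
      calc WithZero.exp (Q.ord γ) * v Q z ≤ WithZero.exp (Q.ord γ) * WithZero.exp (-Q.ord γ) :=
            mul_le_mul' le_rfl this
        _ = 1 := by rw [← WithZero.exp_add]; simp
    · rw [LinearMap.mulLeft_apply, ← mul_assoc, mul_inv_cancel₀ hγ0, one_mul]

/-- **the colength of a principal ideal of the local ring is the sum of the orders** -/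
theorem idx_mul_Oloc [IsAlgClosed k] (hK : IsFunctionField k K) (P : FunFld.Place k K)
    (ψ : Fin 2 → K) (c : Fin 2 → k)
    (hc : ∀ i, v P (ψ i - algebraMap k K (c i)) < 1)
    (hT : (Fib ψ c).Finite) (N : ℕ)
    (hcond : LT (Fib ψ c) (fun _ => -(N : ℤ)) ≤ Oloc P ψ)
    (γ : K) (hγ : γ ∈ Algebra.adjoin k (Set.range ψ)) (hγ0 : γ ≠ 0) :
    FinIdx ((Oloc P ψ).map (LinearMap.mulLeft k γ)) (Oloc P ψ) ∧
      (idx ((Oloc P ψ).map (LinearMap.mulLeft k γ)) (Oloc P ψ) : ℤ) =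
        ∑ Q ∈ hT.toFinset, Q.ord γ := by
  set T := Fib ψ c with hTdef
  set O := Oloc P ψ with hO
  set Ot := LT T (fun _ => 0) with hOt
  set m := LinearMap.mulLeft k γ with hm
  have hminj : Function.Injective m := fun a b hab => mul_left_cancel₀ hγ0 hab
  have hOOt : O ≤ Ot := Oloc_le_LT hc
  have hord : ∀ Q ∈ T, 0 ≤ Q.ord γ := by
    intro Q hQ
    rw [← v_le_one_iff Q hγ0]
    exact v_le_one_of_mem_adjoin Q ψ c hQ hγ
  -- finiteness
  have h1 := idx_LT T hK hT (fun _ => -(N : ℤ)) (fun _ => 0) (fun Q _ => by simp)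
  have hfinOOt : FinIdx O Ot := FinIdx.right hcond hOOt h1.1
  have hmOt : Ot.map m = LT T (fun Q => - Q.ord γ) := map_mul_LT T γ hγ0
  have h2 := idx_LT T hK hT (fun Q => - Q.ord γ) (fun _ => 0)
    (fun Q hQ => by have := hord Q hQ; omega)
  rw [← hmOt] at h2
  have hmO_O : O.map m ≤ O := by
    rintro _ ⟨w, hw, rfl⟩
    exact mul_mem_Oloc P ψ (adjoin_le_Oloc P ψ hγ) hw
  have hmO_mOt : O.map m ≤ Ot.map m := Submodule.map_mono hOOt
  have hmOt_Ot : Ot.map m ≤ Ot := by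
    rw [hmOt]
    exact LT_mono (fun Q hQ => by have := hord Q hQ; omega)
  have hfin3 : FinIdx (O.map m) (Ot.map m) := (finIdx_map m hminj O Ot).2 hfinOOt
  have hfin4 : FinIdx (O.map m) Ot := hfin3.trans hmO_mOt hmOt_Ot h2.1
  have hfin5 : FinIdx (O.map m) O := FinIdx.left hmO_O hOOt hfin4
  refine ⟨hfin5, ?_⟩
  have e1 := idx_add hmO_O hOOt hfin5 hfinOOt
  have e2 := idx_add hmO_mOt hmOt_Ot hfin3 h2.1
  have e3 := idx_map m hminj O Ot
  have e4 : idx (O.map m) O = idx (Ot.map m) Ot := by omega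
  rw [e4, h2.2]
  apply Finset.sum_congr rfl
  intro Q _
  rw [deg_eq_one_of_isAlgClosed hK Q]
  simp

end Groth.Agent.Lib.Helper2.IM
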