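import Mathlib
import Groth.Agent.Lib.Helper2.RelDim

set_option autoImplicit false
open Groth.Agent.Lib.Helper2.RelDim

namespace Groth.Agent.Lib.Helper2.IM

section Abstract

variable {k R S K : Type*} [Field k] [CommRing R] [Algebra k R] [CommRing S] [Algebra R S]
  [Algebra k S] [IsScalarTower k R S] [Field K] [Algebra k K]
  (M : Ideal R) [M.IsPrime] [IsLocalization.AtPrime S M]
  (φ : R →ₐ[k] K) (hφ : ∀ y : M.primeCompl, IsUnit (φ y))

/-- the lift of `φ` to the local ring -/
noncomputable def Lam : S →ₐ[k] K := IsLocalization.liftAlgHom (M := M.primeCompl) hφ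

theorem Lam_algebraMap (r : R) : Lam M φ hφ (algebraMap R S r) = φ r := by
  unfold Lam
  rw [IsLocalization.liftAlgHom_apply, IsLocalization.lift_eq]
  rfl

theorem ker_Lam (f : R) (hker : RingHom.ker φ = Ideal.span {f}) :
    RingHom.ker (Lam (S := S) M φ hφ) = Ideal.span {algebraMap R S f} := by
  apply le_antisymm
  · intro z hz
    obtain ⟨r, s, rfl⟩ := IsLocalization.exists_mk'_eq M.primeCompl z
    rw [RingHom.mem_ker] at hz
    have h1 : Lam M φ hφ (IsLocalization.mk' S r s) * φ s = φ r := by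
      rw [← Lam_algebraMap (S := S) M φ hφ s, ← map_mul, IsLocalization.mk'_spec,
        Lam_algebraMap]
    rw [hz, zero_mul] at h1
    have h2 : r ∈ RingHom.ker φ := h1.symm
    rw [hker, Ideal.mem_span_singleton'] at h2
    obtain ⟨a, rfl⟩ := h2
    rw [Ideal.mem_span_singleton']
    refine ⟨IsLocalization.mk' S a s, ?_⟩
    rw [mul_comm, IsLocalization.mul_mk'_eq_mk'_of_mul, mul_comm]
  · rw [Ideal.span_le, Set.singleton_subset_iff, SetLike.mem_coe, RingHom.mem_ker, Lam_algebraMap]
    have : f ∈ RingHom.ker φ := by rw [hker]; exact Ideal.mem_span_singleton_self f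
    exact this

/-- `dim S/(f, g) = dim O/ḡO` where `O ≅ S/(f)` is the image of the local ring -/
theorem finrank_quot_eq_idx (f g : R) (hker : RingHom.ker φ = Ideal.span {f}) :
    Module.finrank k (S ⧸ Ideal.map (algebraMap R S) (Ideal.span {f, g})) =
      idx ((LinearMap.range (Lam (S := S) M φ hφ).toLinearMap).map (LinearMap.mulLeft k (φ g)))
        (LinearMap.range (Lam (S := S) M φ hφ).toLinearMap) := by
  set Λ := Lam (S := S) M φ hφ with hΛ
  set O := LinearMap.range Λ.toLinearMap with hO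
  set m := LinearMap.mulLeft k (φ g) with hm
  let Θ : S →ₗ[k] RQ (O.map m) O := ((O.map m).submoduleOf O).mkQ.comp Λ.toLinearMap.rangeRestrict
  have hsurj : Function.Surjective Θ :=
    (Submodule.mkQ_surjective _).comp Λ.toLinearMap.surjective_rangeRestrict
  set I := Ideal.map (algebraMap R S) (Ideal.span {f, g}) with hI
  have hkerΘ : LinearMap.ker Θ = I.restrictScalars k := by
    ext s
    rw [LinearMap.mem_ker, Submodule.restrictScalars_mem]
    simp only [Θ, LinearMap.comp_apply, Submodule.mkQ_apply]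
    rw [Submodule.Quotient.mk_eq_zero]
    change Λ s ∈ O.map m ↔ _
    rw [hI, Ideal.map_span, Set.image_pair, Ideal.mem_span_pair]
    constructor
    · rintro ⟨w, ⟨t, rfl⟩, hw⟩
      have h1 : s - algebraMap R S g * t ∈ RingHom.ker Λ := by
        rw [RingHom.mem_ker, map_sub, map_mul, Lam_algebraMap, sub_eq_zero]
        exact hw.symm
      rw [ker_Lam M φ hφ f hker, Ideal.mem_span_singleton'] at h1
      obtain ⟨a, ha⟩ := h1
      exact ⟨a, t, by rw [ha]; ring⟩
    · rintro ⟨a, b, rfl⟩
      refine ⟨Λ b, ⟨b, rfl⟩, ?_⟩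
      have hf0 : φ f = 0 := by
        have : f ∈ RingHom.ker φ := by rw [hker]; exact Ideal.mem_span_singleton_self f
        exact this
      rw [map_add, map_mul, map_mul, Lam_algebraMap, Lam_algebraMap, hf0, mul_zero, zero_add,
        mul_comm]
      rfl
  have e1 : (S ⧸ LinearMap.ker Θ) ≃ₗ[k] RQ (O.map m) O := Θ.quotKerEquivOfSurjective hsurj
  have e2 : (S ⧸ I.restrictScalars k) ≃ₗ[k] (S ⧸ I) := Submodule.Quotient.restrictScalarsEquiv k I
  have e3 : (S ⧸ LinearMap.ker Θ) ≃ₗ[k] (S ⧸ I.restrictScalars k) :=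
    Submodule.quotEquivOfEq _ _ hkerΘ
  unfold idx
  rw [← e2.finrank_eq, ← e3.finrank_eq, e1.finrank_eq]

end Abstract

end Groth.Agent.Lib.Helper2.IM
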