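import Mathlib
import Groth.Agent.Lib.Helper2.FunFld.IM3
import Groth.Agent.Lib.Helper2.FunFld.IM4

set_option autoImplicit false
open scoped WithZero IntermediateField
open FunFld MvPolynomial
open Groth.Agent.Lib.Helper2.FF Groth.Agent.Lib.Helper2.RelDim Groth.Agent.Lib.Helper2.SL
  Groth.Agent.Lib.Helper2.Jac

namespace Groth.Agent.Lib.Helper2.IM

variable {k K : Type*} [Field k] [Field K] [Algebra k K]

section

variable {σ : Type*} [Fintype σ] [DecidableEq σ] (P : FunFld.Place k K) (ψ : σ → K) (c : σ → k)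
  (hc : ∀ l, v P (ψ l - algebraMap k K (c l)) < 1)

include hc in
theorem v_aeval_eq_one (W : MvPolynomial σ k) (h : eval c W ≠ 0) : v P (aeval ψ W) = 1 := by
  have h2 := v_taylor0 P ψ c hc W
  have h3 : v P (algebraMap k K (eval c W)) = 1 := v_algebraMap P h
  have e : aeval ψ W = (aeval ψ W - algebraMap k K (eval c W)) + algebraMap k K (eval c W) := by
    ring
  rw [e, Valuation.map_add_eq_of_lt_right]
  · exact h3
  · rw [h3]; exact (lt_one_iff_le_exp _).2 h2

omit [Fintype σ] [DecidableEq σ] in
/-- the maximal ideal of a point is the kernel of evaluation -/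
theorem mem_span_iff_eval (r : MvPolynomial σ k) :
    r ∈ Ideal.span (Set.range fun l => (X l - C (c l) : MvPolynomial σ k)) ↔ eval c r = 0 := by
  constructor
  · intro h
    have hle : Ideal.span (Set.range fun l => (X l - C (c l) : MvPolynomial σ k)) ≤
        RingHom.ker (eval c) := by
      rw [Ideal.span_le]
      rintro _ ⟨l, rfl⟩
      simp
    exact hle h
  · intro h
    have h1 := aeval_sub_aeval_mem (k := k) (fun l => (X l : MvPolynomial σ k))
      (fun l => C (c l)) r
    have h2 : aeval (fun l => (X l : MvPolynomial σ k)) r = r := by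
      have : (fun l => (X l : MvPolynomial σ k)) = X := rfl
      rw [this, aeval_X_left]; rfl
    have h3 : aeval (fun l => (C (c l) : MvPolynomial σ k)) r = C (eval c r) :=
      aeval_algebraMap_eq (S := MvPolynomial σ k) c r
    rw [h2, h3, h, map_zero, sub_zero] at h1
    exact h1

end

set_option maxHeartbeats 1000000 in
/-- **intersection multiplicity = dimension of the local quotient** -/
theorem intersection_mult [IsAlgClosed k] (hK : IsFunctionField k K) (x y : K)
    (hxy : IntermediateField.adjoin k ({x, y} : Set K) = ⊤) (f g : MvPolynomial (Fin 2) k)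
    (hf : Irreducible f) (hfxy : aeval ![x, y] f = 0)
    (hgxy : aeval ![x, y] g ≠ 0) (P : FunFld.Place k K) (c : Fin 2 → k)
    (hc : ∀ i, v P (![x, y] i - algebraMap k K (c i)) < 1)
    (M : Ideal (MvPolynomial (Fin 2) k)) [M.IsMaximal]
    (hM : M = Ideal.span {X 0 - C (c 0), X 1 - C (c 1)}) :
    ∑ᶠ Q ∈ {Q : FunFld.Place k K | SameImage ![(1 : K), x, y] P Q},
        Q.ord (aeval ![x, y] g) =
      (Module.finrank k (Localization.AtPrime M ⧸
        Ideal.map (algebraMap (MvPolynomial (Fin 2) k) (Localization.AtPrime M))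
          (Ideal.span {f, g})) : ℤ) := by
  classical
  set ψ : Fin 2 → K := ![x, y] with hψ
  have hfrac : IntermediateField.adjoin k (Set.range ψ) = ⊤ := by rw [hψ, range_xy, hxy]
  have hT : (Fib ψ c).Finite := fib_finite hK hfrac
  have hset : {Q : FunFld.Place k K | SameImage ![(1 : K), x, y] P Q} = Fib ψ c := by
    ext Q
    exact sameImage_iff x y c P Q hc
  rw [hset, finsum_mem_eq_finite_toFinset_sum _ hT]
  obtain ⟨N, hN⟩ := exists_conductor_aff hK x y hxy f hf hfxy P c hc
  have hγ : aeval ψ g ∈ Algebra.adjoin k (Set.range ψ) := (mem_adjoin_iff_aeval ψ).2 ⟨g, rfl⟩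
  obtain ⟨-, hidx⟩ := idx_mul_Oloc hK P ψ c hc hT N hN (aeval ψ g) hγ hgxy
  rw [← hidx]
  -- the maximal ideal
  have hMmem : ∀ r : MvPolynomial (Fin 2) k, r ∈ M ↔ eval c r = 0 := by
    intro r
    rw [← mem_span_iff_eval c r, hM]
    have : Set.range (fun l => (X l - C (c l) : MvPolynomial (Fin 2) k)) =
        {X 0 - C (c 0), X 1 - C (c 1)} := by
      ext z
      simp only [Set.mem_range, Set.mem_insert_iff, Set.mem_singleton_iff]
      constructor
      · rintro ⟨i, rfl⟩
        fin_cases i
        · left; rfl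
        · right; rfl
      · rintro (rfl | rfl)
        · exact ⟨0, rfl⟩
        · exact ⟨1, rfl⟩
    rw [this]
  set φ : MvPolynomial (Fin 2) k →ₐ[k] K := aeval ψ with hφdef
  have hφ : ∀ r : M.primeCompl, IsUnit (φ r) := by
    intro r
    have h1 : eval c (r : MvPolynomial (Fin 2) k) ≠ 0 := fun h => r.2 ((hMmem _).2 h)
    have h2 := v_aeval_eq_one P ψ c hc _ h1
    apply IsUnit.mk0
    intro h0
    rw [hφdef] at h0
    rw [h0, map_zero] at h2
    exact zero_ne_one h2
  have hker : RingHom.ker φ = Ideal.span {f} := ker_eq_span_of_irreducible hK x y hxy f hf hfxy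
  have hfin := finrank_quot_eq_idx (S := Localization.AtPrime M) M φ hφ f g hker
  rw [hfin]
  have hrange : LinearMap.range (Lam (S := Localization.AtPrime M) M φ hφ).toLinearMap =
      Oloc P ψ := by
    ext z
    rw [LinearMap.mem_range, mem_Oloc]
    constructor
    · rintro ⟨s, rfl⟩
      obtain ⟨r, t, rfl⟩ := IsLocalization.exists_mk'_eq M.primeCompl s
      refine ⟨φ r, (mem_adjoin_iff_aeval ψ).2 ⟨r, rfl⟩, φ t, (mem_adjoin_iff_aeval ψ).2 ⟨t, rfl⟩,
        ?_, ?_⟩
      · exact v_aeval_eq_one P ψ c hc _ (fun h => t.2 ((hMmem _).2 h))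
      · change Lam M φ hφ (IsLocalization.mk' _ r t) * φ t = φ r
        rw [← Lam_algebraMap (S := Localization.AtPrime M) M φ hφ t, ← map_mul,
          IsLocalization.mk'_spec, Lam_algebraMap]
    · rintro ⟨u, hu, w, hw, hvw, hzw⟩
      obtain ⟨U, rfl⟩ := (mem_adjoin_iff_aeval ψ).1 hu
      obtain ⟨W, rfl⟩ := (mem_adjoin_iff_aeval ψ).1 hw
      have hW : W ∈ M.primeCompl := by
        intro hWM
        exact eval_ne_zero_of_v_eq_one P ψ c hc W hvw ((hMmem W).1 hWM)
      refine ⟨IsLocalization.mk' _ U ⟨W, hW⟩, ?_⟩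
      have hW0 : aeval ψ W ≠ 0 := by
        intro h0
        rw [h0, map_zero] at hvw
        exact zero_ne_one hvw
      apply mul_right_cancel₀ hW0
      rw [hzw]
      change Lam M φ hφ (IsLocalization.mk' _ U ⟨W, hW⟩) * φ W = φ U
      have := Lam_algebraMap (S := Localization.AtPrime M) M φ hφ W
      rw [← this, ← map_mul]
      have h2 := IsLocalization.mk'_spec (Localization.AtPrime M) U ⟨W, hW⟩
      rw [h2, Lam_algebraMap]
  rw [hrange]

end Groth.Agent.Lib.Helper2.IM
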