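import Mathlib
import Groth.Prelude.Def_W4bk4goldsch23FF
import Groth.Agent.Lib.Helper9.FunFld
import Groth.Agent.Lib.Helper9.FunFldSep
import Groth.Agent.Lib.Helper7.DimFT

set_option autoImplicit false
open TensorProduct IntermediateField
open scoped IntermediateField

namespace Groth.Agent.Lib.Helper2.FF

universe u v

section Core

variable {k : Type u} {K : Type v} [Field k] [Field K] [Algebra k K]
variable (k' : Type u) [Field k'] [Algebra k k']

/-- base change of an evaluation map -/
noncomputable def Psi (ev : MvPolynomial (Fin 2) k →ₐ[k] K) :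
    k' ⊗[k] MvPolynomial (Fin 2) k →ₐ[k'] k' ⊗[k] K :=
  Algebra.TensorProduct.map (AlgHom.id k' k') ev

theorem Psi_tmul (ev : MvPolynomial (Fin 2) k →ₐ[k] K) (c : k') (r : MvPolynomial (Fin 2) k) :
    Psi k' ev (c ⊗ₜ r) = c ⊗ₜ ev r := by
  simp [Psi]

theorem ker_Psi (ev : MvPolynomial (Fin 2) k →ₐ[k] K) (f : MvPolynomial (Fin 2) k)
    (hker : RingHom.ker ev = Ideal.span {f}) :
    RingHom.ker (Psi k' ev) = Ideal.span {(1 : k') ⊗ₜ[k] f} := by
  classical
  apply le_antisymm
  · intro g hg
    rw [RingHom.mem_ker] at hg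
    let ℬ := Module.Free.chooseBasis k k'
    obtain ⟨c, rfl⟩ := TensorProduct.eq_repr_basis_left ℬ g
    have h1 : (c.mapRange ev (map_zero ev)).sum (fun i n => ℬ i ⊗ₜ[k] n) = 0 := by
      rw [Finsupp.sum_mapRange_index (by intro i; simp)]
      rw [← hg]
      simp only [Finsupp.sum]
      rw [map_sum]
      refine Finset.sum_congr rfl ?_
      intro i _
      rw [Psi_tmul]
    have h2 := TensorProduct.sum_tmul_basis_left_eq_zero ℬ _ h1
    rw [Finsupp.sum]
    refine Ideal.sum_mem _ ?_
    intro i _
    have h3 : ev (c i) = 0 := by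
      have := DFunLike.congr_fun h2 i
      simpa using this
    have h4 : c i ∈ Ideal.span {f} := by rw [← hker]; exact h3
    obtain ⟨q, hq⟩ := Ideal.mem_span_singleton'.1 h4
    rw [Ideal.mem_span_singleton']
    refine ⟨ℬ i ⊗ₜ q, ?_⟩
    rw [Algebra.TensorProduct.tmul_mul_tmul, mul_one, hq]
  · rw [Ideal.span_le, Set.singleton_subset_iff, SetLike.mem_coe, RingHom.mem_ker, Psi_tmul]
    have : ev f = 0 := by
      have : f ∈ RingHom.ker ev := by rw [hker]; exact Ideal.mem_span_singleton_self f
      exact this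
    rw [this, tmul_zero]

theorem isPrime_ker_Psi_iff (ev : MvPolynomial (Fin 2) k →ₐ[k] K) (f : MvPolynomial (Fin 2) k)
    (hker : RingHom.ker ev = Ideal.span {f}) :
    (RingHom.ker (Psi k' ev)).IsPrime ↔
      (Ideal.span {MvPolynomial.map (algebraMap k k') f}).IsPrime := by
  rw [ker_Psi k' ev f hker]
  let e := MvPolynomial.algebraTensorAlgEquiv (σ := Fin 2) k k'
  have he : Ideal.map e (Ideal.span {(1 : k') ⊗ₜ[k] f})
      = Ideal.span {MvPolynomial.map (algebraMap k k') f} := by
    rw [Ideal.map_span, Set.image_singleton, MvPolynomial.algebraTensorAlgEquiv_tmul, one_smul]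
  rw [← he]
  constructor
  · intro h
    exact Ideal.map_isPrime_of_equiv e
  · intro h
    have : Ideal.span {(1 : k') ⊗ₜ[k] f}
        = Ideal.comap e (Ideal.map e (Ideal.span {(1 : k') ⊗ₜ[k] f})) :=
      (Ideal.comap_map_of_bijective e e.bijective).symm
    rw [this]
    exact Ideal.comap_isPrime e _

end Core

section Forward

variable {k : Type u} {K : Type v} [Field k] [Field K] [Algebra k K]

open Groth.Agent.Lib.Helper9.FunFld Groth.Agent.Lib.Helper7.DimFT

theorem exists_plane_model (hK : FunFld.IsFunctionField k K) (hg : FunFld.IsGeometric k K) :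
    ∃ (x y : K) (f : MvPolynomial (Fin 2) k),
      IntermediateField.adjoin k ({x, y} : Set K) = ⊤ ∧
      (∀ (k' : Type u) [Field k'] [Algebra k k'], FiniteDimensional k k' →
        Irreducible (MvPolynomial.map (algebraMap k k') f)) ∧
      RingHom.ker (MvPolynomial.aeval ![x, y] : MvPolynomial (Fin 2) k →ₐ[k] K)
        = Ideal.span {f} := by
  classical
  obtain ⟨⟨x₁, hx₁, hfin⟩, hcl⟩ := hK
  obtain ⟨t, ht, hsep⟩ := exists_separating_variable hx₁ hfin hg
  haveI hfin' : FiniteDimensional k⟮t⟯ K := finite_adjoin_of_transcendental hx₁ hfin ht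
  obtain ⟨α, hα⟩ := Field.exists_primitive_element k⟮t⟯ K
  have hxy : IntermediateField.adjoin k ({t, α} : Set K) = ⊤ := by
    have := IntermediateField.adjoin_adjoin_left k ({t} : Set K) ({α} : Set K)
    rw [hα, IntermediateField.restrictScalars_top, Set.singleton_union] at this
    exact this.symm
  obtain ⟨ev, hev⟩ : ∃ ev : MvPolynomial (Fin 2) k →ₐ[k] K, ev = MvPolynomial.aeval ![t, α] :=
    ⟨_, rfl⟩
  have hprime : (RingHom.ker ev).IsPrime := RingHom.ker_isPrime ev
  have hne : RingHom.ker ev ≠ ⊥ := by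
    intro h0
    have hinj : Function.Injective ev := (RingHom.injective_iff_ker_eq_bot _).2 h0
    have hind : AlgebraicIndependent k ![t, α] := by
      rw [hev] at hinj
      exact hinj
    have h1 := hind.transcendental_adjoin (s := {0}) (i := 1) (by simp)
    have h2 : (![t, α] '' {0}) = {t} := by simp
    rw [h2] at h1
    have h3 : Transcendental k⟮t⟯ α := IntermediateField.transcendental_adjoin_iff.2 h1
    exact h3 (Algebra.IsAlgebraic.isAlgebraic α)
  obtain ⟨f, hfp, hfprime⟩ := Ideal.IsPrime.exists_mem_prime_of_ne_bot hprime hne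
  have hle : Ideal.span {f} ≤ RingHom.ker ev := (Ideal.span_singleton_le_iff_mem _).2 hfp
  haveI hq : (Ideal.span {f}).IsPrime := (Ideal.span_singleton_prime hfprime.ne_zero).2 hfprime
  have heq : RingHom.ker ev = Ideal.span {f} := by
    by_contra hne'
    have hlt : Ideal.span {f} < RingHom.ker ev := lt_of_le_of_ne hle (Ne.symm hne')
    have hmax : (RingHom.ker ev).IsMaximal := by
      by_contra hnm
      obtain ⟨𝔪, h𝔪, hle'⟩ := Ideal.exists_le_maximal (RingHom.ker ev) hprime.ne_top
      have hlt' : RingHom.ker ev < 𝔪 := lt_of_le_of_ne hle' (by rintro rfl; exact hnm h𝔪)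
      have h1 : (Ideal.span {f}).height ≠ 0 := by
        rw [Ne, Ideal.height_eq_zero_iff_eq_bot]
        simpa using hfprime.ne_zero
      have h2 := Ideal.height_strict_mono_of_isPrime hlt
      have h3 := Ideal.height_strict_mono_of_isPrime hlt'
      have h4 := height_eq_of_isMaximal_mvPolynomial k 2 𝔪 h𝔪
      have h5 : (1 : ℕ∞) ≤ (Ideal.span {f}).height := ENat.one_le_iff_ne_zero.2 h1
      have h6 := Order.add_one_le_of_lt h2
      have h7 := Order.add_one_le_of_lt h3
      rw [h4] at h7
      have h8 : (1 : ℕ∞) + 1 + 1 ≤ 2 := by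
        refine le_trans ?_ h7
        gcongr
        exact le_trans (by gcongr) h6
      exact absurd h8 (by decide)
    letI := Ideal.Quotient.field (RingHom.ker ev)
    haveI : Module.Finite k (MvPolynomial (Fin 2) k ⧸ RingHom.ker ev) :=
      finite_of_finite_type_of_isJacobsonRing k _
    let ι : (MvPolynomial (Fin 2) k ⧸ RingHom.ker ev) →ₐ[k] K :=
      Ideal.Quotient.liftₐ (RingHom.ker ev) ev (fun a ha => ha)
    have hint : IsIntegral k (Ideal.Quotient.mk (RingHom.ker ev) (MvPolynomial.X 0)) :=
      Algebra.IsIntegral.isIntegral _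
    have hint' := hint.map ι
    have hι : ι (Ideal.Quotient.mk (RingHom.ker ev) (MvPolynomial.X 0)) = t := by
      change ev (MvPolynomial.X 0) = t
      rw [hev, MvPolynomial.aeval_X]
      rfl
    rw [hι] at hint'
    exact ht hint'.isAlgebraic
  refine ⟨t, α, f, hxy, ?_, by rw [← hev]; exact heq⟩
  intro k' _ _ hfd
  have hfield := hg k' hfd
  haveI : IsDomain (k' ⊗[k] K) := hfield.isDomain
  have hP : (RingHom.ker (Psi k' ev)).IsPrime := RingHom.ker_isPrime _
  have hP' := (isPrime_ker_Psi_iff k' ev f heq).1 hP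
  have hmap0 : MvPolynomial.map (algebraMap k k') f ≠ 0 := by
    intro h0
    apply hfprime.ne_zero
    exact MvPolynomial.map_injective _ (algebraMap k k').injective (by rw [h0, map_zero])
  exact ((Ideal.span_singleton_prime hmap0).1 hP').irreducible

end Forward

section Backward

variable {k : Type u} {K : Type v} [Field k] [Field K] [Algebra k K]

open Groth.Agent.Lib.Helper9.FunFld Groth.Agent.Lib.Helper7.DimFT

theorem algebraicIndependent_of_transcendental (v : Fin 2 → K) (i j : Fin 2) (hij : i ≠ j)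
    (hi : Transcendental k (v i)) (hj : Transcendental k⟮v i⟯ (v j)) :
    AlgebraicIndependent k v := by
  rw [AlgebraicIndependent.iff_transcendental_adjoin_image j]
  constructor
  · letI : Unique {l : Fin 2 // l ≠ j} :=
      ⟨⟨⟨i, hij⟩⟩, fun l => Subtype.ext (by
        have := l.2
        change (l : Fin 2) = i
        omega)⟩
    rw [algebraicIndependent_unique_type_iff]
    exact hi
  · have h2 : (v '' {j}ᶜ) = {v i} := by
      ext z
      simp only [Set.mem_image, Set.mem_compl_iff, Set.mem_singleton_iff]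
      constructor
      · rintro ⟨l, hl, rfl⟩
        have : l = i := by omega
        rw [this]
      · rintro rfl
        exact ⟨i, hij, rfl⟩
    rw [h2]
    exact IntermediateField.transcendental_adjoin_iff.1 hj

theorem finite_of_relation (v : Fin 2 → K) (i j : Fin 2) (hij : i ≠ j)
    (hi : Transcendental k (v i)) (hnot : ¬ AlgebraicIndependent k v)
    (htop : IntermediateField.adjoin k (Set.range v) = ⊤) :
    FiniteDimensional k⟮v i⟯ K := by
  have halg : IsAlgebraic k⟮v i⟯ (v j) := by
    by_contra h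
    exact hnot (algebraicIndependent_of_transcendental v i j hij hi h)
  have hr : Set.range v = {v i} ∪ {v j} := by
    ext z
    simp only [Set.mem_range, Set.mem_union, Set.mem_singleton_iff]
    constructor
    · rintro ⟨l, rfl⟩
      have : l = i ∨ l = j := by omega
      rcases this with rfl | rfl
      · exact Or.inl rfl
      · exact Or.inr rfl
    · rintro (rfl | rfl)
      · exact ⟨i, rfl⟩
      · exact ⟨j, rfl⟩
  have h1 := IntermediateField.adjoin_adjoin_left k ({v i} : Set K) ({v j} : Set K)
  rw [← hr, htop] at h1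
  have h2 : IntermediateField.adjoin k⟮v i⟯ ({v j} : Set K) = ⊤ := by
    apply IntermediateField.restrictScalars_injective k
    rw [h1, IntermediateField.restrictScalars_top]
  haveI := IntermediateField.adjoin.finiteDimensional halg.isIntegral
  rw [h2] at this
  exact (IntermediateField.topEquiv (F := k⟮v i⟯) (E := K)).toLinearEquiv.finiteDimensional

theorem exists_denom (k' : Type u) [Field k'] [Algebra k k']
    (ev : MvPolynomial (Fin 2) k →ₐ[k] K)
    (hfrac : ∀ z : K, ∃ a d, ev d ≠ 0 ∧ ev d * z = ev a) (u : k' ⊗[k] K) :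
    ∃ d : MvPolynomial (Fin 2) k, ev d ≠ 0 ∧
      ∃ g : k' ⊗[k] MvPolynomial (Fin 2) k, ((1 : k') ⊗ₜ[k] ev d) * u = Psi k' ev g := by
  induction u using TensorProduct.induction_on with
  | zero => exact ⟨1, by rw [map_one]; exact one_ne_zero, 0, by simp⟩
  | tmul c z =>
    obtain ⟨a, d, hd, hz⟩ := hfrac z
    refine ⟨d, hd, c ⊗ₜ a, ?_⟩
    rw [Psi_tmul, Algebra.TensorProduct.tmul_mul_tmul, one_mul, hz]
  | add u v hu hv =>
    obtain ⟨d₁, hd₁, g₁, hg₁⟩ := hu
    obtain ⟨d₂, hd₂, g₂, hg₂⟩ := hv
    refine ⟨d₁ * d₂, by rw [map_mul]; exact mul_ne_zero hd₁ hd₂,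
      ((1 : k') ⊗ₜ d₂) * g₁ + ((1 : k') ⊗ₜ d₁) * g₂, ?_⟩
    have e1 : Psi k' ev (((1 : k') ⊗ₜ d₂) * g₁ + ((1 : k') ⊗ₜ d₁) * g₂)
        = ((1 : k') ⊗ₜ[k] ev d₂) * Psi k' ev g₁ + ((1 : k') ⊗ₜ[k] ev d₁) * Psi k' ev g₂ := by
      rw [map_add, map_mul, map_mul, Psi_tmul, Psi_tmul]
    rw [e1, ← hg₁, ← hg₂, map_mul]
    have : ((1 : k') ⊗ₜ[k] (ev d₁ * ev d₂)) = ((1 : k') ⊗ₜ[k] ev d₁) * ((1 : k') ⊗ₜ[k] ev d₂) := by
      rw [Algebra.TensorProduct.tmul_mul_tmul, one_mul]
    rw [this]
    ring

theorem of_plane_model (x y : K) (f : MvPolynomial (Fin 2) k)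
    (hxy : IntermediateField.adjoin k ({x, y} : Set K) = ⊤)
    (hirr : ∀ (k' : Type u) [Field k'] [Algebra k k'], FiniteDimensional k k' →
      Irreducible (MvPolynomial.map (algebraMap k k') f))
    (hker : RingHom.ker (MvPolynomial.aeval ![x, y] : MvPolynomial (Fin 2) k →ₐ[k] K)
      = Ideal.span {f}) :
    FunFld.IsFunctionField k K ∧ FunFld.IsGeometric k K := by
  classical
  obtain ⟨ev, hev⟩ : ∃ ev : MvPolynomial (Fin 2) k →ₐ[k] K, ev = MvPolynomial.aeval ![x, y] :=
    ⟨_, rfl⟩
  rw [← hev] at hker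
  have hrange : Set.range ![x, y] = {x, y} := by
    ext z
    simp only [Set.mem_range, Set.mem_insert_iff, Set.mem_singleton_iff]
    constructor
    · rintro ⟨l, rfl⟩
      fin_cases l
      · exact Or.inl rfl
      · exact Or.inr rfl
    · rintro (rfl | rfl)
      · exact ⟨0, rfl⟩
      · exact ⟨1, rfl⟩
  have hf : Irreducible f := by
    have := hirr k inferInstance
    rwa [Algebra.algebraMap_self, MvPolynomial.map_id] at this
  have hf0 : f ≠ 0 := hf.ne_zero
  have hfrac : ∀ z : K, ∃ a d, ev d ≠ 0 ∧ ev d * z = ev a := by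
    intro z
    have hz : z ∈ IntermediateField.adjoin k ({x, y} : Set K) := by rw [hxy]; trivial
    rw [IntermediateField.mem_adjoin_iff_div] at hz
    obtain ⟨r, hr, s, hs, rfl⟩ := hz
    rw [← hrange, Algebra.adjoin_range_eq_range_aeval] at hr hs
    obtain ⟨a, ha⟩ := hr
    obtain ⟨d, hd⟩ := hs
    replace ha : (MvPolynomial.aeval ![x, y]) a = r := ha
    replace hd : (MvPolynomial.aeval ![x, y]) d = s := hd
    by_cases hs0 : s = 0
    · refine ⟨0, 1, by rw [map_one]; exact one_ne_zero, ?_⟩
      rw [hs0, div_zero, mul_zero, map_zero]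
    · refine ⟨a, d, ?_, ?_⟩
      · rw [hev]
        change (MvPolynomial.aeval ![x, y]) d ≠ 0
        rw [hd]; exact hs0
      · rw [hev]
        change (MvPolynomial.aeval ![x, y]) d * _ = (MvPolynomial.aeval ![x, y]) a
        rw [hd, ha]
        field_simp
  have hgeo : FunFld.IsGeometric k K := by
    intro k' _ _ hfd
    have hirr' := hirr k' hfd
    have hP' : (Ideal.span {MvPolynomial.map (algebraMap k k') f}).IsPrime := by
      rw [Ideal.span_singleton_prime hirr'.ne_zero]
      exact UniqueFactorizationMonoid.irreducible_iff_prime.1 hirr'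
    have hP := (isPrime_ker_Psi_iff k' ev f hker).2 hP'
    haveI : Nontrivial (k' ⊗[k] K) :=
      (Algebra.TensorProduct.includeRight_injective (R := k) (A := k') (B := K)
        (algebraMap k k').injective).nontrivial
    haveI : NoZeroDivisors (k' ⊗[k] K) := by
      refine ⟨fun {u v} huv => ?_⟩
      obtain ⟨d₁, hd₁, g₁, hg₁⟩ := exists_denom k' ev hfrac u
      obtain ⟨d₂, hd₂, g₂, hg₂⟩ := exists_denom k' ev hfrac v
      have hunit : ∀ (d : MvPolynomial (Fin 2) k) (w : k' ⊗[k] K), ev d ≠ 0 →
          ((1 : k') ⊗ₜ[k] ev d) * w = 0 → w = 0 := by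
        intro d w hd hw
        have : ((1 : k') ⊗ₜ[k] (ev d)⁻¹) * (((1 : k') ⊗ₜ[k] ev d) * w) = w := by
          rw [← mul_assoc, Algebra.TensorProduct.tmul_mul_tmul, one_mul, inv_mul_cancel₀ hd]
          exact one_mul w
        rw [← this, hw, mul_zero]
      have h0 : Psi k' ev (g₁ * g₂) = 0 := by
        rw [map_mul, ← hg₁, ← hg₂]
        calc ((1 : k') ⊗ₜ[k] ev d₁) * u * (((1 : k') ⊗ₜ[k] ev d₂) * v)
            = ((1 : k') ⊗ₜ[k] ev d₁) * ((1 : k') ⊗ₜ[k] ev d₂) * (u * v) := by ring
          _ = 0 := by rw [huv, mul_zero]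
      rcases hP.mem_or_mem (show g₁ * g₂ ∈ RingHom.ker (Psi k' ev) from h0) with h | h
      · left
        apply hunit d₁ u hd₁
        rw [hg₁]; exact h
      · right
        apply hunit d₂ v hd₂
        rw [hg₂]; exact h
    haveI : IsDomain (k' ⊗[k] K) := NoZeroDivisors.to_isDomain _
    haveI hdom : IsDomain (K ⊗[k] k') :=
      (Algebra.TensorProduct.comm k K k').toRingEquiv.injective.isDomain
        (Algebra.TensorProduct.comm k K k').toRingEquiv.toRingHom
    have hint : Algebra.IsIntegral k k' := Algebra.IsIntegral.of_finite k k'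
    have hfield : IsField (K ⊗[k] k') :=
      isField_of_isIntegral_of_isField' (R := K) (S := K ⊗[k] k') (Field.toIsField K)
    exact (Algebra.TensorProduct.comm k k' K).toMulEquiv.isField hfield
  have hcl : ∀ z : K, IsAlgebraic k z → z ∈ Set.range (algebraMap k K) :=
    fun z hz => mem_range_of_isGeometric hgeo z hz
  have hnot : ¬ AlgebraicIndependent k ![x, y] := by
    intro hind
    have hinj : Function.Injective ev := by rw [hev]; exact hind
    have := (RingHom.injective_iff_ker_eq_bot _).1 hinj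
    rw [hker, Ideal.span_singleton_eq_bot] at this
    exact hf0 this
  have htop : IntermediateField.adjoin k (Set.range ![x, y]) = ⊤ := by rw [hrange]; exact hxy
  refine ⟨⟨?_, hcl⟩, hgeo⟩
  by_cases hx : Transcendental k x
  · exact ⟨x, hx, finite_of_relation ![x, y] 0 1 (by decide) hx hnot htop⟩
  by_cases hy : Transcendental k y
  · exact ⟨y, hy, finite_of_relation ![x, y] 1 0 (by decide) hy hnot htop⟩
  exfalso
  rw [Transcendental, not_not] at hx hy
  -- the image of `ev` is a field, so the kernel is maximal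
  have hmax : (RingHom.ker ev).IsMaximal := by
    have halgK : Algebra.IsAlgebraic k K := by
      have h := IntermediateField.isAlgebraic_adjoin (K := k) (S := ({x, y} : Set K)) (by
        rintro z (rfl | rfl)
        · exact hx.isIntegral
        · exact hy.isIntegral)
      refine ⟨fun z => ?_⟩
      have hz : z ∈ IntermediateField.adjoin k ({x, y} : Set K) := by rw [hxy]; trivial
      have := h.isAlgebraic ⟨z, hz⟩
      exact IntermediateField.isAlgebraic_iff.1 this
    have hfld : IsField (ev.range) := Subalgebra.isField_of_algebraic _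
    letI := hfld.toField
    have hk2 : RingHom.ker ev = RingHom.ker ev.rangeRestrict := by
      ext a
      simp only [RingHom.mem_ker]
      constructor
      · intro ha
        exact Subtype.ext ha
      · intro ha
        exact congrArg Subtype.val ha
    rw [hk2]
    exact RingHom.ker_isMaximal_of_surjective ev.rangeRestrict ev.rangeRestrict_surjective
  rw [hker] at hmax
  have h1 := height_eq_of_isMaximal_mvPolynomial k 2 _ hmax
  have h2 := Ideal.height_span_singleton_le_one (x := f) hf.not_isUnit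
  rw [h1] at h2
  exact absurd h2 (by decide)

end Backward

end Groth.Agent.Lib.Helper2.FF
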