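import Mathlib
import Groth.Prelude.Def_W4bk4goldsch23FF
import Groth.Agent.Lib.Helper2.FunFld.Exists
import Groth.Agent.Lib.Helper26.PlaneModel2

set_option autoImplicit false
open Polynomial FunFld IntermediateField
open scoped IntermediateField.algebraAdjoinAdjoin

namespace Groth.Agent.Lib.Helper2.FF

section RatInt

variable {k L : Type*} [Field k] [IsAlgClosed k] [Field L] [Algebra k L]

/-- an element of `k(t)` integral at all places where `t` is integral is a polynomial in `t` -/
theorem exists_poly_of_forall_place (hL : IsFunctionField k L) (t : L) (ht : Transcendental k t)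
    (l : L) (p q : k[X]) (hq : aeval t q ≠ 0) (hl : l = aeval t p / aeval t q)
    (h : ∀ P : Place k L, P.1 t ≤ 1 → P.1 l ≤ 1) : ∃ r : k[X], l = aeval t r := by
  classical
  have hinj : Function.Injective (aeval (R := k) t) := transcendental_iff_injective.1 ht
  have hq0 : q ≠ 0 := by
    rintro rfl
    simp at hq
  obtain ⟨p', hp'⟩ := EuclideanDomain.gcd_dvd_left p q
  obtain ⟨q', hq'⟩ := EuclideanDomain.gcd_dvd_right p q
  obtain ⟨d, hd⟩ : ∃ d, d = EuclideanDomain.gcd p q := ⟨_, rfl⟩
  rw [← hd] at hp' hq'
  have hd0 : d ≠ 0 := by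
    intro h0
    rw [h0, zero_mul] at hq'
    exact hq0 hq'
  have hcop : IsCoprime p' q' := by
    have := EuclideanDomain.gcd_eq_gcd_ab p q
    rw [← hd] at this
    obtain ⟨A, hA⟩ : ∃ A, A = EuclideanDomain.gcdA p q := ⟨_, rfl⟩
    obtain ⟨B, hB⟩ : ∃ B, B = EuclideanDomain.gcdB p q := ⟨_, rfl⟩
    rw [← hA, ← hB] at this
    refine ⟨A, B, ?_⟩
    apply mul_left_cancel₀ hd0
    conv_rhs => rw [mul_one, this]
    conv_rhs => rw [hp', hq']
    ring
  have hdt : aeval t d ≠ 0 := by
    intro h0
    apply hd0
    apply hinj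
    rw [h0, map_zero]
  have hl' : l = aeval t p' / aeval t q' := by
    rw [hl, hp', hq', map_mul, map_mul, mul_div_mul_left _ _ hdt]
  have hq't : aeval t q' ≠ 0 := by
    intro h0
    apply hq
    rw [hq', map_mul, h0, mul_zero]
  by_cases hdeg : q'.degree = 0
  · have hC := Polynomial.eq_C_of_degree_eq_zero hdeg
    have hc0 : q'.coeff 0 ≠ 0 := by
      intro h0
      rw [h0, map_zero] at hC
      rw [hC, map_zero] at hq't
      exact hq't rfl
    refine ⟨C (q'.coeff 0)⁻¹ * p', ?_⟩
    rw [hl', map_mul, aeval_C]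
    conv_lhs => rw [hC, aeval_C]
    rw [map_inv₀, div_eq_inv_mul]
  · exfalso
    obtain ⟨a, ha⟩ := IsAlgClosed.exists_root q' hdeg
    have htr : Transcendental k (t - algebraMap k L a) := by
      intro halg
      apply ht
      have := halg.add (isAlgebraic_algebraMap (R := k) (A := L) a)
      rwa [sub_add_cancel] at this
    obtain ⟨P, hP⟩ := exists_place_lt_one hL htr
    have hk := P.2.1
    have hPt : P.1 t ≤ 1 := by
      have e : t = (t - algebraMap k L a) + algebraMap k L a := by ring
      rw [e]
      exact le_trans (P.1.map_add _ _) (max_le hP.le (hk a))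
    obtain ⟨s, hs⟩ := Polynomial.dvd_iff_isRoot.2 ha
    have h1 : P.1 (aeval t q') < 1 := by
      rw [hs, map_mul, map_mul, map_sub, aeval_X, aeval_C]
      calc P.1 (t - algebraMap k L a) * P.1 (aeval t s)
          ≤ P.1 (t - algebraMap k L a) * 1 := mul_le_mul' le_rfl (w_aeval_le_one P.1 hk hPt s)
        _ = P.1 (t - algebraMap k L a) := mul_one _
        _ < 1 := hP
    have hpa : p'.eval a ≠ 0 := by
      obtain ⟨u, v, huv⟩ := hcop
      intro h0
      have := congrArg (eval a) huv
      rw [eval_add, eval_mul, eval_mul, h0, ha.eq_zero, mul_zero, mul_zero, add_zero,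
        eval_one] at this
      exact zero_ne_one this
    have h2 : P.1 (aeval t p') = 1 := by
      have hdv : (X - C a) ∣ p' - C (p'.eval a) := by
        rw [Polynomial.dvd_iff_isRoot, IsRoot, eval_sub, eval_C, sub_self]
      obtain ⟨w, hw⟩ := hdv
      have e : aeval t p' = algebraMap k L (p'.eval a) + (t - algebraMap k L a) * aeval t w := by
        have := congrArg (aeval t) hw
        rw [map_sub, map_mul, map_sub, aeval_X, aeval_C, aeval_C] at this
        rw [← this]
        ring
      have hlt : P.1 ((t - algebraMap k L a) * aeval t w) < 1 := by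
        rw [map_mul]
        calc P.1 (t - algebraMap k L a) * P.1 (aeval t w)
            ≤ P.1 (t - algebraMap k L a) * 1 := mul_le_mul' le_rfl (w_aeval_le_one P.1 hk hPt w)
          _ = P.1 (t - algebraMap k L a) := mul_one _
          _ < 1 := hP
      have hone : P.1 (algebraMap k L (p'.eval a)) = 1 := v_algebraMap P hpa
      rw [e, Valuation.map_add_eq_of_lt_left _ (by rw [hone]; exact hlt), hone]
    have h3 := h P hPt
    rw [hl', map_div₀, h2] at h3
    have hne : P.1 (aeval t q') ≠ 0 := (Valuation.ne_zero_iff _).2 hq't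
    have : (1 : WithZero (Multiplicative ℤ)) ≤ P.1 (aeval t q') := by
      have := (div_le_iff₀ (zero_lt_iff.2 hne)).1 h3
      rwa [one_mul] at this
    exact absurd h1 (not_lt.2 this)

end RatInt

section Main

variable {k K : Type*} [Field k] [IsAlgClosed k] [Field K] [Algebra k K]

theorem adjoin_pair_eq_iInter (hK : IsFunctionField k K) (x y : K) (hx : Transcendental k x)
    (hxy : IntermediateField.adjoin k ({x, y} : Set K) = ⊤)
    (hy : IsIntegral (Algebra.adjoin k ({x} : Set K)) y) :
    (Algebra.adjoin k ({x, y} : Set K) : Set K) =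
      ⋂ (P : FunFld.Place k (IntermediateField.adjoin k ({x} : Set K)))
        (_ : P.1 ⟨x, IntermediateField.mem_adjoin_simple_self k x⟩ ≤ 1),
        (Subring.closure
          ((algebraMap (IntermediateField.adjoin k ({x} : Set K)) K '' (P.O : Set _)) ∪ {y}) :
          Set K) := by
  classical
  have hL : IsFunctionField k k⟮x⟯ :=
    Groth.Agent.Lib.Helper26.PlaneModel2.isFunctionField_adjoin hK hx
  obtain ⟨xL, hxL⟩ : ∃ xL : k⟮x⟯, xL = ⟨x, IntermediateField.mem_adjoin_simple_self k x⟩ :=
    ⟨_, rfl⟩
  have hxLK : algebraMap k⟮x⟯ K xL = x := by rw [hxL]; rfl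
  have hxLtr : Transcendental k xL := by
    intro h
    apply hx
    have := h.algebraMap (A := K)
    rwa [hxLK] at this
  have haev : ∀ r : k[X], algebraMap k⟮x⟯ K (aeval xL r) = aeval x r := by
    intro r
    rw [← aeval_algebraMap_apply, hxLK]
  haveI : IsIntegrallyClosed (Algebra.adjoin k ({x} : Set K)) :=
    IsIntegrallyClosed.of_equiv (Polynomial.algEquivOfTranscendental k x hx).toRingEquiv
  obtain ⟨gA, hgAdef⟩ : ∃ gA, gA = minpoly (Algebra.adjoin k ({x} : Set K)) y := ⟨_, rfl⟩
  have hgA : gA.Monic := by rw [hgAdef]; exact minpoly.monic hy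
  obtain ⟨gL, hgLdef⟩ : ∃ gL, gL = gA.map (algebraMap (Algebra.adjoin k ({x} : Set K)) k⟮x⟯) :=
    ⟨_, rfl⟩
  have hgL : minpoly k⟮x⟯ y = gL := by
    rw [hgLdef, hgAdef]
    exact minpoly.isIntegrallyClosed_eq_field_fractions' k⟮x⟯ hy
  have hgLm : gL.Monic := by rw [hgLdef]; exact hgA.map _
  have hyL : IsIntegral k⟮x⟯ y := hy.tower_top
  have hgLy : aeval y gL = 0 := by rw [← hgL]; exact minpoly.aeval _ _
  -- every element is a polynomial of small degree in `y`
  have hrep : ∀ z : K, ∃ pL : k⟮x⟯[X], pL.degree < gL.degree ∧ aeval y pL = z := by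
    intro z
    have h1 := IntermediateField.adjoin_adjoin_left k ({x} : Set K) ({y} : Set K)
    rw [Set.singleton_union, hxy] at h1
    have h2 : IntermediateField.adjoin k⟮x⟯ ({y} : Set K) = ⊤ := by
      apply IntermediateField.restrictScalars_injective k
      rw [h1, IntermediateField.restrictScalars_top]
    have h3 : z ∈ (IntermediateField.adjoin k⟮x⟯ ({y} : Set K)).toSubalgebra := by
      rw [h2]; trivial
    rw [IntermediateField.adjoin_simple_toSubalgebra_of_isAlgebraic hyL.isAlgebraic,
      Algebra.adjoin_singleton_eq_range_aeval] at h3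
    obtain ⟨p, hp⟩ := h3
    refine ⟨p %ₘ gL, Polynomial.degree_modByMonic_lt p hgLm, ?_⟩
    rw [Polynomial.aeval_modByMonic_eq_self_of_root hgLy]
    exact hp
  -- uniqueness
  have huniq : ∀ p₁ p₂ : k⟮x⟯[X], p₁.degree < gL.degree → p₂.degree < gL.degree →
      aeval y p₁ = aeval y p₂ → p₁ = p₂ := by
    intro p₁ p₂ h1 h2 he
    by_contra hne
    have hne' : p₁ - p₂ ≠ 0 := sub_ne_zero.2 hne
    have h0 : aeval y (p₁ - p₂) = 0 := by rw [map_sub, he, sub_self]
    have := minpoly.degree_le_of_ne_zero k⟮x⟯ y hne' h0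
    rw [hgL] at this
    have h3 : (p₁ - p₂).degree < gL.degree :=
      lt_of_le_of_lt (Polynomial.degree_sub_le _ _) (max_lt h1 h2)
    exact absurd this (not_le.2 h3)
  -- elements of `A` are integral at `P`
  have hAP : ∀ (P : FunFld.Place k k⟮x⟯), P.1 xL ≤ 1 →
      ∀ a : Algebra.adjoin k ({x} : Set K), P.1 (algebraMap _ k⟮x⟯ a) ≤ 1 := by
    intro P hP a
    obtain ⟨r, hr⟩ := Algebra.adjoin_mem_exists_aeval _ _ a.2
    have : algebraMap (Algebra.adjoin k ({x} : Set K)) k⟮x⟯ a = aeval xL r := by
      apply (algebraMap k⟮x⟯ K).injective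
      rw [haev, hr]
      rfl
    rw [this]
    exact w_aeval_le_one P.1 P.2.1 hP r
  ext z
  simp only [Set.mem_iInter, SetLike.mem_coe]
  constructor
  · intro hz P hP
    rw [← hxL] at hP
    have hsub : (Algebra.adjoin k ({x, y} : Set K)).toSubring ≤
        Subring.closure ((algebraMap k⟮x⟯ K '' (P.O : Set _)) ∪ {y}) := by
      rw [Algebra.adjoin_eq_ring_closure, Subring.closure_le]
      rintro w (⟨c, rfl⟩ | hw)
      · apply Subring.subset_closure
        left
        refine ⟨algebraMap k k⟮x⟯ c, ?_, rfl⟩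
        exact (Valuation.mem_valuationSubring_iff _ _).2 (P.2.1 c)
      · rcases hw with rfl | rfl
        · apply Subring.subset_closure
          left
          exact ⟨xL, (Valuation.mem_valuationSubring_iff _ _).2 hP, hxLK⟩
        · apply Subring.subset_closure
          right
          rfl
    exact hsub hz
  · intro hz
    obtain ⟨pL, hpLdeg, hpL⟩ := hrep z
    -- coefficients of `pL` are integral at every `P`
    have hcoeff : ∀ (P : FunFld.Place k k⟮x⟯), P.1 xL ≤ 1 → ∀ i, P.1 (pL.coeff i) ≤ 1 := by
      intro P hP i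
      have hzP := hz P (by rw [← hxL]; exact hP)
      -- ring hom from polynomials over `O_P`
      let ι : P.O →+* k⟮x⟯ := P.O.subtype
      let φ : (P.O)[X] →+* K := (Polynomial.aeval y : k⟮x⟯[X] →ₐ[k⟮x⟯] K).toRingHom.comp
        (Polynomial.mapRingHom ι)
      have hle : Subring.closure ((algebraMap k⟮x⟯ K '' (P.O : Set _)) ∪ {y}) ≤ φ.range := by
        rw [Subring.closure_le]
        rintro w (⟨a, ha, rfl⟩ | hw)
        · refine ⟨C ⟨a, ha⟩, ?_⟩
          change aeval y (Polynomial.map ι (C ⟨a, ha⟩)) = _
          rw [Polynomial.map_C, aeval_C]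
          rfl
        · rw [Set.mem_singleton_iff] at hw
          subst hw
          refine ⟨X, ?_⟩
          change aeval w (Polynomial.map ι X) = _
          rw [Polynomial.map_X, aeval_X]
      obtain ⟨p₀, hp₀⟩ := hle hzP
      replace hp₀ : aeval y (Polynomial.map ι p₀) = z := hp₀
      -- the monic polynomial over `O_P`
      let j : Algebra.adjoin k ({x} : Set K) →+* P.O :=
        (algebraMap (Algebra.adjoin k ({x} : Set K)) k⟮x⟯).codRestrict P.O.toSubring
          (fun a => (Valuation.mem_valuationSubring_iff _ _).2 (hAP P hP a))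
      have hj : ι.comp j = algebraMap (Algebra.adjoin k ({x} : Set K)) k⟮x⟯ := by
        ext a
        rfl
      have hg₀ : (gA.map j).map ι = gL := by
        rw [Polynomial.map_map, hj, hgLdef]
      have hg₀m : (gA.map j).Monic := hgA.map _
      have hr : aeval y (Polynomial.map ι (p₀ %ₘ gA.map j)) = z := by
        rw [Polynomial.map_modByMonic _ hg₀m, hg₀,
          Polynomial.aeval_modByMonic_eq_self_of_root hgLy, hp₀]
      have hrdeg : (Polynomial.map ι (p₀ %ₘ gA.map j)).degree < gL.degree := by
        calc (Polynomial.map ι (p₀ %ₘ gA.map j)).degree ≤ (p₀ %ₘ gA.map j).degree :=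
              Polynomial.degree_map_le
          _ < (gA.map j).degree := Polynomial.degree_modByMonic_lt _ hg₀m
          _ = gL.degree := by
              rw [← hg₀, Polynomial.degree_map_eq_of_injective P.O.subtype_injective]
      have := huniq pL _ hpLdeg hrdeg (hpL.trans hr.symm)
      rw [this, Polynomial.coeff_map]
      exact (Valuation.mem_valuationSubring_iff _ _).1 ((p₀ %ₘ gA.map j).coeff i).2
    -- hence the coefficients are polynomials in `x`
    have hcoeff' : ∀ i, ∃ r : k[X], pL.coeff i = aeval xL r := by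
      intro i
      have hmem : ((pL.coeff i : k⟮x⟯) : K) ∈ k⟮x⟯ := (pL.coeff i).2
      rw [IntermediateField.mem_adjoin_simple_iff] at hmem
      obtain ⟨p, q, hpq⟩ := hmem
      by_cases hq : aeval x q = 0
      · refine ⟨0, ?_⟩
        rw [map_zero]
        apply (algebraMap k⟮x⟯ K).injective
        rw [map_zero]
        change ((pL.coeff i : k⟮x⟯) : K) = 0
        rw [hpq, hq, div_zero]
      · have hq' : aeval xL q ≠ 0 := by
          intro h0
          apply hq
          rw [← haev, h0, map_zero]
        refine exists_poly_of_forall_place hL xL hxLtr (pL.coeff i) p q hq' ?_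
          (fun P hP => hcoeff P hP i)
        apply (algebraMap k⟮x⟯ K).injective
        rw [map_div₀, haev, haev]
        exact hpq
    rw [← hpL, Polynomial.aeval_eq_sum_range]
    refine Subalgebra.sum_mem _ ?_
    intro i _
    obtain ⟨r, hr⟩ := hcoeff' i
    rw [Algebra.smul_def, hr, haev]
    refine Subalgebra.mul_mem _ ?_ (Subalgebra.pow_mem _ (Algebra.subset_adjoin (by simp)) i)
    have hle : Algebra.adjoin k ({x} : Set K) ≤ Algebra.adjoin k ({x, y} : Set K) :=
      Algebra.adjoin_mono (by simp)
    apply hle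
    rw [Algebra.adjoin_singleton_eq_range_aeval]
    exact ⟨r, rfl⟩

end Main

end Groth.Agent.Lib.Helper2.FF
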