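import Mathlib

set_option autoImplicit false
open Polynomial

/-! A polynomial whose splitting forces a finite extension to embed into the constants. -/

namespace Groth.Agent.Lib.Helper2.SF

open Classical in
/-- generators of a finite extension -/
noncomputable def gens (k F : Type*) [Field k] [Field F] [Algebra k F] : Finset F :=
  if h : (⊤ : Submodule k F).FG then h.choose else ∅

theorem span_gens (k F : Type*) [Field k] [Field F] [Algebra k F] [FiniteDimensional k F] :
    Submodule.span k (gens k F : Set F) = ⊤ := by
  have h : (⊤ : Submodule k F).FG := Module.Finite.fg_top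
  unfold gens
  rw [dif_pos h]
  exact h.choose_spec

/-- the product of the minimal polynomials of the generators -/
noncomputable def splitPoly (k F : Type*) [Field k] [Field F] [Algebra k F] : k[X] :=
  ∏ x ∈ gens k F, minpoly k x

theorem splitPoly_ne_zero (k F : Type*) [Field k] [Field F] [Algebra k F]
    [FiniteDimensional k F] : splitPoly k F ≠ 0 := by
  unfold splitPoly
  rw [Finset.prod_ne_zero_iff]
  intro x _
  exact minpoly.ne_zero (Algebra.IsIntegral.isIntegral x)

/-- if `splitPoly` splits in `L`, every map of `F` into an extension of `L` lands in `L` -/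
theorem mem_range_of_splits {k F L E : Type*} [Field k] [Field F] [Algebra k F]
    [FiniteDimensional k F] [Field L] [Field E] (i : k →+* L) (τ : L →+* E) (σ : F →+* E)
    (hs : ((splitPoly k F).map i).Splits)
    (hc : ∀ c : k, σ (algebraMap k F c) = τ (i c)) (x : F) : σ x ∈ τ.range := by
  have h1 : ∀ y ∈ gens k F, σ y ∈ τ.range := by
    intro y hy
    have hdvd : minpoly k y ∣ splitPoly k F := Finset.dvd_prod_of_mem _ hy
    have hsy : ((minpoly k y).map i).Splits :=
      hs.of_dvd (Polynomial.map_ne_zero (splitPoly_ne_zero k F)) (Polynomial.map_dvd i hdvd)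
    have hne : (minpoly k y).map i ≠ 0 :=
      Polynomial.map_ne_zero (minpoly.ne_zero (Algebra.IsIntegral.isIntegral y))
    refine hsy.mem_range_of_isRoot hne ?_
    rw [IsRoot, Polynomial.map_map, eval_map]
    have h2 : τ.comp i = σ.comp (algebraMap k F) := by
      ext c; exact (hc c).symm
    rw [h2, ← Polynomial.hom_eval₂, ← aeval_def, minpoly.aeval, map_zero]
  have hx : x ∈ Submodule.span k (gens k F : Set F) := by rw [span_gens]; trivial
  induction hx using Submodule.span_induction with
  | mem y hy => exact h1 y hy
  | zero => rw [map_zero]; exact Subring.zero_mem _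
  | add a b _ _ ha hb => rw [map_add]; exact Subring.add_mem _ ha hb
  | smul c a _ ha =>
    rw [Algebra.smul_def, map_mul, hc]
    exact Subring.mul_mem _ ⟨i c, rfl⟩ ha

end Groth.Agent.Lib.Helper2.SF
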