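import Mathlib
import Groth.Agent.Lib.Helper2.FunFld.CEG3
import Groth.Agent.Lib.Helper2.FunFld.NS2
import Groth.Agent.Lib.Helper2.FunFld.Inertia

set_option autoImplicit false
open scoped WithZero IntermediateField
open FunFld Polynomial

namespace Groth.Agent.Lib.Helper2.SF

open Groth.Agent.Lib.Helper2.FF

section Gen

variable {k k' K K' : Type*} [Field k] [Field k'] [Field K] [Field K']
    [Algebra k k'] [Algebra k K] [Algebra K K'] [Algebra k' K'] [Algebra k K']
    [IsScalarTower k k' K'] [IsScalarTower k K K']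

set_option maxHeartbeats 800000 in
/-- The residue field of `Q` is generated by the residue field of `P` and `k'`, when `P` is
nonsingular with respect to `k'` (coordinate form). -/
theorem residue_mem_of_gens_coord [FiniteDimensional K K']
    (hK : IsFunctionField k K) (P : FunFld.Place k K)
    {ι : Type*} [Fintype ι] {B : Module.Basis ι K K'} (hB : IsConstBasis (k := k) k' B)
    (hns : ∀ z : K', (∀ Q : FunFld.Place k K', IsOver Q P → v Q z ≤ 1) →
      ∀ i, v P (B.repr z i) ≤ 1)
    {Q : FunFld.Place k K'} {e : ℕ} (he : IsOverWith Q P e)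
    (hk' : ∀ c : k', Q.1 (algebraMap k' K' c) ≤ 1)
    (T : Subring (IsLocalRing.ResidueField Q.O))
    (h1 : ∀ a : P.O, IsLocalRing.residue Q.O (oMap' he a) ∈ T)
    (h2 : ∀ c : k', IsLocalRing.residue Q.O ⟨algebraMap k' K' c, hk' c⟩ ∈ T) :
    ∀ y, y ∈ T := by
  classical
  letI : Algebra P.O K' := ((algebraMap K K').comp (algebraMap P.O K)).toAlgebra
  haveI : IsScalarTower P.O K K' := IsScalarTower.of_algebraMap_eq fun _ => rfl
  have hQ : IsOver Q P := ⟨e, he⟩
  let i : OverP K' P := ⟨Q, hQ⟩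
  intro y
  obtain ⟨b, rfl⟩ := redQ_surjective P hK i y
  have hb : ∀ Q' : FunFld.Place k K', IsOver Q' P → v Q' b.1 ≤ 1 := fun Q' hQ' => b.2 ⟨Q', hQ'⟩
  have ha := hns b.1 hb
  choose c hc using hB.mem
  let b' : Q.O := ∑ j, oMap' he ⟨B.repr b.1 j, (mem_O_iff P _).2 (ha j)⟩ *
    ⟨algebraMap k' K' (c j), hk' (c j)⟩
  have hb' : (b' : K') = b.1 := by
    change ((∑ j, oMap' he ⟨B.repr b.1 j, (mem_O_iff P _).2 (ha j)⟩ *
      ⟨algebraMap k' K' (c j), hk' (c j)⟩ : Q.O) : K') = b.1
    rw [AddSubmonoidClass.coe_finsetSum]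
    conv_rhs => rw [← B.sum_repr b.1]
    refine Finset.sum_congr rfl fun j _ => ?_
    rw [MulMemClass.coe_mul, Algebra.smul_def, ← hc j]
    rfl
  have h3 : redQ P i b = IsLocalRing.residue Q.O b' := by
    change IsLocalRing.residue Q.O (toOQ P i b) = _
    congr 1
    apply Subtype.ext
    exact hb'.symm
  rw [h3, map_sum]
  refine Subring.sum_mem _ fun j _ => ?_
  rw [map_mul]
  exact Subring.mul_mem _ (h1 _) (h2 _)

end Gen

end Groth.Agent.Lib.Helper2.SF
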