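import Mathlib
import Groth.Agent.Lib.Helper2.FunFld.SF1
import Groth.Agent.Lib.Helper2.FunFld.SF2
import Groth.Agent.Lib.Helper2.FunFld.GM5
import Groth.Agent.Lib.Helper2.FunFld.SP2b

set_option autoImplicit false
open scoped WithZero IntermediateField
open FunFld Polynomial

namespace Groth.Agent.Lib.Helper2.SF

open Groth.Agent.Lib.Helper2.FF Groth.Agent.Lib.Helper2.GM Groth.Agent.Lib.Helper2.SP

universe u v

set_option maxHeartbeats 3200000 in
/-- S12591: every place has a finite splitting field -/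
theorem exists_finite_splitting (k : Type u) (K : Type v) [Field k] [Field K] [Algebra k K]
    (hK : IsFunctionField k K) (hg : IsGeometric k K) (P : FunFld.Place k K) :
    ∃ (k' : Type u) (_ : Field k') (_ : Algebra k k'), FiniteDimensional k k' ∧
      ∀ (K' : Type v) [Field K'] [Algebra K K'] [Algebra k' K'] [Algebra k K']
        [IsScalarTower k k' K'] [IsScalarTower k K K'],
        Function.Bijective (Algebra.TensorProduct.productMap
          (IsScalarTower.toAlgHom k k' K') (IsScalarTower.toAlgHom k K K')) →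
        ∀ Q : FunFld.Place k' K', P.1.HasExtension Q.1 → Q.deg = 1 := by
  classical
  obtain ⟨k₀, f₀, a₀, hfin₀, hpi₀, hns₀⟩ := exists_pi_nonsingular k K hK hg
  letI := f₀; letI := a₀
  haveI := hfin₀
  obtain ⟨K₀, fK₀, aKK₀, ak₀K₀, akK₀, tA, tB, hb₀⟩ := exists_model k k₀ K hg
  letI := fK₀; letI := aKK₀; letI := ak₀K₀; letI := akK₀
  haveI := tA; haveI := tB
  obtain ⟨hK₀, hg₀⟩ := Groth.Agent.S11006.result k k₀ K K₀ hb₀ hK hg
  haveI : FiniteDimensional K K₀ := finiteDimensional_cExt (k := k) (k' := k₀) hb₀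
  have hS : {Q₀ : FunFld.Place k₀ K₀ | IsOver (downPlace (k := k) Q₀) P}.Finite :=
    Set.Finite.subset ((finite_isOver (K' := K₀) hK P).image (upPlace (k' := k₀)))
      (fun Q hQ => ⟨downPlace (k := k) Q, hQ, upPlace_downPlace Q⟩)
  let f : k₀[X] := ∏ Q₀ ∈ hS.toFinset, splitPoly k₀ (IsLocalRing.ResidueField Q₀.O)
  have hf0 : f ≠ 0 := Finset.prod_ne_zero_iff.2 fun Q₀ _ => by
    haveI := finite_algRes hK₀ Q₀
    exact splitPoly_ne_zero k₀ _
  haveI tk : IsScalarTower k k₀ f.SplittingField := inferInstance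
  haveI : FiniteDimensional k₀ f.SplittingField := inferInstance
  haveI hfin1 : FiniteDimensional k f.SplittingField := Module.Finite.trans k₀ f.SplittingField
  refine ⟨f.SplittingField, inferInstance, inferInstance, hfin1, ?_⟩
  intro K' _ _ _ _ _ _ hb' Q' hext
  letI ak₀K' : Algebra k₀ K' :=
    ((algebraMap f.SplittingField K').comp (algebraMap k₀ f.SplittingField)).toAlgebra
  haveI t0 : IsScalarTower k₀ f.SplittingField K' := IsScalarTower.of_algebraMap_eq fun _ => rfl
  obtain ⟨aK₀K', t1, t2, hb₁⟩ := exists_mid_algebra (k := k) (k' := k₀) (k'' := f.SplittingField)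
    (K := K) (K₁ := K₀) (K'' := K') hb₀ hb'
  letI := aK₀K'
  haveI := t1; haveI := t2
  haveI : FiniteDimensional K₀ K' :=
    finiteDimensional_cExt (k := k₀) (k' := f.SplittingField) hb₁
  haveI : FiniteDimensional K K' := finiteDimensional_cExt (k := k) (k' := f.SplittingField) hb'
  obtain ⟨Q₀, e, he⟩ := exists_isOverWith hK₀ (downPlace (k := k₀) Q')
  -- `Q₀` lies over `P`
  have hQ₀S : Q₀ ∈ hS.toFinset := by
    rw [Set.Finite.mem_toFinset]
    obtain ⟨P₀, e₀, he₀⟩ := exists_isOverWith hK (downPlace (k := k) Q₀)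
    have h1 : IsOverWith (downPlace (k := k) Q') P₀ (e₀ * e) := by
      intro x
      rw [IsScalarTower.algebraMap_apply K K₀ K']
      have h2 := he (algebraMap K K₀ x)
      have h3 := he₀ x
      change Q'.1 _ = Q₀.1 _ ^ e at h2
      change Q₀.1 _ = _ at h3
      change Q'.1 _ = _
      rw [h2, h3, pow_mul]
    haveI : P.1.HasExtension (downPlace (k := k) Q').1 := hext
    obtain ⟨e', he'⟩ := isOver_of_hasExtension hK P (downPlace (k := k) Q')
    have hPP : P₀ = P := isOverWith_unique h1 he'
    rw [← hPP]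
    exact ⟨e₀, he₀⟩
  -- nonsingularity of `Q₀`
  have hnsQ := hns₀ K₀ hb₀ Q₀ f.SplittingField K' hb₁
  have hB := isConstBasis_cBasis (K := K₀) (K' := K') (Module.finBasis k₀ f.SplittingField) hb₁
  have hcoord := (ns_iff hK₀ hB Q₀).1 hnsQ
  -- the residue field
  have hk' : ∀ c : f.SplittingField, (downPlace (k := k₀) Q').1 (algebraMap f.SplittingField K' c) ≤ 1 :=
    Q'.2.1
  haveI := isLocalHom_oMap' he
  haveI := finite_algRes hK₀ Q₀
  let σ : IsLocalRing.ResidueField Q₀.O →+* IsLocalRing.ResidueField (downPlace (k := k₀) Q').O :=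
    IsLocalRing.ResidueField.map (oMap' he)
  let τ : f.SplittingField →+* IsLocalRing.ResidueField (downPlace (k := k₀) Q').O :=
    algebraMap f.SplittingField (IsLocalRing.ResidueField Q'.O)
  have hsp : ((splitPoly k₀ (IsLocalRing.ResidueField Q₀.O)).map
      (algebraMap k₀ f.SplittingField)).Splits :=
    (SplittingField.splits f).of_dvd (Polynomial.map_ne_zero hf0)
      (Polynomial.map_dvd _ (Finset.dvd_prod_of_mem _ hQ₀S))
  have hc : ∀ c : k₀, σ (algebraMap k₀ (IsLocalRing.ResidueField Q₀.O) c) =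
      τ (algebraMap k₀ f.SplittingField c) := by
    intro c
    change IsLocalRing.ResidueField.map (oMap' he) (IsLocalRing.residue Q₀.O (algebraMap k₀ Q₀.O c)) =
      IsLocalRing.residue (downPlace (k := k₀) Q').O
        (algebraMap f.SplittingField Q'.O (algebraMap k₀ f.SplittingField c))
    rw [IsLocalRing.ResidueField.map_residue]
    congr 1
    apply Subtype.ext
    change algebraMap K₀ K' (algebraMap k₀ K₀ c) =
      algebraMap f.SplittingField K' (algebraMap k₀ f.SplittingField c)
    rw [← IsScalarTower.algebraMap_apply k₀ K₀ K', ← IsScalarTower.algebraMap_apply k₀ f.SplittingField K']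
  have hall := residue_mem_of_gens_coord hK₀ Q₀ hB hcoord he hk' τ.range
    (fun a => by
      have := mem_range_of_splits (algebraMap k₀ f.SplittingField) τ σ hsp hc
        (IsLocalRing.residue Q₀.O a)
      rw [show σ (IsLocalRing.residue Q₀.O a) =
        IsLocalRing.residue (downPlace (k := k₀) Q').O (oMap' he a) from
        IsLocalRing.ResidueField.map_residue _ _] at this
      exact this)
    (fun c => ⟨c, rfl⟩)
  rw [deg_eq_finrank_algRes]
  refine (finrank_eq_one_iff_of_nonzero' (1 : IsLocalRing.ResidueField Q'.O) one_ne_zero).2 ?_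
  intro w
  obtain ⟨c, hc'⟩ := hall w
  refine ⟨c, ?_⟩
  rw [Algebra.smul_def, mul_one]
  exact hc'

end Groth.Agent.Lib.Helper2.SF
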