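import Mathlib
import Groth.Agent.Lib.Helper2.FunFld.CF4
import Groth.Agent.Lib.Helper2.FunFld.PInsep
import Groth.Agent.Lib.Helper2.FunFld.CEG1

set_option autoImplicit false
open FunFld
open Groth.Agent.Lib.Helper2.FF

namespace Groth.Agent.Lib.Helper2.FF

section SP

variable {k K K' : Type*} [Field k] [Field K] [Field K'] [Algebra k K] [Algebra K K'] [Algebra k K']
  [IsScalarTower k K K']

/-- if every element of `K'` has its `q`-th power in `K` and the residue field of `Q` is
separable over `k`, the residue field does not grow -/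
theorem deg_eq_of_pow_mem_of_isSeparable {Q : FunFld.Place k K'} {P : FunFld.Place k K} {e : ℕ}
    (he : IsOverWith Q P e) (q : ℕ) [ExpChar k q]
    (hq : ∀ z : K', z ^ q ∈ Set.range (algebraMap K K'))
    [Algebra.IsSeparable k (IsLocalRing.ResidueField Q.O)] : Q.deg = P.deg := by
  haveI := isLocalHom_oMap' he
  letI : Algebra (IsLocalRing.ResidueField P.O) (IsLocalRing.ResidueField Q.O) :=
    (IsLocalRing.ResidueField.map (oMap' he)).toAlgebra
  haveI : IsScalarTower k (IsLocalRing.ResidueField P.O) (IsLocalRing.ResidueField Q.O) := by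
    refine ⟨fun c x y => ?_⟩
    rw [Algebra.smul_def, Algebra.smul_def]
    change resLin he (c • x) * y = c • (resLin he x * y)
    rw [map_smul, smul_mul_assoc]
  haveI : Algebra.IsSeparable (IsLocalRing.ResidueField P.O) (IsLocalRing.ResidueField Q.O) :=
    Algebra.isSeparable_tower_top_of_isSeparable k _ _
  haveI : ExpChar (IsLocalRing.ResidueField P.O) q :=
    expChar_of_injective_algebraMap (algebraMap k (IsLocalRing.ResidueField P.O)).injective q
  haveI : IsPurelyInseparable (IsLocalRing.ResidueField P.O) (IsLocalRing.ResidueField Q.O) := by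
    rw [isPurelyInseparable_iff_pow_mem _ q]
    intro x
    obtain ⟨a, rfl⟩ := IsLocalRing.residue_surjective x
    obtain ⟨b, hb⟩ := hq (a : K')
    refine ⟨1, ?_⟩
    have hbO : P.1 b ≤ 1 := by
      have h1 : Q.1 ((a : K') ^ q) ≤ 1 := by
        rw [map_pow]
        exact pow_le_one' ((mem_O_iff Q _).1 a.2) q
      rw [← hb, he b] at h1
      by_contra hlt
      push Not at hlt
      have := one_lt_pow' hlt (by have := isOverWith_one_le he; omega : e ≠ 0)
      exact absurd h1 (not_le_of_gt this)
    refine ⟨IsLocalRing.residue P.O ⟨b, (mem_O_iff P b).2 hbO⟩, ?_⟩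
    rw [pow_one, ← map_pow]
    rw [RingHom.algebraMap_toAlgebra, IsLocalRing.ResidueField.map_residue]
    congr 1
    apply Subtype.ext
    exact hb
  have hsurj := IsPurelyInseparable.surjective_algebraMap_of_isSeparable
    (IsLocalRing.ResidueField P.O) (IsLocalRing.ResidueField Q.O)
  have hbij : Function.Bijective (resLin he) :=
    ⟨(IsLocalRing.ResidueField.map (oMap' he)).injective, hsurj⟩
  exact (LinearEquiv.ofBijective (resLin he) hbij).finrank_eq.symm

end SP

end Groth.Agent.Lib.Helper2.FF
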