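import Mathlib
import Groth.Agent.Lib.Helper2.FunFld.SP2b
import Groth.Agent.Lib.Helper2.FunFld.CF2

set_option autoImplicit false
open scoped WithZero IntermediateField
open FunFld Polynomial

namespace Groth.Agent.Lib.Helper2.SP

open Groth.Agent.Lib.Helper2.FF

variable {k k' K K' : Type*} [Field k] [Field k'] [Field K] [Field K']
    [Algebra k k'] [Algebra k K] [Algebra K K'] [Algebra k' K'] [Algebra k K']
    [IsScalarTower k k' K'] [IsScalarTower k K K']

/-- a primitive element of the separable closure, and `q`-th powers as polynomials in it -/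
theorem exists_primitive_sep {k F : Type*} [Field k] [Field F] [Algebra k F] [FiniteDimensional k F] :
    ∃ β : F, (minpoly k β).Separable ∧ (minpoly k β).natDegree = Field.finSepDegree k F ∧
      ∀ x : F, ∃ g : k[X], x ^ Field.finInsepDegree k F = aeval β g := by
  set Fs := separableClosure k F with hFs
  haveI : IsPurelyInseparable Fs F := separableClosure.isPurelyInseparable k F
  have hqdef : Field.finInsepDegree k F = Module.finrank Fs F := rfl
  obtain ⟨α, hα⟩ := Field.exists_primitive_element k Fs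
  have hmin : minpoly k (α : F) = minpoly k α := (minpoly.algebraMap_eq (algebraMap Fs F).injective α)
  have hint : IsIntegral k α := Algebra.IsIntegral.isIntegral α
  refine ⟨(α : F), ?_, ?_, ?_⟩
  · exact (mem_separableClosure_iff).1 α.2
  · rw [hmin, ← IntermediateField.adjoin.finrank hint, hα, IntermediateField.finrank_top',
      Field.finSepDegree_eq, Field.sepDegree]
    rfl
  · intro x
    obtain ⟨u, hu⟩ := pow_finrank_mem_range (F := Fs) (E := F) x
    have h1 : u ∈ k⟮α⟯ := by rw [hα]; trivial
    rw [← IntermediateField.mem_toSubalgebra,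
      IntermediateField.adjoin_simple_toSubalgebra_of_isAlgebraic hint.isAlgebraic,
      Algebra.adjoin_singleton_eq_range_aeval] at h1
    obtain ⟨g, hg⟩ := h1
    refine ⟨g, ?_⟩
    rw [hqdef, ← hu, ← hg]
    exact (aeval_algebraMap_apply F α g).symm

theorem hcst_of [Algebra.IsAlgebraic k k'] (Q : FunFld.Place k K') (c : k') (hc : c ≠ 0) :
    Q.1 (algebraMap k' K' c) = 1 := v_algebraMap (upPlace (k' := k') Q) hc

/-- the residue at `Q` of an element is computed coordinatewise -/
theorem v_sub_const_lt [Algebra.IsAlgebraic k k'] {ι : Type*} [Fintype ι]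
    (b : Module.Basis ι k k')
    (h : Function.Bijective (Algebra.TensorProduct.productMap
      (IsScalarTower.toAlgHom k k' K') (IsScalarTower.toAlgHom k K K')))
    (Q : FunFld.Place k K') {z : K'} (c : ι → k')
    (hc : ∀ i, Q.1 (algebraMap K K' ((cBasis (K := K) b h).repr z i) -
      algebraMap k' K' (c i)) < 1) :
    z - algebraMap k' K' (∑ i, c i * b i) =
      ∑ i, (algebraMap K K' ((cBasis (K := K) b h).repr z i) - algebraMap k' K' (c i)) *
        algebraMap k' K' (b i) ∧
    Q.1 (z - algebraMap k' K' (∑ i, c i * b i)) < 1 := by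
  have h1 : z - algebraMap k' K' (∑ i, c i * b i) =
      ∑ i, (algebraMap K K' ((cBasis (K := K) b h).repr z i) - algebraMap k' K' (c i)) *
        algebraMap k' K' (b i) := by
    conv_lhs => rw [← (cBasis (K := K) b h).sum_repr z, map_sum, ← Finset.sum_sub_distrib]
    refine Finset.sum_congr rfl fun i _ => ?_
    rw [cBasis_apply, Algebra.smul_def, map_mul]
    ring
  refine ⟨h1, ?_⟩
  rw [h1]
  refine Valuation.map_sum_lt _ one_ne_zero fun i _ => ?_
  rw [map_mul]
  calc Q.1 (algebraMap K K' ((cBasis (K := K) b h).repr z i) - algebraMap k' K' (c i)) *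
        Q.1 (algebraMap k' K' (b i))
      ≤ Q.1 (algebraMap K K' ((cBasis (K := K) b h).repr z i) - algebraMap k' K' (c i)) * 1 :=
        mul_le_mul' le_rfl (v_algebraMap_const_le Q (b i))
    _ < 1 := by rw [mul_one]; exact hc i

theorem exp_neg_one_lt_one : (WithZero.exp (-1 : ℤ) : ℤᵐ⁰) < 1 := by
  rw [← WithZero.exp_zero, WithZero.exp_lt_exp]; omega

set_option maxHeartbeats 400000 in
/-- (C): the ramification index at a nonsingular place is at most the inseparable degree -/
theorem ramIdx_le_finInsepDegree [FiniteDimensional k k']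
    (h : Function.Bijective (Algebra.TensorProduct.productMap
      (IsScalarTower.toAlgHom k k' K') (IsScalarTower.toAlgHom k K K')))
    (hK : IsFunctionField k K) (P : FunFld.Place k K)
    (hns : ∀ z : K', (∀ Q : FunFld.Place k K', IsOver Q P → v Q z ≤ 1) →
      ∀ i, v P ((cBasis (K := K) (Module.finBasis k k') h).repr z i) ≤ 1)
    {Q : FunFld.Place k K'} {e : ℕ} (he : IsOverWith Q P e)
    (hres : ∀ y, Q.1 y ≤ 1 → ∃ c : k', Q.1 (y - algebraMap k' K' c) < 1) :
    e ≤ Field.finInsepDegree k (IsLocalRing.ResidueField P.O) := by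
  classical
  haveI := finiteDimensional_cExt (K := K) (K' := K') h
  haveI : Finite (OverP K' P) := finite_overP hK P
  set b := Module.finBasis k k' with hb
  obtain ⟨z, hz0, hz⟩ := exists_ord_eq (fun i : OverP K' P => i.1) Subtype.val_injective
    (fun i => if i.1 = Q then -1 else 0)
  have hzQ : Q.1 z = WithZero.exp (-1 : ℤ) := by
    have := hz ⟨Q, ⟨e, he⟩⟩
    simpa using this
  have hzint : ∀ Q' : FunFld.Place k K', IsOver Q' P → v Q' z ≤ 1 := fun Q' hQ' => by
    have := hz ⟨Q', hQ'⟩
    simp only at this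
    rw [this]
    split_ifs
    · exact exp_neg_one_lt_one.le
    · rw [WithZero.exp_zero]
  have ha : ∀ i, P.1 ((cBasis (K := K) b h).repr z i) ≤ 1 := hns z hzint
  have hres' : ∀ i, ∃ c : k', Q.1 (algebraMap K K' ((cBasis (K := K) b h).repr z i) -
      algebraMap k' K' c) < 1 := fun i => hres _ (v_map_le_one he (ha i))
  choose c hc using hres'
  obtain ⟨h1, h2⟩ := v_sub_const_lt b h Q c hc
  have hs : (∑ i, c i * b i) = 0 := by
    apply const_eq_zero_of_lt_one (hcst_of Q)
    have : algebraMap k' K' (∑ i, c i * b i) = z - (z - algebraMap k' K' (∑ i, c i * b i)) := by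
      ring
    rw [this]
    refine lt_of_le_of_lt (Valuation.map_sub _ _ _) (max_lt ?_ h2)
    rw [hzQ]; exact exp_neg_one_lt_one
  rw [hs, map_zero, sub_zero] at h1
  have hex : ∃ j, Q.1 z ≤ Q.1 ((algebraMap K K' ((cBasis (K := K) b h).repr z j) -
      algebraMap k' K' (c j)) * algebraMap k' K' (b j)) := by
    by_contra hcon
    push_neg at hcon
    have hne : Q.1 z ≠ 0 := by rw [hzQ]; exact WithZero.exp_ne_zero
    have := Valuation.map_sum_lt Q.1 hne (fun i (_ : i ∈ Finset.univ) => hcon i)
    rw [← h1] at this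
    exact lt_irrefl _ this
  obtain ⟨j, hj⟩ := hex
  have hj' : Q.1 z ≤ Q.1 (algebraMap K K' ((cBasis (K := K) b h).repr z j) -
      algebraMap k' K' (c j)) := by
    refine hj.trans ?_
    rw [map_mul]
    calc _ ≤ Q.1 (algebraMap K K' ((cBasis (K := K) b h).repr z j) - algebraMap k' K' (c j)) * 1 :=
          mul_le_mul' le_rfl (v_algebraMap_const_le Q (b j))
      _ = _ := mul_one _
  have h3 := v_sub_pow_le hK he (hcst_of Q) (ha j) (hc j)
  have h4 : (Q.1 z) ^ Field.finInsepDegree k (IsLocalRing.ResidueField P.O) ≤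
      WithZero.exp (-(e : ℤ)) := (pow_le_pow_left' hj' _).trans h3
  rw [hzQ, ← WithZero.exp_nsmul, WithZero.exp_le_exp] at h4
  simp only [nsmul_eq_mul, mul_neg, mul_one, neg_le_neg_iff] at h4
  exact_mod_cast h4

/-- the `q`-th power of the residue of `a` is determined by the residue of `b₀` -/
theorem residue_pow_eq [Algebra.IsAlgebraic k k'] {P : FunFld.Place k K} {Q : FunFld.Place k K'}
    {e : ℕ} (he : IsOverWith Q P e) {b₀ : K} (hb₀ : P.1 b₀ ≤ 1) {c : k'}
    (hQb : Q.1 (algebraMap K K' b₀ - algebraMap k' K' c) < 1) {a : K} {g : k[X]}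
    {p m : ℕ} [ExpChar k p] (hag : P.1 (a ^ p ^ m - aeval b₀ g) < 1) {ca : k'}
    (hca : Q.1 (algebraMap K K' a - algebraMap k' K' ca) < 1) :
    ca ^ p ^ m = aeval c g := by
  haveI : ExpChar K' p := expChar_of_injective_algebraMap (algebraMap k K').injective p
  have he1 : 1 ≤ e := isOverWith_one_le he
  have hpm : 0 < p ^ m := pow_pos (expChar_pos k p) m
  have h1 : Q.1 (algebraMap K K' (a ^ p ^ m) - algebraMap K K' (aeval b₀ g)) < 1 := by
    rw [← map_sub, he]
    exact pow_lt_one' hag (by omega)
  have h2 : Q.1 (aeval (algebraMap K K' b₀) g - aeval (algebraMap k' K' c) g) < 1 :=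
    lt_of_le_of_lt (v_aeval_sub_le Q (v_map_le_one he hb₀) (v_const_le_one (hcst_of Q) c) g) hQb
  have h3 : Q.1 (algebraMap K K' (a ^ p ^ m) - algebraMap k' K' (ca ^ p ^ m)) < 1 := by
    have : algebraMap K K' (a ^ p ^ m) - algebraMap k' K' (ca ^ p ^ m) =
        (algebraMap K K' a - algebraMap k' K' ca) ^ p ^ m := by
      rw [sub_pow_expChar_pow, map_pow, map_pow]
    rw [this, map_pow]
    exact pow_lt_one' hca (by omega)
  have h4 : aeval (algebraMap K K' b₀) g = algebraMap K K' (aeval b₀ g) :=
    aeval_algebraMap_apply K' b₀ g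
  have h5 : aeval (algebraMap k' K' c) g = algebraMap k' K' (aeval c g) :=
    aeval_algebraMap_apply K' c g
  have h6 : Q.1 (algebraMap k' K' (ca ^ p ^ m - aeval c g)) < 1 := by
    have : algebraMap k' K' (ca ^ p ^ m - aeval c g) =
        (algebraMap K K' (a ^ p ^ m) - algebraMap K K' (aeval b₀ g)) +
        (aeval (algebraMap K K' b₀) g - aeval (algebraMap k' K' c) g) -
        (algebraMap K K' (a ^ p ^ m) - algebraMap k' K' (ca ^ p ^ m)) := by
      rw [h4, h5, map_sub]; ring
    rw [this]
    refine lt_of_le_of_lt (Valuation.map_sub _ _ _) (max_lt ?_ h3)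
    exact lt_of_le_of_lt (Valuation.map_add _ _ _) (max_lt h1 h2)
  exact sub_eq_zero.1 (const_eq_zero_of_lt_one (hcst_of Q) h6)

end Groth.Agent.Lib.Helper2.SP
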