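import Mathlib
import Groth.Agent.Lib.Helper2.FunFld.SP2b
import Groth.Agent.Lib.Helper2.FunFld.CF2
import Groth.Agent.Lib.Helper2.FunFld.SP2c

set_option autoImplicit false
open scoped WithZero IntermediateField
open FunFld Polynomial

namespace Groth.Agent.Lib.Helper2.SP

open Groth.Agent.Lib.Helper2.FF

variable {k k' K K' : Type*} [Field k] [Field k'] [Field K] [Field K']
    [Algebra k k'] [Algebra k K] [Algebra K K'] [Algebra k' K'] [Algebra k K']
    [IsScalarTower k k' K'] [IsScalarTower k K K']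

set_option maxHeartbeats 800000 in
/-- (D): the number of places over a nonsingular place is at most the separable degree -/
theorem card_overP_le_finSepDegree [FiniteDimensional k k']
    (h : Function.Bijective (Algebra.TensorProduct.productMap
      (IsScalarTower.toAlgHom k k' K') (IsScalarTower.toAlgHom k K K')))
    (hK : IsFunctionField k K) (P : FunFld.Place k K)
    (hns : ∀ z : K', (∀ Q : FunFld.Place k K', IsOver Q P → v Q z ≤ 1) →
      ∀ i, v P ((cBasis (K := K) (Module.finBasis k k') h).repr z i) ≤ 1)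
    (hres : ∀ Q : FunFld.Place k K', IsOver Q P →
      ∀ y, Q.1 y ≤ 1 → ∃ c : k', Q.1 (y - algebraMap k' K' c) < 1) :
    Nat.card (OverP K' P) ≤ Field.finSepDegree k (IsLocalRing.ResidueField P.O) := by
  classical
  haveI := finiteDimensional_cExt (K := K) (K' := K') h
  haveI : Finite (OverP K' P) := finite_overP hK P
  haveI : @Module.Finite k (IsLocalRing.ResidueField P.O) _ _ (Place.algRes P).toModule :=
    finite_algRes hK P
  set b := Module.finBasis k k' with hb
  set p := ringExpChar k with hp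
  haveI : ExpChar k p := ringExpChar.expChar k
  haveI : ExpChar k' p := expChar_of_injective_algebraMap (algebraMap k k').injective p
  obtain ⟨β, hsep, hdeg, hpow⟩ := exists_primitive_sep (k := k) (F := IsLocalRing.ResidueField P.O)
  obtain ⟨⟨m, hqm⟩, hqpos, -⟩ := exists_sep_pow (k := k) β
  obtain ⟨B₀, hB₀⟩ := resAlg_surjective P β
  have hb₀ : P.1 (B₀ : K) ≤ 1 := (mem_O_iff P _).1 B₀.2
  set mp := minpoly k β with hmp
  have hroot : P.1 (aeval (B₀ : K) mp) < 1 := by
    have h1 : resAlg P (aeval B₀ mp) = 0 := by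
      rw [← aeval_algHom_apply, hB₀, minpoly.aeval]
    rw [resAlg_eq_zero_iff, coe_aeval_O] at h1
    exact h1
  have hr : ∀ i : OverP K' P, ∃ c : k',
      i.1.1 (algebraMap K K' (B₀ : K) - algebraMap k' K' c) < 1 := fun i => by
    obtain ⟨e, he⟩ := i.2
    exact hres i.1 i.2 _ (v_map_le_one he hb₀)
  choose r hr using hr
  have hr_root : ∀ i, r i ∈ mp.rootSet k' := fun i => by
    obtain ⟨e, he⟩ := i.2
    rw [mem_rootSet]
    exact ⟨minpoly.ne_zero (Algebra.IsIntegral.isIntegral β),
      (v_sub_eq_of_separable he (hcst_of i.1) hb₀ hsep hroot (hr i)).1⟩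
  have hpm : 0 < p ^ m := pow_pos (expChar_pos k p) m
  have hsame : ∀ i j : OverP K' P, r i = r j → ∀ a : K, P.1 a ≤ 1 → ∀ ca : k',
      i.1.1 (algebraMap K K' a - algebraMap k' K' ca) < 1 →
      j.1.1 (algebraMap K K' a - algebraMap k' K' ca) < 1 := by
    intro i j hij a ha ca hca
    obtain ⟨ei, hei⟩ := i.2
    obtain ⟨ej, hej⟩ := j.2
    obtain ⟨ca', hca'⟩ := hres j.1 j.2 _ (v_map_le_one hej ha)
    obtain ⟨g, hg⟩ := hpow (resAlg P ⟨a, (mem_O_iff P a).2 ha⟩)
    have hag : P.1 (a ^ p ^ m - aeval (B₀ : K) g) < 1 := by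
      have h1 : resAlg P ((⟨a, (mem_O_iff P a).2 ha⟩ : P.O) ^ p ^ m - aeval B₀ g) = 0 := by
        rw [map_sub, map_pow, ← aeval_algHom_apply, hB₀, ← hqm, hg, sub_self]
      rw [resAlg_eq_zero_iff] at h1
      have h2 : (((⟨a, (mem_O_iff P a).2 ha⟩ : P.O) ^ p ^ m - aeval B₀ g : P.O) : K) =
          a ^ p ^ m - aeval (B₀ : K) g := by
        rw [AddSubgroupClass.coe_sub, coe_aeval_O]
        rfl
      rw [h2] at h1
      exact h1
    have e1 := residue_pow_eq hei hb₀ (hr i) hag hca
    have e2 := residue_pow_eq hej hb₀ (hr j) hag hca'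
    rw [hij] at e1
    have hcc : ca = ca' := by
      have h3 : (ca - ca') ^ p ^ m = 0 := by rw [sub_pow_expChar_pow, e1, e2, sub_self]
      exact sub_eq_zero.1 ((pow_eq_zero_iff hpm.ne').1 h3)
    rw [hcc]
    exact hca'
  have hinj : Function.Injective r := by
    intro i j hij
    by_contra hne
    obtain ⟨z, hz0, hz⟩ := exists_ord_eq (fun i : OverP K' P => i.1) Subtype.val_injective
      (fun l => if l = i then -1 else 0)
    have hzi : i.1.1 z = WithZero.exp (-1 : ℤ) := by
      have := hz i
      simpa using this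
    have hzj : j.1.1 z = 1 := by
      have := hz j
      simp only [if_neg (Ne.symm hne), WithZero.exp_zero] at this
      exact this
    have hzint : ∀ Q' : FunFld.Place k K', IsOver Q' P → v Q' z ≤ 1 := fun Q' hQ' => by
      have := hz ⟨Q', hQ'⟩
      simp only at this
      rw [this]
      split_ifs
      · exact exp_neg_one_lt_one.le
      · rw [WithZero.exp_zero]
    have ha : ∀ l, P.1 ((cBasis (K := K) b h).repr z l) ≤ 1 := hns z hzint
    obtain ⟨ei, hei⟩ := i.2
    have hres' : ∀ l, ∃ c : k', i.1.1 (algebraMap K K' ((cBasis (K := K) b h).repr z l) -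
        algebraMap k' K' c) < 1 := fun l => hres i.1 i.2 _ (v_map_le_one hei (ha l))
    choose c hc using hres'
    obtain ⟨-, h2⟩ := v_sub_const_lt b h i.1 c hc
    obtain ⟨-, h2'⟩ := v_sub_const_lt b h j.1 c (fun l => hsame i j hij _ (ha l) _ (hc l))
    have hs : (∑ i, c i * b i) = 0 := by
      apply const_eq_zero_of_lt_one (hcst_of i.1)
      have : algebraMap k' K' (∑ i, c i * b i) =
          z - (z - algebraMap k' K' (∑ i, c i * b i)) := by ring
      rw [this]
      refine lt_of_le_of_lt (Valuation.map_sub _ _ _) (max_lt ?_ h2)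
      rw [hzi]; exact exp_neg_one_lt_one
    rw [hs, map_zero, sub_zero, hzj] at h2'
    exact lt_irrefl _ h2'
  let r' : OverP K' P → mp.rootSet k' := fun i => ⟨r i, hr_root i⟩
  have hinj' : Function.Injective r' := fun i j hij => hinj (congrArg Subtype.val hij)
  calc Nat.card (OverP K' P) ≤ Nat.card (mp.rootSet k') := Nat.card_le_card_of_injective r' hinj'
    _ = (mp.rootSet k').ncard := rfl
    _ ≤ mp.natDegree := ncard_rootSet_le mp k'
    _ = _ := hdeg

end Groth.Agent.Lib.Helper2.SP
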