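import Mathlib
import Groth.Agent.Lib.Helper2.FunFld.SP2d

set_option autoImplicit false
open scoped WithZero IntermediateField
open FunFld Polynomial

namespace Groth.Agent.Lib.Helper2.SP

open Groth.Agent.Lib.Helper2.FF

variable {k k' K K' : Type*} [Field k] [Field k'] [Field K] [Field K']
    [Algebra k k'] [Algebra k K] [Algebra K K'] [Algebra k' K'] [Algebra k K']
    [IsScalarTower k k' K'] [IsScalarTower k K K']

set_option maxHeartbeats 800000 in
theorem card_and_ramIdx [FiniteDimensional k k']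
    (h : Function.Bijective (Algebra.TensorProduct.productMap
      (IsScalarTower.toAlgHom k k' K') (IsScalarTower.toAlgHom k K K')))
    (hK : IsFunctionField k K) (P : FunFld.Place k K)
    (hns : ∀ z : K', (∀ Q : FunFld.Place k K', IsOver Q P → v Q z ≤ 1) →
      ∀ i, v P ((cBasis (K := K) (Module.finBasis k k') h).repr z i) ≤ 1)
    (hdeg : ∀ Q : FunFld.Place k K', IsOver Q P → (upPlace (k' := k') Q).deg = 1) :
    Nat.card (OverP K' P) = Field.finSepDegree k (IsLocalRing.ResidueField P.O) ∧
    ∀ (Q : FunFld.Place k K') (e : ℕ), IsOverWith Q P e →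
      e = Field.finInsepDegree k (IsLocalRing.ResidueField P.O) := by
  classical
  haveI := finiteDimensional_cExt (K := K) (K' := K') h
  haveI : Finite (OverP K' P) := finite_overP hK P
  haveI : Fintype (OverP K' P) := Fintype.ofFinite _
  haveI : @Module.Finite k (IsLocalRing.ResidueField P.O) _ _ (Place.algRes P).toModule :=
    finite_algRes hK P
  have hres : ∀ Q : FunFld.Place k K', IsOver Q P →
      ∀ y, Q.1 y ≤ 1 → ∃ c : k', Q.1 (y - algebraMap k' K' c) < 1 := fun Q hQ y hy =>
    exists_sub_lt_one (upPlace (k' := k') Q) (hdeg Q hQ) hy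
  set q := Field.finInsepDegree k (IsLocalRing.ResidueField P.O) with hq
  set r₀ := Field.finSepDegree k (IsLocalRing.ResidueField P.O) with hr₀
  have hC : ∀ i : OverP K' P, ramIdx i.1 P ≤ q := fun i =>
    ramIdx_le_finInsepDegree h hK P hns (isOverWith_ramIdx i.2) (hres i.1 i.2)
  have hD : Nat.card (OverP K' P) ≤ r₀ := card_overP_le_finSepDegree h hK P hns hres
  rw [Nat.card_eq_fintype_card] at hD ⊢
  have hn : 0 < Module.finrank k k' := Module.finrank_pos
  have hsum := sum_overP (K' := K') hK P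
  rw [finrank_cExt h] at hsum
  have hsum' : ∑ i : OverP K' P, ramIdx i.1 P = P.deg := by
    have h1 : ∑ i : OverP K' P, ramIdx i.1 P * i.1.deg =
        Module.finrank k k' * ∑ i : OverP K' P, ramIdx i.1 P := by
      rw [Finset.mul_sum]
      refine Finset.sum_congr rfl fun i _ => ?_
      rw [deg_eq_mul_deg_upPlace (k' := k') i.1, hdeg i.1 i.2, mul_one, mul_comm]
    rw [h1] at hsum
    exact Nat.eq_of_mul_eq_mul_left hn hsum
  have hd : P.deg = r₀ * q := by
    rw [deg_eq_finrank_algRes P]
    exact (Field.finSepDegree_mul_finInsepDegree k (IsLocalRing.ResidueField P.O)).symm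
  have hqpos : 0 < q := (exists_sep_pow (k := k) (0 : IsLocalRing.ResidueField P.O)).2.1
  have hle1 : ∑ i : OverP K' P, ramIdx i.1 P ≤ ∑ _i : OverP K' P, q :=
    Finset.sum_le_sum fun i _ => hC i
  have hle2 : ∑ _i : OverP K' P, q = Fintype.card (OverP K' P) * q := by
    rw [Finset.sum_const, Finset.card_univ, smul_eq_mul]
  have hle3 : Fintype.card (OverP K' P) * q ≤ r₀ * q := Nat.mul_le_mul_right q hD
  have heq1 : Fintype.card (OverP K' P) * q = r₀ * q := by
    refine le_antisymm hle3 ?_
    rw [← hd, ← hsum', ← hle2]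
    exact hle1
  have hcard : Fintype.card (OverP K' P) = r₀ := Nat.eq_of_mul_eq_mul_right hqpos heq1
  refine ⟨hcard, fun Q e he => ?_⟩
  have heq2 : ∑ i : OverP K' P, ramIdx i.1 P = ∑ _i : OverP K' P, q := by
    rw [hle2, heq1, ← hd, hsum']
  have h3 := (Finset.sum_eq_sum_iff_of_le (fun i _ => hC i)).1 heq2 ⟨Q, ⟨e, he⟩⟩ (Finset.mem_univ _)
  rw [← ramIdx_eq he]
  exact h3

end Groth.Agent.Lib.Helper2.SP
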