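import Mathlib

set_option autoImplicit false
open Polynomial

namespace Groth.Agent.Lib.Helper2.FF

section Pair

variable (q : ℂ)

/-- `X^n F(q/X)` as a polynomial -/
noncomputable def recip (n : ℕ) (F : ℂ[X]) : ℂ[X] := reflect n (F.comp (C q * X))

variable {q}

theorem natDegree_comp_CX (hq : q ≠ 0) (F : ℂ[X]) : (F.comp (C q * X)).natDegree = F.natDegree := by
  rw [natDegree_comp, natDegree_C_mul_X q hq, mul_one]

theorem recip_mul (hq : q ≠ 0) {m n : ℕ} {F G : ℂ[X]} (hF : F.natDegree ≤ m) (hG : G.natDegree ≤ n) :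
    recip q (m + n) (F * G) = recip q m F * recip q n G := by
  unfold recip
  rw [mul_comp]
  exact reflect_mul _ _ (by rwa [natDegree_comp_CX hq]) (by rwa [natDegree_comp_CX hq])

theorem recip_C_mul (n : ℕ) (c : ℂ) (F : ℂ[X]) : recip q n (C c * F) = C c * recip q n F := by
  unfold recip
  rw [mul_comp, C_comp, reflect_C_mul]

theorem recip_X_sub_C {α : ℂ} (hα : α ≠ 0) :
    recip q 1 (X - C α) = C (-α) * (X - C (q / α)) := by
  unfold recip
  rw [sub_comp, X_comp, C_comp, reflect_sub, reflect_C_mul, reflect_one_X, reflect_C, pow_one,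
    C_neg, mul_sub]
  have : C α * C (q / α) = C q := by
    rw [← C_mul]; congr 1; field_simp
  rw [neg_mul, neg_mul, sub_neg_eq_add, this]
  ring

theorem eval_recip {N : ℕ} {F : ℂ[X]} (hF : F.natDegree ≤ N) (hq : q ≠ 0) {x : ℂ} (hx : x ≠ 0) :
    (recip q N F).eval x = x ^ N * F.eval (q / x) := by
  unfold recip
  haveI : Invertible x⁻¹ := invertibleOfNonzero (inv_ne_zero hx)
  have h1 := eval₂_reflect_mul_pow (RingHom.id ℂ) x⁻¹ N (F.comp (C q * X))
    (by rwa [natDegree_comp_CX hq])
  simp only [invOf_eq_inv, inv_inv, eval₂_id] at h1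
  rw [eval_comp, eval_mul, eval_C, eval_X] at h1
  have hxN : x ^ N ≠ 0 := pow_ne_zero _ hx
  rw [div_eq_mul_inv, ← h1, inv_pow]
  field_simp

theorem coeff_recip (N : ℕ) (F : ℂ[X]) {i : ℕ} (hi : i ≤ N) :
    (recip q N F).coeff i = F.coeff (N - i) * q ^ (N - i) := by
  unfold recip
  rw [coeff_reflect, revAt_le hi, comp_C_mul_X_coeff]

/-- pairing the roots of a `q`-self-reciprocal monic polynomial of even degree -/
theorem exists_pairing (hq : q ≠ 0) : ∀ (g : ℕ) (P : ℂ[X]), P.Monic → P.natDegree = 2 * g →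
    recip q (2 * g) P = C (q ^ g) * P →
    ∃ a b : Fin g → ℂ, P = ∏ i, ((X - C (a i)) * (X - C (b i))) ∧ ∀ i, a i * b i = q := by
  intro g
  induction g with
  | zero =>
    intro P hP hdeg _
    refine ⟨Fin.elim0, Fin.elim0, ?_, fun i => i.elim0⟩
    rw [Finset.univ_eq_empty, Finset.prod_empty]
    exact eq_one_of_monic_natDegree_zero hP (by simpa using hdeg)
  | succ g ih =>
    intro P hP hdeg hrec
    have hdegpos : 0 < P.degree := by
      rw [degree_eq_natDegree hP.ne_zero, hdeg]
      exact_mod_cast (by omega : 0 < 2 * (g + 1))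
    obtain ⟨α, hα⟩ := Complex.exists_root hdegpos
    -- `P(0) ≠ 0`
    have hP0 : P.coeff 0 = q ^ (g + 1) := by
      have h1 : (recip q (2 * (g + 1)) P).coeff (2 * (g + 1)) =
          (C (q ^ (g + 1)) * P).coeff (2 * (g + 1)) := by rw [hrec]
      rw [coeff_recip _ _ le_rfl, Nat.sub_self, pow_zero, mul_one, coeff_C_mul, ← hdeg,
        hP.coeff_natDegree, mul_one] at h1
      exact h1
    have hα0 : α ≠ 0 := by
      rintro rfl
      rw [IsRoot.def, ← coeff_zero_eq_eval_zero, hP0] at hα
      exact pow_ne_zero _ hq hα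
    -- `β = q/α` is a root
    have hβ : P.IsRoot (q / α) := by
      have h1 := congrArg (eval α) hrec
      rw [eval_recip hdeg.le hq hα0, eval_mul, eval_C, hα.eq_zero, mul_zero] at h1
      exact (mul_eq_zero.1 h1).resolve_left (pow_ne_zero _ hα0)
    have hβ0 : q / α ≠ 0 := div_ne_zero hq hα0
    -- the quadratic factor divides `P`
    have hdvd : (X - C α) * (X - C (q / α)) ∣ P := by
      by_cases hne : q / α = α
      · -- double root
        rw [hne]
        obtain ⟨P₂, hP₂⟩ := dvd_iff_isRoot.2 hα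
        have hP₂deg : P₂.natDegree = 2 * g + 1 := by
          have h1 := congrArg natDegree hP₂
          have hP₂0 : P₂ ≠ 0 := by
            rintro rfl
            rw [mul_zero] at hP₂
            exact hP.ne_zero hP₂
          rw [natDegree_mul (X_sub_C_ne_zero α) hP₂0, natDegree_X_sub_C, hdeg] at h1
          omega
        have h2 : recip q (1 + (2 * g + 1)) ((X - C α) * P₂) =
            recip q 1 (X - C α) * recip q (2 * g + 1) P₂ :=
          recip_mul hq (by rw [natDegree_X_sub_C]) hP₂deg.le
        have e : 2 * (g + 1) = 1 + (2 * g + 1) := by ring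
        rw [e, hP₂, h2, recip_X_sub_C hα0, hne] at hrec
        have h3 : C (-α) * recip q (2 * g + 1) P₂ = C (q ^ (g + 1)) * P₂ := by
          have h4 : (X - C α) * (C (-α) * recip q (2 * g + 1) P₂) =
              (X - C α) * (C (q ^ (g + 1)) * P₂) := by
            calc (X - C α) * (C (-α) * recip q (2 * g + 1) P₂)
                = C (-α) * (X - C α) * recip q (2 * g + 1) P₂ := by ring
              _ = C (q ^ (g + 1)) * ((X - C α) * P₂) := hrec
              _ = (X - C α) * (C (q ^ (g + 1)) * P₂) := by ring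
          exact mul_left_cancel₀ (X_sub_C_ne_zero α) h4
        have h5 := congrArg (eval α) h3
        rw [eval_mul, eval_C, eval_recip hP₂deg.le hq hα0, hne, eval_mul, eval_C] at h5
        have hαq : α * α = q := by
          field_simp at hne
          rw [hne]; ring
        have h6 : α ^ (2 * g + 1) * α = q ^ (g + 1) := by
          rw [← pow_succ, show 2 * g + 1 + 1 = 2 * (g + 1) by ring, pow_mul, pow_two, hαq]
        have h7 : (2 * q ^ (g + 1)) * eval α P₂ = 0 := by
          have : -α * (α ^ (2 * g + 1) * eval α P₂) = -(q ^ (g + 1)) * eval α P₂ := by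
            rw [← h6]; ring
          rw [this] at h5
          linear_combination -h5
        have h8 : eval α P₂ = 0 := by
          rcases mul_eq_zero.1 h7 with h | h
          · exact absurd h (mul_ne_zero two_ne_zero (pow_ne_zero _ hq))
          · exact h
        obtain ⟨P₃, hP₃⟩ := dvd_iff_isRoot.2 h8
        exact ⟨P₃, by rw [hP₂, hP₃]; ring⟩
      · have hcop : IsCoprime (X - C α) (X - C (q / α)) :=
          isCoprime_X_sub_C_of_isUnit_sub (IsUnit.mk0 _ (sub_ne_zero.2 (Ne.symm hne)))
        exact hcop.mul_dvd (dvd_iff_isRoot.2 hα) (dvd_iff_isRoot.2 hβ)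
    obtain ⟨P₁, hP₁⟩ := hdvd
    set R : ℂ[X] := (X - C α) * (X - C (q / α)) with hR
    have hRmonic : R.Monic := (monic_X_sub_C α).mul (monic_X_sub_C _)
    have hRdeg : R.natDegree = 2 := by
      rw [hR, natDegree_mul (X_sub_C_ne_zero _) (X_sub_C_ne_zero _), natDegree_X_sub_C,
        natDegree_X_sub_C]
    have hP₁monic : P₁.Monic := by
      rw [hP₁] at hP
      exact hRmonic.of_mul_monic_left hP
    have hP₁deg : P₁.natDegree = 2 * g := by
      have h1 := congrArg natDegree hP₁
      rw [hRmonic.natDegree_mul hP₁monic, hRdeg, hdeg] at h1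
      omega
    have hRrec : recip q (1 + 1) R = C q * R := by
      rw [hR, recip_mul hq (by rw [natDegree_X_sub_C]) (by rw [natDegree_X_sub_C]),
        recip_X_sub_C hα0, recip_X_sub_C hβ0]
      have h1 : q / (q / α) = α := by field_simp
      rw [h1]
      have h2 : C (-α) * C (-(q / α)) = C q := by
        rw [← C_mul]; congr 1; field_simp
      calc C (-α) * (X - C (q / α)) * (C (-(q / α)) * (X - C α))
          = (C (-α) * C (-(q / α))) * ((X - C α) * (X - C (q / α))) := by ring
        _ = C q * ((X - C α) * (X - C (q / α))) := by rw [h2]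
    have hP₁rec : recip q (2 * g) P₁ = C (q ^ g) * P₁ := by
      have e : 2 * (g + 1) = (1 + 1) + 2 * g := by ring
      rw [e, hP₁, recip_mul hq hRdeg.le hP₁deg.le, hRrec] at hrec
      have h4 : (C q * R) * recip q (2 * g) P₁ = (C q * R) * (C (q ^ g) * P₁) := by
        rw [hrec, pow_succ, C_mul]; ring
      exact mul_left_cancel₀ (mul_ne_zero (C_ne_zero.2 hq) hRmonic.ne_zero) h4
    obtain ⟨a, b, hab, habq⟩ := ih P₁ hP₁monic hP₁deg hP₁rec
    refine ⟨Fin.cons α a, Fin.cons (q / α) b, ?_, ?_⟩
    · rw [Fin.prod_univ_succ]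
      simp only [Fin.cons_zero, Fin.cons_succ]
      rw [← hab, hP₁]
    · intro i
      refine Fin.cases ?_ (fun j => ?_) i
      · simp only [Fin.cons_zero]
        field_simp
      · simp only [Fin.cons_succ]
        exact habq j

end Pair

end Groth.Agent.Lib.Helper2.FF
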