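import Mathlib
import Groth.Agent.Lib.Helper2.FunFld.ZetaPair

set_option autoImplicit false
open Polynomial

namespace Groth.Agent.Lib.Helper2.FF

section Fac

theorem reflect_reflect (N : ℕ) (f : ℂ[X]) : reflect N (reflect N f) = f := by
  ext i
  rw [coeff_reflect, coeff_reflect, revAt_invol]

theorem reflect_X_sub_C (a : ℂ) : reflect 1 (X - C a) = 1 - C a * X := by
  rw [reflect_sub, reflect_one_X, reflect_C, pow_one]

theorem reflect_prod_X_sub_C : ∀ (n : ℕ) (α : Fin n → ℂ),
    reflect n (∏ j, (X - C (α j))) = ∏ j, (1 - C (α j) * X) := by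
  intro n
  induction n with
  | zero =>
    intro α
    simp
  | succ n ih =>
    intro α
    rw [Fin.prod_univ_succ, Fin.prod_univ_succ]
    have e : reflect (n + 1) ((X - C (α 0)) * ∏ i : Fin n, (X - C (α i.succ))) =
        reflect (1 + n) ((X - C (α 0)) * ∏ i : Fin n, (X - C (α i.succ))) := by
      congr 1
      exact add_comm n 1
    rw [e, reflect_mul _ _ (by rw [natDegree_X_sub_C]) (F := 1) (G := n), reflect_X_sub_C, ih]
    have := natDegree_prod_le (Finset.univ : Finset (Fin n)) (fun j => X - C (α j.succ))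
    refine this.trans (le_of_eq ?_)
    calc ∑ i : Fin n, (X - C (α i.succ)).natDegree = ∑ _i : Fin n, 1 :=
          Finset.sum_congr rfl fun i _ => natDegree_X_sub_C _
      _ = n := by simp

/-- arranging `g` pairs into a function on `Fin (2 g)` compatible with `Fin.rev` -/
theorem exists_arrange {g : ℕ} (q : ℂ) (a b : Fin g → ℂ) (hab : ∀ i, a i * b i = q) :
    ∃ α : Fin (2 * g) → ℂ, (∀ i, α i * α (Fin.rev i) = q) ∧
      ∀ f : ℂ → ℂ[X], ∏ j, f (α j) = ∏ i, (f (a i) * f (b i)) := by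
  have e2 : g + g = 2 * g := (two_mul g).symm
  let ε : Fin g ⊕ Fin g ≃ Fin (2 * g) := finSumFinEquiv.trans (finCongr e2)
  let α : Fin (2 * g) → ℂ := fun i => Sum.elim a (b ∘ Fin.rev) (ε.symm i)
  refine ⟨α, ?_, ?_⟩
  · intro i
    obtain ⟨s, rfl⟩ := ε.surjective i
    rcases s with j | j
    · have hrev : Fin.rev (ε (Sum.inl j)) = ε (Sum.inr (Fin.rev j)) := by
        apply Fin.ext
        simp only [ε, Equiv.trans_apply, finSumFinEquiv_apply_left, finSumFinEquiv_apply_right,
          finCongr_apply, Fin.val_rev, Fin.val_cast, Fin.val_castAdd, Fin.val_natAdd]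
        have := j.2
        omega
      simp only [α]
      rw [hrev, Equiv.symm_apply_apply, Equiv.symm_apply_apply]
      simp only [Sum.elim_inl, Sum.elim_inr, Function.comp_apply, Fin.rev_rev]
      exact hab j
    · have hrev : Fin.rev (ε (Sum.inr j)) = ε (Sum.inl (Fin.rev j)) := by
        apply Fin.ext
        simp only [ε, Equiv.trans_apply, finSumFinEquiv_apply_left, finSumFinEquiv_apply_right,
          finCongr_apply, Fin.val_rev, Fin.val_cast, Fin.val_castAdd, Fin.val_natAdd]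
        have := j.2
        omega
      simp only [α]
      rw [hrev, Equiv.symm_apply_apply, Equiv.symm_apply_apply]
      simp only [Sum.elim_inl, Sum.elim_inr, Function.comp_apply]
      rw [mul_comm]
      exact hab _
  · intro f
    rw [← Equiv.prod_comp ε (fun j => f (α j)), Fintype.prod_sum_type]
    simp only [α, Equiv.symm_apply_apply, Sum.elim_inl, Sum.elim_inr, Function.comp_apply]
    rw [Finset.prod_mul_distrib]
    congr 1
    exact Equiv.prod_comp Fin.revPerm (fun j => f (b j))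

theorem exists_factor (g q : ℕ) (hq : 0 < q) (L : ℕ → ℤ) (p : ℤ[X])
    (hp : ∀ n, p.coeff n = L n) (h0 : L 0 = 1) (hvan : ∀ n, 2 * g < n → L n = 0)
    (hfe : ∀ i, i ≤ 2 * g →
      ((L (2 * g - i) : ℤ) : ℚ) = (q : ℚ) ^ ((g : ℤ) - i) * ((L i : ℤ) : ℚ)) :
    ∃ α : Fin (2 * g) → ℂ, (∀ i, IsIntegral ℤ (α i)) ∧
      p.map (Int.castRingHom ℂ) = ∏ i, (1 - C (α i) * X) ∧
      ∀ i, α i * α (Fin.rev i) = (q : ℂ) := by
  have hqC : (q : ℂ) ≠ 0 := by exact_mod_cast hq.ne'
  set Pz : ℤ[X] := reflect (2 * g) p with hPz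
  have hPzc : ∀ j, Pz.coeff j = L (revAt (2 * g) j) := fun j => by
    rw [hPz, coeff_reflect, hp]
  have hPzdeg : Pz.natDegree ≤ 2 * g := by
    rw [natDegree_le_iff_coeff_eq_zero]
    intro N hN
    rw [hPzc, revAt_eq_self_of_lt hN]
    exact hvan N hN
  have hPzmonic : Pz.Monic := by
    apply monic_of_natDegree_le_of_coeff_eq_one (2 * g) hPzdeg
    rw [hPzc, revAt_le le_rfl, Nat.sub_self, h0]
  have hPzdeg' : Pz.natDegree = 2 * g := by
    apply le_antisymm hPzdeg
    apply le_natDegree_of_ne_zero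
    rw [hPzc, revAt_le le_rfl, Nat.sub_self, h0]
    exact one_ne_zero
  set P : ℂ[X] := Pz.map (Int.castRingHom ℂ) with hP
  have hPmonic : P.Monic := hPzmonic.map _
  have hPdeg : P.natDegree = 2 * g := by rw [hP, hPzmonic.natDegree_map, hPzdeg']
  have hPc : ∀ j, P.coeff j = ((L (revAt (2 * g) j) : ℤ) : ℂ) := fun j => by
    rw [hP, coeff_map, hPzc]; rfl
  have hrec : recip (q : ℂ) (2 * g) P = C ((q : ℂ) ^ g) * P := by
    ext i
    rw [coeff_C_mul]
    by_cases hi : i ≤ 2 * g
    · rw [coeff_recip _ _ hi, hPc, hPc, revAt_le (Nat.sub_le _ _), revAt_le hi,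
        Nat.sub_sub_self hi]
      have h1 : (((L (2 * g - i) : ℤ) : ℚ) : ℂ) =
          (((q : ℚ) ^ ((g : ℤ) - i) * ((L i : ℤ) : ℚ) : ℚ) : ℂ) := by rw [hfe i hi]
      push_cast at h1
      rw [h1]
      have h2 : ((q : ℂ) ^ (2 * g - i) : ℂ) = (q : ℂ) ^ g * (q : ℂ) ^ ((g : ℤ) - i) := by
        rw [← zpow_natCast, ← zpow_natCast, ← zpow_add₀ hqC, Nat.cast_sub hi]
        congr 1
        push_cast
        ring
      rw [h2]; ring
    · push Not at hi
      unfold recip
      rw [coeff_reflect, revAt_eq_self_of_lt hi, comp_C_mul_X_coeff, hPc,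
        revAt_eq_self_of_lt hi, hvan i hi]
      simp
  obtain ⟨a, b, hab, habq⟩ := exists_pairing hqC g P hPmonic hPdeg hrec
  obtain ⟨α, hα, hprod⟩ := exists_arrange (q : ℂ) a b habq
  have hPα : P = ∏ j, (X - C (α j)) := by
    rw [hab, hprod (fun c => X - C c)]
  refine ⟨α, fun i => ?_, ?_, hα⟩
  · refine ⟨Pz, hPzmonic, ?_⟩
    rw [← eval_map, algebraMap_int_eq, ← hP, hPα, eval_prod]
    exact Finset.prod_eq_zero (Finset.mem_univ i) (by simp)
  · have h1 : p.map (Int.castRingHom ℂ) = reflect (2 * g) P := by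
      rw [hP, hPz, ← reflect_map, reflect_reflect]
    rw [h1, hPα, reflect_prod_X_sub_C]

end Fac

end Groth.Agent.Lib.Helper2.FF
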